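import Mathlib

/-!
# Formal smoothness along nilpotent thickenings (helper58)

* `flat_quotientMap`: base change of a flat ring hom to quotients is flat.
* `formallySmooth_of_flat_of_pow_eq_bot`: if `f : R →+* S` is flat, `qR : R → R₀`, `qS : S → S₀` are
  surjections with `ker qS = (ker qR) S`, `(ker qR)^(n+1) = 0` and the induced `g : R₀ → S₀` is formally
  smooth, then `f` is formally smooth (iterated Stacks 031L).
* `bijective_of_congr_id`: ring endomorphism congruent to id mod a principal square-zero ideal
  is bijective.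
-/

set_option autoImplicit false
universe u

namespace Groth.Agent.Lib.Helper58.SmoothNilpotent

open Function

/-- base change of a flat ring hom along a quotient is flat -/
theorem flat_quotientMap {R S : Type*} [CommRing R] [CommRing S] (f : R →+* S) (flat : f.Flat)
    (J : Ideal R) :
    (Ideal.quotientMap (J.map f) f Ideal.le_comap_map : R ⧸ J →+* S ⧸ J.map f).Flat := by
  algebraize [f]
  have h1 : Module.Flat (R ⧸ J) (S ⧸ J.map (algebraMap R S)) :=
    Module.Flat.of_linearEquiv
      (Algebra.TensorProduct.quotIdealMapEquivQuotTensor S J).toLinearEquiv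
  have h2 := RingHom.flat_algebraMap_iff.mpr h1
  exact h2

theorem formallySmooth_of_bot {R S R₀ S₀ : Type*} [CommRing R] [CommRing S] [CommRing R₀]
    [CommRing S₀] (f : R →+* S) (qR : R →+* R₀) (qS : S →+* S₀) (g : R₀ →+* S₀)
    (surjR : Surjective qR) (surjS : Surjective qS) (comm : qS.comp f = g.comp qR)
    (nil : RingHom.ker qR = ⊥) (eqmap : RingHom.ker qS = (RingHom.ker qR).map f)
    (smoothq : g.FormallySmooth) : f.FormallySmooth := by
  have hR : Bijective qR := ⟨(RingHom.injective_iff_ker_eq_bot qR).mpr nil, surjR⟩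
  have hS : Bijective qS :=
    ⟨(RingHom.injective_iff_ker_eq_bot qS).mpr (by rw [eqmap, nil, Ideal.map_bot]), surjS⟩
  have h1 : (qS.comp f).FormallySmooth := by
    rw [comm]
    exact (RingHom.FormallySmooth.of_bijective hR).comp smoothq
  let e : S ≃+* S₀ := RingEquiv.ofBijective qS hS
  have h2 : f = (e.symm : S₀ →+* S).comp (qS.comp f) := by
    ext x
    simp only [RingHom.coe_comp, RingHom.coe_coe, comp_apply]
    exact (e.symm_apply_apply (f x)).symm
  rw [h2]
  exact h1.comp (RingHom.FormallySmooth.of_bijective e.symm.bijective)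

theorem formallySmooth_of_flat_of_pow_eq_bot {R₀ S₀ : Type*} [CommRing R₀] [CommRing S₀]
    (g : R₀ →+* S₀) (smoothq : g.FormallySmooth) (n : ℕ) :
    ∀ {R S : Type u} [CommRing R] [CommRing S] (f : R →+* S) (_ : f.Flat)
      (qR : R →+* R₀) (qS : S →+* S₀) (_ : Surjective qR) (_ : Surjective qS)
      (_ : qS.comp f = g.comp qR) (_ : RingHom.ker qR ^ (n + 1) = ⊥)
      (_ : RingHom.ker qS = (RingHom.ker qR).map f), f.FormallySmooth := by
  induction n with
  | zero =>
    intro R S _ _ f _ qR qS surjR surjS comm nil eqmap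
    rw [zero_add, pow_one] at nil
    exact formallySmooth_of_bot f qR qS g surjR surjS comm nil eqmap smoothq
  | succ n ih =>
    intro R S _ _ f flat qR qS surjR surjS comm nil eqmap
    set K := RingHom.ker qR with hK
    let J : Ideal R := K ^ (n + 1)
    have hJK : J ≤ K := Ideal.pow_le_self (Nat.succ_ne_zero n)
    have hJ2 : J ^ 2 = ⊥ := by
      rw [← pow_mul]
      refine le_bot_iff.mp (le_trans (Ideal.pow_le_pow_right ?_) nil.le)
      omega
    let f' : R ⧸ J →+* S ⧸ J.map f := Ideal.quotientMap (J.map f) f Ideal.le_comap_map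
    have flat' : f'.Flat := flat_quotientMap f flat J
    let qR' : R ⧸ J →+* R₀ := Ideal.Quotient.lift J qR (fun a ha => hJK ha)
    have hJS : J.map f ≤ RingHom.ker qS := by
      rw [eqmap]; exact Ideal.map_mono hJK
    let qS' : S ⧸ J.map f →+* S₀ := Ideal.Quotient.lift (J.map f) qS (fun a ha => hJS ha)
    have surjR' : Surjective qR' := by
      intro x
      obtain ⟨y, rfl⟩ := surjR x
      exact ⟨Ideal.Quotient.mk J y, by simp [qR']⟩
    have surjS' : Surjective qS' := by
      intro x
      obtain ⟨y, rfl⟩ := surjS x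
      exact ⟨Ideal.Quotient.mk _ y, by simp [qS']⟩
    have hmk : (Ideal.Quotient.mk (J.map f)).comp f = f'.comp (Ideal.Quotient.mk J) :=
      (Ideal.quotientMap_comp_mk _).symm
    have comm' : qS'.comp f' = g.comp qR' := by
      apply Ideal.Quotient.ringHom_ext
      ext x
      simp only [RingHom.coe_comp, comp_apply, f', qS', qR', Ideal.quotientMap_mk,
        Ideal.Quotient.lift_mk]
      exact RingHom.congr_fun comm x
    have kerR' : RingHom.ker qR' = K.map (Ideal.Quotient.mk J) :=
      Ideal.ker_quotient_lift qR _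
    have kerS' : RingHom.ker qS' = (RingHom.ker qS).map (Ideal.Quotient.mk (J.map f)) :=
      Ideal.ker_quotient_lift qS _
    have nil' : RingHom.ker qR' ^ (n + 1) = ⊥ := by
      rw [kerR', ← Ideal.map_pow]
      exact Ideal.map_quotient_self J
    have eqmap' : RingHom.ker qS' = (RingHom.ker qR').map f' := by
      rw [kerS', kerR', eqmap, Ideal.map_map, Ideal.map_map, hmk]
    have ih' : f'.FormallySmooth := ih f' flat' qR' qS' surjR' surjS' comm' nil' eqmap'
    refine RingHom.FormallySmooth.of_flat_of_ker_eq_map_of_square_zero f flat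
      (Ideal.Quotient.mk J) (Ideal.Quotient.mk (J.map f)) f' Ideal.Quotient.mk_surjective
      Ideal.Quotient.mk_surjective hmk ?_ ?_ ih'
    · rw [Ideal.mk_ker]; exact hJ2
    · rw [Ideal.mk_ker, Ideal.mk_ker]

/-- An additive-multiplicative endomorphism congruent to the identity modulo a principal
square-zero ideal is bijective. -/
theorem bijective_of_congr_id {B : Type*} [CommRing B] (s : B) (hs : s * s = 0)
    (θ : B →+* B) (hθs : θ s = s)
    (h : ∀ b, ∃ d, θ b = b + s * d) : Bijective θ := by
  constructor
  · rw [injective_iff_map_eq_zero]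
    intro b hb
    obtain ⟨d, hd⟩ := h b
    have hb' : b = s * (-d) := by
      rw [hb] at hd
      linear_combination -hd
    obtain ⟨d', hd'⟩ := h (-d)
    have : θ b = b := by
      conv_lhs => rw [hb']
      rw [map_mul, hθs, hd', hb']
      linear_combination d' * hs
    rw [← this, hb]
  · intro c
    obtain ⟨d, hd⟩ := h c
    obtain ⟨d', hd'⟩ := h d
    refine ⟨c - s * d, ?_⟩
    rw [map_sub, map_mul, hθs, hd, hd']
    linear_combination -d' * hs

end Groth.Agent.Lib.Helper58.SmoothNilpotent
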