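import Mathlib
import Groth.Agent.Lib.Helper21.PowerSeriesAdic2

/-!
# Completeness of `MvPowerSeries (Fin n) R` over a complete local ring (helper58)

* `mem_maximalIdeal_pow_iff`: `f ∈ m_S ^ N ↔ ∀ d, coeff d f ∈ m_R ^ (N - deg d)`.
* `isAdicComplete`: `R[[X_1..X_n]]` is complete for its maximal ideal if `R` is.
-/

set_option autoImplicit false

namespace Groth.Agent.Lib.Helper58.MvPSComplete

open MvPowerSeries Finsupp IsLocalRing Groth.Agent.Lib.Helper21.PSAdic

variable {n : ℕ} {R : Type*} [CommRing R] (I : Ideal R)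

/-- power series whose coefficient at `d` lies in `I ^ (N - deg d)` -/
def wIdeal (n : ℕ) (N : ℕ) : Ideal (MvPowerSeries (Fin n) R) where
  carrier := {f | ∀ d : Fin n →₀ ℕ, coeff d f ∈ I ^ (N - degree d)}
  zero_mem' := fun d => by simp
  add_mem' := fun {f g} hf hg d => by
    rw [map_add]; exact Ideal.add_mem _ (hf d) (hg d)
  smul_mem' := fun a f hf d => by
    change coeff d (a * f) ∈ _
    rw [coeff_mul]
    refine Ideal.sum_mem _ fun p hp => ?_
    refine Ideal.mul_mem_left _ _ ?_
    refine Ideal.pow_le_pow_right ?_ (hf p.2)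
    have : p.1 + p.2 = d := Finset.HasAntidiagonal.mem_antidiagonal.mp hp
    rw [← this, map_add]
    omega

theorem mem_wIdeal {N : ℕ} {f : MvPowerSeries (Fin n) R} :
    f ∈ wIdeal I n N ↔ ∀ d : Fin n →₀ ℕ, coeff d f ∈ I ^ (N - degree d) := Iff.rfl

theorem wIdeal_mul_le (a b : ℕ) : wIdeal I n a * wIdeal I n b ≤ wIdeal I n (a + b) := by
  rw [Ideal.mul_le]
  intro f hf g hg d
  rw [coeff_mul]
  refine Ideal.sum_mem _ fun p hp => ?_
  have hd : p.1 + p.2 = d := Finset.HasAntidiagonal.mem_antidiagonal.mp hp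
  have h1 := Ideal.mul_mem_mul (hf p.1) (hg p.2)
  rw [← pow_add] at h1
  refine Ideal.pow_le_pow_right ?_ h1
  rw [← hd, map_add]
  omega

section Local

variable [IsLocalRing R]

theorem mem_maximalIdeal_iff (f : MvPowerSeries (Fin n) R) :
    f ∈ maximalIdeal (MvPowerSeries (Fin n) R) ↔ constantCoeff f ∈ maximalIdeal R := by
  rw [IsLocalRing.mem_maximalIdeal, IsLocalRing.mem_maximalIdeal, mem_nonunits_iff,
    mem_nonunits_iff, MvPowerSeries.isUnit_iff_constantCoeff]

theorem ker_constantCoeff_le :
    RingHom.ker (constantCoeff : MvPowerSeries (Fin n) R →+* R) ≤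
      maximalIdeal (MvPowerSeries (Fin n) R) := by
  intro f hf
  rw [mem_maximalIdeal_iff, RingHom.mem_ker.mp hf]
  exact zero_mem _

theorem C_mem_pow {N : ℕ} {c : R} (hc : c ∈ maximalIdeal R ^ N) :
    (C c : MvPowerSeries (Fin n) R) ∈ maximalIdeal (MvPowerSeries (Fin n) R) ^ N := by
  have h1 : (maximalIdeal R).map (C : R →+* MvPowerSeries (Fin n) R) ≤
      maximalIdeal (MvPowerSeries (Fin n) R) := by
    rw [Ideal.map_le_iff_le_comap]
    intro c hc
    rw [Ideal.mem_comap, mem_maximalIdeal_iff, constantCoeff_C]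
    exact hc
  have h2 := Ideal.mem_map_of_mem (C : R →+* MvPowerSeries (Fin n) R) hc
  rw [Ideal.map_pow] at h2
  exact Ideal.pow_right_mono h1 N h2

theorem maximalIdeal_le_wIdeal :
    maximalIdeal (MvPowerSeries (Fin n) R) ≤ wIdeal (maximalIdeal R) n 1 := by
  intro f hf d
  by_cases hd : d = 0
  · subst hd
    rw [coeff_zero_eq_constantCoeff_apply]
    simp only [map_zero, Nat.sub_zero, pow_one]
    exact (mem_maximalIdeal_iff f).mp hf
  · have : 1 - degree d = 0 := by
      have : degree d ≠ 0 := by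
        rwa [Ne, Finsupp.degree_eq_zero_iff]
      omega
    rw [this, pow_zero, Ideal.one_eq_top]
    exact Submodule.mem_top

theorem pow_le_wIdeal (N : ℕ) :
    maximalIdeal (MvPowerSeries (Fin n) R) ^ N ≤ wIdeal (maximalIdeal R) n N := by
  induction N with
  | zero =>
    intro f _ d
    simp
  | succ N ih =>
    rw [pow_succ']
    refine le_trans (Ideal.mul_mono maximalIdeal_le_wIdeal ih) ?_
    rw [add_comm N 1]
    exact wIdeal_mul_le _ 1 N

theorem wIdeal_le_pow (N : ℕ) :
    wIdeal (maximalIdeal R) n N ≤ maximalIdeal (MvPowerSeries (Fin n) R) ^ N := by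
  induction N with
  | zero => simp
  | succ N ih =>
    intro f hf
    rw [eq_C_add_sum f]
    refine Ideal.add_mem _ ?_ (Ideal.sum_mem _ fun i _ => ?_)
    · apply C_mem_pow
      have := hf 0
      rwa [coeff_zero_eq_constantCoeff_apply, map_zero, Nat.sub_zero] at this
    · rw [pow_succ']
      refine Ideal.mul_mem_mul ?_ (ih ?_)
      · rw [mem_maximalIdeal_iff, constantCoeff_X]
        exact zero_mem _
      · intro y
        rw [coeff_part]
        split_ifs with h
        · have := hf (y + single i 1)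
          rw [map_add, degree_single] at this
          have e : N + 1 - (degree y + 1) = N - degree y := by omega
          rwa [e] at this
        · exact zero_mem _

theorem wIdeal_eq_pow (N : ℕ) :
    wIdeal (maximalIdeal R) n N = maximalIdeal (MvPowerSeries (Fin n) R) ^ N :=
  le_antisymm (wIdeal_le_pow N) (pow_le_wIdeal N)

theorem mem_maximalIdeal_pow_iff {N : ℕ} {f : MvPowerSeries (Fin n) R} :
    f ∈ maximalIdeal (MvPowerSeries (Fin n) R) ^ N ↔
      ∀ d : Fin n →₀ ℕ, coeff d f ∈ maximalIdeal R ^ (N - degree d) := by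
  rw [← wIdeal_eq_pow]; rfl

theorem isAdicComplete [IsAdicComplete (maximalIdeal R) R] :
    IsAdicComplete (maximalIdeal (MvPowerSeries (Fin n) R)) (MvPowerSeries (Fin n) R) := by
  have haus : IsHausdorff (maximalIdeal (MvPowerSeries (Fin n) R)) (MvPowerSeries (Fin n) R) := by
    refine ⟨fun x hx => ?_⟩
    ext d
    rw [map_zero]
    apply IsHausdorff.haus (inferInstance : IsHausdorff (maximalIdeal R) R)
    intro j
    have h1 := hx (j + degree d)
    rw [SModEq.sub_mem, sub_zero, smul_eq_mul, Ideal.mul_top, mem_maximalIdeal_pow_iff] at h1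
    have h2 := h1 d
    rw [Nat.add_sub_cancel] at h2
    rw [SModEq.sub_mem, sub_zero, smul_eq_mul, Ideal.mul_top]
    exact h2
  have prec : IsPrecomplete (maximalIdeal (MvPowerSeries (Fin n) R)) (MvPowerSeries (Fin n) R) := by
    refine ⟨fun f hf => ?_⟩
    have hc : ∀ d : Fin n →₀ ℕ, ∃ L : R, ∀ j, coeff d (f (j + degree d)) ≡ L
        [SMOD (maximalIdeal R ^ j • ⊤ : Submodule R R)] := by
      intro d
      apply IsPrecomplete.prec (inferInstance : IsPrecomplete (maximalIdeal R) R)
      intro a b hab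
      have h1 := hf (show a + degree d ≤ b + degree d by omega)
      rw [SModEq.sub_mem, smul_eq_mul, Ideal.mul_top, mem_maximalIdeal_pow_iff] at h1
      have h2 := h1 d
      rw [Nat.add_sub_cancel, map_sub] at h2
      rw [SModEq.sub_mem, smul_eq_mul, Ideal.mul_top]
      exact h2
    choose L hL using hc
    refine ⟨fun d => L d, fun j => ?_⟩
    rw [SModEq.sub_mem, smul_eq_mul, Ideal.mul_top, mem_maximalIdeal_pow_iff]
    intro d
    rw [map_sub]
    by_cases hjd : degree d ≤ j
    · obtain ⟨j', rfl⟩ := Nat.exists_eq_add_of_le' hjd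
      have := hL d j'
      rw [SModEq.sub_mem, smul_eq_mul, Ideal.mul_top] at this
      rw [Nat.add_sub_cancel]
      exact this
    · have : j - degree d = 0 := by omega
      rw [this, pow_zero, Ideal.one_eq_top]
      exact Submodule.mem_top
  exact { haus' := haus.haus', prec' := prec.prec' }

end Local

end Groth.Agent.Lib.Helper58.MvPSComplete
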