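import Mathlib.Algebra.Homology.DerivedCategory.TStructure
import Mathlib.Algebra.Homology.DerivedCategory.FullyFaithful
import Mathlib.CategoryTheory.Triangulated.TStructure.TruncLEGT
import Mathlib.CategoryTheory.Shift.CommShift
import Mathlib.CategoryTheory.Triangulated.Functor

/-!
# Way-out functors: dévissage lemmas for a morphism of triangulated functors `D(A) ⥤ D(B)`
(helper58)
-/

set_option autoImplicit false
set_option linter.unusedSectionVars false

universe w w' v v' u u'

namespace Groth.Agent.Lib.Helper58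

open CategoryTheory Category Limits Pretriangulated Triangulated DerivedCategory

section General

variable {C : Type*} [Category C] [HasZeroObject C] [Preadditive C] [HasShift C ℤ]
  [∀ n : ℤ, (shiftFunctor C n).Additive] [Pretriangulated C]
  {D : Type*} [Category D] [HasZeroObject D] [Preadditive D] [HasShift D ℤ]
  [∀ n : ℤ, (shiftFunctor D n).Additive] [Pretriangulated D]
  (F G : C ⥤ D) [F.CommShift ℤ] [G.CommShift ℤ] [F.IsTriangulated] [G.IsTriangulated]
  (η : F ⟶ G) [NatTrans.CommShift η ℤ]

include F G in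
omit [HasZeroObject C] [∀ n : ℤ, (shiftFunctor C n).Additive] [Pretriangulated C]
  [HasZeroObject D] [∀ n : ℤ, (shiftFunctor D n).Additive] [Pretriangulated D]
  [F.IsTriangulated] [G.IsTriangulated] in
lemma isIso_app_shift (X : C) (n : ℤ) (h : IsIso (η.app X)) : IsIso (η.app (X⟦n⟧)) := by
  rw [NatTrans.app_shift η n X]
  infer_instance

include F G in
omit [HasZeroObject C] [∀ n : ℤ, (shiftFunctor C n).Additive] [Pretriangulated C]
  [HasZeroObject D] [∀ n : ℤ, (shiftFunctor D n).Additive] [Pretriangulated D]
  [F.CommShift ℤ] [G.CommShift ℤ] [F.IsTriangulated] [G.IsTriangulated] [NatTrans.CommShift η ℤ] in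
lemma isIso_app_of_iso {X Y : C} (e : X ≅ Y) (h : IsIso (η.app X)) : IsIso (η.app Y) :=
  (NatTrans.isIso_app_iff_of_iso η e).mp h

lemma isIso_app_of_shift (X : C) (n : ℤ) (h : IsIso (η.app (X⟦n⟧))) : IsIso (η.app X) := by
  have h1 := isIso_app_shift F G η (X⟦n⟧) (-n) h
  exact isIso_app_of_iso F G η (shiftShiftNeg X n) h1

set_option backward.isDefEq.respectTransparency.types false in
set_option backward.defeqAttrib.useBackward true in
/-- the morphism of triangles induced by `η` -/
noncomputable def mapTriangleHom (T : Triangle C) : F.mapTriangle.obj T ⟶ G.mapTriangle.obj T :=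
  Triangle.homMk _ _ (η.app _) (η.app _) (η.app _) (by simp) (by simp) (by
    dsimp
    simp only [assoc, NatTrans.shift_app_comm η (1 : ℤ) T.obj₁, NatTrans.naturality_assoc])

lemma isIso_app_obj₂ (T : Triangle C) (hT : T ∈ distTriang C)
    (h₁ : IsIso (η.app T.obj₁)) (h₃ : IsIso (η.app T.obj₃)) : IsIso (η.app T.obj₂) :=
  isIso₂_of_isIso₁₃ (mapTriangleHom F G η T) (F.map_distinguished T hT) (G.map_distinguished T hT)
    h₁ h₃

lemma isIso_app_obj₃ (T : Triangle C) (hT : T ∈ distTriang C)
    (h₁ : IsIso (η.app T.obj₁)) (h₂ : IsIso (η.app T.obj₂)) : IsIso (η.app T.obj₃) := by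
  have := isIso_app_obj₂ F G η T.rotate (rot_of_distTriang T hT) h₂
    (isIso_app_shift F G η T.obj₁ 1 h₁)
  exact this

lemma isIso_app_obj₁ (T : Triangle C) (hT : T ∈ distTriang C)
    (h₂ : IsIso (η.app T.obj₂)) (h₃ : IsIso (η.app T.obj₃)) : IsIso (η.app T.obj₁) := by
  have := isIso_app_obj₂ F G η T.invRotate (inv_rot_of_distTriang T hT)
    (isIso_app_shift F G η T.obj₃ (-1) h₃) h₂
  exact this

include F G in
omit [NatTrans.CommShift η ℤ] in
lemma isIso_app_of_isZero (X : C) (hX : IsZero X) : IsIso (η.app X) := by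
  have h1 : IsZero (F.obj X) := F.map_isZero hX
  have h2 : IsZero (G.obj X) := G.map_isZero hX
  exact ⟨0, h1.eq_of_src _ _, h2.eq_of_src _ _⟩

end General

section Derived

variable {A : Type u} [Category.{v} A] [Abelian A] [HasDerivedCategory.{w} A]

/-- if the third vertex of a distinguished triangle is `≥ b`, then `H^i` of the first map is an
isomorphism for `i < b` -/
lemma isIso_homology_map_mor₁ (T : Triangle (DerivedCategory A)) (hT : T ∈ distTriang _)
    (b : ℤ) [T.obj₃.IsGE b] (i : ℤ) (hi : i < b) :
    IsIso ((homologyFunctor A i).map T.mor₁) := by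
  have hmono : Mono ((homologyFunctor A i).map T.mor₁) := by
    rw [HomologySequence.mono_homologyMap_mor₁_iff T hT (i - 1) i (by omega)]
    exact (T.obj₃.isZero_of_isGE b (i - 1) (by omega)).eq_of_src _ _
  have hepi : Epi ((homologyFunctor A i).map T.mor₁) := by
    rw [HomologySequence.epi_homologyMap_mor₁_iff T hT i]
    exact (T.obj₃.isZero_of_isGE b i hi).eq_of_tgt _ _
  exact isIso_of_mono_of_epi _

/-- if the first vertex of a distinguished triangle is `≤ a`, then `H^i` of the second map is an
isomorphism for `i > a` -/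
lemma isIso_homology_map_mor₂ (T : Triangle (DerivedCategory A)) (hT : T ∈ distTriang _)
    (a : ℤ) [T.obj₁.IsLE a] (i : ℤ) (hi : a < i) :
    IsIso ((homologyFunctor A i).map T.mor₂) := by
  have hmono : Mono ((homologyFunctor A i).map T.mor₂) := by
    rw [HomologySequence.mono_homologyMap_mor₂_iff T hT i]
    exact (T.obj₁.isZero_of_isLE a i hi).eq_of_src _ _
  have hepi : Epi ((homologyFunctor A i).map T.mor₂) := by
    rw [HomologySequence.epi_homologyMap_mor₂_iff T hT i (i + 1) rfl]
    exact (T.obj₁.isZero_of_isLE a (i + 1) (by omega)).eq_of_tgt _ _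
  exact isIso_of_mono_of_epi _

lemma isIso_homology_truncLEι (X : DerivedCategory A) (n i : ℤ) (hi : i ≤ n) :
    IsIso ((homologyFunctor A i).map ((TStructure.t.truncLEι n).app X)) := by
  have hT := TStructure.t.triangleLEGE_distinguished n (n + 1) rfl X
  have : ((TStructure.t.triangleLEGE n (n + 1) rfl).obj X).obj₃.IsGE (n + 1) :=
    inferInstanceAs (TStructure.t.IsGE ((TStructure.t.truncGE (n + 1)).obj X) (n + 1))
  exact isIso_homology_map_mor₁ _ hT (n + 1) i (by omega)

lemma isIso_homology_truncGEπ (X : DerivedCategory A) (n i : ℤ) (hi : n ≤ i) :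
    IsIso ((homologyFunctor A i).map ((TStructure.t.truncGEπ n).app X)) := by
  have hT := TStructure.t.triangleLEGE_distinguished (n - 1) n (by omega) X
  have : ((TStructure.t.triangleLEGE (n - 1) n (by omega)).obj X).obj₁.IsLE (n - 1) :=
    inferInstanceAs (TStructure.t.IsLE ((TStructure.t.truncLE (n - 1)).obj X) (n - 1))
  exact isIso_homology_map_mor₂ _ hT (n - 1) i (by omega)

variable (P : ObjectProperty A) [P.IsClosedUnderIsomorphisms]

include P in
lemma prop_of_isZero_of_exists {Z₀ : A} (h₀ : IsZero Z₀) (hP₀ : P Z₀) (Z : A) (hZ : IsZero Z) : P Z :=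
  P.prop_of_iso (h₀.iso hZ) hP₀

/-- homology of `τ≤n X` lies in `P` if that of `X` does and `P` contains the zero objects -/
lemma prop_homology_truncLE (hP0 : ∀ Z : A, IsZero Z → P Z) (X : DerivedCategory A) (n : ℤ)
    (hX : ∀ i : ℤ, P ((homologyFunctor A i).obj X)) (i : ℤ) :
    P ((homologyFunctor A i).obj ((TStructure.t.truncLE n).obj X)) := by
  by_cases hi : i ≤ n
  · have := isIso_homology_truncLEι X n i hi
    exact P.prop_of_iso (asIso ((homologyFunctor A i).map ((TStructure.t.truncLEι n).app X))).symm (hX i)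
  · exact hP0 _ (((TStructure.t.truncLE n).obj X).isZero_of_isLE n i (by omega))

lemma prop_homology_truncGE (hP0 : ∀ Z : A, IsZero Z → P Z) (X : DerivedCategory A) (n : ℤ)
    (hX : ∀ i : ℤ, P ((homologyFunctor A i).obj X)) (i : ℤ) :
    P ((homologyFunctor A i).obj ((TStructure.t.truncGE n).obj X)) := by
  by_cases hi : n ≤ i
  · have := isIso_homology_truncGEπ X n i hi
    exact P.prop_of_iso (asIso ((homologyFunctor A i).map ((TStructure.t.truncGEπ n).app X))) (hX i)
  · exact hP0 _ (((TStructure.t.truncGE n).obj X).isZero_of_isGE n i (by omega))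

variable {B : Type u'} [Category.{v'} B] [Abelian B] [HasDerivedCategory.{w'} B]
  (F G : DerivedCategory A ⥤ DerivedCategory B) [F.CommShift ℤ] [G.CommShift ℤ]
  [F.IsTriangulated] [G.IsTriangulated] (η : F ⟶ G) [NatTrans.CommShift η ℤ]

include P in
lemma isIso_app_single (hη : ∀ X : A, P X → IsIso (η.app ((singleFunctor A 0).obj X)))
    (X : A) (hX : P X) (n : ℤ) : IsIso (η.app ((singleFunctor A n).obj X)) := by
  have h1 := isIso_app_shift F G η _ (-n) (hη X hX)
  exact isIso_app_of_iso F G η (((singleFunctors A).shiftIso (-n) n 0 (by omega)).app X) h1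

/-- the bounded case -/
theorem isIso_app_of_bounded (hη : ∀ X : A, P X → IsIso (η.app ((singleFunctor A 0).obj X)))
    (hP0 : ∀ Z : A, IsZero Z → P Z) :
    ∀ (n : ℕ) (X : DerivedCategory A) (a b : ℤ) [X.IsGE a] [X.IsLE b], b - a < n →
      (∀ i : ℤ, P ((homologyFunctor A i).obj X)) → IsIso (η.app X) := by
  intro n
  induction n with
  | zero =>
    intro X a b _ _ hab _
    exact isIso_app_of_isZero F G η X (TStructure.t.isZero X b a (by omega))
  | succ n ih =>
    intro X a b _ _ hab hX
    by_cases hba : b < a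
    · exact isIso_app_of_isZero F G η X (TStructure.t.isZero X b a hba)
    · have hT := TStructure.t.triangleLEGE_distinguished (b - 1) b (by omega) X
      -- first vertex
      have h₁ : IsIso (η.app ((TStructure.t.truncLE (b - 1)).obj X)) :=
        ih ((TStructure.t.truncLE (b - 1)).obj X) a (b - 1) (by omega)
          (prop_homology_truncLE P hP0 X (b - 1) hX)
      -- third vertex
      have h₃ : IsIso (η.app ((TStructure.t.truncGE b).obj X)) := by
        obtain ⟨Y, ⟨e⟩⟩ := exists_iso_singleFunctor_obj_of_isGE_of_isLE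
          ((TStructure.t.truncGE b).obj X) b
        have hY : P Y := by
          have e1 : (homologyFunctor A b).obj ((TStructure.t.truncGE b).obj X) ≅ Y :=
            (homologyFunctor A b).mapIso e ≪≫ (singleFunctorCompHomologyFunctorIso A b).app Y
          exact P.prop_of_iso e1 (prop_homology_truncGE P hP0 X b hX b)
        exact isIso_app_of_iso F G η e.symm (isIso_app_single P F G η hη Y hY b)
      exact isIso_app_obj₂ F G η _ hT h₁ h₃

end Derived

end Groth.Agent.Lib.Helper58
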