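import Mathlib

/-!
# Descent along fpqc coverings in the sense "every affine open is the image of a quasi-compact open"
-/

set_option autoImplicit false

universe u

open CategoryTheory CategoryTheory.Limits AlgebraicGeometry MorphismProperty

namespace Groth.Agent.Lib.Helper58.FpqcLocal

/-- flatness descends along faithfully flat ring maps -/
lemma flat_codescendsAlong_faithfullyFlat :
    RingHom.CodescendsAlong RingHom.Flat RingHom.FaithfullyFlat := by
  refine .mk _ RingHom.Flat.respectsIso (fun R S T _ _ _ _ _ h h' ↦ ?_)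
  rw [RingHom.flat_algebraMap_iff] at h' ⊢
  rw [RingHom.faithfullyFlat_algebraMap_iff] at h
  exact Module.Flat.of_flat_tensorProduct R T S

/-- flatness satisfies fpqc descent -/
theorem flat_descendsAlong : DescendsAlong @Flat (@Surjective ⊓ @Flat ⊓ @QuasiCompact) :=
  HasRingHomProperty.descendsAlong_flat flat_codescendsAlong_faithfullyFlat

variable (P : MorphismProperty Scheme.{u}) [IsZariskiLocalAtTarget P] [P.IsStableUnderBaseChange]
  [P.DescendsAlong (@Surjective ⊓ @Flat ⊓ @QuasiCompact)]

/-- local form of descent along an fpqc covering. -/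
theorem of_local_fpqc {X S S' V : Scheme.{u}} (h : X ⟶ S) (f : S' ⟶ S) [Flat f]
    (j : V ⟶ S) [IsOpenImmersion j] [IsAffine V] (W : S'.Opens) (hW : IsCompact (W : Set S'))
    (hWV : f.base '' (W : Set S') = Set.range j.base) (hP : P (pullback.snd h f)) :
    P (pullback.snd h j) := by
  have hrange : Set.range (W.ι ≫ f).base ⊆ Set.range j.base := by
    rw [Scheme.Hom.comp_base, TopCat.coe_comp, Set.range_comp, Scheme.Opens.range_ι, hWV]
  let fW : (W : Scheme) ⟶ V := IsOpenImmersion.lift j (W.ι ≫ f) hrange
  have hfac : fW ≫ j = W.ι ≫ f := IsOpenImmersion.lift_fac _ _ _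
  have h1 : Flat fW :=
    MorphismProperty.of_postcomp (W := @Flat) (W' := @IsOpenImmersion) fW j inferInstance
      (by rw [hfac]; infer_instance)
  have h2 : Surjective fW := ⟨fun v => by
    have hv : j.base v ∈ f.base '' (W : Set S') := by rw [hWV]; exact ⟨v, rfl⟩
    obtain ⟨w, hw, hwv⟩ := hv
    refine ⟨⟨w, hw⟩, ?_⟩
    apply j.isOpenEmbedding.injective
    rw [← Scheme.Hom.comp_apply, hfac]
    exact hwv⟩
  have h3 : QuasiCompact fW := by
    rw [HasAffineProperty.iff_of_isAffine (P := @QuasiCompact)]
    exact isCompact_iff_compactSpace.mp hW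
  -- the base change of `pullback.snd h j` along `fW` has `P`
  have hbig : IsPullback (pullback.snd fW (pullback.snd h j) ≫ pullback.fst h j)
      (pullback.fst fW (pullback.snd h j)) h (W.ι ≫ f) := by
    rw [← hfac]
    exact (IsPullback.of_hasPullback fW (pullback.snd h j)).flip.paste_horiz
      (IsPullback.of_hasPullback h j)
  let k : pullback fW (pullback.snd h j) ⟶ pullback h f :=
    pullback.lift (pullback.snd fW (pullback.snd h j) ≫ pullback.fst h j)
      (pullback.fst fW (pullback.snd h j) ≫ W.ι) (by rw [Category.assoc]; exact hbig.w)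
  have hk1 : k ≫ pullback.fst h f = pullback.snd fW (pullback.snd h j) ≫ pullback.fst h j :=
    pullback.lift_fst _ _ _
  have hk2 : k ≫ pullback.snd h f = pullback.fst fW (pullback.snd h j) ≫ W.ι :=
    pullback.lift_snd _ _ _
  have hleft : IsPullback k (pullback.fst fW (pullback.snd h j)) (pullback.snd h f) W.ι := by
    refine IsPullback.of_right ?_ hk2 (IsPullback.of_hasPullback h f)
    rw [hk1]
    exact hbig
  have hfst : P (pullback.fst fW (pullback.snd h j)) := P.of_isPullback hleft hP
  exact MorphismProperty.of_pullback_fst_of_descendsAlong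
    (Q := @Surjective ⊓ @Flat ⊓ @QuasiCompact) (f := fW) ⟨⟨h2, h1⟩, h3⟩ hfst

/-- descent along an fpqc covering: every affine open of `S` is the image of a quasi-compact open
of `S'`. -/
theorem of_fpqc {X S S' : Scheme.{u}} (h : X ⟶ S) (f : S' ⟶ S) [Flat f]
    (hcov : ∀ V : S.Opens, IsAffineOpen V →
      ∃ W : S'.Opens, IsCompact (W : Set S') ∧ f.base '' (W : Set S') = (V : Set S))
    (hP : P (pullback.snd h f)) : P h := by
  refine IsZariskiLocalAtTarget.of_openCover (P := P) S.affineCover (fun i => ?_)
  obtain ⟨W, hW, hWV⟩ := hcov (S.affineCover.f i).opensRange (isAffineOpen_opensRange _)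
  haveI : IsAffine (S.affineCover.X i) := inferInstance
  exact of_local_fpqc P h f (S.affineCover.f i) W hW (by rw [hWV]; rfl) hP

end Groth.Agent.Lib.Helper58.FpqcLocal
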