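import Mathlib
import Groth.Agent.H76.FlatModel

/-!
# Noetherian approximation of a flat finitely presented algebra (helper58)

Built on helper76's `H76.FlatDescentGlobal.exists_stage_flat_global` (one-column matrix) and
`H76.FlatModel.isPushout_quotient`.
-/

set_option autoImplicit false
universe u

open TensorProduct Groth.Agent.H76.FlatKernel Groth.Agent.H76.FlatDescentLocal

namespace Groth.Agent.Lib.Helper58.FlatAlgModel

attribute [local instance] MvPolynomial.algebraMvPolynomial

/-- the cokernel of a one-column matrix is the quotient by the ideal spanned by its entries -/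
noncomputable def cokerEquiv {P : Type*} [CommRing P] {r : ℕ} (f : Fin r → P) :
    ((Fin 1 → P) ⧸ Submodule.span P (Set.range fun (k : Fin r) (_ : Fin 1) => f k)) ≃ₗ[P]
      (P ⧸ Ideal.span (Set.range f)) :=
  Submodule.Quotient.equiv _ _ (LinearEquiv.funUnique (Fin 1) P P) (by
    rw [Submodule.map_span]
    show Submodule.span P _ = Submodule.span P _
    congr 1
    ext x
    constructor
    · rintro ⟨_, ⟨k, rfl⟩, rfl⟩
      exact ⟨k, rfl⟩
    · rintro ⟨k, rfl⟩
      exact ⟨_, ⟨k, rfl⟩, rfl⟩)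

theorem exists_flat_algebra_model (R S : Type u) [CommRing R] [CommRing S] [Algebra R S]
    [Algebra.FinitePresentation R S] [Module.Flat R S] :
    ∃ (R₀ : Type u) (_ : CommRing R₀) (_ : Algebra R₀ R) (S₀ : Type u) (_ : CommRing S₀)
      (_ : Algebra R₀ S₀) (_ : Algebra S₀ S) (_ : Algebra R₀ S) (_ : IsScalarTower R₀ R S)
      (_ : IsScalarTower R₀ S₀ S),
      Algebra.FiniteType ℤ R₀ ∧ Algebra.FiniteType R₀ S₀ ∧ Module.Flat R₀ S₀ ∧
        Algebra.IsPushout R₀ R S₀ S := by
  classical
  obtain ⟨n, π, hπ, hker⟩ := Algebra.FinitePresentation.out (R := R) (A := S)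
  obtain ⟨r, f, hf⟩ := Submodule.fg_iff_exists_fin_generating_family.mp hker
  have hf' : Ideal.span (Set.range f) = RingHom.ker π.toRingHom := hf
  -- flatness of the matrix cokernel
  let c : Fin r → Fin 1 → MvPolynomial (Fin n) R := fun k _ => f k
  let e1 : ((Fin 1 → MvPolynomial (Fin n) R) ⧸
      Submodule.span (MvPolynomial (Fin n) R) (Set.range c)) ≃ₗ[R] S :=
    ((cokerEquiv f).restrictScalars R).trans
      (((Ideal.quotientEquivAlgOfEq R hf').trans
        (Ideal.quotientKerAlgEquivOfSurjective hπ)).toLinearEquiv)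
  haveI hflat : Module.Flat R ((Fin 1 → MvPolynomial (Fin n) R) ⧸
      Submodule.span (MvPolynomial (Fin n) R) (Set.range c)) :=
    Module.Flat.of_linearEquiv e1
  obtain ⟨s, -, c', hc', hfl'⟩ :=
    Groth.Agent.H76.FlatDescentGlobal.exists_stage_flat_global c ∅
  let f₀ : Fin r → MvPolynomial (Fin n) (Stg s) := fun k => c' k 0
  have hf₀ : ∀ k, MvPolynomial.map (algebraMap (Stg s) R) (f₀ k) = f k := by
    intro k
    have := congrFun (congrFun hc' k) 0
    exact this
  have hc'eq : c' = fun k _ => f₀ k := by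
    ext k i : 2
    rw [Subsingleton.elim i 0]
  let e2 : ((Fin 1 → MvPolynomial (Fin n) (Stg s)) ⧸
      Submodule.span (MvPolynomial (Fin n) (Stg s)) (Set.range c')) ≃ₗ[Stg s]
      (MvPolynomial (Fin n) (Stg s) ⧸ Ideal.span (Set.range f₀)) := by
    rw [hc'eq]
    exact (cokerEquiv f₀).restrictScalars (Stg s)
  haveI hflat₀ : Module.Flat (Stg s) (MvPolynomial (Fin n) (Stg s) ⧸ Ideal.span (Set.range f₀)) :=
    Module.Flat.of_linearEquiv e2.symm
  letI algPS : Algebra (MvPolynomial (Fin n) R) S := π.toRingHom.toAlgebra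
  haveI : IsScalarTower R (MvPolynomial (Fin n) R) S :=
    IsScalarTower.of_algebraMap_eq (fun r => (π.commutes r).symm)
  have hsurj : Function.Surjective (algebraMap (MvPolynomial (Fin n) R) S) := hπ
  have hsurj₀ : Function.Surjective (algebraMap (MvPolynomial (Fin n) (Stg s))
      (MvPolynomial (Fin n) (Stg s) ⧸ Ideal.span (Set.range f₀))) := Ideal.Quotient.mk_surjective
  have hker₀ : RingHom.ker (algebraMap (MvPolynomial (Fin n) (Stg s))
      (MvPolynomial (Fin n) (Stg s) ⧸ Ideal.span (Set.range f₀))) = Ideal.span (Set.range f₀) :=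
    Ideal.mk_ker
  have hkerS : RingHom.ker (algebraMap (MvPolynomial (Fin n) R) S) =
      Ideal.span (Set.range fun k => MvPolynomial.map (algebraMap (Stg s) R) (f₀ k)) := by
    have : (fun k => MvPolynomial.map (algebraMap (Stg s) R) (f₀ k)) = f := funext hf₀
    rw [this, hf']
    rfl
  -- the map `S₀ → S`
  let ψ : MvPolynomial (Fin n) (Stg s) →+* S :=
    (algebraMap (MvPolynomial (Fin n) R) S).comp (MvPolynomial.map (algebraMap (Stg s) R))
  have hψ : ∀ a ∈ Ideal.span (Set.range f₀), ψ a = 0 := by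
    intro a ha
    have : Ideal.span (Set.range f₀) ≤ RingHom.ker ψ := by
      rw [Ideal.span_le]
      rintro _ ⟨k, rfl⟩
      show algebraMap (MvPolynomial (Fin n) R) S
        (MvPolynomial.map (algebraMap (Stg s) R) (f₀ k)) = 0
      rw [← RingHom.mem_ker, hkerS]
      exact Ideal.subset_span ⟨k, rfl⟩
    exact this ha
  let φ : (MvPolynomial (Fin n) (Stg s) ⧸ Ideal.span (Set.range f₀)) →+* S :=
    Ideal.Quotient.lift _ ψ hψ
  have hφ : ∀ p, φ (algebraMap (MvPolynomial (Fin n) (Stg s))
      (MvPolynomial (Fin n) (Stg s) ⧸ Ideal.span (Set.range f₀)) p) = ψ p := fun p =>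
    Ideal.Quotient.lift_mk _ ψ hψ
  letI algS₀S : Algebra (MvPolynomial (Fin n) (Stg s) ⧸ Ideal.span (Set.range f₀)) S :=
    φ.toAlgebra
  have hC : ∀ x : Stg s, ψ (MvPolynomial.C x) = algebraMap (Stg s) S x := by
    intro x
    simp only [ψ, RingHom.coe_comp, Function.comp_apply, MvPolynomial.map_C]
    rw [IsScalarTower.algebraMap_apply (Stg s) R S,
      IsScalarTower.algebraMap_apply R (MvPolynomial (Fin n) R) S]
    rfl
  haveI tow : IsScalarTower (Stg s) (MvPolynomial (Fin n) (Stg s) ⧸ Ideal.span (Set.range f₀)) S := by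
    refine IsScalarTower.of_algebraMap_eq (R := Stg s)
      (S := MvPolynomial (Fin n) (Stg s) ⧸ Ideal.span (Set.range f₀)) (A := S) (fun x => ?_)
    rw [IsScalarTower.algebraMap_apply (Stg s) (MvPolynomial (Fin n) (Stg s))
      (MvPolynomial (Fin n) (Stg s) ⧸ Ideal.span (Set.range f₀))]
    show _ = φ _
    rw [MvPolynomial.algebraMap_eq, hφ, hC]
  refine ⟨Stg s, inferInstance, inferInstance,
    MvPolynomial (Fin n) (Stg s) ⧸ Ideal.span (Set.range f₀), inferInstance,
    inferInstance, algS₀S, inferInstance, inferInstance, tow, inferInstance, ?_, hflat₀, ?_⟩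
  · exact Algebra.FiniteType.of_surjective
      (Ideal.Quotient.mkₐ (Stg s) (Ideal.span (Set.range f₀))) Ideal.Quotient.mk_surjective
  · exact Groth.Agent.H76.FlatModel.isPushout_quotient hsurj hsurj₀ f₀ hkerS hker₀ (fun p => hφ p)

end Groth.Agent.Lib.Helper58.FlatAlgModel
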