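import Mathlib
import Groth.Prelude
import Groth.Agent.Lib.Helper49.FiniteTypeAffine
import Groth.Agent.Lib.Helper49.FinitePresentation2
import Groth.Agent.Lib.Helper11.TildePullback
import Groth.Agent.Lib.Helper12.FlatOverSections
import Groth.Agent.H76.FlatModel

set_option autoImplicit false
universe u

open CategoryTheory CategoryTheory.Limits AlgebraicGeometry TopologicalSpace Opposite TensorProduct

namespace Groth.Agent.Lib.Helper58.ModApprox

open Groth.Agent.Lib.Helper49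

/-- A quasi-coherent module on an affine scheme is the pullback along `X ≅ Spec Γ(X)` of the
`tilde` of its global sections. -/
theorem nonempty_iso_pullback_tilde {X : Scheme.{u}} [IsAffine X] (F : X.Modules)
    [F.IsQuasicoherent] :
    Nonempty (F ≅ (Scheme.Modules.pullback X.isoSpec.hom).obj
      (tilde (ModuleCat.of Γ(X, ⊤) Γ(F, ⊤)))) := by
  have hU : IsAffineOpen (⊤ : X.Opens) := isAffineOpen_top X
  let N : (Spec Γ(X, ⊤)).Modules := F.restrict hU.fromSpec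
  have hN : N.IsQuasicoherent := Scheme.Modules.isQuasicoherent_restrictFunctor _ _
  have h0 : IsIso (C := (Spec Γ(X, ⊤)).Modules) N.fromTildeΓ :=
    (isQuasicoherent_iff_isIso_fromTildeΓ N).mp hN
  let e1 : (tilde.functor Γ(X, ⊤)).obj ((modulesSpecToSheaf.obj N).presheaf.obj (.op ⊤)) ≅ N :=
    @asIso (Spec Γ(X, ⊤)).Modules _ _ _ N.fromTildeΓ h0
  let e2 : (modulesSpecToSheaf.obj N).presheaf.obj (.op ⊤) ≅ ModuleCat.of Γ(X, ⊤) Γ(F, ⊤) :=
    (sectionsFromSpecTopEquiv hU F).toModuleIso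
  let e3 : tilde (ModuleCat.of Γ(X, ⊤) Γ(F, ⊤)) ≅ N :=
    (tilde.functor Γ(X, ⊤)).mapIso e2.symm ≪≫ e1
  let e4 : N ≅ (Scheme.Modules.pullback X.isoSpec.inv).obj F :=
    (Scheme.Modules.restrictFunctorCongr (IsAffineOpen.fromSpec_top (X := X))).app F ≪≫
      (Scheme.Modules.restrictFunctorIsoPullback X.isoSpec.inv).app F
  let e5 : (Scheme.Modules.pullback X.isoSpec.hom).obj
      ((Scheme.Modules.pullback X.isoSpec.inv).obj F) ≅ F :=
    (Scheme.Modules.pullbackComp X.isoSpec.hom X.isoSpec.inv).app F ≪≫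
      (Scheme.Modules.pullbackCongr X.isoSpec.hom_inv_id).app F ≪≫
      (Scheme.Modules.pullbackId (X := X)).app F
  exact ⟨e5.symm ≪≫ (Scheme.Modules.pullback X.isoSpec.hom).mapIso (e4.symm ≪≫ e3.symm)⟩

theorem appLE_top_top {X S : Scheme.{u}} (f : X ⟶ S) (e : (⊤ : X.Opens) ≤ f ⁻¹ᵁ ⊤) :
    f.appLE ⊤ ⊤ e = f.appTop := by
  simp only [Scheme.Hom.appLE, Scheme.Hom.appTop]
  have : X.presheaf.map (homOfLE e).op = 𝟙 _ := by
    have h4 : (homOfLE e).op = 𝟙 (Opposite.op (f ⁻¹ᵁ ⊤)) := Subsingleton.elim _ _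
    rw [h4]
    exact X.presheaf.map_id _
  rw [this]
  exact Category.comp_id _

open Groth.Agent.Lib.Helper12.FlatOver in
theorem flat_module_approx {X S : Scheme.{u}} (f : X ⟶ S) [IsAffine X] [IsAffine S]
    [LocallyOfFinitePresentation f] (F : X.Modules) [F.IsQuasicoherent]
    (hF : SheafOfModules.IsFinitePresentation (R := X.ringCatSheaf) F)
    (hfl : FlatMod.IsFlatOver f F) :
    ∃ (X₀ S₀ : Scheme.{u}) (f₀ : X₀ ⟶ S₀) (g : S ⟶ S₀) (g' : X ⟶ X₀), IsAffine X₀ ∧ IsAffine S₀ ∧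
      IsPullback g' f f₀ g ∧
      Algebra.FiniteType ℤ Γ(S₀, ⊤) ∧ LocallyOfFiniteType f₀ ∧
      ∃ F₀ : X₀.Modules, Coh.IsCoh F₀ ∧ FlatMod.IsFlatOver f₀ F₀ ∧
        Nonempty ((Scheme.Modules.pullback g').obj F₀ ≅ F) := by
  classical
  have hfp : f.appTop.hom.FinitePresentation :=
    (HasRingHomProperty.iff_of_isAffine (P := @LocallyOfFinitePresentation)).mp inferInstance
  letI alg : Algebra Γ(S, ⊤) Γ(X, ⊤) := f.appTop.hom.toAlgebra
  haveI : Algebra.FinitePresentation Γ(S, ⊤) Γ(X, ⊤) := hfp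
  letI modA : Module Γ(S, ⊤) Γ(F, ⊤) := Module.compHom _ f.appTop.hom
  haveI : IsScalarTower Γ(S, ⊤) Γ(X, ⊤) Γ(F, ⊤) := IsScalarTower.of_compHom _ _ _
  have hU : IsAffineOpen (⊤ : X.Opens) := isAffineOpen_top X
  have hV : IsAffineOpen (⊤ : S.Opens) := isAffineOpen_top S
  have e : (⊤ : X.Opens) ≤ f ⁻¹ᵁ ⊤ := le_of_eq rfl
  haveI : Module.FinitePresentation Γ(X, ⊤) Γ(F, ⊤) :=
    finitePresentation_sections_of_isFinitePresentation F hF hU
  haveI hflatM : Module.Flat Γ(S, ⊤) Γ(F, ⊤) := by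
    have h1 := flat_sections_of_isFlatOverAt f F hV hU e (fun x => hfl x)
    have h2 : f.appLE ⊤ ⊤ e = f.appTop := appLE_top_top f e
    rw [h2] at h1
    exact h1
  obtain ⟨A₀, _, _, B₀, _, _, _, _, _, _, M₀, _, _, _, _, _, _, φ, hft, hft', hfin, hfl₀, hpo, hbc⟩ :=
    Groth.Agent.H76.FlatModel.exists_flat_model Γ(S, ⊤) Γ(X, ⊤) Γ(F, ⊤)
  have hpush := CommRingCat.isPushout_of_isPushout A₀ Γ(S, ⊤) B₀ Γ(X, ⊤)
  have hpull := (isPullback_SpecMap_of_isPushout _ _ _ _ hpush).flip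
  have hfa : CommRingCat.ofHom (algebraMap Γ(S, ⊤) Γ(X, ⊤)) = f.appTop := rfl
  haveI : IsNoetherianRing A₀ := Algebra.FiniteType.isNoetherianRing ℤ A₀
  haveI : IsNoetherianRing B₀ := Algebra.FiniteType.isNoetherianRing A₀ B₀
  refine ⟨Spec (CommRingCat.of B₀), Spec (CommRingCat.of A₀),
    Spec.map (CommRingCat.ofHom (algebraMap A₀ B₀)),
    S.isoSpec.hom ≫ Spec.map (CommRingCat.ofHom (algebraMap A₀ Γ(S, ⊤))),
    X.isoSpec.hom ≫ Spec.map (CommRingCat.ofHom (algebraMap B₀ Γ(X, ⊤))),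
    inferInstance, inferInstance, ?_, ?_, ?_, tilde (ModuleCat.of B₀ M₀), ?_, ?_, ?_⟩
  · refine hpull.of_iso X.isoSpec.symm (Iso.refl _) S.isoSpec.symm (Iso.refl _) ?_ ?_ ?_ ?_
    · simp
    · rw [Iso.symm_hom, Iso.symm_hom, hfa]
      exact Scheme.isoSpec_inv_naturality f
    · simp
    · simp
  · exact hft.equiv (Scheme.ΓSpecIso (CommRingCat.of A₀)).symm.commRingCatIsoToRingEquiv.toIntAlgEquiv
  · rw [HasRingHomProperty.Spec_iff (P := @LocallyOfFiniteType)]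
    exact RingHom.finiteType_algebraMap.mpr hft'
  · exact ⟨inferInstance, isFiniteType_tilde_of_finite (CommRingCat.of B₀) (ModuleCat.of B₀ M₀)⟩
  · exact (tilde_isFlatOver_iff' (R := CommRingCat.of A₀) (S := CommRingCat.of B₀) M₀).mpr hfl₀
  · obtain ⟨ed⟩ := nonempty_iso_pullback_tilde F
    obtain ⟨eb⟩ := Groth.Agent.Lib.Helper11.nonempty_pullback_tilde_iso B₀ Γ(X, ⊤) M₀
    let ec : tilde (ModuleCat.of Γ(X, ⊤) (Γ(X, ⊤) ⊗[B₀] M₀)) ≅
        tilde (ModuleCat.of Γ(X, ⊤) Γ(F, ⊤)) :=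
      (tilde.functor Γ(X, ⊤)).mapIso hbc.equiv.toModuleIso
    let ea := ((Scheme.Modules.pullbackComp X.isoSpec.hom
      (Spec.map (CommRingCat.ofHom (algebraMap B₀ Γ(X, ⊤))))).app
        (tilde (ModuleCat.of B₀ M₀))).symm
    exact ⟨ea ≪≫ (Scheme.Modules.pullback X.isoSpec.hom).mapIso (eb ≪≫ ec) ≪≫ ed.symm⟩

end Groth.Agent.Lib.Helper58.ModApprox
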