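import Mathlib

/-!
# Monoid homs `N →* k[M]` with orthogonal idempotent coefficients and idempotent systems

For finite commutative groups `N`, `M` and a commutative ring `k`, the monoid homomorphisms
`f : N →* k[M]` all of whose values have orthogonal idempotent coefficients correspond to the
complete orthogonal systems of idempotents of `k` indexed by `N →* M`.
-/

set_option autoImplicit false

namespace Groth.Agent.Lib.Helper58.ThetaSys

open MonoidAlgebra

variable {k : Type*} [CommRing k] {N M : Type*} [CommGroup N] [CommGroup M]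

/-- the coefficients of all values of `f` are orthogonal idempotents. -/
def IsOrth (f : N →* MonoidAlgebra k M) : Prop :=
  (∀ n m, (f n).coeff m * (f n).coeff m = (f n).coeff m) ∧
    ∀ n m m', m ≠ m' → (f n).coeff m * (f n).coeff m' = 0

section Fin

variable [Fintype N] [Fintype M]

lemma sum_coeff_eq_one (f : N →* MonoidAlgebra k M) (hf : IsOrth f) (n : N) :
    ∑ m, (f n).coeff m = 1 := by
  classical
  let ε : MonoidAlgebra k M →ₐ[k] k := MonoidAlgebra.lift k k M 1
  have hε : ∀ x : MonoidAlgebra k M, ε x = ∑ m, x.coeff m := by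
    intro x
    rw [MonoidAlgebra.lift_apply, Finsupp.sum_fintype _ _ (by simp)]
    simp
  let s : N →* k := (ε : MonoidAlgebra k M →* k).comp f
  have hs : ∀ n, s n = ∑ m, (f n).coeff m := fun n => hε (f n)
  have hidem : ∀ n, s n * s n = s n := by
    intro n
    rw [hs, Finset.sum_mul_sum]
    apply Finset.sum_congr rfl
    intro m _
    rw [Finset.sum_eq_single m]
    · exact hf.1 n m
    · intro m' _ hne
      exact hf.2 n m m' hne.symm
    · simp
  have hunit : s n * s n⁻¹ = 1 := by rw [← map_mul, mul_inv_cancel, map_one]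
  calc ∑ m, (f n).coeff m = s n := (hs n).symm
    _ = s n * (s n * s n⁻¹) := by rw [hunit, mul_one]
    _ = (s n * s n) * s n⁻¹ := by ring
    _ = 1 := by rw [hidem, hunit]

/-- the idempotent attached to a function `N → M`. -/
noncomputable def eFun (f : N →* MonoidAlgebra k M) (g : N → M) : k := ∏ n, (f n).coeff (g n)

lemma eFun_mul_coeff [DecidableEq M] (f : N →* MonoidAlgebra k M) (hf : IsOrth f) (g : N → M)
    (n : N) (m : M) : eFun f g * (f n).coeff m = if g n = m then eFun f g else 0 := by
  classical
  unfold eFun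
  rw [← Finset.mul_prod_erase Finset.univ _ (Finset.mem_univ n)]
  split_ifs with h
  · rw [← h, mul_comm ((f n).coeff (g n)), mul_assoc, hf.1]
  · rw [mul_comm ((f n).coeff (g n)), mul_assoc, hf.2 n _ _ h, mul_zero]

lemma eFun_idem (f : N →* MonoidAlgebra k M) (hf : IsOrth f) (g : N → M) :
    eFun f g * eFun f g = eFun f g := by
  unfold eFun
  rw [← Finset.prod_mul_distrib]
  exact Finset.prod_congr rfl (fun n _ => hf.1 n _)

lemma eFun_orth (f : N →* MonoidAlgebra k M) (hf : IsOrth f) (g g' : N → M) (h : g ≠ g') :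
    eFun f g * eFun f g' = 0 := by
  obtain ⟨n, hn⟩ := Function.ne_iff.mp h
  unfold eFun
  rw [← Finset.prod_mul_distrib]
  exact Finset.prod_eq_zero (Finset.mem_univ n) (hf.2 n _ _ hn)

lemma sum_eFun [DecidableEq N] (f : N →* MonoidAlgebra k M) (hf : IsOrth f) :
    ∑ g : N → M, eFun f g = 1 := by
  unfold eFun
  have h := Finset.prod_univ_sum (fun _ : N => (Finset.univ : Finset M))
    (fun n m => (f n).coeff m)
  rw [Fintype.piFinset_univ] at h
  rw [← h]
  exact Finset.prod_eq_one (fun n _ => sum_coeff_eq_one f hf n)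

lemma eFun_smul (f : N →* MonoidAlgebra k M) (hf : IsOrth f) (g : N → M) (n : N) :
    eFun f g • f n = single (g n) (eFun f g) := by
  classical
  ext m
  rw [coeff_smul_apply, smul_eq_mul, eFun_mul_coeff f hf, coeff_single, Finsupp.single_apply]

lemma eFun_eq_zero (f : N →* MonoidAlgebra k M) (hf : IsOrth f) (g : N → M) (n n' : N)
    (h : g (n * n') ≠ g n * g n') : eFun f g = 0 := by
  classical
  have h1 : single (g (n * n')) (eFun f g) = single (g n * g n') (eFun f g) := by
    rw [← eFun_smul f hf, map_mul, ← eFun_idem f hf g, ← smul_mul_smul_comm, eFun_smul f hf,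
      eFun_smul f hf, single_mul_single, eFun_idem f hf g]
  have h2 := congrArg (fun x => x.coeff (g (n * n'))) h1
  simp only [coeff_single, Finsupp.single_apply, if_true, if_neg (Ne.symm h)] at h2
  exact h2

/-- the system of idempotents attached to `f`, indexed by the homomorphisms `N →* M`. -/
noncomputable def sysOf (f : N →* MonoidAlgebra k M) (θ : N →* M) : k := eFun f θ

lemma sysOf_def (f : N →* MonoidAlgebra k M) (θ : N →* M) :
    sysOf f θ = ∏ n, (f n).coeff (θ n) := rfl

variable [Fintype (N →* M)]

lemma sum_sysOf_eq (f : N →* MonoidAlgebra k M) (hf : IsOrth f) {A : Type*} [AddCommMonoid A]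
    (F : (N → M) → k → A) (hF : ∀ g, F g 0 = 0) [DecidableEq N] :
    ∑ θ : N →* M, F θ (sysOf f θ) = ∑ g : N → M, F g (eFun f g) := by
  apply Fintype.sum_of_injective (fun θ : N →* M => (θ : N → M)) DFunLike.coe_injective
  · intro g hg
    have : ∃ n n', g (n * n') ≠ g n * g n' := by
      by_contra hcon
      push Not at hcon
      exact hg ⟨MonoidHom.mk' g hcon, rfl⟩
    obtain ⟨n, n', hnn⟩ := this
    rw [eFun_eq_zero f hf g n n' hnn, hF]
  · intro θ
    rfl

lemma sysOf_complete (f : N →* MonoidAlgebra k M) (hf : IsOrth f) :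
    CompleteOrthogonalIdempotents (sysOf f) := by
  classical
  refine ⟨⟨fun θ => eFun_idem f hf θ, fun θ θ' h => eFun_orth f hf θ θ' ?_⟩, ?_⟩
  · exact fun hcon => h (DFunLike.coe_injective hcon)
  · rw [← sum_eFun f hf]
    exact sum_sysOf_eq f hf (fun _ x => x) (fun _ => rfl)

lemma eq_sum_sysOf (f : N →* MonoidAlgebra k M) (hf : IsOrth f) (n : N) :
    f n = ∑ θ : N →* M, single (θ n) (sysOf f θ) := by
  classical
  rw [sum_sysOf_eq f hf (fun g x => single (g n) x) (fun g => by simp)]
  calc f n = (1 : k) • f n := (one_smul _ _).symm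
    _ = ∑ g : N → M, eFun f g • f n := by rw [← sum_eFun f hf, Finset.sum_smul]
    _ = _ := Finset.sum_congr rfl (fun g _ => eFun_smul f hf g n)

/-- naturality of `sysOf` in the coefficient ring. -/
lemma sysOf_map {k' : Type*} [CommRing k'] (ρ : k →+* k') (f : N →* MonoidAlgebra k M)
    (f' : N →* MonoidAlgebra k' M) (h : ∀ n, f' n = mapRingHom M ρ (f n)) (θ : N →* M) :
    sysOf f' θ = ρ (sysOf f θ) := by
  rw [sysOf_def, sysOf_def, map_prod]
  exact Finset.prod_congr rfl (fun n _ => by rw [h, coeff_mapRingHom])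

end Fin

section OfSys

variable [Fintype (N →* M)] (e : (N →* M) → k)

lemma single_sum' (m : M) (s : Finset (N →* M)) (x : (N →* M) → k) :
    single m (∑ θ ∈ s, x θ) = ∑ θ ∈ s, single m (x θ) :=
  map_sum (singleAddHom (R := k) m) x s

/-- the monoid hom attached to a complete orthogonal system. -/
noncomputable def ofSys (he : CompleteOrthogonalIdempotents e) : N →* MonoidAlgebra k M where
  toFun n := ∑ θ : N →* M, single (θ n) (e θ)
  map_one' := by
    simp only [map_one]
    rw [← single_sum', he.complete]
    rfl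
  map_mul' n n' := by
    classical
    rw [Finset.sum_mul_sum]
    apply Finset.sum_congr rfl
    intro θ _
    rw [Finset.sum_eq_single θ]
    · rw [single_mul_single, map_mul, (he.idem θ).eq]
    · intro θ' _ hne
      rw [single_mul_single, he.ortho hne.symm, single_zero]
    · simp

lemma ofSys_apply (he : CompleteOrthogonalIdempotents e) (n : N) :
    ofSys e he n = ∑ θ : N →* M, single (θ n) (e θ) := rfl

lemma coeff_ofSys [DecidableEq M] (he : CompleteOrthogonalIdempotents e) (n : N) (m : M) :
    (ofSys e he n).coeff m = ∑ θ : N →* M, if θ n = m then e θ else 0 := by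
  rw [ofSys_apply, coeff_sum, Finsupp.finsetSum_apply]
  exact Finset.sum_congr rfl (fun θ _ => by rw [coeff_single, Finsupp.single_apply])

lemma mul_coeff_ofSys [DecidableEq M] (he : CompleteOrthogonalIdempotents e) (θ : N →* M) (n : N)
    (m : M) : e θ * (ofSys e he n).coeff m = if θ n = m then e θ else 0 := by
  classical
  rw [coeff_ofSys, Finset.mul_sum, Finset.sum_eq_single θ]
  · split_ifs
    · exact (he.idem θ).eq
    · exact mul_zero _
  · intro θ' _ hne
    split_ifs
    · exact he.ortho hne.symm
    · exact mul_zero _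
  · simp

lemma isOrth_ofSys (he : CompleteOrthogonalIdempotents e) : IsOrth (ofSys e he) := by
  classical
  constructor
  · intro n m
    have hc := coeff_ofSys e he n m
    calc (ofSys e he n).coeff m * (ofSys e he n).coeff m
        = (∑ θ : N →* M, if θ n = m then e θ else 0) * (ofSys e he n).coeff m := by rw [← hc]
      _ = ∑ θ : N →* M, if θ n = m then e θ else 0 := by
        rw [Finset.sum_mul]
        apply Finset.sum_congr rfl
        intro θ _
        split_ifs with h
        · rw [mul_coeff_ofSys, if_pos h]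
        · exact zero_mul _
      _ = _ := hc.symm
  · intro n m m' hne
    conv_lhs => rw [coeff_ofSys e he n m, Finset.sum_mul]
    apply Finset.sum_eq_zero
    intro θ _
    split_ifs with h
    · rw [mul_coeff_ofSys, if_neg (by rw [h]; exact hne)]
    · exact zero_mul _

lemma sysOf_ofSys [Fintype N] [Fintype M] (he : CompleteOrthogonalIdempotents e) :
    sysOf (ofSys e he) = e := by
  classical
  funext θ'
  rw [sysOf_def]
  have key : ∀ θ : N →* M, e θ * ∏ n, (ofSys e he n).coeff (θ' n) = if θ = θ' then e θ else 0 := by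
    intro θ
    split_ifs with h
    · subst h
      have : ∀ s : Finset N, e θ * ∏ n ∈ s, (ofSys e he n).coeff (θ n) = e θ := by
        intro s
        induction s using Finset.induction_on with
        | empty => simp
        | insert a s ha ih =>
          rw [Finset.prod_insert ha, ← mul_assoc, mul_coeff_ofSys, if_pos rfl, ih]
      exact this _
    · obtain ⟨n, hn⟩ : ∃ n, θ n ≠ θ' n := by
        by_contra hcon
        push Not at hcon
        exact h (MonoidHom.ext hcon)
      rw [← Finset.mul_prod_erase Finset.univ _ (Finset.mem_univ n), ← mul_assoc, mul_coeff_ofSys,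
        if_neg hn, zero_mul]
  calc ∏ n, (ofSys e he n).coeff (θ' n) = (∑ θ, e θ) * ∏ n, (ofSys e he n).coeff (θ' n) := by
        rw [he.complete, one_mul]
    _ = ∑ θ, if θ = θ' then e θ else 0 := by
        rw [Finset.sum_mul]
        exact Finset.sum_congr rfl (fun θ _ => key θ)
    _ = e θ' := by simp

lemma ofSys_sysOf [Fintype N] [Fintype M] (f : N →* MonoidAlgebra k M) (hf : IsOrth f) :
    ofSys (sysOf f) (sysOf_complete f hf) = f := by
  refine MonoidHom.ext (fun n => ?_)
  rw [ofSys_apply, ← eq_sum_sysOf f hf n]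

lemma mapRingHom_ofSys {k' : Type*} [CommRing k'] (ρ : k →+* k')
    (he : CompleteOrthogonalIdempotents e) (he' : CompleteOrthogonalIdempotents (fun θ => ρ (e θ)))
    (n : N) : mapRingHom M ρ (ofSys e he n) = ofSys (fun θ => ρ (e θ)) he' n := by
  rw [ofSys_apply, ofSys_apply, map_sum]
  exact Finset.sum_congr rfl (fun θ _ => mapRingHom_single ρ _ _)

/-- two maps with orthogonal idempotent coefficients and the same system agree. -/
lemma eq_of_sysOf_eq [Fintype N] [Fintype M] (f f' : N →* MonoidAlgebra k M) (hf : IsOrth f)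
    (hf' : IsOrth f') (h : sysOf f = sysOf f') : f = f' := by
  refine MonoidHom.ext (fun n => ?_)
  rw [eq_sum_sysOf f hf n, eq_sum_sysOf f' hf' n, h]

end OfSys

section Twist

variable {Θ : Type*} [Fintype Θ] {A : Type*} [CommRing A] {P Q : Type*} [Monoid P] [Monoid Q]

/-- the character `n ↦ ∑ θ, ε θ * α (ev θ n)` attached to a complete orthogonal system. -/
noncomputable def twist (ev : Θ → P →* Q) (ε : Θ → A) (hε : CompleteOrthogonalIdempotents ε)
    (α : Q →* A) : P →* A where
  toFun n := ∑ θ, ε θ * α (ev θ n)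
  map_one' := by simp [hε.complete]
  map_mul' n n' := by
    classical
    rw [Finset.sum_mul_sum]
    apply Finset.sum_congr rfl
    intro θ _
    rw [Finset.sum_eq_single θ]
    · rw [map_mul, map_mul]
      calc ε θ * (α (ev θ n) * α (ev θ n')) = (ε θ * ε θ) * (α (ev θ n) * α (ev θ n')) := by
            rw [(hε.idem θ).eq]
        _ = _ := by ring
    · intro θ' _ hne
      calc ε θ * α (ev θ n) * (ε θ' * α (ev θ' n')) = (ε θ * ε θ') * (α (ev θ n) * α (ev θ' n')) := by
            ring
        _ = 0 := by rw [hε.ortho hne.symm, zero_mul]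
    · simp

lemma twist_apply (ev : Θ → P →* Q) (ε : Θ → A) (hε : CompleteOrthogonalIdempotents ε)
    (α : Q →* A) (n : P) : twist ev ε hε α n = ∑ θ, ε θ * α (ev θ n) := rfl

lemma twist_mul (ev : Θ → P →* Q) (ε : Θ → A) (hε : CompleteOrthogonalIdempotents ε)
    (α α' : Q →* A) (n : P) :
    ∑ θ, ε θ * (α (ev θ n) * α' (ev θ n)) =
      (∑ θ, ε θ * α (ev θ n)) * (∑ θ, ε θ * α' (ev θ n)) := by
  classical
  rw [Finset.sum_mul_sum]
  apply Finset.sum_congr rfl
  intro θ _
  rw [Finset.sum_eq_single θ]
  · calc ε θ * (α (ev θ n) * α' (ev θ n)) = (ε θ * ε θ) * (α (ev θ n) * α' (ev θ n)) := by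
          rw [(hε.idem θ).eq]
      _ = _ := by ring
  · intro θ' _ hne
    calc ε θ * α (ev θ n) * (ε θ' * α' (ev θ' n)) = (ε θ * ε θ') * (α (ev θ n) * α' (ev θ' n)) := by
          ring
      _ = 0 := by rw [hε.ortho hne.symm, zero_mul]
  · simp

end Twist

end Groth.Agent.Lib.Helper58.ThetaSys
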