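import Mathlib
import Groth.Prelude.Def_SGA3x
import Groth.Agent.Lib.Helper43.DSMap

/-!
# Points of a group which becomes diagonalisable after base change

For `G : Over S` a group, `u : U ⟶ S` and a group isomorphism `bc u G ≅ D_U(M)`, the points of `G`
with values in an `S`-scheme `X` whose structure map factors through `u` are the characters
`M → Γ(X)ˣ`.
-/

set_option autoImplicit false

universe u

open CategoryTheory CategoryTheory.Limits AlgebraicGeometry MonoidalCategory
  CartesianMonoidalCategory MonObj GrpObj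

namespace Groth.Agent.Lib.Helper58.DiagPts

open Groth.Agent.Lib.Helper43

variable {S U : Scheme.{u}} (G : Over S) [GrpObj G] (u : U ⟶ S) {M : Type} [AddCommGroup M]

/-- the point of `bc u G` over `U` defined by a point of `G` and a map to `U`. -/
noncomputable def tilde {X : Over S} (x : X.left ⟶ U) (hx : x ≫ u = X.hom) (a : X ⟶ G) :
    Over.mk x ⟶ Red.bc u G :=
  Over.homMk (pullback.lift a.left x (by rw [Over.w a, hx])) (pullback.lift_snd _ _ _)

lemma tilde_left_fst {X : Over S} (x : X.left ⟶ U) (hx : x ≫ u = X.hom) (a : X ⟶ G) :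
    (tilde G u x hx a).left ≫ pullback.fst G.hom u = a.left :=
  pullback.lift_fst _ _ _

lemma tilde_left_snd {X : Over S} (x : X.left ⟶ U) (hx : x ≫ u = X.hom) (a : X ⟶ G) :
    (tilde G u x hx a).left ≫ pullback.snd G.hom u = x :=
  pullback.lift_snd _ _ _

lemma tilde_injective {X : Over S} (x : X.left ⟶ U) (hx : x ≫ u = X.hom) {a b : X ⟶ G}
    (h : tilde G u x hx a = tilde G u x hx b) : a = b := by
  apply Over.OverMorphism.ext
  rw [← tilde_left_fst G u x hx a, ← tilde_left_fst G u x hx b, h]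

lemma tilde_surjective {X : Over S} (x : X.left ⟶ U) (hx : x ≫ u = X.hom)
    (c : Over.mk x ⟶ Red.bc u G) : ∃ a : X ⟶ G, tilde G u x hx a = c := by
  have hc : c.left ≫ pullback.snd G.hom u = x := Over.w c
  refine ⟨Over.homMk (c.left ≫ pullback.fst G.hom u) ?_, ?_⟩
  · rw [Category.assoc, pullback.condition, ← Category.assoc, hc, hx]
  · apply Over.OverMorphism.ext
    apply pullback.hom_ext
    · rw [tilde_left_fst]
      rfl
    · rw [tilde_left_snd, hc]

lemma tilde_comp {X Y : Over S} (x : X.left ⟶ U) (hx : x ≫ u = X.hom) (g : Y ⟶ X) (a : X ⟶ G) :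
    tilde G u (g.left ≫ x) (by rw [Category.assoc, hx, Over.w g]) (g ≫ a) =
      (Over.homMk g.left rfl : Over.mk (g.left ≫ x) ⟶ Over.mk x) ≫ tilde G u x hx a := by
  apply Over.OverMorphism.ext
  apply pullback.hom_ext
  · rw [tilde_left_fst]
    simp only [Over.comp_left]
    rw [Category.assoc, tilde_left_fst]
    rfl
  · rw [tilde_left_snd]
    simp only [Over.comp_left]
    rw [Category.assoc, tilde_left_snd]
    rfl

/-- the inverse of `tilde`. -/
noncomputable def untilde {X : Over S} (x : X.left ⟶ U) (hx : x ≫ u = X.hom)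
    (c : Over.mk x ⟶ Red.bc u G) : X ⟶ G :=
  Over.homMk (c.left ≫ pullback.fst G.hom u) (by
    have hc : c.left ≫ pullback.snd G.hom u = x := Over.w c
    rw [Category.assoc, pullback.condition, ← Category.assoc, hc, hx])

lemma tilde_untilde {X : Over S} (x : X.left ⟶ U) (hx : x ≫ u = X.hom)
    (c : Over.mk x ⟶ Red.bc u G) : tilde G u x hx (untilde G u x hx c) = c := by
  have hc : c.left ≫ pullback.snd G.hom u = x := Over.w c
  apply Over.OverMorphism.ext
  apply pullback.hom_ext
  · rw [tilde_left_fst]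
    rfl
  · rw [tilde_left_snd, hc]

lemma untilde_tilde {X : Over S} (x : X.left ⟶ U) (hx : x ≫ u = X.hom) (a : X ⟶ G) :
    untilde G u x hx (tilde G u x hx a) = a := by
  apply Over.OverMorphism.ext
  exact tilde_left_fst G u x hx a

/-- `X` is `Over.mk x` viewed over `S`. -/
noncomputable def iX {X : Over S} (x : X.left ⟶ U) (hx : x ≫ u = X.hom) :
    X ≅ (Over.map u).obj (Over.mk x) :=
  Over.isoMk (Iso.refl _) (by
    change 𝟙 _ ≫ x ≫ u = X.hom
    rw [Category.id_comp, hx])

lemma untilde_eq {X : Over S} (x : X.left ⟶ U) (hx : x ≫ u = X.hom)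
    (c : Over.mk x ⟶ Red.bc u G) : untilde G u x hx c = (iX u x hx).hom ≫ bcPt u c := by
  apply Over.OverMorphism.ext
  change c.left ≫ pullback.fst G.hom u = 𝟙 _ ≫ c.left ≫ pullback.fst G.hom u
  rw [Category.id_comp]

lemma untilde_mul {X : Over S} (x : X.left ⟶ U) (hx : x ≫ u = X.hom)
    (c d : Over.mk x ⟶ Red.bc u G) :
    untilde G u x hx (c * d) = untilde G u x hx c * untilde G u x hx d := by
  rw [untilde_eq, untilde_eq, untilde_eq, bcPt_mul, MonObj.comp_mul]

lemma tilde_mul {X : Over S} (x : X.left ⟶ U) (hx : x ≫ u = X.hom) (a b : X ⟶ G) :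
    tilde G u x hx (a * b) = tilde G u x hx a * tilde G u x hx b := by
  have h : a * b = untilde G u x hx (tilde G u x hx a * tilde G u x hx b) := by
    rw [untilde_mul, untilde_tilde, untilde_tilde]
  rw [h, tilde_untilde]

variable (e : Grp.mk (Red.bc u G) ≅ Grp.mk (Red.DS U M))

/-- the character attached to a point of `G`. -/
noncomputable def κ {X : Over S} (x : X.left ⟶ U) (hx : x ≫ u = X.hom) (a : X ⟶ G) :
    Multiplicative M →* Γ(X.left, ⊤) :=
  chrHom (S := U) (X := Over.mk x) (M := M) (tilde G u x hx a ≫ e.hom.hom.hom)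

lemma κ_apply {X : Over S} (x : X.left ⟶ U) (hx : x ≫ u = X.hom) (a : X ⟶ G)
    (m : Multiplicative M) : κ G u e x hx a m =
      chr (S := U) (X := Over.mk x) (M := M) (tilde G u x hx a ≫ e.hom.hom.hom) m := rfl

lemma κ_injective {X : Over S} (x : X.left ⟶ U) (hx : x ≫ u = X.hom) :
    Function.Injective (κ G u e x hx) := by
  intro a b h
  apply tilde_injective G u x hx
  have h1 : tilde G u x hx a ≫ e.hom.hom.hom = tilde G u x hx b ≫ e.hom.hom.hom :=
    chr_injective (fun m => DFunLike.congr_fun h m)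
  have h2 : e.hom.hom.hom ≫ e.inv.hom.hom = 𝟙 _ := by
    rw [← Grp.comp_hom_hom, e.hom_inv_id]
    rfl
  calc tilde G u x hx a = (tilde G u x hx a ≫ e.hom.hom.hom) ≫ e.inv.hom.hom := by
        rw [Category.assoc, h2, Category.comp_id]
    _ = tilde G u x hx b := by rw [h1, Category.assoc, h2, Category.comp_id]

lemma κ_surjective {X : Over S} (x : X.left ⟶ U) (hx : x ≫ u = X.hom) :
    Function.Surjective (κ G u e x hx) := by
  intro χ
  obtain ⟨c, hc⟩ := chr_surjective (S := U) (X := Over.mk x) (M := M) χ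
  obtain ⟨a, ha⟩ := tilde_surjective G u x hx (c ≫ e.inv.hom.hom)
  refine ⟨a, ?_⟩
  have h2 : e.inv.hom.hom ≫ e.hom.hom.hom = 𝟙 _ := by
    rw [← Grp.comp_hom_hom, e.inv_hom_id]
    rfl
  refine MonoidHom.ext (fun m => ?_)
  rw [κ_apply, ha, Category.assoc, h2, Category.comp_id, hc]

lemma κ_mul {X : Over S} (x : X.left ⟶ U) (hx : x ≫ u = X.hom) (a b : X ⟶ G) :
    κ G u e x hx (a * b) = κ G u e x hx a * κ G u e x hx b := by
  haveI : IsMonHom (M := Red.bc u G) (N := Red.DS U M) e.hom.hom.hom := e.hom.hom.isMonHom_hom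
  have hmc := MonObj.mul_comp (tilde G u x hx a) (tilde G u x hx b) e.hom.hom.hom
  refine MonoidHom.ext (fun m => ?_)
  rw [MonoidHom.mul_apply, κ_apply, κ_apply, κ_apply, tilde_mul, hmc, chr_mul_pt]

lemma κ_comp {X Y : Over S} (x : X.left ⟶ U) (hx : x ≫ u = X.hom) (g : Y ⟶ X) (a : X ⟶ G)
    (m : Multiplicative M) :
    κ G u e (g.left ≫ x) (by rw [Category.assoc, hx, Over.w g]) (g ≫ a) m =
      g.left.appTop (κ G u e x hx a m) := by
  rw [κ_apply, κ_apply, tilde_comp G u x hx g a, Category.assoc, chr_comp]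
  rfl

/-- variant of `κ_comp` with a free choice of the map to `U`. -/
lemma κ_comp' {X Y : Over S} (x : X.left ⟶ U) (hx : x ≫ u = X.hom) (g : Y ⟶ X) (a : X ⟶ G)
    (y : Y.left ⟶ U) (hy : y ≫ u = Y.hom) (hxy : g.left ≫ x = y) (m : Multiplicative M) :
    κ G u e y hy (g ≫ a) m = g.left.appTop (κ G u e x hx a m) := by
  subst hxy
  exact κ_comp G u e x hx g a m

end Groth.Agent.Lib.Helper58.DiagPts
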