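import Mathlib

/-!
# The object of multiplicative families, abstractly

In a cartesian monoidal category with equalizers, if `T ↦ Hom(G ⊗ T, G')` and
`T ↦ Hom((G ⊗ G) ⊗ T, G')` are representable then so is the subfunctor of multiplicative
families, by an equalizer.
-/

set_option autoImplicit false

universe v u

open CategoryTheory CategoryTheory.Limits MonoidalCategory CartesianMonoidalCategory MonObj

namespace Groth.Agent.Lib.Helper58.HomGrpAbs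

variable {C : Type u} [Category.{v} C] [CartesianMonoidalCategory C]
  (G G' : C) [MonObj G] [MonObj G']

/-- `φ : G ⊗ T ⟶ G'` is multiplicative in the first variable. -/
def IsMult {T : C} (φ : G ⊗ T ⟶ G') : Prop :=
  ∀ (X : C) (a b : X ⟶ G) (t : X ⟶ T), lift (a * b) t ≫ φ = (lift a t ≫ φ) * (lift b t ≫ φ)

/-- `(g₁, g₂, t) ↦ (g₁ g₂, t)` -/
def mA (T : C) : (G ⊗ G) ⊗ T ⟶ G ⊗ T :=
  lift ((fst (G ⊗ G) T ≫ fst G G) * (fst (G ⊗ G) T ≫ snd G G)) (snd (G ⊗ G) T)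

/-- `(g₁, g₂, t) ↦ (g₁, t)` -/
def p₁ (T : C) : (G ⊗ G) ⊗ T ⟶ G ⊗ T :=
  lift (fst (G ⊗ G) T ≫ fst G G) (snd (G ⊗ G) T)

/-- `(g₁, g₂, t) ↦ (g₂, t)` -/
def p₂ (T : C) : (G ⊗ G) ⊗ T ⟶ G ⊗ T :=
  lift (fst (G ⊗ G) T ≫ snd G G) (snd (G ⊗ G) T)

variable {G G'}

lemma lift_mA {X T : C} (a b : X ⟶ G) (t : X ⟶ T) :
    lift (lift a b) t ≫ mA G T = lift (a * b) t := by
  unfold mA
  rw [comp_lift, comp_mul, lift_fst_assoc, lift_fst_assoc, lift_fst, lift_snd, lift_snd]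

lemma lift_p₁ {X T : C} (a b : X ⟶ G) (t : X ⟶ T) :
    lift (lift a b) t ≫ p₁ G T = lift a t := by
  unfold p₁
  rw [comp_lift, lift_fst_assoc, lift_fst, lift_snd]

lemma lift_p₂ {X T : C} (a b : X ⟶ G) (t : X ⟶ T) :
    lift (lift a b) t ≫ p₂ G T = lift b t := by
  unfold p₂
  rw [comp_lift, lift_fst_assoc, lift_snd, lift_snd]

lemma isMult_iff {T : C} (φ : G ⊗ T ⟶ G') :
    IsMult G G' φ ↔ mA G T ≫ φ = (p₁ G T ≫ φ) * (p₂ G T ≫ φ) := by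
  constructor
  · intro h
    exact h _ _ _ _
  · intro h X a b t
    rw [← lift_mA a b t, Category.assoc, h, comp_mul, ← Category.assoc, ← Category.assoc,
      lift_p₁, lift_p₂]

lemma whisker_mA {T T' : C} (v : T ⟶ T') : ((G ⊗ G) ◁ v) ≫ mA G T' = mA G T ≫ (G ◁ v) := by
  unfold mA
  rw [comp_lift, lift_whiskerLeft, comp_mul, whiskerLeft_fst_assoc, whiskerLeft_fst_assoc,
    whiskerLeft_snd]

lemma whisker_p₁ {T T' : C} (v : T ⟶ T') : ((G ⊗ G) ◁ v) ≫ p₁ G T' = p₁ G T ≫ (G ◁ v) := by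
  unfold p₁
  rw [comp_lift, lift_whiskerLeft, whiskerLeft_fst_assoc, whiskerLeft_snd]

lemma whisker_p₂ {T T' : C} (v : T ⟶ T') : ((G ⊗ G) ◁ v) ≫ p₂ G T' = p₂ G T ≫ (G ◁ v) := by
  unfold p₂
  rw [comp_lift, lift_whiskerLeft, whiskerLeft_fst_assoc, whiskerLeft_snd]

section main

variable {M : C} (ev : G ⊗ M ⟶ G')
  (hM : ∀ (T : C) (φ : G ⊗ T ⟶ G'), ∃! v : T ⟶ M, (G ◁ v) ≫ ev = φ)
  {M₂ : C} (ev₂ : (G ⊗ G) ⊗ M₂ ⟶ G')
  (hM₂ : ∀ (T : C) (φ : (G ⊗ G) ⊗ T ⟶ G'), ∃! v : T ⟶ M₂, ((G ⊗ G) ◁ v) ≫ ev₂ = φ)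

include hM₂ in
/-- The pair of maps whose equalizer classifies multiplicative families. -/
theorem exists_pair :
    ∃ a b : M ⟶ M₂, ∀ (T : C) (v : T ⟶ M), IsMult G G' ((G ◁ v) ≫ ev) ↔ v ≫ a = v ≫ b := by
  obtain ⟨a, ha, -⟩ := hM₂ M (mA G M ≫ ev)
  obtain ⟨b, hb, -⟩ := hM₂ M ((p₁ G M ≫ ev) * (p₂ G M ≫ ev))
  refine ⟨a, b, fun T v => ?_⟩
  have hinj : ∀ w w' : T ⟶ M₂, ((G ⊗ G) ◁ w) ≫ ev₂ = ((G ⊗ G) ◁ w') ≫ ev₂ → w = w' := by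
    intro w w' h
    obtain ⟨z, _, hz⟩ := hM₂ T (((G ⊗ G) ◁ w) ≫ ev₂)
    rw [hz w rfl, hz w' h.symm]
  have h1 : ((G ⊗ G) ◁ (v ≫ a)) ≫ ev₂ = mA G T ≫ (G ◁ v) ≫ ev := by
    rw [MonoidalCategory.whiskerLeft_comp, Category.assoc, ha, ← Category.assoc, whisker_mA,
      Category.assoc]
  have h2 : ((G ⊗ G) ◁ (v ≫ b)) ≫ ev₂ = (p₁ G T ≫ (G ◁ v) ≫ ev) * (p₂ G T ≫ (G ◁ v) ≫ ev) := by
    rw [MonoidalCategory.whiskerLeft_comp, Category.assoc, hb, comp_mul, ← Category.assoc,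
      ← Category.assoc, whisker_p₁, whisker_p₂, Category.assoc, Category.assoc]
  rw [isMult_iff]
  constructor
  · intro h
    apply hinj
    rw [h1, h2, h]
  · intro h
    rw [← h1, ← h2, h]

include hM in
/-- the universal property of an equalizer of the pair. -/
theorem universal_of_pair (a b : M ⟶ M₂)
    (hab : ∀ (T : C) (v : T ⟶ M), IsMult G G' ((G ◁ v) ≫ ev) ↔ v ≫ a = v ≫ b)
    {E : C} (i : E ⟶ M) (hι : i ≫ a = i ≫ b)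
    (hE : ∀ (T : C) (v : T ⟶ M), v ≫ a = v ≫ b → ∃! u : T ⟶ E, u ≫ i = v) :
    IsMult G G' ((G ◁ i) ≫ ev) ∧
      ∀ (T : C) (φ : G ⊗ T ⟶ G'), IsMult G G' φ → ∃! u : T ⟶ E, (G ◁ u) ≫ (G ◁ i) ≫ ev = φ := by
  refine ⟨(hab E i).mpr hι, fun T φ hφ => ?_⟩
  obtain ⟨v, hv, hvu⟩ := hM T φ
  have hv' : v ≫ a = v ≫ b := (hab T v).mp (by rw [hv]; exact hφ)
  obtain ⟨u, hu, huu⟩ := hE T v hv'
  refine ⟨u, ?_, ?_⟩
  · change (G ◁ u) ≫ (G ◁ i) ≫ ev = φ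
    rw [← Category.assoc, ← MonoidalCategory.whiskerLeft_comp, hu, hv]
  · intro u' hu'
    change (G ◁ u') ≫ (G ◁ i) ≫ ev = φ at hu'
    rw [← Category.assoc, ← MonoidalCategory.whiskerLeft_comp] at hu'
    exact huu u' (hvu _ hu')

end main

end Groth.Agent.Lib.Helper58.HomGrpAbs
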