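import Mathlib
import Groth.Prelude.Def_SGA3x
import Groth.Agent.Lib.Helper58.DiagPts
import Groth.Agent.Lib.Helper58.HomGrpAbs
import Groth.Agent.Lib.Helper62.DSCartierAlg

/-!
# The test scheme `Spec k[M]` for families of points of a locally diagonalisable group
-/

set_option autoImplicit false

universe u

open CategoryTheory CategoryTheory.Limits AlgebraicGeometry MonoidalCategory
  CartesianMonoidalCategory MonObj GrpObj

namespace Groth.Agent.Lib.Helper58.DiagTest

open Groth.Agent.Lib.Helper43 Groth.Agent.Lib.Helper58.DiagPts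

section oneGroup

variable {S U : Scheme.{u}} (G : Over S) [GrpObj G] (u : U ⟶ S) {M : Type} [AddCommGroup M]
  (e : Grp.mk (Red.bc u G) ≅ Grp.mk (Red.DS U M))
  {k : Type u} [CommRing k] (t : Spec (CommRingCat.of k) ⟶ S)
  (tU : Spec (CommRingCat.of k) ⟶ U) (htU : tU ≫ u = t)

/-- the group algebra -/
abbrev kM (k : Type u) [CommRing k] (M : Type) [AddCommGroup M] : Type u :=
  MonoidAlgebra k (Multiplicative M)

/-- the projection `Spec k[M] ⟶ Spec k`. -/
noncomputable abbrev π (k : Type u) [CommRing k] (M : Type) [AddCommGroup M] :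
    Spec (CommRingCat.of (kM k M)) ⟶ Spec (CommRingCat.of k) :=
  Spec.map (CommRingCat.ofHom (algebraMap k (kM k M)))

/-- the test scheme over `S`. -/
noncomputable abbrev D (M : Type) [AddCommGroup M] : Over S := Over.mk (π k M ≫ t)

/-- the base scheme over `S`. -/
noncomputable abbrev T : Over S := Over.mk t

/-- the projection as a morphism over `S`. -/
noncomputable def τD (M : Type) [AddCommGroup M] : D t M ⟶ T t := Over.homMk (π k M) rfl

include htU in
lemma hxD : (π k M ≫ tU) ≫ u = (D t M).hom := by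
  rw [Category.assoc, htU]
  rfl

/-- the universal character -/
noncomputable def χuniv (k : Type u) [CommRing k] (M : Type) [AddCommGroup M] :
    Multiplicative M →* Γ(Spec (CommRingCat.of (kM k M)), ⊤) :=
  ((Scheme.ΓSpecIso (CommRingCat.of (kM k M))).inv.hom : kM k M →* _).comp
    (MonoidAlgebra.of k (Multiplicative M))

lemma χuniv_apply (m : Multiplicative M) :
    χuniv k M m = (Scheme.ΓSpecIso (CommRingCat.of (kM k M))).inv.hom (MonoidAlgebra.single m 1) :=
  rfl

/-- the universal point of `G` with values in the test scheme. -/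
noncomputable def aD : D t M ⟶ G :=
  (κ_surjective G u e (X := D t M) (π k M ≫ tU) (hxD u t tU htU) (χuniv k M)).choose

lemma κ_aD : κ G u e (X := D t M) (π k M ≫ tU) (hxD u t tU htU) (aD G u e t tU htU) = χuniv k M :=
  (κ_surjective G u e (X := D t M) (π k M ≫ tU) (hxD u t tU htU) (χuniv k M)).choose_spec

variable {X : Over S} (τ : X ⟶ T t)

include htU in
lemma hxX : (τ.left ≫ tU) ≫ u = X.hom := by
  rw [Category.assoc, htU]
  exact Over.w τ

/-- evaluation of elements of `k[M]` at a character. -/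
noncomputable def ev (α : Multiplicative M →* Γ(X.left, ⊤)) : kM k M →+* Γ(X.left, ⊤) :=
  MonoidAlgebra.liftNCRingHom (ptFnHom τ.left) α (fun _ _ => Commute.all _ _)

lemma ev_single (α : Multiplicative M →* Γ(X.left, ⊤)) (m : Multiplicative M) (c : k) :
    ev t τ α (MonoidAlgebra.single m c) = ptFnHom τ.left c * α m := by
  simp [ev]

/-- the morphism to the test scheme defined by a character. -/
noncomputable def gOf (α : Multiplicative M →* Γ(X.left, ⊤)) : X ⟶ D t M :=
  Over.homMk (ptOfHom (ev t τ α)) (by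
    have h : ptOfHom (ev t τ α) ≫ π k M = τ.left := by
      apply ext_of_ptFnHom
      ext c
      change ptFn (ptOfHom (ev t τ α) ≫ Spec.map (CommRingCat.ofHom (algebraMap k (kM k M)))) c = _
      rw [ptFn_specMap, ptFn_ptOfHom, MonoidAlgebra.coe_algebraMap]
      simp only [Function.comp_apply, Algebra.algebraMap_self, RingHom.id_apply]
      rw [ev_single, map_one, _root_.mul_one]
    change ptOfHom (ev t τ α) ≫ π k M ≫ t = X.hom
    rw [← Category.assoc, h]
    exact Over.w τ)

lemma gOf_left_π (α : Multiplicative M →* Γ(X.left, ⊤)) :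
    (gOf t τ α).left ≫ π k M = τ.left := by
  apply ext_of_ptFnHom
  ext c
  change ptFn (ptOfHom (ev t τ α) ≫ Spec.map (CommRingCat.ofHom (algebraMap k (kM k M)))) c = _
  rw [ptFn_specMap, ptFn_ptOfHom, MonoidAlgebra.coe_algebraMap]
  simp only [Function.comp_apply, Algebra.algebraMap_self, RingHom.id_apply]
  rw [ev_single, map_one, _root_.mul_one]

lemma gOf_τD (α : Multiplicative M →* Γ(X.left, ⊤)) : gOf t τ α ≫ τD t M = τ := by
  apply Over.OverMorphism.ext
  exact gOf_left_π t τ α

lemma gOf_appTop (α : Multiplicative M →* Γ(X.left, ⊤)) (f : kM k M) :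
    (gOf t τ α).left.appTop ((Scheme.ΓSpecIso (CommRingCat.of (kM k M))).inv.hom f) = ev t τ α f :=
  ptFn_ptOfHom (ev t τ α) f

lemma gOf_aD (a : X ⟶ G) :
    gOf t τ (κ G u e (τ.left ≫ tU) (hxX u t tU htU τ) a) ≫ aD G u e t tU htU = a := by
  apply κ_injective G u e (τ.left ≫ tU) (hxX u t tU htU τ)
  refine MonoidHom.ext (fun m => ?_)
  rw [κ_comp' G u e (π k M ≫ tU) (hxD u t tU htU) _ (aD G u e t tU htU) (τ.left ≫ tU)
    (hxX u t tU htU τ) (by rw [← Category.assoc, gOf_left_π]) m, κ_aD, χuniv_apply, gOf_appTop,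
    ev_single, map_one, _root_.one_mul]

end oneGroup

section family

variable {S UG UH : Scheme.{u}} (G H : Over S) [GrpObj G] [GrpObj H] (uG : UG ⟶ S) (uH : UH ⟶ S)
  {M N : Type} [AddCommGroup M] [AddCommGroup N]
  (eG : Grp.mk (Red.bc uG G) ≅ Grp.mk (Red.DS UG M))
  (eH : Grp.mk (Red.bc uH H) ≅ Grp.mk (Red.DS UH N))
  {k : Type u} [CommRing k] (t : Spec (CommRingCat.of k) ⟶ S)
  (tG : Spec (CommRingCat.of k) ⟶ UG) (htG : tG ≫ uG = t)
  (tH : Spec (CommRingCat.of k) ⟶ UH) (htH : tH ≫ uH = t)
  (φ : G ⊗ T t ⟶ H)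

/-- the value of the family on the test point. -/
noncomputable def bD : D t M ⟶ H := lift (aD G uG eG t tG htG) (τD t M) ≫ φ

/-- the coefficient elements of the family, as a monoid hom `N → k[M]`. -/
noncomputable def fHom : Multiplicative N →* kM k M :=
  MonoidHom.comp
    (RingHom.toMonoidHom (Scheme.ΓSpecIso (CommRingCat.of (kM k M))).hom.hom :
      Γ(Spec (CommRingCat.of (kM k M)), ⊤) →* kM k M)
    (κ H uH eH (X := D t M) (π k M ≫ tH) (hxD uH t tH htH) (bD G H uG eG t tG htG φ) :
      Multiplicative N →* Γ(Spec (CommRingCat.of (kM k M)), ⊤))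

lemma inv_fHom (n : Multiplicative N) :
    (Scheme.ΓSpecIso (CommRingCat.of (kM k M))).inv.hom (fHom G H uG uH eG eH t tG htG tH htH φ n) =
      κ H uH eH (X := D t M) (π k M ≫ tH) (hxD uH t tH htH) (bD G H uG eG t tG htG φ) n :=
  Iso.hom_inv_id_apply (C := CommRingCat) (Scheme.ΓSpecIso (CommRingCat.of (kM k M))) _

/-- the value of the family on any point is given by evaluating the coefficient elements. -/
theorem κ_family {X : Over S} (τ : X ⟶ T t) (a : X ⟶ G) (n : Multiplicative N) :
    κ H uH eH (τ.left ≫ tH) (hxX uH t tH htH τ) (lift a τ ≫ φ) n =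
      ev t τ (κ G uG eG (τ.left ≫ tG) (hxX uG t tG htG τ) a)
        (fHom G H uG uH eG eH t tG htG tH htH φ n) := by
  set α := κ G uG eG (τ.left ≫ tG) (hxX uG t tG htG τ) a with hα
  have h1 : lift a τ = gOf t τ α ≫ lift (aD G uG eG t tG htG) (τD t M) := by
    rw [comp_lift, gOf_τD, hα, gOf_aD]
  rw [h1, Category.assoc]
  change κ H uH eH (τ.left ≫ tH) (hxX uH t tH htH τ) (gOf t τ α ≫ bD G H uG eG t tG htG φ) n = _
  rw [κ_comp' H uH eH (π k M ≫ tH) (hxD uH t tH htH) (gOf t τ α) (bD G H uG eG t tG htG φ)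
    (τ.left ≫ tH) (hxX uH t tH htH τ) (by rw [← Category.assoc, gOf_left_π]) n,
    ← inv_fHom, gOf_appTop]

end family

section grouplike

variable {S UG UH : Scheme.{u}} (G H : Over S) [GrpObj G] [GrpObj H] (uG : UG ⟶ S) (uH : UH ⟶ S)
  {M N : Type} [AddCommGroup M] [AddCommGroup N]
  (eG : Grp.mk (Red.bc uG G) ≅ Grp.mk (Red.DS UG M))
  (eH : Grp.mk (Red.bc uH H) ≅ Grp.mk (Red.DS UH N))
  {k : Type u} [CommRing k] (t : Spec (CommRingCat.of k) ⟶ S)
  (tG : Spec (CommRingCat.of k) ⟶ UG) (htG : tG ≫ uG = t)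
  (tH : Spec (CommRingCat.of k) ⟶ UH) (htH : tH ≫ uH = t)
  (φ : G ⊗ T t ⟶ H)

variable {M' : Type} [AddCommGroup M'] (j : Multiplicative M →* Multiplicative M')

/-- the point of `G` with values in `Spec k[M']` attached to `j : M → M'`. -/
noncomputable def aJ : D t M' ⟶ G :=
  (κ_surjective G uG eG (X := D t M') (π k M' ≫ tG) (hxD uG t tG htG)
    ((χuniv k M').comp j)).choose

lemma κ_aJ : κ G uG eG (X := D t M') (π k M' ≫ tG) (hxD uG t tG htG) (aJ G uG eG t tG htG j) =
    (χuniv k M').comp j :=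
  (κ_surjective G uG eG (X := D t M') (π k M' ≫ tG) (hxD uG t tG htG)
    ((χuniv k M').comp j)).choose_spec

lemma ev_χuniv_comp (f : kM k M) :
    ev t (τD t M') ((χuniv k M').comp j) f =
      (Scheme.ΓSpecIso (CommRingCat.of (kM k M'))).inv.hom (MonoidAlgebra.mapDomainRingHom k j f) := by
  have h : ev t (τD t M') ((χuniv k M').comp j) =
      ((Scheme.ΓSpecIso (CommRingCat.of (kM k M'))).inv.hom).comp
        (MonoidAlgebra.mapDomainRingHom k j) := by
    apply MonoidAlgebra.ringHom_ext
    · intro c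
      rw [ev_single, map_one, _root_.mul_one, RingHom.comp_apply,
        MonoidAlgebra.mapDomainRingHom_apply, MonoidAlgebra.mapDomain_single, map_one]
      change ptFn (Spec.map (CommRingCat.ofHom (algebraMap k (kM k M')))) c = _
      rw [← Category.id_comp (Spec.map (CommRingCat.ofHom (algebraMap k (kM k M')))), ptFn_specMap,
        MonoidAlgebra.coe_algebraMap]
      simp only [Function.comp_apply, Algebra.algebraMap_self, RingHom.id_apply]
      unfold ptFn
      simp
    · intro m
      rw [ev_single, map_one, _root_.one_mul, RingHom.comp_apply,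
        MonoidAlgebra.mapDomainRingHom_apply, MonoidAlgebra.mapDomain_single]
      rfl
  rw [h]
  rfl

include htH in
/-- evaluation of the family on the point `aJ`. -/
lemma κ_family_aJ (n : Multiplicative N) :
    κ H uH eH (X := D t M') (π k M' ≫ tH) (hxD uH t tH htH)
        (lift (aJ G uG eG t tG htG j) (τD t M') ≫ φ) n =
      (Scheme.ΓSpecIso (CommRingCat.of (kM k M'))).inv.hom
        (MonoidAlgebra.mapDomainRingHom k j (fHom G H uG uH eG eH t tG htG tH htH φ n)) := by
  have h := κ_family G H uG uH eG eH t tG htG tH htH φ (τD t M') (aJ G uG eG t tG htG j) n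
  have h2 : κ G uG eG ((τD t M').left ≫ tG) (hxX uG t tG htG (τD t M')) (aJ G uG eG t tG htG j) =
      (χuniv k M').comp j := κ_aJ G uG eG t tG htG j
  rw [h2, ev_χuniv_comp] at h
  exact h

lemma aJ_mul (j j' : Multiplicative M →* Multiplicative M') :
    aJ G uG eG t tG htG (j * j') = aJ G uG eG t tG htG j * aJ G uG eG t tG htG j' := by
  apply κ_injective G uG eG (X := D t M') (π k M' ≫ tG) (hxD uG t tG htG)
  rw [κ_mul, κ_aJ, κ_aJ, κ_aJ, MonoidHom.comp_mul]

/-- the first inclusion `M → M × M`. -/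
def j₁ (M : Type) [AddCommGroup M] : Multiplicative M →* Multiplicative (M × M) :=
  AddMonoidHom.toMultiplicative (AddMonoidHom.inl M M)

/-- the second inclusion `M → M × M`. -/
def j₂ (M : Type) [AddCommGroup M] : Multiplicative M →* Multiplicative (M × M) :=
  AddMonoidHom.toMultiplicative (AddMonoidHom.inr M M)

lemma j_indep (a b m n : Multiplicative M) (h : j₁ M a * j₂ M b = j₁ M m * j₂ M n) :
    a = m ∧ b = n := by
  have h' := congrArg Multiplicative.toAdd h
  simp only [j₁, j₂, toAdd_mul, AddMonoidHom.toMultiplicative_apply_apply, toAdd_ofAdd,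
    AddMonoidHom.inl_apply, AddMonoidHom.inr_apply, Prod.mk_add_mk, add_zero, zero_add,
    Prod.mk.injEq] at h'
  exact ⟨Multiplicative.toAdd.injective h'.1, Multiplicative.toAdd.injective h'.2⟩

include htH in
/-- the coefficient elements of a multiplicative family are group-like. -/
theorem fHom_diag (hφ : HomGrpAbs.IsMult G H φ) (n : Multiplicative N) :
    MonoidAlgebra.mapDomainRingHom k (j₁ M * j₂ M) (fHom G H uG uH eG eH t tG htG tH htH φ n) =
      MonoidAlgebra.mapDomainRingHom k (j₁ M) (fHom G H uG uH eG eH t tG htG tH htH φ n) *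
        MonoidAlgebra.mapDomainRingHom k (j₂ M) (fHom G H uG uH eG eH t tG htG tH htH φ n) := by
  have h := hφ _ (aJ G uG eG t tG htG (j₁ M)) (aJ G uG eG t tG htG (j₂ M)) (τD t (M × M))
  rw [← aJ_mul] at h
  have h' := congrArg (fun b => κ H uH eH (X := D t (M × M)) (π k (M × M) ≫ tH)
    (hxD uH t tH htH) b n) h
  beta_reduce at h'
  rw [κ_mul, MonoidHom.mul_apply, κ_family_aJ G H uG uH eG eH t tG htG tH htH φ,
    κ_family_aJ G H uG uH eG eH t tG htG tH htH φ, κ_family_aJ G H uG uH eG eH t tG htG tH htH φ,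
    ← map_mul] at h'
  have hinj : Function.Injective (Scheme.ΓSpecIso (CommRingCat.of (kM k (M × M)))).inv.hom := by
    intro a b hab
    have h1 : ∀ c : kM k (M × M), (Scheme.ΓSpecIso (CommRingCat.of (kM k (M × M)))).hom.hom
        ((Scheme.ΓSpecIso (CommRingCat.of (kM k (M × M)))).inv.hom c) = c := by
      intro c
      exact Iso.inv_hom_id_apply (C := CommRingCat)
        (Scheme.ΓSpecIso (CommRingCat.of (kM k (M × M)))) c
    rw [← h1 a, ← h1 b, hab]
  exact hinj h'

include htH in
open Classical in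
/-- the coefficients of the coefficient elements of a multiplicative family are orthogonal
idempotents. -/
theorem coeff_fHom_mul (hφ : HomGrpAbs.IsMult G H φ) (n : Multiplicative N)
    (m m' : Multiplicative M) :
    (fHom G H uG uH eG eH t tG htG tH htH φ n).coeff m *
        (fHom G H uG uH eG eH t tG htG tH htH φ n).coeff m' =
      if m = m' then (fHom G H uG uH eG eH t tG htG tH htH φ n).coeff m else 0 := by
  classical
  have h1 := Groth.Agent.Lib.Helper62.DSCartierAlg.coeff_mul_indep (k := k) (j₁ M) (j₂ M) j_indep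
    (fHom G H uG uH eG eH t tG htG tH htH φ n) (fHom G H uG uH eG eH t tG htG tH htH φ n) m m'
  have h2 := Groth.Agent.Lib.Helper62.DSCartierAlg.coeff_diag_indep (k := k) (j₁ M) (j₂ M) j_indep
    (fHom G H uG uH eG eH t tG htG tH htH φ n) m m'
  rw [← h1, ← fHom_diag G H uG uH eG eH t tG htG tH htH φ hφ n, h2]
  congr

end grouplike

end Groth.Agent.Lib.Helper58.DiagTest
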