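import Mathlib
import Groth.Prelude.Def_SGA3x
import Groth.Agent.Lib.Helper58.DiagTest
import Groth.Agent.Lib.Helper58.ThetaSys

/-!
# Families of homomorphisms between locally diagonalisable finite groups over an affine base

Over `T = Spec k` (mapping to trivialising opens of both groups) the multiplicative families
`G ⊗ T ⟶ H` correspond to the complete orthogonal systems of idempotents of `k` indexed by
`Hom(N, M)`.
-/

set_option autoImplicit false

universe u

open CategoryTheory CategoryTheory.Limits AlgebraicGeometry MonoidalCategory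
  CartesianMonoidalCategory MonObj GrpObj

namespace Groth.Agent.Lib.Helper58.HomFam

open Groth.Agent.Lib.Helper43 Groth.Agent.Lib.Helper58.DiagPts Groth.Agent.Lib.Helper58.DiagTest
open Groth.Agent.Lib.Helper58

/-- the index set of the idempotent systems. -/
abbrev Θ (M N : Type) [AddCommGroup M] [AddCommGroup N] : Type :=
  Multiplicative N →* Multiplicative M

/-- finiteness of `Multiplicative N`. -/
noncomputable def fintypeMul (N : Type) [Finite N] : Fintype (Multiplicative N) :=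
  Fintype.ofFinite _

/-- finiteness of the index set. -/
noncomputable def fintypeΘ (M N : Type) [AddCommGroup M] [AddCommGroup N] [Finite M] [Finite N] :
    Fintype (Θ M N) :=
  haveI : Finite (Θ M N) := DFunLike.finite _
  Fintype.ofFinite _

attribute [local instance] fintypeMul fintypeΘ

section

variable {S UG UH : Scheme.{u}} (G H : Over S) [GrpObj G] [GrpObj H] (uG : UG ⟶ S) (uH : UH ⟶ S)
  {M N : Type} [AddCommGroup M] [AddCommGroup N]
  (eG : Grp.mk (Red.bc uG G) ≅ Grp.mk (Red.DS UG M))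
  (eH : Grp.mk (Red.bc uH H) ≅ Grp.mk (Red.DS UH N))
  {k : Type u} [CommRing k] (t : Spec (CommRingCat.of k) ⟶ S)
  (tG : Spec (CommRingCat.of k) ⟶ UG) (htG : tG ≫ uG = t)
  (tH : Spec (CommRingCat.of k) ⟶ UH) (htH : tH ≫ uH = t)

include htH in
lemma isOrth_fHom (φ : G ⊗ T t ⟶ H) (hφ : HomGrpAbs.IsMult G H φ) :
    ThetaSys.IsOrth (fHom G H uG uH eG eH t tG htG tH htH φ) := by
  classical
  constructor
  · intro n m
    have h := coeff_fHom_mul G H uG uH eG eH t tG htG tH htH φ hφ n m m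
    rw [if_pos rfl] at h
    exact h
  · intro n m m' hne
    have h := coeff_fHom_mul G H uG uH eG eH t tG htG tH htH φ hφ n m m'
    rw [if_neg hne] at h
    exact h

lemma family_eq (φ : G ⊗ T t ⟶ H) {X : Over S} (τ : X ⟶ T t) (a : X ⟶ G) :
    lift a τ ≫ φ =
      gOf t τ (κ G uG eG (τ.left ≫ tG) (hxX uG t tG htG τ) a) ≫ bD G H uG eG t tG htG φ := by
  have h1 : lift a τ = gOf t τ (κ G uG eG (τ.left ≫ tG) (hxX uG t tG htG τ) a) ≫
      lift (aD G uG eG t tG htG) (τD t M) := by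
    rw [comp_lift, gOf_τD, gOf_aD]
  rw [h1, Category.assoc]
  rfl

lemma eq_of_bD_eq (φ φ' : G ⊗ T t ⟶ H) (h : bD G H uG eG t tG htG φ = bD G H uG eG t tG htG φ') :
    φ = φ' := by
  have h1 := family_eq G H uG eG t tG htG φ (snd G (T t)) (fst G (T t))
  have h2 := family_eq G H uG eG t tG htG φ' (snd G (T t)) (fst G (T t))
  rw [lift_fst_snd, Category.id_comp] at h1 h2
  rw [h1, h2, h]

lemma eq_of_fHom_eq (φ φ' : G ⊗ T t ⟶ H)
    (h : fHom G H uG uH eG eH t tG htG tH htH φ = fHom G H uG uH eG eH t tG htG tH htH φ') :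
    φ = φ' := by
  apply eq_of_bD_eq G H uG eG t tG htG
  apply κ_injective H uH eH (X := D t M) (π k M ≫ tH) (hxD uH t tH htH)
  refine MonoidHom.ext (fun n => ?_)
  rw [← inv_fHom G H uG uH eG eH t tG htG tH htH φ, ← inv_fHom G H uG uH eG eH t tG htG tH htH φ', h]

lemma ptFnHom_π (c : k) :
    ptFnHom (π k M) c = (Scheme.ΓSpecIso (CommRingCat.of (kM k M))).inv.hom
      (algebraMap k (kM k M) c) := by
  change ptFn (Spec.map (CommRingCat.ofHom (algebraMap k (kM k M)))) c = _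
  rw [← Category.id_comp (Spec.map (CommRingCat.ofHom (algebraMap k (kM k M)))), ptFn_specMap]
  unfold ptFn
  simp

end

section famOf

variable {S UG UH : Scheme.{u}} (G H : Over S) [GrpObj G] [GrpObj H] (uG : UG ⟶ S) (uH : UH ⟶ S)
  {M N : Type} [AddCommGroup M] [AddCommGroup N] [Finite M] [Finite N]
  (eG : Grp.mk (Red.bc uG G) ≅ Grp.mk (Red.DS UG M))
  (eH : Grp.mk (Red.bc uH H) ≅ Grp.mk (Red.DS UH N))
  {k : Type u} [CommRing k] (t : Spec (CommRingCat.of k) ⟶ S)
  (tG : Spec (CommRingCat.of k) ⟶ UG) (htG : tG ≫ uG = t)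
  (tH : Spec (CommRingCat.of k) ⟶ UH) (htH : tH ≫ uH = t)
  (e : Θ M N → k) (he : CompleteOrthogonalIdempotents e)

/-- the character of the family attached to a system, on a point `(a, τ)`. -/
noncomputable def βOf {X : Over S} (τ : X ⟶ T t) (a : X ⟶ G) : Multiplicative N →* Γ(X.left, ⊤) :=
  ThetaSys.twist (fun θ : Θ M N => θ) (fun θ => ptFnHom τ.left (e θ)) (he.map (ptFnHom τ.left))
    (κ G uG eG (τ.left ≫ tG) (hxX uG t tG htG τ) a)

lemma βOf_apply {X : Over S} (τ : X ⟶ T t) (a : X ⟶ G) (n : Multiplicative N) :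
    βOf G uG eG t tG htG e he τ a n =
      ∑ θ : Θ M N, ptFnHom τ.left (e θ) * κ G uG eG (τ.left ≫ tG) (hxX uG t tG htG τ) a (θ n) :=
  rfl

/-- the family attached to a system. -/
noncomputable def famOf : G ⊗ T t ⟶ H :=
  (κ_surjective H uH eH (X := G ⊗ T t) ((snd G (T t)).left ≫ tH) (hxX uH t tH htH (snd G (T t)))
    (βOf G uG eG t tG htG e he (snd G (T t)) (fst G (T t)))).choose

lemma κ_famOf_univ :
    κ H uH eH (X := G ⊗ T t) ((snd G (T t)).left ≫ tH) (hxX uH t tH htH (snd G (T t)))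
        (famOf G H uG uH eG eH t tG htG tH htH e he) =
      βOf G uG eG t tG htG e he (snd G (T t)) (fst G (T t)) :=
  (κ_surjective H uH eH (X := G ⊗ T t) ((snd G (T t)).left ≫ tH) (hxX uH t tH htH (snd G (T t)))
    (βOf G uG eG t tG htG e he (snd G (T t)) (fst G (T t)))).choose_spec

theorem κ_famOf {X : Over S} (τ : X ⟶ T t) (a : X ⟶ G) (n : Multiplicative N) :
    κ H uH eH (τ.left ≫ tH) (hxX uH t tH htH τ)
        (lift a τ ≫ famOf G H uG uH eG eH t tG htG tH htH e he) n =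
      βOf G uG eG t tG htG e he τ a n := by
  have hl : (lift a τ).left ≫ (snd G (T t)).left = τ.left := by
    rw [← Over.comp_left, lift_snd]
  rw [κ_comp' H uH eH ((snd G (T t)).left ≫ tH) (hxX uH t tH htH (snd G (T t))) (lift a τ)
    (famOf G H uG uH eG eH t tG htG tH htH e he) (τ.left ≫ tH) (hxX uH t tH htH τ)
    (by rw [← Category.assoc, hl]) n, κ_famOf_univ, βOf_apply, βOf_apply]
  change (lift a τ).left.appTop.hom _ = _
  rw [map_sum]
  apply Finset.sum_congr rfl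
  intro θ _
  rw [map_mul]
  congr 1
  · change (lift a τ).left.appTop (ptFn (snd G (T t)).left (e θ)) = ptFn τ.left (e θ)
    rw [← ptFn_comp, hl]
  · have h2 := κ_comp' G uG eG ((snd G (T t)).left ≫ tG) (hxX uG t tG htG (snd G (T t)))
      (lift a τ) (fst G (T t)) (τ.left ≫ tG) (hxX uG t tG htG τ)
      (by rw [← Category.assoc, hl]) (θ n)
    rw [lift_fst] at h2
    exact h2.symm

theorem isMult_famOf : HomGrpAbs.IsMult G H (famOf G H uG uH eG eH t tG htG tH htH e he) := by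
  intro X a b τ
  apply κ_injective H uH eH (τ.left ≫ tH) (hxX uH t tH htH τ)
  refine MonoidHom.ext (fun n => ?_)
  rw [κ_mul, MonoidHom.mul_apply, κ_famOf, κ_famOf, κ_famOf, βOf_apply, βOf_apply, βOf_apply, κ_mul]
  exact ThetaSys.twist_mul (fun θ : Θ M N => θ) (fun θ => ptFnHom τ.left (e θ))
    (he.map (ptFnHom τ.left)) _ _ n

theorem fHom_famOf (n : Multiplicative N) :
    fHom G H uG uH eG eH t tG htG tH htH (famOf G H uG uH eG eH t tG htG tH htH e he) n =
      ThetaSys.ofSys e he n := by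
  have h1 : κ H uH eH (X := D t M) (π k M ≫ tH) (hxD uH t tH htH)
      (bD G H uG eG t tG htG (famOf G H uG uH eG eH t tG htG tH htH e he)) n =
      (Scheme.ΓSpecIso (CommRingCat.of (kM k M))).inv.hom (ThetaSys.ofSys e he n) := by
    have h2 := κ_famOf G H uG uH eG eH t tG htG tH htH e he (τD t M) (aD G uG eG t tG htG) n
    rw [βOf_apply] at h2
    have h3 : κ G uG eG ((τD t M).left ≫ tG) (hxX uG t tG htG (τD t M)) (aD G uG eG t tG htG) =
        χuniv k M := κ_aD G uG eG t tG htG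
    rw [h3] at h2
    refine h2.trans ?_
    rw [ThetaSys.ofSys_apply, map_sum]
    apply Finset.sum_congr rfl
    intro θ _
    change ptFnHom (π k M) (e θ) * _ = _
    rw [ptFnHom_π, χuniv_apply, ← map_mul, MonoidAlgebra.coe_algebraMap]
    simp only [Function.comp_apply, Algebra.algebraMap_self, RingHom.id_apply]
    rw [MonoidAlgebra.single_mul_single, _root_.one_mul, _root_.mul_one]
  have h4 := congrArg (Scheme.ΓSpecIso (CommRingCat.of (kM k M))).hom.hom h1
  rw [Iso.inv_hom_id_apply (C := CommRingCat) (Scheme.ΓSpecIso (CommRingCat.of (kM k M)))] at h4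
  exact h4

/-- the system of idempotents of a family. -/
noncomputable def sysφ (φ : G ⊗ T t ⟶ H) : Θ M N → k :=
  ThetaSys.sysOf (fHom G H uG uH eG eH t tG htG tH htH φ)

include htH in
lemma sysφ_complete (φ : G ⊗ T t ⟶ H) (hφ : HomGrpAbs.IsMult G H φ) :
    CompleteOrthogonalIdempotents (sysφ G H uG uH eG eH t tG htG tH htH φ) :=
  ThetaSys.sysOf_complete _ (isOrth_fHom G H uG uH eG eH t tG htG tH htH φ hφ)

lemma sysφ_famOf :
    sysφ G H uG uH eG eH t tG htG tH htH (famOf G H uG uH eG eH t tG htG tH htH e he) = e := by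
  unfold sysφ
  have h : fHom G H uG uH eG eH t tG htG tH htH (famOf G H uG uH eG eH t tG htG tH htH e he) =
      ThetaSys.ofSys e he := MonoidHom.ext (fHom_famOf G H uG uH eG eH t tG htG tH htH e he)
  rw [h, ThetaSys.sysOf_ofSys]

include htH in
lemma eq_of_sysφ_eq (φ φ' : G ⊗ T t ⟶ H) (hφ : HomGrpAbs.IsMult G H φ)
    (hφ' : HomGrpAbs.IsMult G H φ')
    (h : sysφ G H uG uH eG eH t tG htG tH htH φ = sysφ G H uG uH eG eH t tG htG tH htH φ') :
    φ = φ' :=
  eq_of_fHom_eq G H uG uH eG eH t tG htG tH htH φ φ'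
    (ThetaSys.eq_of_sysOf_eq _ _ (isOrth_fHom G H uG uH eG eH t tG htG tH htH φ hφ)
      (isOrth_fHom G H uG uH eG eH t tG htG tH htH φ' hφ') h)

end famOf

section baseChange

variable {S UG UH : Scheme.{u}} (G H : Over S) [GrpObj G] [GrpObj H] (uG : UG ⟶ S) (uH : UH ⟶ S)
  {M N : Type} [AddCommGroup M] [AddCommGroup N]
  (eG : Grp.mk (Red.bc uG G) ≅ Grp.mk (Red.DS UG M))
  (eH : Grp.mk (Red.bc uH H) ≅ Grp.mk (Red.DS UH N))
  {k : Type u} [CommRing k] (t : Spec (CommRingCat.of k) ⟶ S)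
  (tG : Spec (CommRingCat.of k) ⟶ UG) (htG : tG ≫ uG = t)
  (tH : Spec (CommRingCat.of k) ⟶ UH) (htH : tH ≫ uH = t)
  {k' : Type u} [CommRing k'] (ρ : k →+* k')

lemma κ_congr {U : Scheme.{u}} (G : Over S) [GrpObj G] (u : U ⟶ S)
    (e : Grp.mk (Red.bc u G) ≅ Grp.mk (Red.DS U M)) {X : Over S} (x x' : X.left ⟶ U)
    (hx : x ≫ u = X.hom) (hx' : x' ≫ u = X.hom) (h : x = x') (a : X ⟶ G) :
    κ G u e x hx a = κ G u e x' hx' a := by
  subst h
  rfl

/-- the base-changed structure map. -/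
noncomputable abbrev t' : Spec (CommRingCat.of k') ⟶ S := Spec.map (CommRingCat.ofHom ρ) ≫ t

include htG in
lemma htG' : (Spec.map (CommRingCat.ofHom ρ) ≫ tG) ≫ uG = t' t ρ := by
  rw [Category.assoc, htG]

/-- the base change morphism. -/
noncomputable def rT : T (t' t ρ) ⟶ T t := Over.homMk (Spec.map (CommRingCat.ofHom ρ)) rfl

lemma ev_χuniv_map (f : kM k M) :
    ev t (τD (t' t ρ) M ≫ rT t ρ) (χuniv k' M) f =
      (Scheme.ΓSpecIso (CommRingCat.of (kM k' M))).inv.hom
        (MonoidAlgebra.mapRingHom (Multiplicative M) ρ f) := by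
  have h : ev t (τD (t' t ρ) M ≫ rT t ρ) (χuniv k' M) =
      ((Scheme.ΓSpecIso (CommRingCat.of (kM k' M))).inv.hom).comp
        (MonoidAlgebra.mapRingHom (Multiplicative M) ρ) := by
    apply MonoidAlgebra.ringHom_ext
    · intro c
      rw [ev_single, map_one, _root_.mul_one, RingHom.comp_apply, MonoidAlgebra.mapRingHom_single]
      change ptFn (Spec.map (CommRingCat.ofHom (algebraMap k' (kM k' M))) ≫
        Spec.map (CommRingCat.ofHom ρ)) c = _
      rw [ptFn_specMap]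
      exact ptFnHom_π (ρ c)
    · intro m
      rw [ev_single, map_one, _root_.one_mul, RingHom.comp_apply, MonoidAlgebra.mapRingHom_single,
        map_one]
      rfl
  rw [h]
  rfl

theorem fHom_baseChange (φ : G ⊗ T t ⟶ H) (n : Multiplicative N) :
    fHom G H uG uH eG eH (t' t ρ) (Spec.map (CommRingCat.ofHom ρ) ≫ tG) (htG' uG t tG htG ρ)
        (Spec.map (CommRingCat.ofHom ρ) ≫ tH) (htG' uH t tH htH ρ) ((G ◁ rT t ρ) ≫ φ) n =
      MonoidAlgebra.mapRingHom (Multiplicative M) ρ (fHom G H uG uH eG eH t tG htG tH htH φ n) := by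
  set a := aD G uG eG (t' t ρ) (Spec.map (CommRingCat.ofHom ρ) ≫ tG) (htG' uG t tG htG ρ) with ha
  set τ : D (t' t ρ) M ⟶ T t := τD (t' t ρ) M ≫ rT t ρ with hτ
  have hb : bD G H uG eG (t' t ρ) (Spec.map (CommRingCat.ofHom ρ) ≫ tG) (htG' uG t tG htG ρ)
      ((G ◁ rT t ρ) ≫ φ) = lift a τ ≫ φ := by
    unfold bD
    rw [← Category.assoc, lift_whiskerLeft]
  have h1 := κ_family G H uG uH eG eH t tG htG tH htH φ τ a n
  have h2 : κ G uG eG (τ.left ≫ tG) (hxX uG t tG htG τ) a = χuniv k' M := by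
    rw [← κ_aD G uG eG (t' t ρ) (Spec.map (CommRingCat.ofHom ρ) ≫ tG) (htG' uG t tG htG ρ)]
    apply κ_congr
    rw [hτ, Over.comp_left, Category.assoc]
    rfl
  rw [h2, hτ, ev_χuniv_map] at h1
  have h3 : κ H uH eH (X := D (t' t ρ) M) (π k' M ≫ Spec.map (CommRingCat.ofHom ρ) ≫ tH)
      (hxD uH (t' t ρ) (Spec.map (CommRingCat.ofHom ρ) ≫ tH) (htG' uH t tH htH ρ))
      (lift a τ ≫ φ) n =
      (Scheme.ΓSpecIso (CommRingCat.of (kM k' M))).inv.hom
        (MonoidAlgebra.mapRingHom (Multiplicative M) ρ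
          (fHom G H uG uH eG eH t tG htG tH htH φ n)) := by
    rw [← h1]
    congr 1
  have h4 := congrArg (Scheme.ΓSpecIso (CommRingCat.of (kM k' M))).hom.hom h3
  rw [Iso.inv_hom_id_apply (C := CommRingCat) (Scheme.ΓSpecIso (CommRingCat.of (kM k' M)))] at h4
  rw [← h4, ← hb]
  rfl

lemma isMult_whisker {T₁ T₂ : Over S} (r : T₂ ⟶ T₁) (φ : G ⊗ T₁ ⟶ H)
    (hφ : HomGrpAbs.IsMult G H φ) : HomGrpAbs.IsMult G H ((G ◁ r) ≫ φ) := by
  intro X a b τ
  rw [← Category.assoc, lift_whiskerLeft, ← Category.assoc, lift_whiskerLeft, ← Category.assoc,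
    lift_whiskerLeft]
  exact hφ X a b (τ ≫ r)

/-- naturality of the system of idempotents of a family under base change. -/
theorem sysφ_baseChange [Finite M] [Finite N] (t₂ : Spec (CommRingCat.of k') ⟶ S)
    (tG₂ : Spec (CommRingCat.of k') ⟶ UG) (htG₂ : tG₂ ≫ uG = t₂)
    (tH₂ : Spec (CommRingCat.of k') ⟶ UH) (htH₂ : tH₂ ≫ uH = t₂)
    (h : Spec.map (CommRingCat.ofHom ρ) ≫ t = t₂)
    (hG : Spec.map (CommRingCat.ofHom ρ) ≫ tG = tG₂)
    (hH : Spec.map (CommRingCat.ofHom ρ) ≫ tH = tH₂)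
    (φ : G ⊗ T t ⟶ H) (θ : Θ M N) :
    sysφ G H uG uH eG eH t₂ tG₂ htG₂ tH₂ htH₂
        ((G ◁ (Over.homMk (Spec.map (CommRingCat.ofHom ρ)) h : T t₂ ⟶ T t)) ≫ φ) θ =
      ρ (sysφ G H uG uH eG eH t tG htG tH htH φ θ) := by
  subst h hG hH
  exact ThetaSys.sysOf_map ρ _ _ (fHom_baseChange G H uG uH eG eH t tG htG tH htH ρ φ) θ

end baseChange

end Groth.Agent.Lib.Helper58.HomFam
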