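import Mathlib

/-!
# Descent along two fpqc coverings (in the sense of the Prelude) followed by Zariski localisation
-/

set_option autoImplicit false

universe u

open CategoryTheory CategoryTheory.Limits AlgebraicGeometry MorphismProperty

namespace Groth.Agent.Lib.Helper58.TwoCover

variable (P : MorphismProperty Scheme.{u})

lemma snd_comp_iff [P.RespectsIso] {X S U U' : Scheme.{u}} (h : X ⟶ S) (u : U ⟶ S) (w : U' ⟶ U) :
    P (pullback.snd h (w ≫ u)) ↔ P (pullback.snd (pullback.snd h u) w) := by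
  rw [← pullbackLeftPullbackSndIso_hom_snd h u w, P.cancel_left_of_respectsIso]

lemma snd_comp [P.IsStableUnderBaseChange] {X S U U' : Scheme.{u}} (h : X ⟶ S) (u : U ⟶ S)
    (w : U' ⟶ U) (hP : P (pullback.snd h u)) : P (pullback.snd h (w ≫ u)) := by
  rw [snd_comp_iff P]
  exact P.pullback_snd _ _ hP

lemma snd_of_local [IsZariskiLocalAtTarget P] {X S U : Scheme.{u}} (h : X ⟶ S) (u : U ⟶ S)
    (H : ∀ x : U, ∃ U' : U.Opens, x ∈ U' ∧ P (pullback.snd h (U'.ι ≫ u))) :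
    P (pullback.snd h u) := by
  apply IsZariskiLocalAtTarget.of_forall_exists_morphismRestrict
  intro x
  obtain ⟨U', hx, hU'⟩ := H x
  refine ⟨U', hx, ?_⟩
  rw [snd_comp_iff P, ← pullbackRestrictIsoRestrict_hom_morphismRestrict] at hU'
  exact (P.cancel_left_of_respectsIso _ _).mp hU'

lemma snd_of_descends (Q : MorphismProperty Scheme.{u}) [P.RespectsIso] [P.DescendsAlong Q]
    {X S V W : Scheme.{u}} (h : X ⟶ S) (v : V ⟶ S) (g : W ⟶ V) (hg : Q g)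
    (hP : P (pullback.snd h (g ≫ v))) : P (pullback.snd h v) := by
  rw [snd_comp_iff P] at hP
  apply MorphismProperty.of_pullback_fst_of_descendsAlong (Q := Q) (f := g) hg
  rw [← pullbackSymmetry_hom_comp_snd, P.cancel_left_of_respectsIso]
  exact hP

/-- a quasi-compact open mapping onto an affine open gives an fpqc morphism. -/
lemma exists_lift_fpqc {S S' V : Scheme.{u}} (f : S' ⟶ S) [Flat f]
    (j : V ⟶ S) [IsOpenImmersion j] [IsAffine V] (W : S'.Opens) (hW : IsCompact (W : Set S'))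
    (hWV : f.base '' (W : Set S') = Set.range j.base) :
    ∃ fW : (W : Scheme.{u}) ⟶ V, fW ≫ j = W.ι ≫ f ∧
      (@Surjective ⊓ @Flat ⊓ @QuasiCompact : MorphismProperty Scheme.{u}) fW := by
  have hrange : Set.range (W.ι ≫ f).base ⊆ Set.range j.base := by
    rw [Scheme.Hom.comp_base, TopCat.coe_comp, Set.range_comp, Scheme.Opens.range_ι, hWV]
  let fW : (W : Scheme) ⟶ V := IsOpenImmersion.lift j (W.ι ≫ f) hrange
  have hfac : fW ≫ j = W.ι ≫ f := IsOpenImmersion.lift_fac _ _ _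
  have h1 : Flat fW :=
    MorphismProperty.of_postcomp (W := @Flat) (W' := @IsOpenImmersion) fW j inferInstance
      (by rw [hfac]; infer_instance)
  have h2 : Surjective fW := ⟨fun v => by
    have hv : j.base v ∈ f.base '' (W : Set S') := by rw [hWV]; exact ⟨v, rfl⟩
    obtain ⟨w, hw, hwv⟩ := hv
    refine ⟨⟨w, hw⟩, ?_⟩
    apply j.isOpenEmbedding.injective
    rw [← Scheme.Hom.comp_apply, hfac]
    exact hwv⟩
  have h3 : QuasiCompact fW := by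
    rw [HasAffineProperty.iff_of_isAffine (P := @QuasiCompact)]
    exact isCompact_iff_compactSpace.mp hW
  exact ⟨fW, hfac, ⟨h2, h1⟩, h3⟩

/-- descent along two fpqc coverings followed by Zariski localisation on both coverings. -/
theorem of_two_fpqc [IsZariskiLocalAtTarget P] [P.IsStableUnderBaseChange]
    [P.DescendsAlong (@Surjective ⊓ @Flat ⊓ @QuasiCompact)]
    {X S S₁ S₂ : Scheme.{u}} (h : X ⟶ S) (f₁ : S₁ ⟶ S) (f₂ : S₂ ⟶ S) [Flat f₁] [Flat f₂]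
    (hcov₁ : ∀ V : S.Opens, IsAffineOpen V →
      ∃ W : S₁.Opens, IsCompact (W : Set S₁) ∧ f₁.base '' (W : Set S₁) = (V : Set S))
    (hcov₂ : ∀ V : S.Opens, IsAffineOpen V →
      ∃ W : S₂.Opens, IsCompact (W : Set S₂) ∧ f₂.base '' (W : Set S₂) = (V : Set S))
    (𝒰₁ : S₁ → S₁.Opens) (h𝒰₁ : ∀ s, s ∈ 𝒰₁ s) (𝒰₂ : S₂ → S₂.Opens) (h𝒰₂ : ∀ s, s ∈ 𝒰₂ s)
    (hloc : ∀ (O : Scheme.{u}) [IsAffine O] (s₁ : S₁) (s₂ : S₂) (o₁ : O ⟶ (𝒰₁ s₁ : Scheme.{u}))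
      (o₂ : O ⟶ (𝒰₂ s₂ : Scheme.{u})), o₁ ≫ (𝒰₁ s₁).ι ≫ f₁ = o₂ ≫ (𝒰₂ s₂).ι ≫ f₂ →
        P (pullback.snd h (o₁ ≫ (𝒰₁ s₁).ι ≫ f₁))) : P h := by
  refine IsZariskiLocalAtTarget.of_openCover (P := P) S.affineCover (fun i => ?_)
  change P (pullback.snd h (S.affineCover.f i))
  obtain ⟨W₁, hW₁, hWV₁⟩ := hcov₁ (S.affineCover.f i).opensRange (isAffineOpen_opensRange _)
  obtain ⟨W₂, hW₂, hWV₂⟩ := hcov₂ (S.affineCover.f i).opensRange (isAffineOpen_opensRange _)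
  haveI : IsAffine (S.affineCover.X i) := inferInstance
  obtain ⟨g₁, hfac₁, hg₁⟩ := exists_lift_fpqc f₁ (S.affineCover.f i) W₁ hW₁ (by rw [hWV₁]; rfl)
  obtain ⟨g₂, hfac₂, hg₂⟩ := exists_lift_fpqc f₂ (S.affineCover.f i) W₂ hW₂ (by rw [hWV₂]; rfl)
  have hg : (@Surjective ⊓ @Flat ⊓ @QuasiCompact : MorphismProperty Scheme.{u})
      (pullback.fst g₁ g₂ ≫ g₁) :=
    MorphismProperty.comp_mem _ _ _ (MorphismProperty.pullback_fst _ _ hg₂) hg₁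
  refine snd_of_descends P _ h (S.affineCover.f i) (pullback.fst g₁ g₂ ≫ g₁) hg ?_
  refine snd_of_local P h _ (fun x => ?_)
  obtain ⟨q₁, hq₁⟩ : ∃ q₁ : pullback g₁ g₂ ⟶ S₁, q₁ = pullback.fst g₁ g₂ ≫ W₁.ι := ⟨_, rfl⟩
  obtain ⟨q₂, hq₂⟩ : ∃ q₂ : pullback g₁ g₂ ⟶ S₂, q₂ = pullback.snd g₁ g₂ ≫ W₂.ι := ⟨_, rfl⟩
  have hq₁f : q₁ ≫ f₁ = (pullback.fst g₁ g₂ ≫ g₁) ≫ S.affineCover.f i := by
    rw [hq₁, Category.assoc, Category.assoc, hfac₁]
  have hq₂f : q₂ ≫ f₂ = (pullback.fst g₁ g₂ ≫ g₁) ≫ S.affineCover.f i := by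
    rw [hq₂, Category.assoc, pullback.condition, Category.assoc, hfac₂]
  obtain ⟨U', hU'aff, hxU', hU'le⟩ := exists_isAffineOpen_mem_and_subset
    (x := x) (U := q₁ ⁻¹ᵁ (𝒰₁ (q₁ x)) ⊓ q₂ ⁻¹ᵁ (𝒰₂ (q₂ x))) ⟨h𝒰₁ _, h𝒰₂ _⟩
  refine ⟨U', hxU', ?_⟩
  have hr₁ : Set.range (U'.ι ≫ q₁).base ⊆ Set.range (𝒰₁ (q₁ x)).ι.base := by
    rw [Scheme.Opens.range_ι]
    rintro _ ⟨y, rfl⟩
    exact (hU'le y.2).1
  have hr₂ : Set.range (U'.ι ≫ q₂).base ⊆ Set.range (𝒰₂ (q₂ x)).ι.base := by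
    rw [Scheme.Opens.range_ι]
    rintro _ ⟨y, rfl⟩
    exact (hU'le y.2).2
  haveI : IsAffine (U' : Scheme.{u}) := hU'aff
  have hl := hloc U' (q₁ x) (q₂ x) (IsOpenImmersion.lift (𝒰₁ (q₁ x)).ι (U'.ι ≫ q₁) hr₁)
    (IsOpenImmersion.lift (𝒰₂ (q₂ x)).ι (U'.ι ≫ q₂) hr₂) (by
      rw [IsOpenImmersion.lift_fac_assoc, IsOpenImmersion.lift_fac_assoc, Category.assoc,
        Category.assoc, hq₁f, hq₂f])
  rw [IsOpenImmersion.lift_fac_assoc, Category.assoc, hq₁f] at hl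
  exact hl

end Groth.Agent.Lib.Helper58.TwoCover
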