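import Mathlib
import Groth.Prelude.Def_SGA3x
import Groth.Agent.Lib.Helper58.FpqcLocal

/-!
# Groups of multiplicative type (of finite type) are flat and of finite presentation
-/

set_option autoImplicit false

universe u

open CategoryTheory CategoryTheory.Limits AlgebraicGeometry MorphismProperty MonoidalCategory
  CartesianMonoidalCategory MonObj GrpObj

namespace Groth.Agent.Lib.Helper58.MultTypeProps

open Groth.Agent.Lib.Helper58

section diag

variable (M : Type) [AddCommGroup M]

lemma flat_diag (R : Type u) [CommRing R] : Flat (Red.diag R M).hom := by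
  change Flat (Spec (CommRingCat.of (MonoidAlgebra R (Multiplicative M))) ↘
    Spec (CommRingCat.of R))
  rw [specOverSpec_over, HasRingHomProperty.Spec_iff (P := @Flat)]
  change (algebraMap R (MonoidAlgebra R (Multiplicative M))).Flat
  rw [RingHom.flat_algebraMap_iff]
  infer_instance

lemma lofp_diag (R : Type u) [CommRing R] [IsNoetherianRing R] (hM : AddGroup.FG M) :
    LocallyOfFinitePresentation (Red.diag R M).hom := by
  change LocallyOfFinitePresentation
    (Spec (CommRingCat.of (MonoidAlgebra R (Multiplicative M))) ↘ Spec (CommRingCat.of R))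
  rw [specOverSpec_over, HasRingHomProperty.Spec_iff (P := @LocallyOfFinitePresentation)]
  change (algebraMap R (MonoidAlgebra R (Multiplicative M))).FinitePresentation
  rw [RingHom.finitePresentation_algebraMap]
  haveI : AddMonoid.FG M := AddGroup.fg_iff_addMonoid_fg.mp hM
  haveI : Algebra.FiniteType R (MonoidAlgebra R (Multiplicative M)) := inferInstance
  exact Algebra.FinitePresentation.of_finiteType.mp inferInstance

instance : IsNoetherianRing (ULift.{u} ℤ) :=
  isNoetherianRing_of_ringEquiv ℤ ULift.ringEquiv.symm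

end diag

variable {S : Scheme.{u}}

/-- a property that is Zariski-local on the target, stable under base change, satisfies fpqc
descent and holds for the diagonalizable groups `D(M)` over `Spec ℤ` holds for groups of
multiplicative type. -/
theorem prop_of_isMultTypeFT (P : MorphismProperty Scheme.{u}) [IsZariskiLocalAtTarget P]
    [P.IsStableUnderBaseChange] [P.DescendsAlong (@Surjective ⊓ @Flat ⊓ @QuasiCompact)]
    (hdiag : ∀ (M : Type) [AddCommGroup M], AddGroup.FG M → P (Red.diag (ULift.{u} ℤ) M).hom)
    (H : Over S) [GrpObj H] (hH : SGA3x.IsMultTypeFT H) : P H.hom := by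
  obtain ⟨S', f, hf, _, hcov, hloc⟩ := hH
  refine FpqcLocal.of_fpqc P H.hom f hcov ?_
  choose U hU M hMi hM hiso using hloc
  have hU' : ⨆ s', U s' = ⊤ := by
    rw [eq_top_iff]
    intro x _
    exact TopologicalSpace.Opens.mem_iSup.mpr ⟨x, hU x⟩
  refine IsZariskiLocalAtTarget.of_openCover (P := P) (S'.openCoverOfIsOpenCover U
    (TopologicalSpace.IsOpenCover.mk hU')) (fun s' => ?_)
  change P (pullback.snd (pullback.snd H.hom f) (U s').ι)
  rw [← pullbackLeftPullbackSndIso_hom_snd, P.cancel_left_of_respectsIso]
  obtain ⟨e⟩ := hiso s'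
  letI := hMi s'
  let e' : Red.bc ((U s').ι ≫ f) H ≅ Red.DS (U s' : Scheme.{u}) (M s') :=
    (Grp.forget _).mapIso e
  have hw : pullback.snd H.hom ((U s').ι ≫ f) = e'.hom.left ≫ (Red.DS (U s' : Scheme.{u}) (M s')).hom :=
    (Over.w e'.hom).symm
  rw [hw, P.cancel_left_of_respectsIso]
  change P (pullback.snd (Red.diag (ULift.{u} ℤ) (M s')).hom _)
  exact P.pullback_snd _ _ (hdiag (M s') (hM s'))

theorem flat_of_isMultTypeFT (H : Over S) [GrpObj H] (hH : SGA3x.IsMultTypeFT H) : Flat H.hom := by
  haveI := FpqcLocal.flat_descendsAlong.{u}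
  exact prop_of_isMultTypeFT @Flat (fun M _ _ => flat_diag M _) H hH

theorem lofp_of_isMultTypeFT (H : Over S) [GrpObj H] (hH : SGA3x.IsMultTypeFT H) :
    LocallyOfFinitePresentation H.hom :=
  prop_of_isMultTypeFT @LocallyOfFinitePresentation (fun M _ hM => lofp_diag M _ hM) H hH

end Groth.Agent.Lib.Helper58.MultTypeProps
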