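import Mathlib
import Groth.Agent.Lib.Helper21.PowerSeriesAdic2

/-!
# Evaluating power series in a complete ring (helper58)

For an `R`-algebra `S` which is `I`-adically complete and elements `c i ∈ I`, the `R`-algebra map
`evalComplete I c hc : R[[X_1..X_n]] →ₐ[R] S` with `X i ↦ c i`
(limit of helper21's `evalNilp` modulo `I ^ m`), and uniqueness of such maps into `I`-adically
Hausdorff rings (`algHom_ext_of_X`).
-/

set_option autoImplicit false

namespace Groth.Agent.Lib.Helper58.PSComplete

open MvPowerSeries Groth.Agent.Lib.Helper21.PSAdic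

variable {n : ℕ} {R : Type*} [CommRing R] {S : Type*} [CommRing S] [Algebra R S] (I : Ideal S)

/-- evaluation at elements of `I`, modulo `I ^ m` -/
noncomputable def evalMod (c : Fin n → S) (hc : ∀ i, c i ∈ I) (m : ℕ) :
    MvPowerSeries (Fin n) R →ₐ[R] S ⧸ I ^ m :=
  evalNilp (fun i => Ideal.Quotient.mk (I ^ m) (c i)) m (fun i => by
    rw [← map_pow, Ideal.Quotient.eq_zero_iff_mem]
    exact Ideal.pow_mem_pow (hc i) m)

theorem evalMod_X (c : Fin n → S) (hc : ∀ i, c i ∈ I) (m : ℕ) (i : Fin n) :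
    evalMod (R := R) I c hc m (X i) = Ideal.Quotient.mk (I ^ m) (c i) :=
  evalNilp_X _ _ _ i

theorem evalMod_compat (c : Fin n → S) (hc : ∀ i, c i ∈ I) {m m' : ℕ} (h : m ≤ m') :
    (Ideal.Quotient.factorₐ R (Ideal.pow_le_pow_right h)).comp (evalMod (R := R) I c hc m') =
      evalMod I c hc m := by
  refine eq_evalNilp _ (n * m' + 1) ?_ _ m _ ?_
  · intro x hx
    rw [AlgHom.comp_apply]
    have : evalMod (R := R) I c hc m' x = 0 :=
      evalNilp_eq_zero_of_mem_ker_pow _ m' _ (Nat.lt_succ_self _) hx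
    rw [this, map_zero]
  · intro i
    rw [AlgHom.comp_apply, evalMod_X]
    rfl

variable [IsAdicComplete I S]

/-- evaluation of power series at elements of `I` in an `I`-adically complete algebra -/
noncomputable def evalComplete (c : Fin n → S) (hc : ∀ i, c i ∈ I) :
    MvPowerSeries (Fin n) R →ₐ[R] S :=
  IsAdicComplete.liftAlgHom I (evalMod I c hc) (fun h => evalMod_compat I c hc h)

theorem mk_evalComplete (c : Fin n → S) (hc : ∀ i, c i ∈ I) (m : ℕ)
    (f : MvPowerSeries (Fin n) R) :
    Ideal.Quotient.mk (I ^ m) (evalComplete I c hc f) = evalMod I c hc m f :=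
  IsAdicComplete.mk_liftAlgHom I _ _ m f

theorem evalComplete_X (c : Fin n → S) (hc : ∀ i, c i ∈ I) (i : Fin n) :
    evalComplete (R := R) I c hc (X i) = c i := by
  rw [← sub_eq_zero]
  apply IsHausdorff.haus (I := I) inferInstance
  intro m
  rw [SModEq.zero, smul_eq_mul, Ideal.mul_top, ← Ideal.Quotient.eq, mk_evalComplete, evalMod_X]

section Uniqueness

variable {n : ℕ} {R : Type*} [CommRing R] {S : Type*} [CommRing S] [Algebra R S] (I : Ideal S)

/-- an algebra map sending the variables into `I` sends the ideal of the variables into `I` -/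
theorem map_mem_of_constantCoeff_eq_zero (u : MvPowerSeries (Fin n) R →ₐ[R] S)
    (hu : ∀ i, u (X i) ∈ I) (f : MvPowerSeries (Fin n) R) (hf : constantCoeff f = 0) :
    u f ∈ I := by
  rw [eq_C_add_sum f, hf, map_zero, zero_add, map_sum]
  refine Ideal.sum_mem _ (fun i _ => ?_)
  rw [map_mul]
  exact Ideal.mul_mem_right _ _ (hu i)

theorem map_ker_pow_le (u : MvPowerSeries (Fin n) R →ₐ[R] S) (hu : ∀ i, u (X i) ∈ I) (m : ℕ) :
    (RingHom.ker (constantCoeff : MvPowerSeries (Fin n) R →+* R) ^ m).map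
      (u : MvPowerSeries (Fin n) R →+* S) ≤ I ^ m := by
  rw [Ideal.map_pow]
  refine Ideal.pow_right_mono ?_ m
  rw [Ideal.map_le_iff_le_comap]
  intro f hf
  exact map_mem_of_constantCoeff_eq_zero I u hu f hf

/-- algebra maps out of a power series ring into an `I`-adically separated ring which agree on
the variables, and send them into `I`, are equal -/
theorem algHom_ext_of_X [IsHausdorff I S] (u v : MvPowerSeries (Fin n) R →ₐ[R] S)
    (hu : ∀ i, u (X i) ∈ I) (huv : ∀ i, u (X i) = v (X i)) : u = v := by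
  have hv : ∀ i, v (X i) ∈ I := fun i => huv i ▸ hu i
  have key : ∀ (w : MvPowerSeries (Fin n) R →ₐ[R] S) (hw : ∀ i, w (X i) ∈ I) (m : ℕ),
      (Ideal.Quotient.mkₐ R (I ^ m)).comp w = evalMod I (fun i => w (X i)) hw m := by
    intro w hw m
    refine eq_evalNilp _ m ?_ _ m _ (fun i => rfl)
    intro x hx
    rw [AlgHom.comp_apply]
    change Ideal.Quotient.mk (I ^ m) (w x) = 0
    rw [Ideal.Quotient.eq_zero_iff_mem]
    exact map_ker_pow_le I w hw m (Ideal.mem_map_of_mem _ hx)
  ext f
  rw [← sub_eq_zero]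
  apply IsHausdorff.haus (I := I) inferInstance
  intro m
  rw [SModEq.zero, smul_eq_mul, Ideal.mul_top, ← Ideal.Quotient.eq]
  have h1 := AlgHom.congr_fun (key u hu m) f
  have h2 := AlgHom.congr_fun (key v hv m) f
  have h3 : evalMod (R := R) I (fun i => u (X i)) hu m = evalMod I (fun i => v (X i)) hv m := by
    congr 1
    funext i
    exact huv i
  rw [AlgHom.comp_apply] at h1 h2
  change Ideal.Quotient.mk (I ^ m) (u f) = Ideal.Quotient.mk (I ^ m) (v f)
  exact h1.trans ((AlgHom.congr_fun h3 f).trans h2.symm)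

end Uniqueness

end Groth.Agent.Lib.Helper58.PSComplete
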