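import Mathlib
import Groth.Prelude.Def_ArtFun5
import Groth.Agent.Lib.Helper21.PowerSeriesAdic2
import Groth.Agent.Lib.Helper44.AdicQuot
import Groth.Agent.Lib.Helper58.MvPSComplete
import Groth.Agent.Lib.Helper65.ArtBasic

/-!
# Schlessinger: the ambient power series ring (helper58)

`PS Λ r = Λ[[X_1..X_r]]` over a complete local Noetherian ring `Λ` with residue field `k`:
augmentation `resPS`, augmented algebra maps into objects of `Art Λ k` (determined by the images of
the variables, exist for arbitrary images in the maximal ideal, lift along surjections), quotient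
objects `artQ` / `cringQ`, and Chevalley's lemma.
-/

set_option autoImplicit false
universe u v

namespace Groth.Agent.Lib.Helper58.Schl

open MvPowerSeries Finsupp IsLocalRing ArtFun ArtFun.Art Groth.Agent.Lib.Helper21.PSAdic
open Groth.Agent.Lib.Helper65

section General

/-- a surjection from a local ring onto a field has kernel the maximal ideal -/
theorem ker_eq_maximalIdeal_of_surjective {A K : Type*} [CommRing A] [IsLocalRing A] [Field K]
    (f : A →+* K) (hf : Function.Surjective f) : RingHom.ker f = maximalIdeal A :=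
  IsLocalRing.eq_maximalIdeal (RingHom.ker_isMaximal_of_surjective f hf)

/-- image of the maximal ideal in a quotient by a proper ideal -/
theorem map_mk_maximalIdeal {A : Type*} [CommRing A] [IsLocalRing A] (J : Ideal A)
    [IsLocalRing (A ⧸ J)] :
    (maximalIdeal A).map (Ideal.Quotient.mk J) = maximalIdeal (A ⧸ J) := by
  apply le_antisymm
  · rw [Ideal.map_le_iff_le_comap]
    intro a ha
    rw [Ideal.mem_comap, IsLocalRing.mem_maximalIdeal, mem_nonunits_iff]
    intro hu
    have hJ : J ≤ maximalIdeal A := by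
      apply IsLocalRing.le_maximalIdeal
      intro h
      have : Subsingleton (A ⧸ J) := by
        rw [h]; exact Ideal.Quotient.subsingleton_iff.mpr rfl
      exact not_subsingleton (A ⧸ J) this
    obtain ⟨y, hy⟩ := hu.exists_right_inv
    obtain ⟨b, rfl⟩ := Ideal.Quotient.mk_surjective y
    rw [← map_mul, ← map_one (Ideal.Quotient.mk J), Ideal.Quotient.eq] at hy
    have h1 : a * b ∈ maximalIdeal A := Ideal.mul_mem_right _ _ ha
    have h2 : (1 : A) ∈ maximalIdeal A := by
      have := Ideal.sub_mem _ h1 (hJ hy)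
      simpa using this
    exact (Ideal.ne_top_iff_one _).mp (IsLocalRing.maximalIdeal.isMaximal A).ne_top h2
  · intro x hx
    obtain ⟨a, rfl⟩ := Ideal.Quotient.mk_surjective x
    have ha : a ∈ maximalIdeal A := by
      rw [IsLocalRing.mem_maximalIdeal] at hx ⊢
      exact fun hu => hx (hu.map (Ideal.Quotient.mk J))
    exact Ideal.mem_map_of_mem _ ha

end General

section Chevalley

variable {S : Type*} [CommRing S] [IsLocalRing S] [IsNoetherianRing S]

theorem isArtinianRing_quot_pow (M : ℕ) (hM : 1 ≤ M) :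
    IsArtinianRing (S ⧸ maximalIdeal S ^ M) := by
  have hle : maximalIdeal S ^ M ≤ maximalIdeal S := Ideal.pow_le_self (by omega)
  haveI : Nontrivial (S ⧸ maximalIdeal S ^ M) :=
    Ideal.Quotient.nontrivial_iff.2 (fun h =>
      (IsLocalRing.maximalIdeal.isMaximal S).ne_top (top_le_iff.1 (h ▸ hle)))
  haveI : IsLocalRing (S ⧸ maximalIdeal S ^ M) :=
    IsLocalRing.of_surjective' (Ideal.Quotient.mk _) Ideal.Quotient.mk_surjective
  rw [isArtinianRing_iff_isNilpotent_maximalIdeal]
  refine ⟨M, ?_⟩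
  rw [Ideal.zero_eq_bot, ← le_bot_iff]
  have h1 : maximalIdeal (S ⧸ maximalIdeal S ^ M) ≤
      (maximalIdeal S).map (Ideal.Quotient.mk (maximalIdeal S ^ M)) := by
    intro x hx
    obtain ⟨a, rfl⟩ := Ideal.Quotient.mk_surjective x
    have ha : a ∈ maximalIdeal S := by
      rw [IsLocalRing.mem_maximalIdeal] at hx ⊢
      exact fun hu => hx (hu.map (Ideal.Quotient.mk _))
    exact Ideal.mem_map_of_mem _ ha
  calc maximalIdeal (S ⧸ maximalIdeal S ^ M) ^ M
      ≤ ((maximalIdeal S).map (Ideal.Quotient.mk (maximalIdeal S ^ M))) ^ M :=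
        Ideal.pow_right_mono h1 _
    _ = (maximalIdeal S ^ M).map (Ideal.Quotient.mk (maximalIdeal S ^ M)) := by
        rw [← Ideal.map_pow]
    _ = ⊥ := Ideal.map_quotient_self _

theorem sup_pow_stabilizes (J : ℕ → Ideal S) (hanti : Antitone J) (M : ℕ) (hM : 1 ≤ M) :
    ∃ q₀, ∀ q, q₀ ≤ q → J q ⊔ maximalIdeal S ^ M = J q₀ ⊔ maximalIdeal S ^ M := by
  haveI := isArtinianRing_quot_pow (S := S) M hM
  let f : ℕ →o (Ideal (S ⧸ maximalIdeal S ^ M))ᵒᵈ :=
    ⟨fun q => OrderDual.toDual ((J q).map (Ideal.Quotient.mk (maximalIdeal S ^ M))),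
      fun a b hab => Ideal.map_mono (hanti hab)⟩
  obtain ⟨q₀, hq₀⟩ := IsArtinian.monotone_stabilizes f
  refine ⟨q₀, fun q hq => ?_⟩
  have h1 : (J q₀).map (Ideal.Quotient.mk (maximalIdeal S ^ M)) =
      (J q).map (Ideal.Quotient.mk (maximalIdeal S ^ M)) := hq₀ q hq
  have h2 := congrArg (Ideal.comap (Ideal.Quotient.mk (maximalIdeal S ^ M))) h1
  rw [Ideal.comap_map_of_surjective' _ Ideal.Quotient.mk_surjective,
    Ideal.comap_map_of_surjective' _ Ideal.Quotient.mk_surjective, Ideal.mk_ker] at h2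
  exact h2.symm

/-- Chevalley's lemma for a decreasing sequence of open ideals in a complete Noetherian local
ring. -/
theorem chevalley [IsAdicComplete (maximalIdeal S) S] (J : ℕ → Ideal S) (hanti : Antitone J)
    (hopen : ∀ q, ∃ N, maximalIdeal S ^ N ≤ J q) (N : ℕ) :
    ∃ q, J q ≤ (⨅ q, J q) ⊔ maximalIdeal S ^ N := by
  rcases Nat.eq_zero_or_pos N with hN0 | hNpos
  · subst hN0
    refine ⟨0, ?_⟩
    rw [pow_zero, Ideal.one_eq_top, sup_top_eq]
    exact le_top
  -- stabilization indices
  have hst : ∀ M : ℕ, ∃ q₀, 1 ≤ M → ∀ q, q₀ ≤ q →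
      J q ⊔ maximalIdeal S ^ M = J q₀ ⊔ maximalIdeal S ^ M := by
    intro M
    by_cases hM : 1 ≤ M
    · obtain ⟨q₀, h⟩ := sup_pow_stabilizes J hanti M hM
      exact ⟨q₀, fun _ => h⟩
    · exact ⟨0, fun h => absurd h hM⟩
  choose q0 hq0 using hst
  let Q : ℕ → ℕ := fun M => (Finset.range (M + 1)).sup q0 + M
  have hQmono : Monotone Q := by
    intro a b hab
    have : (Finset.range (a + 1)).sup q0 ≤ (Finset.range (b + 1)).sup q0 :=
      Finset.sup_mono (Finset.range_mono (by omega))
    change (Finset.range (a + 1)).sup q0 + a ≤ (Finset.range (b + 1)).sup q0 + b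
    omega
  have hQq0 : ∀ M, q0 M ≤ Q M := by
    intro M
    have : q0 M ≤ (Finset.range (M + 1)).sup q0 :=
      Finset.le_sup (f := q0) (Finset.mem_range.mpr (Nat.lt_succ_self M))
    change q0 M ≤ (Finset.range (M + 1)).sup q0 + M
    omega
  have hQM : ∀ M, M ≤ Q M := fun M => Nat.le_add_left _ _
  have hstar : ∀ M, 1 ≤ M → J (Q M) ≤ J (Q (M + 1)) ⊔ maximalIdeal S ^ M := by
    intro M hM
    calc J (Q M) ≤ J (Q M) ⊔ maximalIdeal S ^ M := le_sup_left
      _ = J (q0 M) ⊔ maximalIdeal S ^ M := hq0 M hM _ (hQq0 M)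
      _ = J (Q (M + 1)) ⊔ maximalIdeal S ^ M :=
        (hq0 M hM _ ((hQq0 M).trans (hQmono (Nat.le_succ M)))).symm
  refine ⟨Q N, fun x hx => ?_⟩
  -- the approximating sequence
  have hnext : ∀ (j : ℕ) (y : {y : S // y ∈ J (Q (N + j))}),
      ∃ y' : {y : S // y ∈ J (Q (N + (j + 1)))}, y.1 - y'.1 ∈ maximalIdeal S ^ (N + j) := by
    intro j y
    have := hstar (N + j) (by omega) y.2
    obtain ⟨a, ha, b, hb, hab⟩ := Submodule.mem_sup.mp this
    refine ⟨⟨a, ha⟩, ?_⟩
    have : y.1 - a = b := by rw [← hab]; ring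
    rw [this]; exact hb
  choose nxt hnxt using hnext
  let s : (j : ℕ) → {y : S // y ∈ J (Q (N + j))} :=
    fun j => Nat.rec (motive := fun j => {y : S // y ∈ J (Q (N + j))}) ⟨x, hx⟩
      (fun j y => nxt j y) j
  have hs0 : (s 0).1 = x := rfl
  have hs1 : ∀ j, (s j).1 - (s (j + 1)).1 ∈ maximalIdeal S ^ (N + j) := fun j => hnxt j (s j)
  have htel : ∀ i j, i ≤ j → (s i).1 - (s j).1 ∈ maximalIdeal S ^ (N + i) := by
    intro i j hij
    induction j, hij using Nat.le_induction with
    | base => simp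
    | succ j hij ih =>
      have h1 := hs1 j
      have h2 : (s j).1 - (s (j + 1)).1 ∈ maximalIdeal S ^ (N + i) :=
        Ideal.pow_le_pow_right (by omega) h1
      have := Ideal.add_mem _ ih h2
      have e : (s i).1 - (s j).1 + ((s j).1 - (s (j + 1)).1) = (s i).1 - (s (j + 1)).1 := by ring
      rwa [e] at this
  let f : ℕ → S := fun a => (s (a - N)).1
  have hf : ∀ {a b : ℕ}, a ≤ b →
      f a ≡ f b [SMOD (maximalIdeal S ^ a • ⊤ : Submodule S S)] := by
    intro a b hab
    rw [SModEq.sub_mem, smul_eq_mul, Ideal.mul_top]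
    exact Ideal.pow_le_pow_right (by omega) (htel (a - N) (b - N) (by omega))
  obtain ⟨L, hL⟩ := IsPrecomplete.prec (inferInstance : IsPrecomplete (maximalIdeal S) S) hf
  have hL' : ∀ a, f a - L ∈ maximalIdeal S ^ a := by
    intro a
    have := hL a
    rwa [SModEq.sub_mem, smul_eq_mul, Ideal.mul_top] at this
  have hxL : x - L ∈ maximalIdeal S ^ N := by
    have := hL' N
    have e : f N = x := by
      change (s (N - N)).1 = x
      rw [Nat.sub_self]
      exact hs0
    rwa [e] at this
  have hLJ : L ∈ ⨅ q, J q := by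
    rw [Ideal.mem_iInf]
    intro q
    obtain ⟨Nq, hNq⟩ := hopen q
    let a := Nq + N + q
    have h1 : f a ∈ J q := by
      have h2 : (s (a - N)).1 ∈ J (Q (N + (a - N))) := (s (a - N)).2
      refine hanti ?_ h2
      have := hQM (N + (a - N))
      omega
    have h3 : f a - L ∈ J q := hNq (Ideal.pow_le_pow_right (by omega) (hL' a))
    have := Ideal.sub_mem _ h1 h3
    simpa using this
  have : x = L + (x - L) := by ring
  rw [this]
  exact Ideal.add_mem _ (Ideal.mem_sup_left hLJ) (Ideal.mem_sup_right hxL)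

end Chevalley

section Ambient

variable (Λ : Type u) (k : Type u) [CommRing Λ] [Field k] [Algebra Λ k] (r : ℕ)

/-- the ambient power series ring -/
abbrev PS : Type u := MvPowerSeries (Fin r) Λ

/-- constant coefficient as an algebra map -/
noncomputable def ccAlg : PS Λ r →ₐ[Λ] Λ :=
  { (constantCoeff : PS Λ r →+* Λ) with
    commutes' := fun a => by
      change constantCoeff (algebraMap Λ (PS Λ r) a) = a
      rw [MvPowerSeries.algebraMap_apply, constantCoeff_C]
      rfl }

theorem ccAlg_apply (f : PS Λ r) : ccAlg Λ r f = constantCoeff f := rfl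

/-- the augmentation of the ambient ring -/
noncomputable def resPS : PS Λ r →ₐ[Λ] k := (Algebra.ofId Λ k).comp (ccAlg Λ r)

theorem resPS_apply (f : PS Λ r) : resPS Λ k r f = algebraMap Λ k (constantCoeff f) := rfl

theorem resPS_X (i : Fin r) : resPS Λ k r (X i) = 0 := by
  rw [resPS_apply, constantCoeff_X, map_zero]

variable {Λ k r}

theorem resPS_surjective (hk : Function.Surjective (algebraMap Λ k)) :
    Function.Surjective (resPS Λ k r) := by
  intro c
  obtain ⟨a, rfl⟩ := hk c
  exact ⟨C a, by rw [resPS_apply, constantCoeff_C]⟩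

section Maps

variable {A : Art Λ k}

/-- an augmented algebra map kills a power of the ideal of the variables -/
theorem algHom_kills_pow (u : PS Λ r →ₐ[Λ] A) (hu : A.res.comp u = resPS Λ k r) :
    ∃ K : ℕ, (maximalIdeal A ^ K = ⊥) ∧
      ∀ x ∈ RingHom.ker (constantCoeff : PS Λ r →+* Λ) ^ K, u x = 0 := by
  obtain ⟨K, hK⟩ := art_maximalIdeal_nilpotent A
  refine ⟨K, hK, fun x hx => ?_⟩
  have h1 : (RingHom.ker (constantCoeff : PS Λ r →+* Λ)).map (u : PS Λ r →+* A) ≤
      maximalIdeal A := by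
    rw [Ideal.map_le_iff_le_comap]
    intro y hy
    rw [Ideal.mem_comap, Art.mem_maximalIdeal_iff]
    have : A.res (u y) = resPS Λ k r y := AlgHom.congr_fun hu y
    change A.res (u y) = 0
    rw [this, resPS_apply, RingHom.mem_ker.mp hy, map_zero]
  have h2 := Ideal.mem_map_of_mem (u : PS Λ r →+* A) hx
  rw [Ideal.map_pow] at h2
  have h3 := Ideal.pow_right_mono h1 K h2
  rw [hK] at h3
  exact h3

theorem algHom_X_mem (u : PS Λ r →ₐ[Λ] A) (hu : A.res.comp u = resPS Λ k r) (i : Fin r) :
    u (X i) ∈ maximalIdeal A := by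
  rw [Art.mem_maximalIdeal_iff]
  have : A.res (u (X i)) = resPS Λ k r (X i) := AlgHom.congr_fun hu (X i)
  rw [this, resPS_X]

/-- augmented algebra maps out of the ambient ring are determined by the images of the variables -/
theorem algHom_ext_X (u v : PS Λ r →ₐ[Λ] A) (hu : A.res.comp u = resPS Λ k r)
    (hv : A.res.comp v = resPS Λ k r) (h : ∀ i, u (X i) = v (X i)) : u = v := by
  obtain ⟨K, hK, hKu⟩ := algHom_kills_pow u hu
  obtain ⟨K', hK', hKv⟩ := algHom_kills_pow v hv
  have hc : ∀ i, (u (X i)) ^ K = 0 := by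
    intro i
    have := Ideal.pow_mem_pow (algHom_X_mem u hu i) K
    rwa [hK] at this
  rw [eq_evalNilp u K hKu (fun i => u (X i)) K hc (fun _ => rfl),
    eq_evalNilp v K' hKv (fun i => u (X i)) K hc (fun i => (h i).symm)]

/-- existence of an augmented algebra map with prescribed values in the maximal ideal -/
theorem exists_algHom_X (c : Fin r → A) (hc : ∀ i, c i ∈ maximalIdeal A) :
    ∃ u : PS Λ r →ₐ[Λ] A, A.res.comp u = resPS Λ k r ∧ ∀ i, u (X i) = c i := by
  obtain ⟨K, hK⟩ := art_maximalIdeal_nilpotent A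
  have hcK : ∀ i, c i ^ K = 0 := by
    intro i
    have := Ideal.pow_mem_pow (hc i) K
    rwa [hK] at this
  refine ⟨evalNilp c K hcK, ?_, fun i => evalNilp_X c K hcK i⟩
  -- both sides are algebra maps `PS → k`; compare on the dense polynomial part
  apply AlgHom.ext
  intro f
  change A.res (evalNilp c K hcK f) = resPS Λ k r f
  rw [evalNilp_apply]
  -- A.res ∘ aeval c = aeval (A.res ∘ c) = aeval 0
  have h1 : A.res (MvPolynomial.aeval c (truncTotal (r * K + 1) f)) =
      MvPolynomial.aeval (fun i => A.res (c i)) (truncTotal (r * K + 1) f) := by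
    rw [← AlgHom.comp_apply, MvPolynomial.comp_aeval]
  have h2 : (fun i => A.res (c i)) = fun _ => (0 : k) := by
    funext i
    exact (Art.mem_maximalIdeal_iff A (c i)).mp (hc i)
  rw [h1, h2]
  have h3 : MvPolynomial.aeval (fun _ : Fin r => (0 : k)) (truncTotal (r * K + 1) f) =
      algebraMap Λ k (MvPolynomial.constantCoeff (truncTotal (r * K + 1) f)) := by
    have := MvPolynomial.aeval_zero (R := Λ) (S₁ := k) (σ := Fin r) (truncTotal (r * K + 1) f)
    exact this
  rw [h3, resPS_apply, MvPolynomial.constantCoeff_eq, coeff_truncTotal _ (by simp),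
    coeff_zero_eq_constantCoeff_apply]

/-- the lifting property of the ambient ring along surjections of `Art` -/
theorem exists_lift_PS {A B : Art Λ k} (μ : B ⟶ A) (hμ : Function.Surjective μ)
    (φ : PS Λ r →ₐ[Λ] A) (hφ : A.res.comp φ = resPS Λ k r) :
    ∃ ψ : PS Λ r →ₐ[Λ] B, μ.toAlgHom.comp ψ = φ ∧ B.res.comp ψ = resPS Λ k r := by
  have hex : ∀ i, ∃ b : B, μ b = φ (X i) := fun i => hμ _
  choose b hb using hex
  have hbm : ∀ i, b i ∈ maximalIdeal B := by
    intro i
    rw [Art.mem_maximalIdeal_iff, ← Art.res_app μ, hb i]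
    exact (Art.mem_maximalIdeal_iff A _).mp (algHom_X_mem φ hφ i)
  obtain ⟨ψ, hψ, hψX⟩ := exists_algHom_X (r := r) b hbm
  refine ⟨ψ, ?_, hψ⟩
  apply algHom_ext_X _ _ _ hφ
  · intro i
    change μ.toAlgHom (ψ (X i)) = φ (X i)
    rw [hψX i]
    exact hb i
  · rw [← AlgHom.comp_assoc, μ.res_comp, hψ]

end Maps

variable [IsLocalRing Λ]

theorem ker_algebraMap (hk : Function.Surjective (algebraMap Λ k)) :
    RingHom.ker (algebraMap Λ k) = maximalIdeal Λ :=
  ker_eq_maximalIdeal_of_surjective _ hk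

theorem ker_resPS (hk : Function.Surjective (algebraMap Λ k)) :
    RingHom.ker (resPS Λ k r : PS Λ r →+* k) = maximalIdeal (PS Λ r) := by
  ext f
  rw [RingHom.mem_ker, MvPSComplete.mem_maximalIdeal_iff, ← ker_algebraMap hk, RingHom.mem_ker]
  rfl

theorem mem_maximalIdeal_iff_resPS (hk : Function.Surjective (algebraMap Λ k)) (f : PS Λ r) :
    f ∈ maximalIdeal (PS Λ r) ↔ resPS Λ k r f = 0 := by
  rw [← ker_resPS hk, RingHom.mem_ker]; rfl

section Quot

variable (hk : Function.Surjective (algebraMap Λ k)) (J : Ideal (PS Λ r))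
  (hJ : J ≤ maximalIdeal (PS Λ r))

include hJ in
theorem quot_nontrivial : Nontrivial (PS Λ r ⧸ J) :=
  Ideal.Quotient.nontrivial_iff.2 (fun h =>
    (IsLocalRing.maximalIdeal.isMaximal (PS Λ r)).ne_top (top_le_iff.1 (h ▸ hJ)))

include hJ in
theorem quot_isLocalRing : IsLocalRing (PS Λ r ⧸ J) :=
  haveI := quot_nontrivial J hJ
  IsLocalRing.of_surjective' (Ideal.Quotient.mk J) Ideal.Quotient.mk_surjective

/-- the augmentation on a quotient of the ambient ring -/
noncomputable def quotRes : (PS Λ r ⧸ J) →ₐ[Λ] k :=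
  Ideal.Quotient.liftₐ J (resPS Λ k r) (fun a ha => (mem_maximalIdeal_iff_resPS hk a).mp (hJ ha))

theorem quotRes_mk (a : PS Λ r) : quotRes hk J hJ (Ideal.Quotient.mk J a) = resPS Λ k r a := rfl

theorem quotRes_surjective : Function.Surjective (quotRes hk J hJ) := by
  intro c
  obtain ⟨a, ha⟩ := resPS_surjective (r := r) hk c
  exact ⟨Ideal.Quotient.mk J a, ha⟩

variable [IsNoetherianRing Λ]

include hJ in
theorem quot_isArtinianRing (hpow : ∃ N, maximalIdeal (PS Λ r) ^ N ≤ J) :
    IsArtinianRing (PS Λ r ⧸ J) := by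
  haveI := quot_isLocalRing J hJ
  rw [isArtinianRing_iff_isNilpotent_maximalIdeal]
  obtain ⟨N, hN⟩ := hpow
  refine ⟨N, ?_⟩
  rw [Ideal.zero_eq_bot, ← le_bot_iff, ← map_mk_maximalIdeal J, ← Ideal.map_pow]
  calc (maximalIdeal (PS Λ r) ^ N).map (Ideal.Quotient.mk J) ≤ J.map (Ideal.Quotient.mk J) :=
        Ideal.map_mono hN
    _ = ⊥ := Ideal.map_quotient_self J

/-- quotient of the ambient ring by an open ideal, as an object of `Art` -/
noncomputable def artQ (hpow : ∃ N, maximalIdeal (PS Λ r) ^ N ≤ J) : Art Λ k :=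
  { carrier := PS Λ r ⧸ J
    isLocalRing := quot_isLocalRing J hJ
    isArtinianRing := quot_isArtinianRing J hJ hpow
    res := quotRes hk J hJ
    res_surjective := quotRes_surjective hk J hJ }

/-- quotient of the ambient ring by a proper ideal, as a coefficient ring -/
noncomputable def cringQ [IsAdicComplete (maximalIdeal Λ) Λ] : CRing Λ k :=
  { carrier := PS Λ r ⧸ J
    isLocalRing := quot_isLocalRing J hJ
    res := quotRes hk J hJ
    res_surjective := quotRes_surjective hk J hJ
    isAdicComplete := by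
      haveI := quot_isLocalRing J hJ
      haveI : IsAdicComplete (maximalIdeal (PS Λ r)) (PS Λ r) := MvPSComplete.isAdicComplete
      have := Groth.Agent.Lib.Helper44.isAdicComplete_quotient_ring (maximalIdeal (PS Λ r)) J
      rw [← map_mk_maximalIdeal J]
      exact this }

end Quot

end Ambient

end Groth.Agent.Lib.Helper58.Schl
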