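import Mathlib
import Groth.Prelude.Def_ArtFun5
import Groth.Agent.Lib.Helper58.PSComplete
import Groth.Agent.Lib.Helper58.MvPSComplete
import Groth.Agent.Lib.Helper58.SchlAmbient
import Groth.Agent.Lib.Helper65.CRingBasic

set_option autoImplicit false
universe u v
open CategoryTheory

namespace Groth.Agent.Lib.Helper58.PSRel

open ArtFun IsLocalRing MvPowerSeries Groth.Agent.Lib.Helper58.Schl

section Quot

variable {Λ : Type u} {k : Type u} [CommRing Λ] [Field k] [Algebra Λ k]
  (R : CRing Λ k) (K : Ideal R.carrier) (hK : K ≤ maximalIdeal R.carrier)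

include hK in
theorem cquot_nontrivial : Nontrivial (R.carrier ⧸ K) :=
  Ideal.Quotient.nontrivial_iff.2 (fun h =>
    (IsLocalRing.maximalIdeal.isMaximal R.carrier).ne_top (top_le_iff.1 (h ▸ hK)))

include hK in
theorem cquot_isLocalRing : IsLocalRing (R.carrier ⧸ K) :=
  haveI := cquot_nontrivial R K hK
  IsLocalRing.of_surjective' (Ideal.Quotient.mk K) Ideal.Quotient.mk_surjective

include hK in
theorem cquot_isArtinianRing (hpow : ∃ N, maximalIdeal R.carrier ^ N ≤ K) :
    IsArtinianRing (R.carrier ⧸ K) := by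
  haveI := cquot_isLocalRing R K hK
  rw [isArtinianRing_iff_isNilpotent_maximalIdeal]
  obtain ⟨N, hN⟩ := hpow
  refine ⟨N, ?_⟩
  rw [Ideal.zero_eq_bot, ← le_bot_iff, ← map_mk_maximalIdeal K, ← Ideal.map_pow]
  calc (maximalIdeal R.carrier ^ N).map (Ideal.Quotient.mk K) ≤ K.map (Ideal.Quotient.mk K) :=
        Ideal.map_mono hN
    _ = ⊥ := Ideal.map_quotient_self K

/-- the quotient of a coefficient ring by an open ideal, as an object of `Art Λ k` -/
noncomputable def cquot (hpow : ∃ N, maximalIdeal R.carrier ^ N ≤ K) : Art Λ k :=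
  { carrier := R.carrier ⧸ K
    isLocalRing := cquot_isLocalRing R K hK
    isArtinianRing := cquot_isArtinianRing R K hK hpow
    res := Ideal.Quotient.liftₐ K R.res (fun a ha => (CRing.mem_maximalIdeal_iff R a).1 (hK ha))
    res_surjective := fun c => by
      obtain ⟨a, ha⟩ := R.res_surjective c
      exact ⟨Ideal.Quotient.mk K a, ha⟩ }

/-- the quotient map as an element of `h_R` -/
noncomputable def cquotMk (hpow : ∃ N, maximalIdeal R.carrier ^ N ≤ K) :
    HomSet R.carrier R.res (cquot R K hK hpow) :=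
  ⟨Ideal.Quotient.mkₐ Λ K, Ideal.Quotient.liftₐ_comp _ _ _⟩

theorem cquotMk_apply (hpow : ∃ N, maximalIdeal R.carrier ^ N ≤ K) (a : R.carrier) :
    (cquotMk R K hK hpow).1 a = Ideal.Quotient.mk K a := rfl

/-- the transition map between quotients -/
noncomputable def cquotFactor {K K' : Ideal R.carrier} (hK : K ≤ maximalIdeal R.carrier)
    (hK' : K' ≤ maximalIdeal R.carrier) (hpow : ∃ N, maximalIdeal R.carrier ^ N ≤ K)
    (hpow' : ∃ N, maximalIdeal R.carrier ^ N ≤ K') (hle : K' ≤ K) :
    cquot R K' hK' hpow' ⟶ cquot R K hK hpow :=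
  ⟨Ideal.Quotient.factorₐ Λ hle, by
    apply AlgHom.ext
    intro x
    obtain ⟨a, rfl⟩ := Ideal.Quotient.mk_surjective x
    rfl⟩

theorem cquotFactor_mk {K K' : Ideal R.carrier} (hK : K ≤ maximalIdeal R.carrier)
    (hK' : K' ≤ maximalIdeal R.carrier) (hpow : ∃ N, maximalIdeal R.carrier ^ N ≤ K)
    (hpow' : ∃ N, maximalIdeal R.carrier ^ N ≤ K') (hle : K' ≤ K) (a : R.carrier) :
    cquotFactor R hK hK' hpow hpow' hle (Ideal.Quotient.mk K' a) = Ideal.Quotient.mk K a := rfl

theorem cquotFactor_surjective {K K' : Ideal R.carrier} (hK : K ≤ maximalIdeal R.carrier)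
    (hK' : K' ≤ maximalIdeal R.carrier) (hpow : ∃ N, maximalIdeal R.carrier ^ N ≤ K)
    (hpow' : ∃ N, maximalIdeal R.carrier ^ N ≤ K') (hle : K' ≤ K) :
    Function.Surjective (cquotFactor R hK hK' hpow hpow' hle) := by
  intro x
  obtain ⟨a, rfl⟩ := Ideal.Quotient.mk_surjective x
  exact ⟨Ideal.Quotient.mk K' a, rfl⟩

end Quot

section PSR

variable {Λ : Type u} {k : Type u} [CommRing Λ] [Field k] [Algebra Λ k]
  (R : CRing Λ k) (n : ℕ)

/-- the augmentation of `R[[X]]` -/
noncomputable def psRes : MvPowerSeries (Fin n) R.carrier →ₐ[Λ] k :=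
  R.res.comp
    { toRingHom := (constantCoeff : MvPowerSeries (Fin n) R.carrier →+* R.carrier)
      commutes' := fun r => by
        change constantCoeff (algebraMap Λ (MvPowerSeries (Fin n) R.carrier) r) = algebraMap Λ R.carrier r
        rw [MvPowerSeries.algebraMap_apply, constantCoeff_C] }

theorem psRes_apply (f : MvPowerSeries (Fin n) R.carrier) :
    psRes R n f = R.res (constantCoeff f) := rfl

/-- the power series ring over a coefficient ring, as a coefficient ring -/
noncomputable abbrev psR : CRing Λ k :=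
  { carrier := MvPowerSeries (Fin n) R.carrier
    res := psRes R n
    res_surjective := fun c => by
      obtain ⟨a, ha⟩ := R.res_surjective c
      exact ⟨C a, by rw [psRes_apply, constantCoeff_C]; exact ha⟩
    isAdicComplete :=
      haveI := R.isAdicComplete
      Groth.Agent.Lib.Helper58.MvPSComplete.isAdicComplete }

end PSR

section Algebra

/-- relative minimal generators of the maximal ideal modulo an ideal `I₀` -/
theorem exists_gens {S : Type*} [CommRing S] [IsLocalRing S] [IsNoetherianRing S] (I₀ : Ideal S)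
    (hI₀ : I₀ ≤ maximalIdeal S) :
    ∃ (d : ℕ) (x : Fin d → S), (∀ i, x i ∈ maximalIdeal S) ∧
      maximalIdeal S = Ideal.span (Set.range x) ⊔ I₀ ∧
      ∀ a : Fin d → S, ∑ i, a i * x i ∈ I₀ ⊔ maximalIdeal S ^ 2 → ∀ i, a i ∈ maximalIdeal S := by
  haveI : Nontrivial (S ⧸ I₀) := Ideal.Quotient.nontrivial_iff.2 (fun h =>
    (IsLocalRing.maximalIdeal.isMaximal S).ne_top (top_le_iff.1 (h ▸ hI₀)))
  haveI : IsLocalRing (S ⧸ I₀) :=
    IsLocalRing.of_surjective' (Ideal.Quotient.mk I₀) Ideal.Quotient.mk_surjective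
  set mk := Ideal.Quotient.mk I₀ with hmk
  have hmem : ∀ a : S, a ∈ maximalIdeal S ↔ mk a ∈ maximalIdeal (S ⧸ I₀) := by
    intro a
    constructor
    · intro ha
      rw [IsLocalRing.mem_maximalIdeal, mem_nonunits_iff]
      intro hu
      obtain ⟨y, hy⟩ := hu.exists_right_inv
      obtain ⟨b, rfl⟩ := Ideal.Quotient.mk_surjective y
      rw [← map_mul, ← map_one mk, hmk, Ideal.Quotient.eq] at hy
      have h1 : a * b ∈ maximalIdeal S := Ideal.mul_mem_right _ _ ha
      have h2 : (1 : S) ∈ maximalIdeal S := by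
        have := Ideal.sub_mem _ h1 (hI₀ hy)
        simpa using this
      exact (Ideal.ne_top_iff_one _).mp (IsLocalRing.maximalIdeal.isMaximal S).ne_top h2
    · intro ha
      rw [IsLocalRing.mem_maximalIdeal] at ha ⊢
      exact fun hu => ha (hu.map mk)
  let d := Module.finrank (ResidueField (S ⧸ I₀)) (CotangentSpace (S ⧸ I₀))
  let b : Module.Basis (Fin d) (ResidueField (S ⧸ I₀)) (CotangentSpace (S ⧸ I₀)) :=
    Module.finBasis _ _
  choose y hy using fun i => Ideal.toCotangent_surjective (maximalIdeal (S ⧸ I₀)) (b i)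
  choose x hx using fun i => Ideal.Quotient.mk_surjective ((y i : S ⧸ I₀))
  have hxm : ∀ i, x i ∈ maximalIdeal S := fun i => by
    rw [hmem, hmk, hx]; exact (y i).2
  have hfun : (fun i : Fin d => (maximalIdeal (S ⧸ I₀)).toCotangent (y i)) = b := funext hy
  -- the `y i` generate the maximal ideal of the quotient
  have hspan : Ideal.span (Set.range (fun i => (y i : S ⧸ I₀))) = maximalIdeal (S ⧸ I₀) := by
    have h0 : Submodule.span (ResidueField (S ⧸ I₀))
        (Set.range (fun i : Fin d => (maximalIdeal (S ⧸ I₀)).toCotangent (y i))) = ⊤ := by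
      rw [hfun]; exact b.span_eq
    have h1 : Set.range (fun i : Fin d => (maximalIdeal (S ⧸ I₀)).toCotangent (y i)) =
        (maximalIdeal (S ⧸ I₀)).toCotangent '' (Set.range y) := by
      rw [← Set.range_comp]; rfl
    rw [h1, CotangentSpace.span_image_eq_top_iff] at h0
    have h2 := congrArg (Submodule.map (Submodule.subtype (maximalIdeal (S ⧸ I₀)))) h0
    rw [Submodule.map_span, Submodule.map_top, Submodule.range_subtype, ← Set.range_comp] at h2
    exact h2
  refine ⟨d, x, hxm, ?_, ?_⟩
  · have h3 : maximalIdeal S = (maximalIdeal (S ⧸ I₀)).comap mk := by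
      ext a; rw [Ideal.mem_comap]; exact hmem a
    have h4 : (fun i => (y i : S ⧸ I₀)) = mk ∘ x := funext fun i => (hx i).symm
    rw [h3, ← hspan, h4, Set.range_comp, ← Ideal.map_span,
      Ideal.comap_map_of_surjective' mk Ideal.Quotient.mk_surjective, hmk, Ideal.mk_ker]
  · intro a ha
    have h5 : ∑ i, mk (a i) * (y i : S ⧸ I₀) ∈ maximalIdeal (S ⧸ I₀) ^ 2 := by
      have h6 : mk (∑ i, a i * x i) ∈ (I₀ ⊔ maximalIdeal S ^ 2).map mk :=
        Ideal.mem_map_of_mem _ ha
      rw [Ideal.map_sup, hmk, Ideal.map_quotient_self, bot_sup_eq, Ideal.map_pow] at h6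
      have h7 : (maximalIdeal S).map (Ideal.Quotient.mk I₀) ≤ maximalIdeal (S ⧸ I₀) := by
        rw [Ideal.map_le_iff_le_comap]
        intro s hs
        exact (hmem s).1 hs
      have h8 := Ideal.pow_right_mono h7 2 h6
      rw [map_sum] at h8
      convert h8 using 1
      refine Finset.sum_congr rfl fun i _ => ?_
      rw [map_mul, ← hx i]
    have e5 : ∑ i, (residue (S ⧸ I₀) (mk (a i))) • b i = 0 := by
      have : ∀ i, (residue (S ⧸ I₀) (mk (a i))) • b i =
          (maximalIdeal (S ⧸ I₀)).toCotangent (mk (a i) • y i) := by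
        intro i
        rw [map_smul, hy i]
        rfl
      simp_rw [this]
      rw [← map_sum, Ideal.toCotangent_eq_zero]
      convert h5 using 1
      simp [Algebra.smul_def]
    have e6 := (Fintype.linearIndependent_iff.1 b.linearIndependent) _ e5
    intro i
    rw [hmem]
    exact (IsLocalRing.residue_eq_zero_iff _).1 (e6 i)

/-- two ring maps which agree modulo `N`, send `m` into `M` with `M * N = ⊥`, and agree on a set
`S₀` which they send into `M`, agree on `span S₀ ⊔ m ^ 2` -/
theorem eq_of_agree {P B : Type*} [CommRing P] [CommRing B] (u w : P →+* B) (N M : Ideal B)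
    (hMN : M * N = ⊥) (m : Ideal P)
    (hdiff : ∀ f, u f - w f ∈ N)
    (hu_m : ∀ f ∈ m, u f ∈ M) (hw_m : ∀ f ∈ m, w f ∈ M)
    (S₀ : Set P) (hS₀ : ∀ g ∈ S₀, u g = w g ∧ u g ∈ M) :
    ∀ f ∈ Ideal.span S₀ ⊔ m ^ 2, u f = w f := by
  have hz : ∀ a ∈ M, ∀ b ∈ N, a * b = 0 := fun a ha b hb => by
    have := Ideal.mul_mem_mul ha hb
    rwa [hMN] at this
  have h1 : ∀ f ∈ Ideal.span S₀, u f = w f ∧ u f ∈ M := by
    intro f hf
    induction hf using Submodule.span_induction with
    | mem g hg => exact hS₀ g hg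
    | zero => exact ⟨by rw [map_zero, map_zero], by rw [map_zero]; exact zero_mem _⟩
    | add x y _ _ hx hy =>
      exact ⟨by rw [map_add, map_add, hx.1, hy.1], by rw [map_add]; exact M.add_mem hx.2 hy.2⟩
    | smul h x _ hx =>
      refine ⟨?_, ?_⟩
      · rw [smul_eq_mul, map_mul, map_mul, ← hx.1, ← sub_eq_zero, ← sub_mul, mul_comm]
        exact hz _ hx.2 _ (hdiff h)
      · rw [smul_eq_mul, map_mul]
        exact M.mul_mem_left _ hx.2
  have h2 : ∀ f ∈ m ^ 2, u f = w f := by
    intro f hf
    rw [pow_two] at hf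
    refine Submodule.mul_induction_on hf ?_ ?_
    · intro g hg h hh
      rw [map_mul, map_mul, ← sub_eq_zero]
      have e : u g * u h - w g * w h = u g * (u h - w h) + w h * (u g - w g) := by ring
      rw [e, hz _ (hu_m g hg) _ (hdiff h), hz _ (hw_m h hh) _ (hdiff g), add_zero]
    · intro x y hx hy
      rw [map_add, map_add, hx, hy]
  intro f hf
  obtain ⟨f₁, hf₁, f₂, hf₂, rfl⟩ := Submodule.mem_sup.1 hf
  rw [map_add, map_add, (h1 f₁ hf₁).1, h2 f₂ hf₂]

/-- an ideal of a Noetherian local ring contained in `m * J + m ^ n` for all `n ≥ 1` is zero -/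
theorem eq_bot_of_forall_le {P : Type*} [CommRing P] [IsLocalRing P] [IsNoetherianRing P]
    (J : Ideal P) (h : ∀ n, 1 ≤ n → J ≤ maximalIdeal P * J ⊔ maximalIdeal P ^ n) : J = ⊥ := by
  have hJ : J ≤ maximalIdeal P * J := by
    intro f hf
    have h1 : (Submodule.mkQ (maximalIdeal P * J)) f ∈
        (⨅ i : ℕ, maximalIdeal P ^ i • (⊤ : Submodule P (P ⧸ (maximalIdeal P * J)))) := by
      rw [Submodule.mem_iInf]
      intro n
      rcases Nat.eq_zero_or_pos n with rfl | hn
      · rw [pow_zero, Ideal.one_eq_top, Submodule.top_smul]; trivial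
      · obtain ⟨a, ha, b, hb, rfl⟩ := Submodule.mem_sup.1 (h n hn hf)
        rw [map_add]
        have e1 : (Submodule.mkQ (maximalIdeal P * J)) a = 0 := by
          rw [Submodule.mkQ_apply, Submodule.Quotient.mk_eq_zero]; exact ha
        rw [e1, zero_add]
        have e2 : b = b • (1 : P) := by rw [smul_eq_mul, mul_one]
        rw [e2, map_smul]
        exact Submodule.smul_mem_smul hb Submodule.mem_top
    rw [Ideal.iInf_pow_smul_eq_bot_of_isLocalRing _
      (IsLocalRing.maximalIdeal.isMaximal P).ne_top] at h1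
    rw [Submodule.mem_bot, Submodule.mkQ_apply, Submodule.Quotient.mk_eq_zero] at h1
    exact h1
  exact Submodule.eq_bot_of_le_smul_of_le_jacobson_bot (maximalIdeal P) J
    (IsNoetherian.noetherian J) hJ (IsLocalRing.maximalIdeal_le_jacobson _)

end Algebra

section Forward

variable {Λ : Type u} {k : Type u} [CommRing Λ] [Field k] [Algebra Λ k]
  (R S : CRing Λ k) [Algebra R.carrier S.carrier] [IsScalarTower Λ R.carrier S.carrier]
  (hRS : S.res.comp (IsScalarTower.toAlgHom Λ R.carrier S.carrier) = R.res)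

/-- the constants, as a `Λ`-algebra map -/
noncomputable def CΛ (n : ℕ) : R.carrier →ₐ[Λ] MvPowerSeries (Fin n) R.carrier :=
  { toRingHom := (C : R.carrier →+* MvPowerSeries (Fin n) R.carrier)
    commutes' := fun r => (MvPowerSeries.algebraMap_apply (σ := Fin n) (R := Λ) (A := R.carrier)).symm }

theorem X_mem (n : ℕ) (i : Fin n) :
    (X i : MvPowerSeries (Fin n) R.carrier) ∈ maximalIdeal (psR R n).carrier := by
  change (X i : MvPowerSeries (Fin n) R.carrier) ∈ maximalIdeal (MvPowerSeries (Fin n) R.carrier)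
  rw [Groth.Agent.Lib.Helper58.MvPSComplete.mem_maximalIdeal_iff, constantCoeff_X]
  exact zero_mem _

theorem C_mem (n : ℕ) (r : R.carrier) (hr : r ∈ maximalIdeal R.carrier) :
    (C r : MvPowerSeries (Fin n) R.carrier) ∈ maximalIdeal (psR R n).carrier := by
  change (C r : MvPowerSeries (Fin n) R.carrier) ∈ maximalIdeal (MvPowerSeries (Fin n) R.carrier)
  rw [Groth.Agent.Lib.Helper58.MvPSComplete.mem_maximalIdeal_iff, constantCoeff_C]
  exact hr

theorem mem_of_cc_eq_zero (n : ℕ) (f : MvPowerSeries (Fin n) R.carrier) (hf : constantCoeff f = 0) :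
    f ∈ maximalIdeal (psR R n).carrier := by
  change f ∈ maximalIdeal (MvPowerSeries (Fin n) R.carrier)
  rw [Groth.Agent.Lib.Helper58.MvPSComplete.mem_maximalIdeal_iff, hf]
  exact zero_mem _

theorem psR_mem_maximalIdeal_iff (n : ℕ) (f : MvPowerSeries (Fin n) R.carrier) :
    f ∈ maximalIdeal (psR R n).carrier ↔ R.res (constantCoeff f) = 0 :=
  CRing.mem_maximalIdeal_iff (psR R n) f

end Forward

section Main

open Groth.Agent.Lib.Helper58.PSComplete Groth.Agent.Lib.Helper65 Groth.Agent.Lib.Helper21.PSAdic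

variable {Λ : Type u} {k : Type u} [CommRing Λ] [Field k] [Algebra Λ k]
  (R S : CRing Λ k) [Algebra R.carrier S.carrier] [IsScalarTower Λ R.carrier S.carrier]
  (hRS : S.res.comp (IsScalarTower.toAlgHom Λ R.carrier S.carrier) = R.res)

include hRS in
/-- if `h_S → h_R` is smooth then `S` is a power series ring over `R` -/
theorem exists_algEquiv_of_isVersal
    (hv : IsVersal ((Family.self R.carrier R.res).along
      (IsScalarTower.toAlgHom Λ R.carrier S.carrier) hRS)) :
    ∃ n : ℕ, Nonempty (S.carrier ≃ₐ[R.carrier] MvPowerSeries (Fin n) R.carrier) := by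
  have hres : ∀ r : R.carrier, S.res (algebraMap R.carrier S.carrier r) = R.res r := fun r =>
    congrArg (fun t : R.carrier →ₐ[Λ] k => t r) hRS
  set I₀ : Ideal S.carrier := (maximalIdeal R.carrier).map (algebraMap R.carrier S.carrier)
    with hI₀
  have hI₀le : I₀ ≤ maximalIdeal S.carrier := by
    rw [Ideal.map_le_iff_le_comap]
    intro r hr
    rw [Ideal.mem_comap, CRing.mem_maximalIdeal_iff, hres]
    exact (CRing.mem_maximalIdeal_iff R r).1 hr
  obtain ⟨d, x, hxm, hspan, hli⟩ := exists_gens I₀ hI₀le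
  haveI := S.isAdicComplete
  let P : CRing Λ k := psR R d
  let π : MvPowerSeries (Fin d) R.carrier →ₐ[R.carrier] S.carrier :=
    evalComplete (maximalIdeal S.carrier) x hxm
  have hπX : ∀ i, π (X i) = x i := evalComplete_X _ x hxm
  have hπC : ∀ r, π (C r) = algebraMap R.carrier S.carrier r := by
    intro r
    have : (C r : MvPowerSeries (Fin d) R.carrier) = algebraMap R.carrier _ r := rfl
    rw [this, AlgHom.commutes]
  have hπm : ∀ f, constantCoeff f = 0 → π f ∈ maximalIdeal S.carrier :=
    map_mem_of_constantCoeff_eq_zero (maximalIdeal S.carrier) π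
      (by intro i; rw [hπX]; exact hxm i)
  let π' : P.carrier →ₐ[Λ] S.carrier :=
    { toRingHom := π.toRingHom
      commutes' := fun r => by
        change π (algebraMap Λ (MvPowerSeries (Fin d) R.carrier) r) = algebraMap Λ S.carrier r
        rw [MvPowerSeries.algebraMap_apply, hπC, ← IsScalarTower.algebraMap_apply] }
  have hπ'apply : ∀ f, π' f = π f := fun _ => rfl
  have hπres : S.res.comp π' = P.res := by
    apply AlgHom.ext
    intro f
    have h1 : π f = π (C (constantCoeff f)) + π (f - C (constantCoeff f)) := by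
      rw [← map_add]; congr 1; ring
    change S.res (π f) = R.res (constantCoeff f)
    rw [h1, map_add, hπC, hres]
    have h2 : π (f - C (constantCoeff f)) ∈ maximalIdeal S.carrier := hπm _ (by simp)
    rw [(CRing.mem_maximalIdeal_iff S _).1 h2, add_zero]
  have hresπ : ∀ f, S.res (π f) = R.res (constantCoeff f) := fun f =>
    congrArg (fun t : P.carrier →ₐ[Λ] k => t f) hπres
  have hsurj : Function.Surjective π := by
    apply cring_surjective_of_cotangent P S π' hπres
    apply le_antisymm
    · exact sup_le (cring_map_maximalIdeal_le P S π' hπres) (Ideal.pow_le_self two_ne_zero)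
    · refine le_trans ?_ le_sup_left
      rw [hspan]
      apply sup_le
      · rw [Ideal.span_le]
        rintro _ ⟨i, rfl⟩
        rw [← hπX]
        exact Ideal.mem_map_of_mem _ (X_mem R d i)
      · rw [hI₀, Ideal.map_le_iff_le_comap]
        intro r hr
        rw [Ideal.mem_comap, ← hπC]
        exact Ideal.mem_map_of_mem _ (C_mem R d r hr)
  set J : Ideal P.carrier := RingHom.ker π' with hJ
  have hJmem : ∀ f, f ∈ J ↔ π f = 0 := fun f => RingHom.mem_ker
  -- the kernel lies in `m_R P + m_P²`
  have hJle : J ≤ Ideal.span ((C : R.carrier →+* MvPowerSeries (Fin d) R.carrier) ''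
      (maximalIdeal R.carrier : Set R.carrier)) ⊔ maximalIdeal P.carrier ^ 2 := by
    intro f hf
    rw [hJmem] at hf
    set c := constantCoeff f with hc
    set g : Fin d → MvPowerSeries (Fin d) R.carrier := fun i => part i f with hg
    set a : Fin d → R.carrier := fun i => constantCoeff (g i) with ha
    set h : Fin d → MvPowerSeries (Fin d) R.carrier := fun i => g i - C (a i) with hh
    have hh0 : ∀ i, constantCoeff (h i) = 0 := fun i => by simp [hh, ha]
    have e1 : f = C c + ∑ i, X i * g i := eq_C_add_sum f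
    have e2 : f = C c + ∑ i, X i * C (a i) + ∑ i, X i * h i := by
      rw [add_assoc, ← Finset.sum_add_distrib]
      conv_lhs => rw [e1]
      congr 1
      refine Finset.sum_congr rfl fun i _ => ?_
      simp only [hh]; ring
    have hcm : c ∈ maximalIdeal R.carrier := by
      rw [CRing.mem_maximalIdeal_iff, ← hresπ f, hf, map_zero]
    have hsum : ∑ i, algebraMap R.carrier S.carrier (a i) * x i ∈
        I₀ ⊔ maximalIdeal S.carrier ^ 2 := by
      have e3 : π f = algebraMap R.carrier S.carrier c +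
          ∑ i, algebraMap R.carrier S.carrier (a i) * x i + ∑ i, x i * π (h i) := by
        conv_lhs => rw [e2]
        rw [map_add, map_add, hπC, map_sum, map_sum]
        congr 1
        · congr 1
          refine Finset.sum_congr rfl fun i _ => ?_
          rw [map_mul, hπX, hπC, mul_comm]
        · refine Finset.sum_congr rfl fun i _ => ?_
          rw [map_mul, hπX]
      have e4 : ∑ i, algebraMap R.carrier S.carrier (a i) * x i =
          -(algebraMap R.carrier S.carrier c) - ∑ i, x i * π (h i) := by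
        rw [hf] at e3
        linear_combination -e3
      rw [e4]
      refine Ideal.sub_mem _ (Ideal.neg_mem_iff _ |>.2 (Ideal.mem_sup_left ?_))
        (Ideal.mem_sup_right ?_)
      · exact Ideal.mem_map_of_mem _ hcm
      · rw [pow_two]
        exact Ideal.sum_mem _ fun i _ => Ideal.mul_mem_mul (hxm i) (hπm _ (hh0 i))
    have ham : ∀ i, a i ∈ maximalIdeal R.carrier := by
      intro i
      have := hli (fun i => algebraMap R.carrier S.carrier (a i)) hsum i
      rw [CRing.mem_maximalIdeal_iff, hres] at this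
      exact (CRing.mem_maximalIdeal_iff R _).2 this
    rw [e2]
    refine Ideal.add_mem _ (Ideal.add_mem _ (Ideal.mem_sup_left ?_) (Ideal.mem_sup_left ?_))
      (Ideal.mem_sup_right ?_)
    · exact Ideal.subset_span ⟨c, hcm, rfl⟩
    · exact Ideal.sum_mem _ fun i _ => Ideal.mul_mem_left _ _ (Ideal.subset_span ⟨a i, ham i, rfl⟩)
    · rw [pow_two]
      exact Ideal.sum_mem _ fun i _ =>
        Ideal.mul_mem_mul (X_mem R d i) (mem_of_cc_eq_zero R d _ (hh0 i))
  -- the kernel is a proper ideal
  have hJm : J ≤ maximalIdeal P.carrier := by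
    apply IsLocalRing.le_maximalIdeal
    intro htop
    have : (1 : P.carrier) ∈ J := by rw [htop]; trivial
    rw [hJmem, map_one] at this
    exact one_ne_zero this
  -- the key inclusions
  have hkey : ∀ n, 1 ≤ n → J ≤ maximalIdeal P.carrier * J ⊔ maximalIdeal P.carrier ^ n := by
    intro n hn
    set KA : Ideal P.carrier := J ⊔ maximalIdeal P.carrier ^ n with hKA
    set KB : Ideal P.carrier := maximalIdeal P.carrier * J ⊔ maximalIdeal P.carrier ^ n with hKB
    have hpowle : maximalIdeal P.carrier ^ n ≤ maximalIdeal P.carrier :=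
      Ideal.pow_le_self (by omega)
    have hKAm : KA ≤ maximalIdeal P.carrier := sup_le hJm hpowle
    have hKBm : KB ≤ maximalIdeal P.carrier := sup_le (Ideal.mul_le_right.trans hJm) hpowle
    have hle : KB ≤ KA := sup_le_sup_right Ideal.mul_le_right _
    let A : Art Λ k := cquot P KA hKAm ⟨n, le_sup_right⟩
    let B : Art Λ k := cquot P KB hKBm ⟨n, le_sup_right⟩
    let μ : B ⟶ A := cquotFactor P hKAm hKBm ⟨n, le_sup_right⟩ ⟨n, le_sup_right⟩ hle
    have hμ : Function.Surjective μ := cquotFactor_surjective P hKAm hKBm _ _ hle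
    -- the map `S → A`
    let e := Ideal.quotientKerAlgEquivOfSurjective (f := π') hsurj
    let φ₁ : S.carrier →ₐ[Λ] A :=
      (Ideal.Quotient.factorₐ Λ (le_sup_left : J ≤ KA)).comp e.symm.toAlgHom
    have hφ₁ : ∀ f, φ₁ (π f) = Ideal.Quotient.mk KA f := by
      intro f
      have : e.symm (π' f) = Ideal.Quotient.mk J f := by
        rw [AlgEquiv.symm_apply_eq]; rfl
      change Ideal.Quotient.factorₐ Λ (le_sup_left : J ≤ KA) (e.symm (π' f)) = _
      rw [this]
      rfl
    let φ : HomSet S.carrier S.res A := ⟨φ₁, by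
      apply AlgHom.ext
      intro s
      obtain ⟨f, rfl⟩ := hsurj s
      change A.res (φ₁ (π f)) = S.res (π f)
      rw [hφ₁, hresπ]
      rfl⟩
    let y : HomSet R.carrier R.res B := ⟨(cquotMk P KB hKBm ⟨n, le_sup_right⟩).1.comp (CΛ R d), by
      apply AlgHom.ext
      intro r
      change R.res (constantCoeff (C r : MvPowerSeries (Fin d) R.carrier)) = R.res r
      rw [constantCoeff_C]⟩
    have hy : (hR R.carrier R.res).map μ y =
        ((Family.self R.carrier R.res).along
          (IsScalarTower.toAlgHom Λ R.carrier S.carrier) hRS).app A φ := by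
      apply Subtype.ext
      apply AlgHom.ext
      intro r
      change Ideal.Quotient.mk KA (C r) = φ₁ (algebraMap R.carrier S.carrier r)
      rw [← hπC, hφ₁]
    obtain ⟨ψ, hψ1, hψ2⟩ := hv μ hμ φ y hy
    have hψ1' : ∀ s, μ (ψ.1 s) = φ₁ s := fun s =>
      congrArg (fun t : HomSet S.carrier S.res A => t.1 s) hψ1
    have hψ2' : ∀ r, ψ.1 (algebraMap R.carrier S.carrier r) = Ideal.Quotient.mk KB (C r) :=
      fun r => congrArg (fun t : HomSet R.carrier R.res B => t.1 r) hψ2
    have hψres : ∀ s, B.res (ψ.1 s) = S.res s := fun s =>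
      congrArg (fun t : S.carrier →ₐ[Λ] k => t s) ψ.2
    let u : P.carrier →+* B := (ψ.1 : S.carrier →+* B).comp (π' : P.carrier →+* S.carrier)
    let w : P.carrier →+* B := Ideal.Quotient.mk KB
    have hwres : ∀ f, B.res (w f) = R.res (constantCoeff f) := fun _ => rfl
    have hagree := eq_of_agree u w (RingHom.ker (μ.toAlgHom : B →+* A)) (maximalIdeal B)
      (by
        rw [← le_bot_iff, Ideal.mul_le]
        intro b hb c hc
        obtain ⟨g, rfl⟩ := Ideal.Quotient.mk_surjective b
        obtain ⟨h, rfl⟩ := Ideal.Quotient.mk_surjective c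
        have hg : g ∈ maximalIdeal P.carrier := by
          rw [psR_mem_maximalIdeal_iff]
          exact (Art.mem_maximalIdeal_iff B _).1 hb
        have hh : h ∈ KA := by
          have : Ideal.Quotient.mk KA h = 0 := hc
          exact Ideal.Quotient.eq_zero_iff_mem.1 this
        rw [Ideal.mem_bot]
        have hgh : Ideal.Quotient.mk KB (g * h) = 0 := by
          rw [Ideal.Quotient.eq_zero_iff_mem]
          have : g * h ∈ maximalIdeal P.carrier * KA := Ideal.mul_mem_mul hg hh
          rw [hKA, Ideal.mul_sup] at this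
          have hle2 : maximalIdeal P.carrier * J ⊔
              maximalIdeal P.carrier * maximalIdeal P.carrier ^ n ≤ KB :=
            sup_le_sup_left (by
              rw [← pow_succ']
              exact Ideal.pow_le_pow_right (Nat.le_succ n)) _
          exact hle2 this
        exact (map_mul (Ideal.Quotient.mk KB) g h).symm.trans hgh)
      (maximalIdeal P.carrier)
      (by
        intro f
        rw [RingHom.mem_ker, map_sub, sub_eq_zero]
        change μ (ψ.1 (π f)) = μ (Ideal.Quotient.mk KB f)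
        rw [hψ1', hφ₁]
        rfl)
      (by
        intro f hf
        rw [Art.mem_maximalIdeal_iff]
        change B.res (ψ.1 (π f)) = 0
        rw [hψres, hresπ]
        exact (psR_mem_maximalIdeal_iff R d f).1 hf)
      (by
        intro f hf
        rw [Art.mem_maximalIdeal_iff, hwres]
        exact (psR_mem_maximalIdeal_iff R d f).1 hf)
      ((C : R.carrier →+* MvPowerSeries (Fin d) R.carrier) ''
        (maximalIdeal R.carrier : Set R.carrier))
      (by
        rintro _ ⟨r, hr, rfl⟩
        refine ⟨?_, ?_⟩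
        · change ψ.1 (π (C r)) = Ideal.Quotient.mk KB (C r)
          rw [hπC, hψ2']
        · rw [Art.mem_maximalIdeal_iff]
          change B.res (ψ.1 (π (C r))) = 0
          rw [hψres, hresπ, constantCoeff_C]
          exact (CRing.mem_maximalIdeal_iff R r).1 hr)
    intro f hf
    have h1 := hagree f (hJle hf)
    have h2 : u f = 0 := by
      change ψ.1 (π f) = 0
      rw [(hJmem f).1 hf, map_zero]
    rw [h2] at h1
    exact Ideal.Quotient.eq_zero_iff_mem.1 h1.symm
  have hJbot : J = ⊥ := eq_bot_of_forall_le J hkey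
  have hinj : Function.Injective π := by
    rw [injective_iff_map_eq_zero]
    intro f hf
    have : f ∈ J := (hJmem f).2 hf
    rwa [hJbot, Ideal.mem_bot] at this
  exact ⟨d, ⟨(AlgEquiv.ofBijective π ⟨hinj, hsurj⟩).symm⟩⟩

end Main

section Converse

open Groth.Agent.Lib.Helper58.PSComplete Groth.Agent.Lib.Helper21.PSAdic

/-- lifting a map out of a power series ring along a surjection with nilpotent data -/
theorem exists_lift_ps {R B A : Type*} [CommRing R] [CommRing B] [CommRing A] (n : ℕ)
    (yB : R →+* B) (μ : B →+* A) (hμ : Function.Surjective μ)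
    (φ' : MvPowerSeries (Fin n) R →+* A) (hφC : ∀ r, φ' (C r) = μ (yB r))
    (NB : Ideal B) (KB : ℕ) (hNB : NB ^ KB = ⊥) (NA : Ideal A) (KA : ℕ) (hNA : NA ^ KA = ⊥)
    (hcomap : NA.comap μ ≤ NB) (hφX : ∀ i, φ' (X i) ∈ NA) :
    ∃ ψ' : MvPowerSeries (Fin n) R →+* B,
      (∀ f, μ (ψ' f) = φ' f) ∧ (∀ r, ψ' (C r) = yB r) := by
  letI algB : Algebra R B := yB.toAlgebra
  letI algA : Algebra R A := (μ.comp yB).toAlgebra
  choose b hb using fun i => hμ (φ' (X i))
  have hbN : ∀ i, b i ∈ NB := fun i => hcomap (by rw [Ideal.mem_comap, hb]; exact hφX i)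
  have hbK : ∀ i, b i ^ KB = 0 := fun i => by
    have := Ideal.pow_mem_pow (hbN i) KB
    rwa [hNB, Ideal.mem_bot] at this
  have haK : ∀ i, φ' (X i) ^ KA = 0 := fun i => by
    have := Ideal.pow_mem_pow (hφX i) KA
    rwa [hNA, Ideal.mem_bot] at this
  let ψ₀ : MvPowerSeries (Fin n) R →ₐ[R] B := evalNilp b KB hbK
  let μa : B →ₐ[R] A := { toRingHom := μ, commutes' := fun r => rfl }
  let φa : MvPowerSeries (Fin n) R →ₐ[R] A :=
    { toRingHom := φ', commutes' := fun r => hφC r }
  have hkill : ∀ (w : MvPowerSeries (Fin n) R →ₐ[R] A), (∀ i, w (X i) ∈ NA) →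
      ∀ x ∈ RingHom.ker (constantCoeff : MvPowerSeries (Fin n) R →+* R) ^ KA, w x = 0 := by
    intro w hw x hx
    have := map_ker_pow_le NA w hw KA (Ideal.mem_map_of_mem _ hx)
    rwa [hNA, Ideal.mem_bot] at this
  have h1 : μa.comp ψ₀ = evalNilp (fun i => φ' (X i)) KA haK := by
    have hX : ∀ i, (μa.comp ψ₀) (X i) = φ' (X i) := by
      intro i
      change μ (evalNilp b KB hbK (X i)) = _
      rw [evalNilp_X, hb]
    refine eq_evalNilp _ KA (hkill _ ?_) _ KA haK hX
    intro i
    rw [hX]
    exact hφX i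
  have h2 : φa = evalNilp (fun i => φ' (X i)) KA haK :=
    eq_evalNilp _ KA (hkill _ hφX) _ KA haK (fun i => rfl)
  refine ⟨ψ₀, ?_, ?_⟩
  · intro f
    have := AlgHom.congr_fun (h1.trans h2.symm) f
    exact this
  · intro r
    change ψ₀ (algebraMap R (MvPowerSeries (Fin n) R) r) = algebraMap R B r
    exact ψ₀.commutes r

variable {Λ : Type u} {k : Type u} [CommRing Λ] [Field k] [Algebra Λ k]
  (R S : CRing Λ k) [Algebra R.carrier S.carrier] [IsScalarTower Λ R.carrier S.carrier]
  (hRS : S.res.comp (IsScalarTower.toAlgHom Λ R.carrier S.carrier) = R.res)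

include hRS in
/-- a power series ring over `R` gives a smooth morphism `h_S → h_R` -/
theorem isVersal_of_algEquiv (n : ℕ)
    (e : S.carrier ≃ₐ[R.carrier] MvPowerSeries (Fin n) R.carrier) :
    IsVersal ((Family.self R.carrier R.res).along
      (IsScalarTower.toAlgHom Λ R.carrier S.carrier) hRS) := by
  intro B A μ hμ φ y hy
  have hres : ∀ r : R.carrier, S.res (algebraMap R.carrier S.carrier r) = R.res r := fun r =>
    congrArg (fun t : R.carrier →ₐ[Λ] k => t r) hRS
  have hφres : ∀ s, A.res (φ.1 s) = S.res s := fun s =>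
    congrArg (fun t : S.carrier →ₐ[Λ] k => t s) φ.2
  have hyres : ∀ r, B.res (y.1 r) = R.res r := fun r =>
    congrArg (fun t : R.carrier →ₐ[Λ] k => t r) y.2
  have hy' : ∀ r, μ (y.1 r) = φ.1 (algebraMap R.carrier S.carrier r) := fun r =>
    congrArg (fun t : HomSet R.carrier R.res A => t.1 r) hy
  obtain ⟨KA, hKA⟩ := (isArtinianRing_iff_isNilpotent_maximalIdeal A.carrier).1 inferInstance
  obtain ⟨KB, hKB⟩ := (isArtinianRing_iff_isNilpotent_maximalIdeal B.carrier).1 inferInstance
  have hXS : ∀ i, e.symm (X i) ∈ maximalIdeal S.carrier := by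
    intro i
    rw [IsLocalRing.mem_maximalIdeal, mem_nonunits_iff]
    intro hu
    have h1 : IsUnit (e (e.symm (X i))) := hu.map e
    rw [AlgEquiv.apply_symm_apply] at h1
    have h2 := h1.map (constantCoeff : MvPowerSeries (Fin n) R.carrier →+* R.carrier)
    rw [constantCoeff_X] at h2
    exact not_isUnit_zero h2
  obtain ⟨ψ', hψ1, hψ2⟩ := exists_lift_ps n (y.1 : R.carrier →+* B.carrier)
    (μ.toAlgHom : B.carrier →+* A.carrier) hμ
    ((φ.1 : S.carrier →+* A.carrier).comp (e.symm : MvPowerSeries (Fin n) R.carrier →+* S.carrier))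
    (by
      intro r
      change φ.1 (e.symm (algebraMap R.carrier (MvPowerSeries (Fin n) R.carrier) r)) = μ (y.1 r)
      rw [AlgEquiv.commutes, hy'])
    (maximalIdeal B.carrier) KB hKB (maximalIdeal A.carrier) KA hKA
    (by
      intro b hb
      rw [Ideal.mem_comap, Art.mem_maximalIdeal_iff] at hb
      rw [Art.mem_maximalIdeal_iff, ← Art.res_app μ]
      exact hb)
    (by
      intro i
      change φ.1 (e.symm (X i)) ∈ maximalIdeal A.carrier
      rw [Art.mem_maximalIdeal_iff, hφres]
      exact (CRing.mem_maximalIdeal_iff S _).1 (hXS i))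
  have hψ1' : ∀ s, μ (ψ' (e s)) = φ.1 s := by
    intro s
    refine (hψ1 (e s)).trans ?_
    change φ.1 (e.symm (e s)) = φ.1 s
    rw [AlgEquiv.symm_apply_apply]
  let ψ₁ : S.carrier →ₐ[Λ] B.carrier :=
    { toRingHom := ψ'.comp (e : S.carrier →+* MvPowerSeries (Fin n) R.carrier)
      commutes' := fun l => by
        change ψ' (e (algebraMap Λ S.carrier l)) = algebraMap Λ B.carrier l
        rw [IsScalarTower.algebraMap_apply Λ R.carrier S.carrier, AlgEquiv.commutes]
        change ψ' (C (algebraMap Λ R.carrier l)) = _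
        rw [hψ2]
        exact AlgHom.commutes y.1 l }
  have hψ₁ : ∀ s, ψ₁ s = ψ' (e s) := fun _ => rfl
  refine ⟨⟨ψ₁, ?_⟩, ?_, ?_⟩
  · apply AlgHom.ext
    intro s
    change B.res (ψ₁ s) = S.res s
    rw [← Art.res_app μ, hψ₁, hψ1', hφres]
  · apply Subtype.ext
    apply AlgHom.ext
    intro s
    change μ (ψ₁ s) = φ.1 s
    rw [hψ₁, hψ1']
  · apply Subtype.ext
    apply AlgHom.ext
    intro r
    change ψ₁ (algebraMap R.carrier S.carrier r) = y.1 r
    rw [hψ₁, AlgEquiv.commutes]
    change ψ' (C r) = _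
    rw [hψ2]
    rfl

end Converse

end Groth.Agent.Lib.Helper58.PSRel
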