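import Mathlib
import Groth.Agent.Lib.Helper58.SchlAmbient
import Groth.Agent.Lib.Helper65.ArtQuot
import Groth.Agent.S12729

/-!
# Schlessinger: the tower of minimal quotients of the ambient ring (helper58)
-/

set_option autoImplicit false
universe u v

namespace Groth.Agent.Lib.Helper58.Schl

open MvPowerSeries IsLocalRing ArtFun ArtFun.Art CategoryTheory Groth.Agent.Lib.Helper65

section Factor

variable {Λ : Type u} {k : Type u} [CommRing Λ] [Field k] [Algebra Λ k] {r : ℕ}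

/-- the map between two augmented quotients of the ambient ring induced by an inclusion of
kernels -/
noncomputable def factorHom {C₁ C₂ : Art Λ k} (w₁ : PS Λ r →ₐ[Λ] C₁) (h₁ : Function.Surjective w₁)
    (w₂ : PS Λ r →ₐ[Λ] C₂) (hres₁ : C₁.res.comp w₁ = resPS Λ k r)
    (hres₂ : C₂.res.comp w₂ = resPS Λ k r) (hker : RingHom.ker w₁ ≤ RingHom.ker w₂) : C₁ ⟶ C₂ :=
  ⟨AlgHom.liftOfSurjective w₁ h₁ w₂ hker, by
    apply AlgHom.ext
    intro c
    obtain ⟨a, rfl⟩ := h₁ c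
    change C₂.res (AlgHom.liftOfSurjective w₁ h₁ w₂ hker (w₁ a)) = C₁.res (w₁ a)
    rw [AlgHom.liftOfSurjective_apply]
    exact (AlgHom.congr_fun hres₂ a).trans (AlgHom.congr_fun hres₁ a).symm⟩

theorem factorHom_apply {C₁ C₂ : Art Λ k} (w₁ : PS Λ r →ₐ[Λ] C₁) (h₁ : Function.Surjective w₁)
    (w₂ : PS Λ r →ₐ[Λ] C₂) (hres₁ : C₁.res.comp w₁ = resPS Λ k r)
    (hres₂ : C₂.res.comp w₂ = resPS Λ k r) (hker : RingHom.ker w₁ ≤ RingHom.ker w₂) (a : PS Λ r) :
    (factorHom w₁ h₁ w₂ hres₁ hres₂ hker).toAlgHom (w₁ a) = w₂ a :=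
  AlgHom.liftOfSurjective_apply w₁ h₁ w₂ hker a

theorem factorHom_comp {C₁ C₂ : Art Λ k} (w₁ : PS Λ r →ₐ[Λ] C₁) (h₁ : Function.Surjective w₁)
    (w₂ : PS Λ r →ₐ[Λ] C₂) (hres₁ : C₁.res.comp w₁ = resPS Λ k r)
    (hres₂ : C₂.res.comp w₂ = resPS Λ k r) (hker : RingHom.ker w₁ ≤ RingHom.ker w₂) :
    (factorHom w₁ h₁ w₂ hres₁ hres₂ hker).toAlgHom.comp w₁ = w₂ :=
  AlgHom.liftOfSurjective_comp w₁ h₁ w₂ hker

/-- morphisms out of a quotient of the ambient ring are determined by the composite -/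
theorem hom_ext_of_surjective {C₁ C₂ : Art Λ k} (w₁ : PS Λ r →ₐ[Λ] C₁)
    (h₁ : Function.Surjective w₁) (f g : C₁ ⟶ C₂)
    (h : f.toAlgHom.comp w₁ = g.toAlgHom.comp w₁) : f = g := by
  apply Art.hom_ext
  apply AlgHom.ext
  intro c
  obtain ⟨a, rfl⟩ := h₁ c
  exact AlgHom.congr_fun h a

theorem factorHom_surjective {C₁ C₂ : Art Λ k} (w₁ : PS Λ r →ₐ[Λ] C₁) (h₁ : Function.Surjective w₁)
    (w₂ : PS Λ r →ₐ[Λ] C₂) (hres₁ : C₁.res.comp w₁ = resPS Λ k r)
    (hres₂ : C₂.res.comp w₂ = resPS Λ k r) (hker : RingHom.ker w₁ ≤ RingHom.ker w₂)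
    (h₂ : Function.Surjective w₂) :
    Function.Surjective (factorHom w₁ h₁ w₂ hres₁ hres₂ hker) := by
  intro c
  obtain ⟨a, rfl⟩ := h₂ c
  exact ⟨w₁ a, factorHom_apply w₁ h₁ w₂ hres₁ hres₂ hker a⟩

theorem factorHom_trans {C₁ C₂ C₃ : Art Λ k} (w₁ : PS Λ r →ₐ[Λ] C₁) (h₁ : Function.Surjective w₁)
    (w₂ : PS Λ r →ₐ[Λ] C₂) (h₂ : Function.Surjective w₂) (w₃ : PS Λ r →ₐ[Λ] C₃)
    (hres₁ : C₁.res.comp w₁ = resPS Λ k r) (hres₂ : C₂.res.comp w₂ = resPS Λ k r)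
    (hres₃ : C₃.res.comp w₃ = resPS Λ k r)
    (h12 : RingHom.ker w₁ ≤ RingHom.ker w₂) (h23 : RingHom.ker w₂ ≤ RingHom.ker w₃) :
    factorHom w₁ h₁ w₂ hres₁ hres₂ h12 ≫ factorHom w₂ h₂ w₃ hres₂ hres₃ h23 =
      factorHom w₁ h₁ w₃ hres₁ hres₃ (h12.trans h23) := by
  apply hom_ext_of_surjective w₁ h₁
  apply AlgHom.ext
  intro a
  change (factorHom w₂ h₂ w₃ hres₂ hres₃ h23).toAlgHom
      ((factorHom w₁ h₁ w₂ hres₁ hres₂ h12).toAlgHom (w₁ a)) =
    (factorHom w₁ h₁ w₃ hres₁ hres₃ (h12.trans h23)).toAlgHom (w₁ a)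
  rw [factorHom_apply, factorHom_apply, factorHom_apply]

theorem factorHom_self {C₁ : Art Λ k} (w₁ : PS Λ r →ₐ[Λ] C₁) (h₁ : Function.Surjective w₁)
    (hres₁ : C₁.res.comp w₁ = resPS Λ k r) :
    factorHom w₁ h₁ w₁ hres₁ hres₁ le_rfl = 𝟙 C₁ := by
  apply hom_ext_of_surjective w₁ h₁
  apply AlgHom.ext
  intro a
  change (factorHom w₁ h₁ w₁ hres₁ hres₁ le_rfl).toAlgHom (w₁ a) = w₁ a
  rw [factorHom_apply]

end Factor

section Stage

variable {Λ : Type u} {k : Type u} [CommRing Λ] [Field k] [Algebra Λ k]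

variable (Λ k) in
/-- an augmented Artinian quotient of the ambient ring together with an element of `F` -/
structure Stage (r : ℕ) (F : Art Λ k ⥤ Type v) where
  /-- the object -/
  C : Art Λ k
  /-- the presentation -/
  w : PS Λ r →ₐ[Λ] C
  surj : Function.Surjective w
  comp_res : C.res.comp w = resPS Λ k r
  /-- the element -/
  x : F.obj C

variable {r : ℕ} {F : Art Λ k ⥤ Type v}

/-- the kernel of the presentation -/
noncomputable def Stage.K (σ : Stage Λ k r F) : Ideal (PS Λ r) := RingHom.ker σ.w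

theorem Stage.mem_K (σ : Stage Λ k r F) (a : PS Λ r) : a ∈ σ.K ↔ σ.w a = 0 := RingHom.mem_ker

/-- the transition map between stages -/
noncomputable def Stage.factor (σ τ : Stage Λ k r F) (h : σ.K ≤ τ.K) : σ.C ⟶ τ.C :=
  factorHom σ.w σ.surj τ.w σ.comp_res τ.comp_res h

theorem Stage.factor_apply (σ τ : Stage Λ k r F) (h : σ.K ≤ τ.K) (a : PS Λ r) :
    (σ.factor τ h).toAlgHom (σ.w a) = τ.w a :=
  factorHom_apply _ _ _ _ _ _ a

variable [IsLocalRing Λ]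

theorem Stage.K_le (hk : Function.Surjective (algebraMap Λ k)) (σ : Stage Λ k r F) :
    σ.K ≤ maximalIdeal (PS Λ r) := by
  intro a ha
  rw [mem_maximalIdeal_iff_resPS hk, ← σ.comp_res]
  change σ.C.res (σ.w a) = 0
  rw [(σ.mem_K a).mp ha, map_zero]

theorem Stage.w_mem_maximalIdeal (hk : Function.Surjective (algebraMap Λ k)) (σ : Stage Λ k r F)
    (a : PS Λ r) : σ.w a ∈ maximalIdeal σ.C ↔ a ∈ maximalIdeal (PS Λ r) := by
  rw [Art.mem_maximalIdeal_iff, mem_maximalIdeal_iff_resPS hk, ← σ.comp_res]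
  rfl

theorem Stage.exists_pow_le (hk : Function.Surjective (algebraMap Λ k)) (σ : Stage Λ k r F) :
    ∃ N, maximalIdeal (PS Λ r) ^ N ≤ σ.K := by
  obtain ⟨N, hN⟩ := art_maximalIdeal_nilpotent σ.C
  refine ⟨N, fun a ha => ?_⟩
  rw [σ.mem_K]
  have h1 : (maximalIdeal (PS Λ r)).map (σ.w : PS Λ r →+* σ.C) ≤ maximalIdeal σ.C := by
    rw [Ideal.map_le_iff_le_comap]
    intro y hy
    exact (σ.w_mem_maximalIdeal hk y).mpr hy
  have h2 := Ideal.mem_map_of_mem (σ.w : PS Λ r →+* σ.C) ha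
  rw [Ideal.map_pow] at h2
  have h3 := Ideal.pow_right_mono h1 N h2
  rwa [hN] at h3

end Stage

section Step

variable {Λ : Type u} {k : Type u} [CommRing Λ] [Field k] [Algebra Λ k] [IsLocalRing Λ]
  [IsNoetherianRing Λ] {r : ℕ} {F : Art Λ k ⥤ Type v}

/-- the inductive step of the construction of the hull -/
theorem exists_next [Module.Finite Λ k] (hk : Function.Surjective (algebraMap Λ k)) (h1 : S1 F)
    (σ : Stage Λ k r F) :
    ∃ τ : Stage Λ k r F, maximalIdeal (PS Λ r) * σ.K ≤ τ.K ∧ ∃ hle : τ.K ≤ σ.K,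
      F.map (τ.factor σ hle) τ.x = σ.x ∧
      ∀ (ρ : Stage Λ k r F) (_ : maximalIdeal (PS Λ r) * σ.K ≤ ρ.K) (h₂ : ρ.K ≤ σ.K),
        F.map (ρ.factor σ h₂) ρ.x = σ.x → τ.K ≤ ρ.K := by
  classical
  set n := maximalIdeal (PS Λ r) with hn
  have hJ : n * σ.K ≤ n := Ideal.mul_le_left
  have hpow : ∃ N, n ^ N ≤ n * σ.K := by
    obtain ⟨N, hN⟩ := σ.exists_pow_le hk
    exact ⟨N + 1, by rw [pow_succ']; exact Ideal.mul_mono_right hN⟩
  let B : Art Λ k := artQ hk (n * σ.K) hJ hpow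
  let wB : PS Λ r →ₐ[Λ] B := Ideal.Quotient.mkₐ Λ (n * σ.K)
  have hwB : Function.Surjective wB := Ideal.Quotient.mk_surjective
  have hresB : B.res.comp wB = resPS Λ k r := AlgHom.ext fun a => rfl
  have hkerB : RingHom.ker wB = n * σ.K := Ideal.mk_ker
  have hwB0 : ∀ a, wB a = 0 ↔ a ∈ n * σ.K := fun a => by
    rw [← hkerB, RingHom.mem_ker]
  have hBle : RingHom.ker wB ≤ RingHom.ker σ.w := by
    rw [hkerB]; exact Ideal.mul_le_right
  let p : B ⟶ σ.C := factorHom wB hwB σ.w hresB σ.comp_res hBle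
  have hp : ∀ a, p.toAlgHom (wB a) = σ.w a := fun a => factorHom_apply _ _ _ _ _ _ a
  have hpsurj : Function.Surjective p := factorHom_surjective _ _ _ _ _ _ σ.surj
  have hwBm : ∀ a, wB a ∈ maximalIdeal B → a ∈ n := by
    intro a ha
    rw [Art.mem_maximalIdeal_iff] at ha
    rw [hn, mem_maximalIdeal_iff_resPS hk]
    exact ha
  have hsemi : IsSemismallExt p := by
    refine ⟨hpsurj, ?_⟩
    rw [← le_bot_iff, Ideal.mul_le]
    intro x hx y hy
    obtain ⟨a, rfl⟩ := hwB x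
    obtain ⟨b, rfl⟩ := hwB y
    have ha : a ∈ n := hwBm a hx
    have hb : b ∈ σ.K := by
      rw [σ.mem_K, ← hp]
      exact RingHom.mem_ker.mp hy
    rw [Ideal.mem_bot, ← map_mul, hwB0]
    exact Ideal.mul_mem_mul ha hb
  obtain ⟨J₀, hJ₀, hJ₀', ⟨y₀, hy₀⟩, hmin⟩ := Groth.Agent.S12729.result h1 p hsemi σ.x
  let τ : Stage Λ k r F :=
    { C := Art.quot B J₀ hJ₀'
      w := (quotMk B J₀ hJ₀').toAlgHom.comp wB
      surj := (quotMk_toAlgHom_surjective B hJ₀').comp hwB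
      comp_res := by
        rw [← AlgHom.comp_assoc, (quotMk B J₀ hJ₀').res_comp, hresB]
      x := y₀ }
  have hτK : ∀ a, a ∈ τ.K ↔ wB a ∈ J₀ := by
    intro a
    rw [τ.mem_K]
    exact quotMk_eq_zero_iff B hJ₀' (wB a)
  have hτle : τ.K ≤ σ.K := by
    intro a ha
    rw [σ.mem_K, ← hp]
    exact RingHom.mem_ker.mp (hJ₀ ((hτK a).mp ha))
  refine ⟨τ, ?_, hτle, ?_, ?_⟩
  · intro a ha
    rw [hτK, (hwB0 a).mpr ha]
    exact zero_mem _
  · have : τ.factor σ hτle = quotFactor hJ₀' p hJ₀ := by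
      apply hom_ext_of_surjective τ.w τ.surj
      apply AlgHom.ext
      intro a
      change (τ.factor σ hτle).toAlgHom (τ.w a) = p.toAlgHom (wB a)
      rw [Stage.factor_apply, hp]
    rw [this]
    exact hy₀
  · intro ρ hρ₁ hρ₂ hρx
    have hBρ : RingHom.ker wB ≤ RingHom.ker ρ.w := by
      rw [hkerB]; exact hρ₁
    let f : B ⟶ ρ.C := factorHom wB hwB ρ.w hresB ρ.comp_res hBρ
    have hf : ∀ a, f.toAlgHom (wB a) = ρ.w a := fun a => factorHom_apply _ _ _ _ _ _ a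
    have hfsurj : Function.Surjective f := factorHom_surjective _ _ _ _ _ _ ρ.surj
    have hJp : RingHom.ker f.toAlgHom ≤ RingHom.ker p.toAlgHom := by
      intro b hb
      obtain ⟨a, rfl⟩ := hwB b
      rw [RingHom.mem_ker, hf] at hb
      rw [RingHom.mem_ker, hp]
      exact (σ.mem_K a).mp (hρ₂ ((ρ.mem_K a).mpr hb))
    have hJm := art_ker_le_maximalIdeal f
    haveI := quotFactor_ker_isIso f hfsurj
    let e := quotFactor hJm f le_rfl
    have he : quotFactor hJm p hJp = e ≫ ρ.factor σ hρ₂ := by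
      apply Art.hom_ext
      apply AlgHom.ext
      intro y
      obtain ⟨b, rfl⟩ := quotMk_toAlgHom_surjective B hJm y
      obtain ⟨a, rfl⟩ := hwB b
      change p.toAlgHom (wB a) = (ρ.factor σ hρ₂).toAlgHom (f.toAlgHom (wB a))
      rw [hp, hf, Stage.factor_apply]
    have hlift : ∃ y : F.obj (Art.quot B (RingHom.ker f.toAlgHom) hJm),
        F.map (quotFactor hJm p hJp) y = σ.x := by
      refine ⟨F.map (inv e) ρ.x, ?_⟩
      rw [he, Functor.map_comp_apply, ← Functor.map_comp_apply F (inv e) e, IsIso.inv_hom_id,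
        Functor.map_id_apply]
      exact hρx
    have hle := hmin _ hJp hJm hlift
    intro a ha
    rw [ρ.mem_K, ← hf]
    exact RingHom.mem_ker.mp (hle ((hτK a).mp ha))

end Step

end Groth.Agent.Lib.Helper58.Schl
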