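import Mathlib
import Groth.Agent.Lib.Helper58.SchlTower

/-!
# Schlessinger: the hull ring of a tower and its family (helper58)
-/

set_option autoImplicit false
universe u v

namespace Groth.Agent.Lib.Helper58.Schl

open MvPowerSeries IsLocalRing ArtFun ArtFun.Art CategoryTheory Groth.Agent.Lib.Helper65

section Tower

variable {Λ : Type u} {k : Type u} [CommRing Λ] [Field k] [Algebra Λ k]

variable (Λ k) in
/-- a compatible decreasing tower of stages -/
structure Tower (r : ℕ) (F : Art Λ k ⥤ Type v) where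
  /-- the stages -/
  st : ℕ → Stage Λ k r F
  anti : ∀ q, (st (q + 1)).K ≤ (st q).K
  compat : ∀ q, F.map ((st (q + 1)).factor (st q) (anti q)) (st (q + 1)).x = (st q).x

variable {r : ℕ} {F : Art Λ k ⥤ Type v} (T : Tower Λ k r F)

theorem Tower.antitone : Antitone (fun q => (T.st q).K) :=
  antitone_nat_of_succ_le T.anti

theorem Tower.compat_le {q q' : ℕ} (h : q ≤ q') :
    F.map ((T.st q').factor (T.st q) (T.antitone h)) (T.st q').x = (T.st q).x := by
  induction q', h using Nat.le_induction with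
  | base =>
    have : (T.st q).factor (T.st q) (T.antitone le_rfl) = 𝟙 _ := factorHom_self _ _ _
    rw [this, Functor.map_id_apply]
  | succ q' h ih =>
    have : (T.st (q' + 1)).factor (T.st q) (T.antitone (Nat.le_succ_of_le h)) =
        (T.st (q' + 1)).factor (T.st q') (T.anti q') ≫ (T.st q').factor (T.st q) (T.antitone h) :=
      (factorHom_trans _ _ _ _ _ _ _ _ _ _).symm
    rw [this, Functor.map_comp_apply, T.compat, ih]

/-- the intersection of the kernels -/
noncomputable def Tower.J : Ideal (PS Λ r) := ⨅ q, (T.st q).K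

/-- the value of the tower on an augmented map from the ambient ring killing a stage -/
noncomputable def Tower.val {A : Art Λ k} (u : PS Λ r →ₐ[Λ] A) (hu : A.res.comp u = resPS Λ k r)
    (q : ℕ) (hq : (T.st q).K ≤ RingHom.ker u) : F.obj A :=
  F.map (factorHom (T.st q).w (T.st q).surj u (T.st q).comp_res hu hq) (T.st q).x

theorem Tower.val_eq_of_le {A : Art Λ k} (u : PS Λ r →ₐ[Λ] A) (hu : A.res.comp u = resPS Λ k r)
    {q q' : ℕ} (h : q ≤ q') (hq : (T.st q).K ≤ RingHom.ker u) :
    T.val u hu q' ((T.antitone h).trans hq) = T.val u hu q hq := by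
  unfold Tower.val
  have : factorHom (T.st q').w (T.st q').surj u (T.st q').comp_res hu ((T.antitone h).trans hq) =
      (T.st q').factor (T.st q) (T.antitone h) ≫
        factorHom (T.st q).w (T.st q).surj u (T.st q).comp_res hu hq :=
    (factorHom_trans _ _ _ _ _ _ _ _ _ _).symm
  rw [this, Functor.map_comp_apply, T.compat_le h]

theorem Tower.val_eq {A : Art Λ k} (u : PS Λ r →ₐ[Λ] A) (hu : A.res.comp u = resPS Λ k r)
    {q q' : ℕ} (hq : (T.st q).K ≤ RingHom.ker u) (hq' : (T.st q').K ≤ RingHom.ker u) :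
    T.val u hu q hq = T.val u hu q' hq' := by
  rw [← T.val_eq_of_le u hu (le_max_left q q') hq, ← T.val_eq_of_le u hu (le_max_right q q') hq']

theorem Tower.val_comp {A B : Art Λ k} (f : A ⟶ B) (u : PS Λ r →ₐ[Λ] A)
    (hu : A.res.comp u = resPS Λ k r) (q : ℕ) (hq : (T.st q).K ≤ RingHom.ker u)
    (hfu : B.res.comp (f.toAlgHom.comp u) = resPS Λ k r)
    (hq' : (T.st q).K ≤ RingHom.ker (f.toAlgHom.comp u)) :
    T.val (f.toAlgHom.comp u) hfu q hq' = F.map f (T.val u hu q hq) := by
  unfold Tower.val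
  rw [← Functor.map_comp_apply]
  have : factorHom (T.st q).w (T.st q).surj (f.toAlgHom.comp u) (T.st q).comp_res hfu hq' =
      factorHom (T.st q).w (T.st q).surj u (T.st q).comp_res hu hq ≫ f := by
    apply hom_ext_of_surjective (T.st q).w (T.st q).surj
    apply AlgHom.ext
    intro a
    change (factorHom (T.st q).w (T.st q).surj (f.toAlgHom.comp u) (T.st q).comp_res hfu
        hq').toAlgHom ((T.st q).w a) =
      f.toAlgHom ((factorHom (T.st q).w (T.st q).surj u (T.st q).comp_res hu hq).toAlgHom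
        ((T.st q).w a))
    rw [factorHom_apply, factorHom_apply]
    rfl
  rw [this]



section Hull

variable [IsLocalRing Λ]

theorem exists_pow_le_ker (hk : Function.Surjective (algebraMap Λ k)) {A : Art Λ k}
    (u : PS Λ r →ₐ[Λ] A) (hu : A.res.comp u = resPS Λ k r) :
    ∃ N, maximalIdeal (PS Λ r) ^ N ≤ RingHom.ker u := by
  obtain ⟨N, hN⟩ := art_maximalIdeal_nilpotent A
  refine ⟨N, fun a ha => ?_⟩
  rw [RingHom.mem_ker]
  have h1 : (maximalIdeal (PS Λ r)).map (u : PS Λ r →+* A) ≤ maximalIdeal A := by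
    rw [Ideal.map_le_iff_le_comap]
    intro y hy
    rw [Ideal.mem_comap, Art.mem_maximalIdeal_iff]
    have : A.res (u y) = resPS Λ k r y := AlgHom.congr_fun hu y
    change A.res (u y) = 0
    rw [this]
    exact (mem_maximalIdeal_iff_resPS hk y).mp hy
  have h2 := Ideal.mem_map_of_mem (u : PS Λ r →+* A) ha
  rw [Ideal.map_pow] at h2
  have h3 := Ideal.pow_right_mono h1 N h2
  rwa [hN] at h3

variable [IsNoetherianRing Λ] [IsAdicComplete (maximalIdeal Λ) Λ]
variable (hk : Function.Surjective (algebraMap Λ k))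

include hk in
theorem Tower.exists_stage {A : Art Λ k} (u : PS Λ r →ₐ[Λ] A) (hu : A.res.comp u = resPS Λ k r)
    (hJ : T.J ≤ RingHom.ker u) : ∃ q, (T.st q).K ≤ RingHom.ker u := by
  obtain ⟨N, hN⟩ := exists_pow_le_ker hk u hu
  haveI : IsAdicComplete (maximalIdeal (PS Λ r)) (PS Λ r) := MvPSComplete.isAdicComplete
  obtain ⟨q, hq⟩ := chevalley (fun q => (T.st q).K) T.antitone
    (fun q => (T.st q).exists_pow_le hk) N
  exact ⟨q, hq.trans (sup_le hJ hN)⟩

include hk in
theorem Tower.J_le : T.J ≤ maximalIdeal (PS Λ r) :=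
  (iInf_le _ 0).trans ((T.st 0).K_le hk)

/-- the hull ring -/
noncomputable def Tower.ring : CRing Λ k := cringQ hk T.J (T.J_le hk)

/-- the quotient map from the ambient ring to the hull ring -/
noncomputable def Tower.π : PS Λ r →ₐ[Λ] (T.ring hk).carrier := Ideal.Quotient.mkₐ Λ T.J

theorem Tower.π_surjective : Function.Surjective (T.π hk) := Ideal.Quotient.mk_surjective

theorem Tower.res_π : (T.ring hk).res.comp (T.π hk) = resPS Λ k r := AlgHom.ext fun _ => rfl

theorem Tower.ker_π : RingHom.ker (T.π hk) = T.J := Ideal.mk_ker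

variable {A : Art Λ k} (φ : HomSet (T.ring hk).carrier (T.ring hk).res A)

/-- the composite of an element of `h_R(A)` with the quotient map -/
noncomputable def Tower.pre : PS Λ r →ₐ[Λ] A := φ.1.comp (T.π hk)

theorem Tower.pre_res : A.res.comp (T.pre hk φ) = resPS Λ k r := by
  unfold Tower.pre
  rw [← AlgHom.comp_assoc, φ.2, T.res_π]

theorem Tower.J_le_ker_pre : T.J ≤ RingHom.ker (T.pre hk φ) := by
  intro a ha
  rw [RingHom.mem_ker]
  change φ.1 (T.π hk a) = 0
  have : T.π hk a = 0 := by
    rw [← RingHom.mem_ker, T.ker_π]; exact ha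
  rw [this, map_zero]

theorem Tower.pre_map {B : Art Λ k} (f : A ⟶ B) :
    T.pre hk (HomSet.map f φ) = f.toAlgHom.comp (T.pre hk φ) := rfl

/-- the family over the hull ring defined by the tower -/
noncomputable def Tower.family : Family (T.ring hk).carrier (T.ring hk).res F where
  app A φ := T.val (T.pre hk φ) (T.pre_res hk φ)
    (T.exists_stage hk _ (T.pre_res hk φ) (T.J_le_ker_pre hk φ)).choose
    (T.exists_stage hk _ (T.pre_res hk φ) (T.J_le_ker_pre hk φ)).choose_spec
  natural {A B} f φ := by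
    set q := (T.exists_stage hk _ (T.pre_res hk φ) (T.J_le_ker_pre hk φ)).choose with hq
    have hqs := (T.exists_stage hk _ (T.pre_res hk φ) (T.J_le_ker_pre hk φ)).choose_spec
    have hq' : (T.st q).K ≤ RingHom.ker (f.toAlgHom.comp (T.pre hk φ)) := by
      intro a ha
      have := hqs ha
      rw [RingHom.mem_ker] at this ⊢
      change f.toAlgHom (T.pre hk φ a) = 0
      rw [this, map_zero]
    rw [← T.val_comp f (T.pre hk φ) (T.pre_res hk φ) q hqs (T.pre_res hk (HomSet.map f φ)) hq']
    exact T.val_eq _ _ _ _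

theorem Tower.family_app (q : ℕ) (hq : (T.st q).K ≤ RingHom.ker (T.pre hk φ)) :
    (T.family hk).app A φ = T.val (T.pre hk φ) (T.pre_res hk φ) q hq :=
  T.val_eq _ _ _ _

end Hull

end Tower

end Groth.Agent.Lib.Helper58.Schl
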