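import Mathlib
import Groth.Prelude.Def_ArtFun2
import Groth.Agent.Lib.Helper65.ArtBasic

/-!
# Schlessinger: first-order objects `k[V]` and the tangent space (helper58)

`kV Λ k r = k ⊕ k^r`; under `H0`, `Heps`: `F(kV r) ≅ t_F^r` (`bijective_prV`); with a `TangentStr`,
`F(dotV c) z = ∑ c_i • F(pr_i) z` (`map_dotV`).
-/

set_option autoImplicit false
universe u v

namespace Groth.Agent.Lib.Helper58.Schl

open ArtFun ArtFun.Art CategoryTheory Groth.Agent.Lib.Helper65

section KV

variable (Λ : Type u) (k : Type u) [CommRing Λ] [Field k] [Algebra Λ k]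

/-- `k ⊕ k^r` with square-zero `k^r`, as an object of `Art` -/
noncomputable def kV (r : ℕ) : Art Λ k :=
  { carrier := TrivSqZeroExt k (Fin r → k)
    isLocalRing := isLocalRing_tsze k (Fin r → k)
    isArtinianRing := isArtinianRing_tsze k (Fin r → k)
    res := TrivSqZeroExt.fstHom Λ k (Fin r → k)
    res_surjective := fun a => ⟨TrivSqZeroExt.inl a, rfl⟩ }

variable {Λ k}

/-- map of `kV r` to the dual numbers induced by a linear form -/
noncomputable def kVmap {r : ℕ} (ℓ : (Fin r → k) →ₗ[k] k) : kV Λ k r ⟶ dual Λ k :=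
  ⟨tszeMap ℓ, AlgHom.ext fun _ => rfl⟩

theorem kVmap_fst {r : ℕ} (ℓ : (Fin r → k) →ₗ[k] k) (x : (kV Λ k r).carrier) :
    TrivSqZeroExt.fst ((kVmap ℓ).toAlgHom x : TrivSqZeroExt k k) =
      TrivSqZeroExt.fst (x : TrivSqZeroExt k (Fin r → k)) := rfl

theorem kVmap_snd {r : ℕ} (ℓ : (Fin r → k) →ₗ[k] k) (x : (kV Λ k r).carrier) :
    TrivSqZeroExt.snd ((kVmap ℓ).toAlgHom x : TrivSqZeroExt k k) =
      ℓ (TrivSqZeroExt.snd (x : TrivSqZeroExt k (Fin r → k))) := rfl

/-- the `i`-th projection -/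
noncomputable def prV (r : ℕ) (i : Fin r) : kV Λ k r ⟶ dual Λ k :=
  kVmap (LinearMap.proj i)

/-- the linear form with coefficients `c` -/
noncomputable def dotLin {r : ℕ} (c : Fin r → k) : (Fin r → k) →ₗ[k] k :=
  ∑ i, c i • LinearMap.proj i

theorem dotLin_apply {r : ℕ} (c : Fin r → k) (v : Fin r → k) : dotLin c v = ∑ i, c i * v i := by
  simp [dotLin, LinearMap.sum_apply]

/-- the map with coefficients `c` -/
noncomputable def dotV (r : ℕ) (c : Fin r → k) : kV Λ k r ⟶ dual Λ k :=
  kVmap (dotLin c)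

/-- forget the last coordinate -/
noncomputable def initV (r : ℕ) : kV Λ k (r + 1) ⟶ kV Λ k r :=
  ⟨tszeMap (LinearMap.funLeft k k Fin.castSucc), AlgHom.ext fun _ => rfl⟩

theorem initV_fst (r : ℕ) (x : (kV Λ k (r + 1)).carrier) :
    TrivSqZeroExt.fst ((initV r).toAlgHom x : TrivSqZeroExt k (Fin r → k)) =
      TrivSqZeroExt.fst (x : TrivSqZeroExt k (Fin (r + 1) → k)) := rfl

theorem initV_snd (r : ℕ) (x : (kV Λ k (r + 1)).carrier) (j : Fin r) :
    TrivSqZeroExt.snd ((initV r).toAlgHom x : TrivSqZeroExt k (Fin r → k)) j =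
      TrivSqZeroExt.snd (x : TrivSqZeroExt k (Fin (r + 1) → k)) j.castSucc := rfl

theorem isFibreProd_kV (r : ℕ) :
    IsFibreProd (initV (Λ := Λ) (k := k) r) (prV (r + 1) (Fin.last r)) (toBase (kV Λ k r))
      (toBase (dual Λ k)) where
  w := by rw [eq_toBase (initV r ≫ toBase _), eq_toBase (prV (r + 1) (Fin.last r) ≫ toBase _)]
  inj b₁ b₂ h₁ h₂ := by
    have e₁ : TrivSqZeroExt.fst (b₁ : TrivSqZeroExt k (Fin (r + 1) → k)) =
        TrivSqZeroExt.fst (b₂ : TrivSqZeroExt k (Fin (r + 1) → k)) := by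
      have e := congrArg TrivSqZeroExt.fst h₁; exact e
    have e₂ : ∀ j : Fin r, TrivSqZeroExt.snd (b₁ : TrivSqZeroExt k (Fin (r + 1) → k)) j.castSucc =
        TrivSqZeroExt.snd (b₂ : TrivSqZeroExt k (Fin (r + 1) → k)) j.castSucc := by
      intro j
      have e := congrArg (fun t : TrivSqZeroExt k (Fin r → k) => TrivSqZeroExt.snd t j) h₁; exact e
    have e₃ : TrivSqZeroExt.snd (b₁ : TrivSqZeroExt k (Fin (r + 1) → k)) (Fin.last r) =
        TrivSqZeroExt.snd (b₂ : TrivSqZeroExt k (Fin (r + 1) → k)) (Fin.last r) := by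
      have e := congrArg TrivSqZeroExt.snd h₂; exact e
    refine TrivSqZeroExt.ext e₁ (funext fun i => ?_)
    refine Fin.lastCases e₃ (fun j => e₂ j) i
  surj a' a'' h := by
    have h' : TrivSqZeroExt.fst (a' : TrivSqZeroExt k (Fin r → k)) =
        TrivSqZeroExt.fst (a'' : TrivSqZeroExt k k) := h
    refine ⟨((TrivSqZeroExt.fst (a' : TrivSqZeroExt k (Fin r → k)),
      Fin.snoc (α := fun _ => k) (TrivSqZeroExt.snd (a' : TrivSqZeroExt k (Fin r → k)))
        (TrivSqZeroExt.snd (a'' : TrivSqZeroExt k k))) : TrivSqZeroExt k (Fin (r + 1) → k)), ?_, ?_⟩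
    · refine TrivSqZeroExt.ext rfl (funext fun j => ?_)
      change Fin.snoc (α := fun _ => k) _ _ j.castSucc = _
      rw [Fin.snoc_castSucc]
    · refine TrivSqZeroExt.ext h' ?_
      change Fin.snoc (α := fun _ => k) _ _ (Fin.last r) = _
      rw [Fin.snoc_last]

end KV

section ClaimA

variable {Λ : Type u} {k : Type u} [CommRing Λ] [Field k] [Algebra Λ k]
variable (F : Art Λ k ⥤ Type v)

theorem prV_castSucc (r : ℕ) (j : Fin r) :
    initV (Λ := Λ) (k := k) r ≫ prV r j = prV (r + 1) j.castSucc := by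
  apply Art.hom_ext
  apply AlgHom.ext
  intro x
  exact TrivSqZeroExt.ext rfl rfl

theorem toBase_kV_zero_bijective : Function.Bijective (toBase (kV Λ k 0)) := by
  constructor
  · intro x y h
    have h' : TrivSqZeroExt.fst (x : TrivSqZeroExt k (Fin 0 → k)) =
        TrivSqZeroExt.fst (y : TrivSqZeroExt k (Fin 0 → k)) := h
    exact TrivSqZeroExt.ext h' (Subsingleton.elim _ _)
  · intro a
    exact ⟨(TrivSqZeroExt.inl a : TrivSqZeroExt k (Fin 0 → k)), rfl⟩

theorem subsingleton_obj_kV_zero (h0 : H0 F) : Subsingleton (F.obj (kV Λ k 0)) := by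
  haveI : IsIso (toBase (kV Λ k 0)) := art_isIso_of_bijective _ toBase_kV_zero_bijective
  haveI := h0.2
  refine ⟨fun x y => ?_⟩
  have : F.map (toBase (kV Λ k 0)) x = F.map (toBase (kV Λ k 0)) y := Subsingleton.elim _ _
  have h2 := congrArg (F.map (inv (toBase (kV Λ k 0)))) this
  rwa [← Functor.map_comp_apply, ← Functor.map_comp_apply, IsIso.hom_inv_id,
    Functor.map_id_apply, Functor.map_id_apply] at h2

theorem nonempty_obj_kV_zero (h0 : H0 F) : Nonempty (F.obj (kV Λ k 0)) := by
  haveI : IsIso (toBase (kV Λ k 0)) := art_isIso_of_bijective _ toBase_kV_zero_bijective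
  obtain ⟨x⟩ := h0.1
  exact ⟨F.map (inv (toBase (kV Λ k 0))) x⟩

/-- `F(k[V]) ≅ t_F^r` under `H0` and `Heps` -/
theorem bijective_prV (h0 : H0 F) (h2 : Heps F) (r : ℕ) :
    Function.Bijective
      (fun (z : F.obj (kV Λ k r)) (i : Fin r) => F.map (prV r i) z) := by
  induction r with
  | zero =>
    haveI := subsingleton_obj_kV_zero F h0
    obtain ⟨z₀⟩ := nonempty_obj_kV_zero F h0
    constructor
    · intro x y _
      exact Subsingleton.elim _ _
    · intro t
      exact ⟨z₀, funext fun i => i.elim0⟩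
  | succ r ih =>
    have hb := h2 (initV r) (prV (r + 1) (Fin.last r)) (isFibreProd_kV r)
    constructor
    · intro z z' hzz
      apply hb.1
      apply FibProd.ext
      · change F.map (initV r) z = F.map (initV r) z'
        apply ih.1
        funext j
        change F.map (prV r j) (F.map (initV r) z) = F.map (prV r j) (F.map (initV r) z')
        rw [← Functor.map_comp_apply, ← Functor.map_comp_apply, prV_castSucc]
        exact congrFun hzz j.castSucc
      · exact congrFun hzz (Fin.last r)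
    · intro t
      obtain ⟨y, hy⟩ := ih.2 (fun j => t j.castSucc)
      haveI := h0.2
      obtain ⟨z, hz⟩ := hb.2 ⟨(y, t (Fin.last r)), Subsingleton.elim _ _⟩
      have hz1 : F.map (initV r) z = y := congrArg (fun t => t.1.1) hz
      have hz2 : F.map (prV (r + 1) (Fin.last r)) z = t (Fin.last r) := congrArg (fun t => t.1.2) hz
      refine ⟨z, funext fun i => ?_⟩
      refine Fin.lastCases hz2 (fun j => ?_) i
      change F.map (prV (r + 1) j.castSucc) z = t j.castSucc
      rw [← prV_castSucc, Functor.map_comp_apply, hz1]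
      exact congrFun hy j

end ClaimA

section LinComb

variable {Λ : Type u} {k : Type u} [CommRing Λ] [Field k] [Algebra Λ k]
variable (F : Art Λ k ⥤ Type v)

theorem scale_zero_eq : scale (Λ := Λ) (0 : k) = toBase (dual Λ k) ≫ baseToDual := by
  apply Art.hom_ext
  apply AlgHom.ext
  intro x
  refine TrivSqZeroExt.ext rfl ?_
  change ((0 : k) • LinearMap.id) (TrivSqZeroExt.snd (x : TrivSqZeroExt k k)) = 0
  simp

variable [T : TangentStr F]

theorem smul_mk (c : k) (x : F.obj (dual Λ k)) :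
    c • TangentSpace.mk x = TangentSpace.mk (F.map (scale c) x) :=
  T.smul_eq c x

theorem add_mk (w : F.obj (dual2 Λ k)) :
    TangentSpace.mk (F.map pr₁ w) + TangentSpace.mk (F.map pr₂ w) =
      TangentSpace.mk (F.map plus w) :=
  T.add_eq w

theorem map_baseToDual_eq_zero (h0 : H0 F) (p : F.obj (base Λ k)) :
    TangentSpace.mk (F.map baseToDual p) = 0 := by
  haveI := h0.2
  have h1 := smul_mk F (0 : k) (TangentSpace.val (0 : TangentSpace F))
  rw [scale_zero_eq, Functor.map_comp_apply] at h1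
  have h2 : F.map (toBase (dual Λ k)) (TangentSpace.val (0 : TangentSpace F)) = p :=
    Subsingleton.elim _ _
  rw [h2] at h1
  rw [← h1]
  exact zero_smul k _

/-- the auxiliary map to `k[ε₁, ε₂]` -/
noncomputable def splitV (r : ℕ) (c : Fin (r + 1) → k) : kV Λ k (r + 1) ⟶ dual2 Λ k :=
  ⟨tszeMap (LinearMap.prod ((dotLin (fun j : Fin r => c j.castSucc)).comp
      (LinearMap.funLeft k k Fin.castSucc)) (c (Fin.last r) • LinearMap.proj (Fin.last r))),
    AlgHom.ext fun _ => rfl⟩

theorem splitV_pr₁ (r : ℕ) (c : Fin (r + 1) → k) :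
    splitV (Λ := Λ) r c ≫ pr₁ = initV r ≫ dotV r (fun j => c j.castSucc) := by
  apply Art.hom_ext
  apply AlgHom.ext
  intro x
  exact TrivSqZeroExt.ext rfl rfl

theorem splitV_pr₂ (r : ℕ) (c : Fin (r + 1) → k) :
    splitV (Λ := Λ) r c ≫ pr₂ = prV (r + 1) (Fin.last r) ≫ scale (c (Fin.last r)) := by
  apply Art.hom_ext
  apply AlgHom.ext
  intro x
  exact TrivSqZeroExt.ext rfl rfl

theorem splitV_plus (r : ℕ) (c : Fin (r + 1) → k) :
    splitV (Λ := Λ) r c ≫ plus = dotV (r + 1) c := by
  apply Art.hom_ext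
  apply AlgHom.ext
  intro x
  refine TrivSqZeroExt.ext rfl ?_
  change dotLin (fun j : Fin r => c j.castSucc)
      (fun j => TrivSqZeroExt.snd (x : TrivSqZeroExt k (Fin (r + 1) → k)) j.castSucc) +
      c (Fin.last r) • TrivSqZeroExt.snd (x : TrivSqZeroExt k (Fin (r + 1) → k)) (Fin.last r) =
    dotLin c (TrivSqZeroExt.snd (x : TrivSqZeroExt k (Fin (r + 1) → k)))
  rw [dotLin_apply, dotLin_apply, Fin.sum_univ_castSucc, smul_eq_mul]

theorem map_dotV (h0 : H0 F) (r : ℕ) (c : Fin r → k) (z : F.obj (kV Λ k r)) :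
    TangentSpace.mk (F.map (dotV r c) z) = ∑ i, c i • TangentSpace.mk (F.map (prV r i) z) := by
  induction r with
  | zero =>
    rw [Finset.univ_eq_empty, Finset.sum_empty]
    have : dotV (Λ := Λ) 0 c = toBase (kV Λ k 0) ≫ baseToDual := by
      apply Art.hom_ext
      apply AlgHom.ext
      intro x
      refine TrivSqZeroExt.ext rfl ?_
      change dotLin c (TrivSqZeroExt.snd (x : TrivSqZeroExt k (Fin 0 → k))) = 0
      rw [dotLin_apply, Finset.univ_eq_empty, Finset.sum_empty]
    rw [this, Functor.map_comp_apply]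
    exact map_baseToDual_eq_zero F h0 _
  | succ r ih =>
    have h1 := add_mk F (F.map (splitV r c) z)
    rw [← Functor.map_comp_apply, ← Functor.map_comp_apply, ← Functor.map_comp_apply, splitV_pr₁,
      splitV_pr₂, splitV_plus, Functor.map_comp_apply, Functor.map_comp_apply] at h1
    have h2 := ih (fun j => c j.castSucc) (F.map (initV r) z)
    have h3 := smul_mk F (c (Fin.last r)) (F.map (prV (r + 1) (Fin.last r)) z)
    rw [Fin.sum_univ_castSucc, ← h1, h2, h3]
    congr 1
    refine Finset.sum_congr rfl fun j _ => ?_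
    rw [← Functor.map_comp_apply, prV_castSucc]

end LinComb

section Basis

variable {Λ : Type u} {k : Type u} [CommRing Λ] [Field k] [Algebra Λ k]
variable (F : Art Λ k ⥤ Type v) [T : TangentStr F]

/-- a basis of the tangent space realised by a single element of `F(k[V])` -/
theorem exists_basis_elt (h0 : H0 F) (h2 : Heps F) (h3 : Hfin F) :
    ∃ (r : ℕ) (b : Module.Basis (Fin r) k (TangentSpace F)) (z : F.obj (kV Λ k r)),
      ∀ i, TangentSpace.mk (F.map (prV r i) z) = b i := by
  haveI : Module.Finite k (TangentSpace F) := h3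
  let b := Module.finBasis k (TangentSpace F)
  obtain ⟨z, hz⟩ := (bijective_prV F h0 h2 _).2 (fun i => TangentSpace.val (b i))
  exact ⟨_, b, z, fun i => congrFun hz i⟩

end Basis

end Groth.Agent.Lib.Helper58.Schl
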