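import Mathlib
import Groth.Agent.Lib.Helper58.SchlHull
import Groth.Agent.Lib.Helper58.SchlTangent

/-!
# Schlessinger: the initial stage `k[V]` and bijectivity on tangent spaces (helper58)
-/

set_option autoImplicit false
universe u v

namespace Groth.Agent.Lib.Helper58.Schl

open MvPowerSeries IsLocalRing ArtFun ArtFun.Art CategoryTheory Groth.Agent.Lib.Helper65

section Init

variable {Λ : Type u} {k : Type u} [CommRing Λ] [Field k] [Algebra Λ k] (r : ℕ)

theorem C_eq_algebraMap (l : Λ) : (C l : PS Λ r) = algebraMap Λ (PS Λ r) l := by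
  rw [MvPowerSeries.algebraMap_apply]; rfl

theorem surjective_of_X_eq_inr (hk : Function.Surjective (algebraMap Λ k))
    (w : PS Λ r →ₐ[Λ] TrivSqZeroExt k (Fin r → k))
    (hw : ∀ i, w (X i) = TrivSqZeroExt.inr (Pi.single i (1 : k))) : Function.Surjective w := by
  intro y
  obtain ⟨l0, hl0⟩ := hk y.fst
  have hl : ∀ i, ∃ l : Λ, algebraMap Λ k l = y.snd i := fun i => hk _
  choose l hl using hl
  refine ⟨C l0 + ∑ i, C (l i) * X i, ?_⟩
  rw [map_add, map_sum, C_eq_algebraMap, AlgHom.commutes]
  have h1 : ∀ i, w (C (l i) * X i) = TrivSqZeroExt.inr (Pi.single i (y.snd i)) := by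
    intro i
    rw [map_mul, C_eq_algebraMap, AlgHom.commutes, hw, TrivSqZeroExt.algebraMap_eq_inl',
      TrivSqZeroExt.inl_mul_inr, hl i, ← Pi.single_smul, smul_eq_mul, mul_one]
  simp only [h1]
  rw [TrivSqZeroExt.algebraMap_eq_inl', hl0]
  have h2 : (∑ i : Fin r, (TrivSqZeroExt.inr (Pi.single i (y.snd i)) :
      TrivSqZeroExt k (Fin r → k))) = TrivSqZeroExt.inr y.snd := by
    have := (map_sum (TrivSqZeroExt.inrHom k (Fin r → k))
      (fun i : Fin r => Pi.single i (y.snd i)) Finset.univ).symm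
    refine this.trans ?_
    rw [Finset.univ_sum_single (y.snd)]
    rfl
  rw [h2]
  exact TrivSqZeroExt.inl_fst_add_inr_snd_eq y

/-- the `i`-th basis vector of `kV r` -/
noncomputable def eV (i : Fin r) : (kV Λ k r).carrier :=
  (TrivSqZeroExt.inr (Pi.single i (1 : k)) : TrivSqZeroExt k (Fin r → k))

theorem eV_mem (i : Fin r) : eV (Λ := Λ) r i ∈ maximalIdeal (kV Λ k r) := by
  rw [Art.mem_maximalIdeal_iff]
  rfl

variable (Λ k) in
/-- the presentation of `kV r` as a quotient of the ambient ring -/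
noncomputable def wV : PS Λ r →ₐ[Λ] (kV Λ k r) :=
  (exists_algHom_X (r := r) (A := kV Λ k r) (eV r) (eV_mem r)).choose

theorem wV_res : (kV Λ k r).res.comp (wV Λ k r) = resPS Λ k r :=
  (exists_algHom_X (r := r) (A := kV Λ k r) (eV r) (eV_mem r)).choose_spec.1

theorem wV_X (i : Fin r) : wV Λ k r (X i) = eV r i :=
  (exists_algHom_X (r := r) (A := kV Λ k r) (eV r) (eV_mem r)).choose_spec.2 i

theorem wV_surjective (hk : Function.Surjective (algebraMap Λ k)) :
    Function.Surjective (wV Λ k r) :=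
  surjective_of_X_eq_inr r hk (wV Λ k r) (wV_X r)

variable {r}

theorem dotV_comp_wV_res (c : Fin r → k) :
    (dual Λ k).res.comp ((dotV r c).toAlgHom.comp (wV Λ k r)) = resPS Λ k r := by
  rw [← AlgHom.comp_assoc, (dotV r c).res_comp, wV_res]

theorem dotV_eV (c : Fin r → k) (i : Fin r) :
    (dotV (Λ := Λ) r c).toAlgHom (eV r i) = (TrivSqZeroExt.inr (c i) : TrivSqZeroExt k k) := by
  refine TrivSqZeroExt.ext rfl ?_
  change dotLin c (Pi.single i (1 : k)) = c i
  rw [dotLin_apply, Finset.sum_eq_single i]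
  · rw [Pi.single_eq_same, mul_one]
  · intro j _ hj
    rw [Pi.single_eq_of_ne hj, mul_zero]
  · intro h
    exact absurd (Finset.mem_univ i) h

/-- every augmented map from the ambient ring to the dual numbers factors through `kV r` -/
theorem exists_dotV_comp (u : PS Λ r →ₐ[Λ] (dual Λ k))
    (hu : (dual Λ k).res.comp u = resPS Λ k r) :
    ∃ c : Fin r → k, u = (dotV r c).toAlgHom.comp (wV Λ k r) := by
  refine ⟨fun i => TrivSqZeroExt.snd (u (X i) : TrivSqZeroExt k k), ?_⟩
  apply algHom_ext_X _ _ hu (dotV_comp_wV_res _)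
  intro i
  change u (X i) = (dotV r _).toAlgHom (wV Λ k r (X i))
  rw [wV_X, dotV_eV]
  refine TrivSqZeroExt.ext ?_ rfl
  have : (dual Λ k).res (u (X i)) = resPS Λ k r (X i) := AlgHom.congr_fun hu (X i)
  rw [resPS_X] at this
  exact this

variable {F : Art Λ k ⥤ Type v}

/-- the initial stage -/
noncomputable def initStage (hk : Function.Surjective (algebraMap Λ k)) (z : F.obj (kV Λ k r)) :
    Stage Λ k r F :=
  { C := kV Λ k r
    w := wV Λ k r
    surj := wV_surjective r hk
    comp_res := wV_res r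
    x := z }

end Init

section TangentBij

variable {Λ : Type u} {k : Type u} [CommRing Λ] [Field k] [Algebra Λ k] {r : ℕ}
  [IsLocalRing Λ] [IsNoetherianRing Λ] [IsAdicComplete (maximalIdeal Λ) Λ]
  {F : Art Λ k ⥤ Type v} [TS : TangentStr F]
  (hk : Function.Surjective (algebraMap Λ k)) (T : Tower Λ k r F)

/-- the element of `h_R(k[ε])` with coefficients `c`, when the tower starts at `kV r` -/
noncomputable def Tower.tanHom (z : F.obj (kV Λ k r)) (h0 : T.st 0 = initStage hk z) (c : Fin r → k) :
    HomSet (T.ring hk).carrier (T.ring hk).res (dual Λ k) :=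
  ⟨Ideal.Quotient.liftₐ T.J ((dotV r c).toAlgHom.comp (wV Λ k r)) (by
      intro a ha
      have h1 : a ∈ (T.st 0).K := (iInf_le (fun q => (T.st q).K) 0) ha
      rw [h0] at h1
      have h2 : wV Λ k r a = 0 := ((initStage hk z).mem_K a).mp h1
      change (dotV r c).toAlgHom (wV Λ k r a) = 0
      rw [h2, map_zero]), by
    apply AlgHom.ext
    intro y
    obtain ⟨a, rfl⟩ := Ideal.Quotient.mk_surjective y
    exact AlgHom.congr_fun (dotV_comp_wV_res (Λ := Λ) c) a⟩

theorem Tower.pre_tanHom (z : F.obj (kV Λ k r)) (h0 : T.st 0 = initStage hk z) (c : Fin r → k) :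
    T.pre hk (T.tanHom hk z h0 c) = (dotV r c).toAlgHom.comp (wV Λ k r) :=
  AlgHom.ext fun _ => rfl

theorem Tower.family_app_of_pre_eq (z : F.obj (kV Λ k r)) (h0 : T.st 0 = initStage hk z)
    (φ : HomSet (T.ring hk).carrier (T.ring hk).res (dual Λ k)) (c : Fin r → k)
    (hφ : T.pre hk φ = (dotV r c).toAlgHom.comp (wV Λ k r)) :
    (T.family hk).app _ φ = F.map (dotV r c) z := by
  have hq : (T.st 0).K ≤ RingHom.ker (T.pre hk φ) := by
    intro a ha
    rw [h0] at ha
    have h2 : wV Λ k r a = 0 := ((initStage hk z).mem_K a).mp ha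
    rw [RingHom.mem_ker, hφ]
    change (dotV r c).toAlgHom (wV Λ k r a) = 0
    rw [h2, map_zero]
  rw [T.family_app hk φ 0 hq]
  unfold Tower.val
  have key : ∀ (σ : Stage Λ k r F) (hσ : σ = initStage hk z)
      (hq' : σ.K ≤ RingHom.ker (T.pre hk φ)),
      F.map (factorHom σ.w σ.surj (T.pre hk φ) σ.comp_res (T.pre_res hk φ) hq') σ.x =
        F.map (dotV r c) z := by
    intro σ hσ hq'
    subst hσ
    have : factorHom (initStage hk z).w (initStage hk z).surj (T.pre hk φ)
        (initStage hk z).comp_res (T.pre_res hk φ) hq' = dotV r c := by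
      apply hom_ext_of_surjective (initStage hk z).w (initStage hk z).surj
      apply AlgHom.ext
      intro a
      change (factorHom (initStage hk z).w (initStage hk z).surj (T.pre hk φ)
        (initStage hk z).comp_res (T.pre_res hk φ) hq').toAlgHom
        ((initStage hk z).w a) = (dotV r c).toAlgHom (wV Λ k r a)
      rw [factorHom_apply, hφ]
      rfl
    rw [this]
    rfl
  exact key (T.st 0) h0 hq


theorem Tower.tangent_bijective (z : F.obj (kV Λ k r)) (h0 : T.st 0 = initStage hk z)
    (b : Module.Basis (Fin r) k (TangentSpace F))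
    (hb : ∀ i, TangentSpace.mk (F.map (prV r i) z) = b i) (h0F : H0 F) :
    Function.Bijective ((T.family hk).app (dual Λ k)) := by
  have hval : ∀ c : Fin r → k, TangentSpace.mk (F.map (dotV r c) z) = ∑ i, c i • b i := by
    intro c
    rw [map_dotV F h0F r c z]
    exact Finset.sum_congr rfl fun i _ => by rw [hb i]
  constructor
  · intro φ φ' hφφ
    obtain ⟨c, hc⟩ := exists_dotV_comp (T.pre hk φ) (T.pre_res hk φ)
    obtain ⟨c', hc'⟩ := exists_dotV_comp (T.pre hk φ') (T.pre_res hk φ')
    rw [T.family_app_of_pre_eq hk z h0 φ c hc, T.family_app_of_pre_eq hk z h0 φ' c' hc'] at hφφ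
    have h1 : ∑ i, c i • b i = ∑ i, c' i • b i := by
      rw [← hval c, ← hval c', hφφ]
    have h2 : c = c' := by
      have := congrArg (fun t => (b.repr t : Fin r → k)) h1
      simp only [Module.Basis.repr_sum_self] at this
      exact this
    subst h2
    apply Subtype.ext
    apply AlgHom.ext
    intro y
    obtain ⟨a, rfl⟩ := T.π_surjective hk y
    exact (AlgHom.congr_fun hc a).trans (AlgHom.congr_fun hc' a).symm
  · intro t
    let c : Fin r → k := fun i => b.repr (TangentSpace.mk t) i
    refine ⟨T.tanHom hk z h0 c, ?_⟩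
    rw [T.family_app_of_pre_eq hk z h0 _ c (T.pre_tanHom hk z h0 c)]
    have := hval c
    rw [b.sum_repr (TangentSpace.mk t)] at this
    exact this

end TangentBij

end Groth.Agent.Lib.Helper58.Schl
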