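import Mathlib
import Groth.Agent.Lib.Helper58.SchlInit
import Groth.Agent.Lib.Helper65.ArtFinite
import Groth.Agent.S12711
import Groth.Agent.S12713
import Groth.Agent.S12728
import Groth.Agent.S12724
import Groth.Agent.Lib.Helper65.ArtTorsor
import Groth.Agent.Lib.Helper65.CRingTangent

/-!
# Schlessinger: versality and universality of the hull family; the existence theorem (helper58)
-/

set_option autoImplicit false
universe u v

namespace Groth.Agent.Lib.Helper58.Schl

open MvPowerSeries IsLocalRing ArtFun ArtFun.Art CategoryTheory Groth.Agent.Lib.Helper65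

section Versal

variable {Λ : Type u} {k : Type u} [CommRing Λ] [Field k] [Algebra Λ k] {r : ℕ}
  [IsLocalRing Λ] [IsNoetherianRing Λ] [IsAdicComplete (maximalIdeal Λ) Λ]
  {F : Art Λ k ⥤ Type v}
  (hk : Function.Surjective (algebraMap Λ k)) (T : Tower Λ k r F)

/-- the minimality property of the tower -/
def Tower.IsMinimal : Prop :=
  ∀ (q : ℕ) (ρ : Stage Λ k r F), maximalIdeal (PS Λ r) * (T.st q).K ≤ ρ.K →
    ∀ h₂ : ρ.K ≤ (T.st q).K, F.map (ρ.factor (T.st q) h₂) ρ.x = (T.st q).x → (T.st (q + 1)).K ≤ ρ.K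

/-- an element of `h_R(B)` from an augmented map of the ambient ring killing `J` -/
noncomputable def Tower.homOfPre {B : Art Λ k} (u : PS Λ r →ₐ[Λ] B)
    (hu : B.res.comp u = resPS Λ k r) (hJ : T.J ≤ RingHom.ker u) :
    HomSet (T.ring hk).carrier (T.ring hk).res B :=
  ⟨Ideal.Quotient.liftₐ T.J u (fun a ha => RingHom.mem_ker.mp (hJ ha)), by
    apply AlgHom.ext
    intro y
    obtain ⟨a, rfl⟩ := Ideal.Quotient.mk_surjective y
    exact AlgHom.congr_fun hu a⟩

theorem Tower.pre_homOfPre {B : Art Λ k} (u : PS Λ r →ₐ[Λ] B)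
    (hu : B.res.comp u = resPS Λ k r) (hJ : T.J ≤ RingHom.ker u) :
    T.pre hk (T.homOfPre hk u hu hJ) = u :=
  AlgHom.ext fun _ => rfl

theorem Tower.homSet_ext {B : Art Λ k} (ψ ψ' : HomSet (T.ring hk).carrier (T.ring hk).res B)
    (h : T.pre hk ψ = T.pre hk ψ') : ψ = ψ' := by
  apply Subtype.ext
  apply AlgHom.ext
  intro y
  obtain ⟨a, rfl⟩ := T.π_surjective hk y
  exact AlgHom.congr_fun h a

include hk in
theorem moduleFinite_of_surjective : Module.Finite Λ k :=
  Module.Finite.of_surjective (Algebra.linearMap Λ k) hk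

/-- the lifting property of the hull family along small extensions -/
theorem Tower.exists_lift (hmin : T.IsMinimal) (h1 : S1 F)
    {B A : Art Λ k} (μ : B ⟶ A) (hμ : IsSmallExt μ)
    (φ : HomSet (T.ring hk).carrier (T.ring hk).res A) (y : F.obj B)
    (hy : F.map μ y = (T.family hk).app A φ) :
    ∃ ψ : HomSet (T.ring hk).carrier (T.ring hk).res B, HomSet.map μ ψ = φ := by
  haveI : Module.Finite Λ k := moduleFinite_of_surjective hk
  set u := T.pre hk φ with hu
  have hures := T.pre_res hk φ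
  obtain ⟨q, hq⟩ := T.exists_stage hk u hures (T.J_le_ker_pre hk φ)
  set σ := T.st q with hσ
  let φq : σ.C ⟶ A := factorHom σ.w σ.surj u σ.comp_res hures hq
  have hφq : ∀ a, φq.toAlgHom (σ.w a) = u a := fun a => factorHom_apply _ _ _ _ _ _ a
  have hξ : (T.family hk).app A φ = F.map φq σ.x := T.family_app hk φ q hq
  obtain ⟨C', p₁, p₂, hfp⟩ := art_exists_isFibreProd φq μ hμ.1
  have hp₁small : IsSmallExt p₁ := Groth.Agent.S12711.result hfp hμ
  obtain ⟨z, hz⟩ := h1 p₁ p₂ φq μ hfp hμ.1 ⟨(σ.x, y), by rw [hy, hξ]⟩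
  have hz1 : F.map p₁ z = σ.x := congrArg (fun t => t.1.1) hz
  obtain ⟨w', hw'1, hw'2⟩ := exists_lift_PS p₁ hp₁small.1 σ.w σ.comp_res
  have hp₁w' : ∀ a, p₁.toAlgHom (w' a) = σ.w a := fun a => AlgHom.congr_fun hw'1 a
  have hcomm : ∀ c : C', μ.toAlgHom (p₂.toAlgHom c) = φq.toAlgHom (p₁.toAlgHom c) :=
    fun c => (hfp.w_apply c).symm
  -- the key: it suffices to produce an augmented `v : PS → B` killing `J` with `μ ∘ v = u`
  suffices hsuff : ∃ (v : PS Λ r →ₐ[Λ] B) (hv : B.res.comp v = resPS Λ k r)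
      (_ : T.J ≤ RingHom.ker v), μ.toAlgHom.comp v = u by
    obtain ⟨v, hv, hJv, hμv⟩ := hsuff
    refine ⟨T.homOfPre hk v hv hJv, ?_⟩
    apply T.homSet_ext hk
    rw [T.pre_map, T.pre_homOfPre, hμv]
  by_cases hsurj : Function.Surjective w'
  · -- `C'` is a competitor
    let ρ : Stage Λ k r F :=
      { C := C', w := w', surj := hsurj, comp_res := hw'2, x := z }
    have hρσ : ρ.K ≤ σ.K := by
      intro a ha
      rw [σ.mem_K, ← hp₁w']
      have : w' a = 0 := (ρ.mem_K a).mp ha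
      rw [this, map_zero]
    have hnρ : maximalIdeal (PS Λ r) * σ.K ≤ ρ.K := by
      rw [Ideal.mul_le]
      intro a ha b hb
      rw [ρ.mem_K]
      change w' (a * b) = 0
      rw [map_mul]
      have h1' : w' a ∈ maximalIdeal C' := (ρ.w_mem_maximalIdeal hk a).mpr ha
      have h2' : w' b ∈ RingHom.ker p₁.toAlgHom := by
        rw [RingHom.mem_ker, hp₁w']
        exact (σ.mem_K b).mp hb
      have := Ideal.mul_mem_mul h1' h2'
      rw [hp₁small.2.2.2] at this
      exact this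
    have hfac : ρ.factor σ hρσ = p₁ := by
      apply hom_ext_of_surjective ρ.w ρ.surj
      apply AlgHom.ext
      intro a
      change (ρ.factor σ hρσ).toAlgHom (ρ.w a) = p₁.toAlgHom (w' a)
      rw [Stage.factor_apply, hp₁w']
    have hle : (T.st (q + 1)).K ≤ ρ.K := hmin q ρ hnρ hρσ (by rw [hfac]; exact hz1)
    refine ⟨p₂.toAlgHom.comp w', ?_, ?_, ?_⟩
    · rw [← AlgHom.comp_assoc, p₂.res_comp, hw'2]
    · intro a ha
      have h1' : a ∈ ρ.K := hle ((iInf_le (fun q => (T.st q).K) (q + 1)) ha)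
      rw [RingHom.mem_ker]
      change p₂.toAlgHom (w' a) = 0
      rw [(ρ.mem_K a).mp h1', map_zero]
    · apply AlgHom.ext
      intro a
      change μ.toAlgHom (p₂.toAlgHom (w' a)) = u a
      rw [hcomm, hp₁w', hφq]
  · -- `C' → σ.C` has a section
    obtain ⟨N, hN⟩ := exists_pow_le_ker hk w' hw'2
    have hN1 : maximalIdeal (PS Λ r) ^ (N + 1) ≤ maximalIdeal (PS Λ r) :=
      Ideal.pow_le_self (Nat.succ_ne_zero N)
    let C₀ : Art Λ k := artQ hk (maximalIdeal (PS Λ r) ^ (N + 1)) hN1 ⟨N + 1, le_rfl⟩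
    let w₀ : PS Λ r →ₐ[Λ] C₀ := Ideal.Quotient.mkₐ Λ _
    have hw₀ : Function.Surjective w₀ := Ideal.Quotient.mk_surjective
    have hres₀ : C₀.res.comp w₀ = resPS Λ k r := AlgHom.ext fun a => rfl
    have hker₀ : RingHom.ker w₀ ≤ RingHom.ker w' := by
      have : RingHom.ker w₀ = maximalIdeal (PS Λ r) ^ (N + 1) := Ideal.mk_ker
      rw [this]
      exact (Ideal.pow_le_pow_right (Nat.le_succ N)).trans hN
    let g : C₀ ⟶ C' := factorHom w₀ hw₀ w' hres₀ hw'2 hker₀
    have hg : ∀ a, g.toAlgHom (w₀ a) = w' a := fun a => factorHom_apply _ _ _ _ _ _ a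
    have hgp : Function.Surjective (g ≫ p₁) := by
      intro c
      obtain ⟨a, rfl⟩ := σ.surj c
      refine ⟨w₀ a, ?_⟩
      change p₁.toAlgHom (g.toAlgHom (w₀ a)) = σ.w a
      rw [hg, hp₁w']
    have hgns : ¬ Function.Surjective g := by
      intro hgs
      apply hsurj
      intro c
      obtain ⟨c₀, rfl⟩ := hgs c
      obtain ⟨a, rfl⟩ := hw₀ c₀
      exact ⟨a, (hg a).symm⟩
    obtain ⟨s, hs⟩ := (Groth.Agent.S12713.result p₁ hp₁small).mp ⟨C₀, g, hgp, hgns⟩
    have hsp : ∀ c, p₁.toAlgHom (s.toAlgHom c) = c := fun c =>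
      congrArg (fun t : σ.C ⟶ σ.C => t.toAlgHom c) hs
    refine ⟨p₂.toAlgHom.comp (s.toAlgHom.comp σ.w), ?_, ?_, ?_⟩
    · rw [← AlgHom.comp_assoc, ← AlgHom.comp_assoc, p₂.res_comp, s.res_comp, σ.comp_res]
    · intro a ha
      have h1' : a ∈ σ.K := (iInf_le (fun q => (T.st q).K) q) ha
      rw [RingHom.mem_ker]
      change p₂.toAlgHom (s.toAlgHom (σ.w a)) = 0
      rw [(σ.mem_K a).mp h1', map_zero, map_zero]
    · apply AlgHom.ext
      intro a
      change μ.toAlgHom (p₂.toAlgHom (s.toAlgHom (σ.w a))) = u a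
      rw [hcomm, hsp, hφq]

end Versal

section Universal

variable {Λ : Type u} {k : Type u} [CommRing Λ] [Field k] [Algebra Λ k]
  [IsNoetherianRing Λ] [Module.Finite Λ k]
  {F : Art Λ k ⥤ Type v} {R : Type u} [CommRing R] [Algebra Λ R] {resR : R →ₐ[Λ] k}

theorem homSet_map_id {A : Art Λ k} (ψ : HomSet R resR A) : HomSet.map (𝟙 A) ψ = ψ :=
  Subtype.ext (AlgHom.ext fun _ => rfl)

theorem homSet_map_comp {A B C : Art Λ k} (f : A ⟶ B) (g : B ⟶ C) (ψ : HomSet R resR A) :
    HomSet.map (f ≫ g) ψ = HomSet.map g (HomSet.map f ψ) :=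
  Subtype.ext (AlgHom.ext fun _ => rfl)

/-- a versal family injective on the tangent space of a functor satisfying `HSq` is universal -/
theorem isUniversal_of_isVersal (h0 : H0 F) (h4 : HSq F) (ξ : Family R resR F)
    (hv : IsVersal ξ) (hinj : Function.Injective (ξ.app (dual Λ k))) : IsUniversal ξ := by
  intro A
  refine ⟨?_, versal_app_surjective h0 ξ hv A⟩
  have key : ∀ ⦃A B : Art Λ k⦄ (f : B ⟶ A), Function.Surjective f →
      (Function.Injective (ξ.app A) → Function.Injective (ξ.app B)) := by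
    apply art_surjective_induction
      (P := fun A B (_ : B ⟶ A) => Function.Injective (ξ.app A) → Function.Injective (ξ.app B))
    · intro A B e he hA ψ₁ ψ₂ h
      have h1 : HomSet.map e ψ₁ = HomSet.map e ψ₂ := by
        apply hA
        rw [ξ.natural, ξ.natural, h]
      have h2 := congrArg (HomSet.map (inv e)) h1
      rwa [← homSet_map_comp, ← homSet_map_comp, IsIso.hom_inv_id, homSet_map_id,
        homSet_map_id] at h2
    · intro A B μ hμ hA ψ₁ ψ₂ h
      have h1 : HomSet.map μ ψ₁ = HomSet.map μ ψ₂ := by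
        apply hA
        rw [ξ.natural, ξ.natural, h]
      obtain ⟨P, q₁, q₂, τ, hP₁, hP₂⟩ := exists_torsor_square μ hμ
      obtain ⟨Ψ, hΨ1, hΨ2⟩ := isFibreProd_lift hP₁ ψ₁ ψ₂ h1
      obtain ⟨Δ, hΔ1, hΔ2⟩ := isFibreProd_lift hP₁ ψ₁ ψ₁ rfl
      have h2 : ξ.app P Ψ = ξ.app P Δ := by
        apply (h4 q₁ q₂ μ hP₁ hμ).1
        apply FibProd.ext
        · change F.map q₁ (ξ.app P Ψ) = F.map q₁ (ξ.app P Δ)
          rw [← ξ.natural, ← ξ.natural, hΨ1, hΔ1]
        · change F.map q₂ (ξ.app P Ψ) = F.map q₂ (ξ.app P Δ)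
          rw [← ξ.natural, ← ξ.natural, hΨ2, hΔ2, h]
      have h3 : HomSet.map τ Ψ = HomSet.map τ Δ := by
        apply hinj
        rw [ξ.natural, ξ.natural, h2]
      have h4' : Ψ = Δ := isFibreProd_homSet_ext hP₂ Ψ Δ (by rw [hΨ1, hΔ1]) h3
      rw [← hΨ2, h4', hΔ2]
    · intro A B C p q hp hq hA
      exact hp (hq hA)
  refine key (toBase A) A.res_surjective ?_
  intro ψ₁ ψ₂ _
  rw [homSet_base_unique ψ₁, homSet_base_unique ψ₂]

end Universal

section Main

variable {Λ : Type u} {k : Type u} [CommRing Λ] [Field k] [Algebra Λ k] {r : ℕ}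
  [IsLocalRing Λ] [IsNoetherianRing Λ] [IsAdicComplete (maximalIdeal Λ) Λ]
  {F : Art Λ k ⥤ Type v}

/-- the tower of minimal stages starting from a given stage -/
noncomputable def minTower [Module.Finite Λ k] (hk : Function.Surjective (algebraMap Λ k))
    (h1 : S1 F) (σ₀ : Stage Λ k r F) : ℕ → Stage Λ k r F
  | 0 => σ₀
  | q + 1 => (exists_next hk h1 (minTower hk h1 σ₀ q)).choose

/-- Schlessinger's theorem, existence part: `Hbar`, `Heps`, `Hfin`, `HSq` imply
pro-representability (for `Λ` complete local Noetherian with residue field `k`). -/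
theorem isProrepresentable_of_conditions (hk : Function.Surjective (algebraMap Λ k))
    [TangentStr F] (h0 : H0 F) (hbar : Hbar F) (heps : Heps F) (hfin : Hfin F) (hsq : HSq F) :
    IsProrepresentable F := by
  haveI : Module.Finite Λ k := moduleFinite_of_surjective hk
  have h1 : S1 F := (Groth.Agent.S12724.result F).mpr hbar
  obtain ⟨r, b, z, hz⟩ := exists_basis_elt F h0 heps hfin
  let st := minTower hk h1 (initStage hk z)
  have hspec : ∀ q, maximalIdeal (PS Λ r) * (st q).K ≤ (st (q + 1)).K ∧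
      ∃ hle : (st (q + 1)).K ≤ (st q).K,
        F.map ((st (q + 1)).factor (st q) hle) (st (q + 1)).x = (st q).x ∧
        ∀ (ρ : Stage Λ k r F) (_ : maximalIdeal (PS Λ r) * (st q).K ≤ ρ.K) (h₂ : ρ.K ≤ (st q).K),
          F.map (ρ.factor (st q) h₂) ρ.x = (st q).x → (st (q + 1)).K ≤ ρ.K :=
    fun q => (exists_next hk h1 (st q)).choose_spec
  let T : Tower Λ k r F :=
    { st := st
      anti := fun q => (hspec q).2.choose
      compat := fun q => (hspec q).2.choose_spec.1 }
  have hmin : T.IsMinimal := fun q ρ h₁ h₂ hx => (hspec q).2.choose_spec.2 ρ h₁ h₂ hx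
  have htan := T.tangent_bijective hk z rfl b hz h0
  have hversal : IsVersal (T.family hk) :=
    (Groth.Agent.S12728.result h0 h1 heps (T.ring hk) (T.family hk)).mpr
      ⟨htan.2, fun B A μ hμ φ y hy => T.exists_lift hk hmin h1 μ hμ φ y hy⟩
  exact ⟨⟨T.ring hk, T.family hk, isUniversal_of_isVersal h0 hsq _ hversal htan.1⟩⟩

end Main

end Groth.Agent.Lib.Helper58.Schl
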