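/-
Helper library (helper58): prime avoidance for cosets of an ideal.
-/
import Mathlib

set_option autoImplicit false

namespace Groth.Agent.Lib.Helper58.PrimeAvoidCoset

/-- Prime avoidance for a coset: if the ideal `K` is contained in none of the finitely many primes
`p ∈ s`, then every coset `h₀ + K` contains an element lying in none of them. -/
theorem exists_add_notMem {R : Type*} [CommRing R] (K : Ideal R) (s : Finset (Ideal R))
    (hs : ∀ p ∈ s, p.IsPrime ∧ ¬ K ≤ p) (h₀ : R) : ∃ κ ∈ K, ∀ p ∈ s, h₀ + κ ∉ p := by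
  classical
  induction s using Finset.strongInduction with
  | H s ih =>
    rcases s.eq_empty_or_nonempty with rfl | hne
    · exact ⟨0, K.zero_mem, by simp⟩
    · obtain ⟨p', hp's, hmin⟩ := s.exists_minimal hne
      obtain ⟨κ, hκK, hκ⟩ := ih (s.erase p') (Finset.erase_ssubset hp's)
        (fun p hp => hs p (Finset.mem_of_mem_erase hp))
      by_cases hp' : h₀ + κ ∈ p'
      · have hprime : p'.IsPrime := (hs p' hp's).1
        have hnot : ¬ (K ⊓ (s.erase p').inf id ≤ p') := by
          intro hle
          rcases hprime.inf_le.1 hle with h1 | h1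
          · exact (hs p' hp's).2 h1
          · obtain ⟨p, hp, hpp'⟩ := hprime.inf_le'.1 h1
            have hps : p ∈ s := Finset.mem_of_mem_erase hp
            have : p' ≤ p := hmin hps hpp'
            exact (Finset.ne_of_mem_erase hp) (le_antisymm hpp' this)
        obtain ⟨κ', hκ'mem, hκ'p'⟩ := SetLike.not_le_iff_exists.1 hnot
        refine ⟨κ + κ', K.add_mem hκK hκ'mem.1, fun p hp => ?_⟩
        by_cases hpp' : p = p'
        · subst hpp'
          intro hmem
          apply hκ'p'
          have : κ' = (h₀ + (κ + κ')) - (h₀ + κ) := by ring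
          rw [this]
          exact p.sub_mem hmem hp'
        · have hpe : p ∈ s.erase p' := Finset.mem_erase.2 ⟨hpp', hp⟩
          intro hmem
          apply hκ p hpe
          have hκ'p : κ' ∈ p := by
            have : (s.erase p').inf id ≤ p := Finset.inf_le (f := id) hpe
            exact this hκ'mem.2
          have : h₀ + κ = (h₀ + (κ + κ')) - κ' := by ring
          rw [this]
          exact p.sub_mem hmem hκ'p
      · refine ⟨κ, hκK, fun p hp => ?_⟩
        by_cases hpp' : p = p'
        · subst hpp'; exact hp'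
        · exact hκ p (Finset.mem_erase.2 ⟨hpp', hp⟩)

/-- Set version. -/
theorem exists_add_notMem_of_finite {R : Type*} [CommRing R] (K : Ideal R) (s : Set (Ideal R))
    (hfin : s.Finite) (hs : ∀ p ∈ s, p.IsPrime ∧ ¬ K ≤ p) (h₀ : R) :
    ∃ κ ∈ K, ∀ p ∈ s, h₀ + κ ∉ p := by
  obtain ⟨κ, h1, h2⟩ := exists_add_notMem K hfin.toFinset
    (fun p hp => hs p (hfin.mem_toFinset.1 hp)) h₀
  exact ⟨κ, h1, fun p hp => h2 p (hfin.mem_toFinset.2 hp)⟩

/-- Ordinary prime avoidance in a convenient form. -/
theorem exists_mem_notMem_of_finite {R : Type*} [CommRing R] (I : Ideal R) (s : Set (Ideal R))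
    (hfin : s.Finite) (hs : ∀ p ∈ s, p.IsPrime ∧ ¬ I ≤ p) : ∃ f ∈ I, ∀ p ∈ s, f ∉ p := by
  obtain ⟨κ, h1, h2⟩ := exists_add_notMem_of_finite I s hfin hs 0
  exact ⟨κ, h1, fun p hp => by simpa using h2 p hp⟩

end Groth.Agent.Lib.Helper58.PrimeAvoidCoset
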