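import Mathlib
import Groth.Agent.Lib.Helper58.PrimeAvoidCoset

/-!
# Finitely many points in an open subset of an affine scheme lie in a common affine open
-/

set_option autoImplicit false

universe u

open CategoryTheory CategoryTheory.Limits AlgebraicGeometry Opposite

namespace Groth.Agent.Lib.Helper58.AFOpen

open Groth.Agent.Lib.Helper58

/-- finitely many points in an open subset of a prime spectrum lie in a basic open contained in
the open subset. -/
lemma exists_basicOpen_of_finite {A : Type*} [CommRing A]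
    (O : TopologicalSpace.Opens (PrimeSpectrum A)) (s : Set (PrimeSpectrum A)) (hs : s.Finite)
    (hsO : s ⊆ O) :
    ∃ a : A, s ⊆ PrimeSpectrum.basicOpen a ∧ PrimeSpectrum.basicOpen a ≤ O := by
  obtain ⟨I, hI⟩ := (PrimeSpectrum.isClosed_iff_zeroLocus_ideal _).mp O.isOpen.isClosed_compl
  obtain ⟨a, haI, ha⟩ := PrimeAvoidCoset.exists_mem_notMem_of_finite I
    (PrimeSpectrum.asIdeal '' s) (hs.image _) (by
      rintro _ ⟨p, hp, rfl⟩
      refine ⟨p.isPrime, fun hle => ?_⟩
      have : p ∈ PrimeSpectrum.zeroLocus (I : Set A) := hle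
      rw [← hI] at this
      exact this (hsO hp))
  refine ⟨a, fun p hp => ha _ ⟨p, hp, rfl⟩, fun q hq => ?_⟩
  by_contra hqO
  have : q ∈ PrimeSpectrum.zeroLocus (I : Set A) := by
    rw [← hI]
    exact hqO
  exact hq (this haI)

/-- finitely many points in the intersection of an affine open `V` and an open `O` lie in
a common affine open contained in `V ⊓ O`. -/
lemma exists_isAffineOpen_of_finite {X : Scheme.{u}} {V : X.Opens} (hV : IsAffineOpen V)
    (O : X.Opens) (s : Set X) (hs : s.Finite) (hsV : s ⊆ V) (hsO : s ⊆ O) :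
    ∃ V' : X.Opens, IsAffineOpen V' ∧ V' ≤ V ∧ V' ≤ O ∧ s ⊆ V' := by
  let j := hV.fromSpec
  have hinj : Function.Injective j := j.isOpenEmbedding.injective
  obtain ⟨a, ha1, ha2⟩ := exists_basicOpen_of_finite (j ⁻¹ᵁ O) (j ⁻¹' s)
    (hs.preimage hinj.injOn) (fun p hp => hsO hp)
  refine ⟨X.basicOpen a, hV.basicOpen a, X.basicOpen_le a, ?_, ?_⟩
  · rw [← hV.fromSpec_image_basicOpen]
    rintro _ ⟨p, hp, rfl⟩
    exact ha2 hp
  · intro x hx
    have hxV : x ∈ Set.range j := by
      rw [hV.range_fromSpec]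
      exact hsV hx
    obtain ⟨p, rfl⟩ := hxV
    rw [← hV.fromSpec_image_basicOpen]
    exact ⟨p, ha1 hx, rfl⟩

/-- finitely many points of a quasi-affine scheme lie in a common affine open. -/
lemma exists_isAffineOpen_of_finite_of_isQuasiAffine (X : Scheme.{u}) [X.IsQuasiAffine]
    (s : Set X) (hs : s.Finite) : ∃ V : X.Opens, IsAffineOpen V ∧ s ⊆ V := by
  let j := X.toSpecΓ
  obtain ⟨a, ha1, ha2⟩ := exists_basicOpen_of_finite j.opensRange (j '' s) (hs.image _)
    (by rintro _ ⟨x, _, rfl⟩; exact ⟨x, rfl⟩)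
  refine ⟨j ⁻¹ᵁ PrimeSpectrum.basicOpen a, ?_, fun x hx => ha1 ⟨x, hx, rfl⟩⟩
  exact (IsAffineOpen.Spec_basicOpen a).preimage_of_isOpenImmersion j ha2

end Groth.Agent.Lib.Helper58.AFOpen
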