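/-
Helper library (helper58): a commutative square of schemes is a pullback square as soon as it is so
on a suitable family of affine opens (pushout squares of rings).
-/
import Mathlib

set_option autoImplicit false
universe u

open AlgebraicGeometry CategoryTheory Limits

namespace Groth.Agent.Lib.Helper58.AffinePB

/-- The square of an affine open and its affine preimage is a pullback. -/
theorem isPullback_fromSpec {X Y : Scheme.{u}} (f : X ⟶ Y) {U : Y.Opens} (hU : IsAffineOpen U)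
    {V : X.Opens} (hV : IsAffineOpen V) (e : V = f ⁻¹ᵁ U) :
    IsPullback (Spec.map (f.appLE U V e.le)) hV.fromSpec hU.fromSpec f := by
  refine IsOpenImmersion.isPullback _ _ _ _ ?_ ?_
  · exact (IsAffineOpen.SpecMap_appLE_fromSpec f hU hV e.le).symm
  · rw [hU.opensRange_fromSpec, hV.opensRange_fromSpec, e]

/-- A commutative square which is a pullback on a family of affine opens covering `P'`. -/
theorem isPullback_of_affine_cover {Y' P' Y P : Scheme.{u}} (b' : Y' ⟶ P') (g : Y' ⟶ Y)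
    (h : P' ⟶ P) (b : Y ⟶ P)
    {ι : Type u} (O : ι → P.Opens) (O' : ι → P'.Opens) (V : ι → Y.Opens) (V' : ι → Y'.Opens)
    (hO : ∀ k, IsAffineOpen (O k)) (hO' : ∀ k, IsAffineOpen (O' k))
    (hV : ∀ k, IsAffineOpen (V k)) (hV' : ∀ k, IsAffineOpen (V' k))
    (e1 : ∀ k, V k = b ⁻¹ᵁ O k) (e2 : ∀ k, V' k = b' ⁻¹ᵁ O' k)
    (l1 : ∀ k, O' k ≤ h ⁻¹ᵁ O k) (l2 : ∀ k, V' k ≤ g ⁻¹ᵁ V k)
    (hcov : ∀ ζ : P', ∃ k, ζ ∈ O' k)
    (hpo : ∀ k, IsPushout (b.appLE (O k) (V k) (e1 k).le) (h.appLE (O k) (O' k) (l1 k))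
      (g.appLE (V k) (V' k) (l2 k)) (b'.appLE (O' k) (V' k) (e2 k).le)) :
    IsPullback b' g h b := by
  let 𝒰 : P'.OpenCover :=
    { I₀ := ι
      X := fun k => Spec Γ(P', O' k)
      f := fun k => (hO' k).fromSpec
      mem₀ := by
        rw [Scheme.presieve₀_mem_precoverage_iff]
        refine ⟨fun ζ => ?_, inferInstance⟩
        obtain ⟨k, hk⟩ := hcov ζ
        refine ⟨k, ?_⟩
        have : ζ ∈ Set.range (hO' k).fromSpec := by
          rw [(hO' k).range_fromSpec]
          exact hk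
        exact this }
  refine Scheme.isPullback_of_openCover b' g h b 𝒰 fun k => ?_
  -- the claim on the affine pieces
  have top : IsPullback (Spec.map (b'.appLE (O' k) (V' k) (e2 k).le))
      (Spec.map (g.appLE (V k) (V' k) (l2 k))) (Spec.map (h.appLE (O k) (O' k) (l1 k)))
      (Spec.map (b.appLE (O k) (V k) (e1 k).le)) :=
    isPullback_SpecMap_of_isPushout _ _ _ _ (hpo k).flip
  have bot := isPullback_fromSpec b (hO k) (hV k) (e1 k)
  have claim : IsPullback (Spec.map (b'.appLE (O' k) (V' k) (e2 k).le))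
      ((hV' k).fromSpec ≫ g) ((hO' k).fromSpec ≫ h) b := by
    have := top.paste_vert bot
    rwa [IsAffineOpen.SpecMap_appLE_fromSpec g (hV k) (hV' k) (l2 k),
      IsAffineOpen.SpecMap_appLE_fromSpec h (hO k) (hO' k) (l1 k)] at this
  have hb' := isPullback_fromSpec b' (hO' k) (hV' k) (e2 k)
  -- `hb' : IsPullback (Spec.map _) (hV' k).fromSpec (hO' k).fromSpec b'`
  let ε : Spec Γ(Y', V' k) ≅ pullback b' ((hO' k).fromSpec) := hb'.flip.isoPullback
  have hε1 : ε.hom ≫ pullback.fst b' ((hO' k).fromSpec) = (hV' k).fromSpec :=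
    hb'.flip.isoPullback_hom_fst
  have hε2 : ε.hom ≫ pullback.snd b' ((hO' k).fromSpec) =
      Spec.map (b'.appLE (O' k) (V' k) (e2 k).le) := hb'.flip.isoPullback_hom_snd
  refine claim.of_iso ε (Iso.refl _) (Iso.refl _) (Iso.refl _) ?_ ?_ ?_ ?_
  · rw [Iso.refl_hom, Category.comp_id]
    exact hε2.symm
  · rw [Iso.refl_hom, Category.comp_id]
    exact (congrArg (· ≫ g) hε1.symm).trans (Category.assoc _ _ _)
  · rw [Iso.refl_hom, Iso.refl_hom, Category.comp_id, Category.id_comp]
  · rw [Iso.refl_hom, Iso.refl_hom, Category.comp_id, Category.id_comp]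

end Groth.Agent.Lib.Helper58.AffinePB
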