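import Mathlib
import Groth.Prelude.Def_W4sfdMinVersal
import Groth.Agent.Lib.Helper65.ArtFibre
import Groth.Agent.Lib.Helper65.ArtFinite
import Groth.Agent.Lib.Helper65.CRingLift
import Groth.Agent.Lib.Helper65.CRingBasic

/-!
# Versality lifts along surjections of coefficient rings

For a functor satisfying (RS) and a versal family `ξ` over `R`: the lifting property of `ξ` along a
surjection `g : A' → A` of complete local Noetherian rings, with respect to formal elements.
-/

set_option autoImplicit false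
universe u v
open CategoryTheory

namespace Groth.Agent.Lib.Helper58.FormalLift

open ArtFun ArtFun.Art IsLocalRing Groth.Agent.Lib.Helper65

variable {Λ : Type u} {k : Type u} [CommRing Λ] [Field k] [Algebra Λ k]

section Trunc

variable {A' A : CRing Λ k} (g : A'.carrier →ₐ[Λ] A.carrier) (hg : A.res.comp g = A'.res)

theorem truncMapOfHom_mk (n : ℕ) (a : A'.carrier) :
    CRing.truncMapOfHom g hg n (Ideal.Quotient.mk (CRing.mpow A' n) a) =
      Ideal.Quotient.mk (CRing.mpow A n) (g a) := rfl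

theorem truncMap_mk (S : CRing Λ k) (n : ℕ) (s : S.carrier) :
    S.truncMap n (Ideal.Quotient.mk (CRing.mpow S (n + 1)) s) = Ideal.Quotient.mk (CRing.mpow S n) s :=
  rfl

include hg in
theorem map_maximalIdeal_pow (hgs : Function.Surjective g) (n : ℕ) :
    (maximalIdeal A'.carrier ^ n).map (g : A'.carrier →+* A.carrier) = maximalIdeal A.carrier ^ n := by
  rw [Ideal.map_pow]
  congr 1
  exact cring_map_maximalIdeal_eq_of_surjective A' A g hg hgs

/-- the augmentation of the zeroth truncation is injective -/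
theorem trunc_zero_res_injective (S : CRing Λ k) : Function.Injective (S.trunc 0).res := by
  rw [injective_iff_map_eq_zero]
  intro x hx
  obtain ⟨a, rfl⟩ := Ideal.Quotient.mk_surjective x
  have h1 : S.res a = 0 := hx
  have h2 : (Ideal.Quotient.mk (CRing.mpow S 0) a : S.carrier ⧸ CRing.mpow S 0) = 0 := by
    rw [Ideal.Quotient.eq_zero_iff_mem]
    change a ∈ maximalIdeal S.carrier ^ (0 + 1)
    rw [zero_add, pow_one]
    exact (CRing.mem_maximalIdeal_iff S a).2 h1
  exact h2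

theorem homSet_trunc_zero_subsingleton {R : Type u} [CommRing R] [Algebra Λ R] (resR : R →ₐ[Λ] k)
    (S : CRing Λ k) (a b : HomSet R resR (S.trunc 0)) : a = b := by
  apply Subtype.ext
  apply AlgHom.ext
  intro r
  apply trunc_zero_res_injective S
  have h1 : (S.trunc 0).res (a.1 r) = resR r := congrArg (fun t : R →ₐ[Λ] k => t r) a.2
  have h2 : (S.trunc 0).res (b.1 r) = resR r := congrArg (fun t : R →ₐ[Λ] k => t r) b.2
  rw [h1, h2]

theorem homSet_base_subsingleton {R : Type u} [CommRing R] [Algebra Λ R] (resR : R →ₐ[Λ] k)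
    (a b : HomSet R resR (base Λ k)) : a = b := by
  apply Subtype.ext
  apply AlgHom.ext
  intro r
  have h1 : (base Λ k).res (a.1 r) = resR r := congrArg (fun t : R →ₐ[Λ] k => t r) a.2
  have h2 : (base Λ k).res (b.1 r) = resR r := congrArg (fun t : R →ₐ[Λ] k => t r) b.2
  exact h1.trans h2.symm

include hg in
/-- the map from `A'/m^(n+2)` to the fibre product of `A'/m^(n+1)` and `A/m^(n+2)` is surjective -/
theorem surjective_of_isFibreProd (hgs : Function.Surjective g) (n : ℕ) {P : Art Λ k}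
    {p₁ : P ⟶ A'.trunc n} {p₂ : P ⟶ A.trunc (n + 1)}
    (h : IsFibreProd p₁ p₂ (CRing.truncMapOfHom g hg n) (A.truncMap n))
    (q : A'.trunc (n + 1) ⟶ P) (hq₁ : q ≫ p₁ = A'.truncMap n)
    (hq₂ : q ≫ p₂ = CRing.truncMapOfHom g hg (n + 1)) : Function.Surjective q := by
  intro b
  have hq₁' : ∀ x, p₁ (q x) = A'.truncMap n x := fun x =>
    congrArg (fun t : A'.trunc (n + 1) ⟶ A'.trunc n => t.toAlgHom x) hq₁
  have hq₂' : ∀ x, p₂ (q x) = CRing.truncMapOfHom g hg (n + 1) x := fun x =>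
    congrArg (fun t : A'.trunc (n + 1) ⟶ A.trunc (n + 1) => t.toAlgHom x) hq₂
  obtain ⟨a', ha'⟩ := Ideal.Quotient.mk_surjective (p₁ b)
  obtain ⟨a, ha⟩ := Ideal.Quotient.mk_surjective (p₂ b)
  have hw0 := h.w_apply b
  rw [← ha', ← ha, truncMapOfHom_mk, truncMap_mk] at hw0
  have hw1 : (Ideal.Quotient.mk (CRing.mpow A n) (g a') : A.carrier ⧸ CRing.mpow A n) =
      Ideal.Quotient.mk (CRing.mpow A n) a := hw0
  have hw : g a' - a ∈ maximalIdeal A.carrier ^ (n + 1) := Ideal.Quotient.eq.1 hw1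
  -- `g a' - a ∈ m_A^(n+1) = g(m_A'^(n+1))`
  have hw' : g a' - a ∈ (maximalIdeal A'.carrier ^ (n + 1)).map (g : A'.carrier →+* A.carrier) := by
    rw [map_maximalIdeal_pow g hg hgs]; exact hw
  obtain ⟨δ, hδ, hδ'⟩ := (Ideal.mem_map_iff_of_surjective (g : A'.carrier →+* A.carrier) hgs).1 hw'
  refine ⟨Ideal.Quotient.mk _ (a' - δ), ?_⟩
  apply h.inj
  · rw [hq₁', truncMap_mk, ← ha']
    have h3 : (Ideal.Quotient.mk (CRing.mpow A' n) (a' - δ) : A'.carrier ⧸ CRing.mpow A' n) =
        Ideal.Quotient.mk (CRing.mpow A' n) a' := by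
      rw [Ideal.Quotient.eq]
      have : a' - δ - a' = -δ := by ring
      rw [this]
      exact Ideal.neg_mem_iff _ |>.2 hδ
    exact h3
  · rw [hq₂', truncMapOfHom_mk, ← ha, map_sub]
    have hδ'' : g δ = g a' - a := hδ'
    rw [hδ'']
    congr 1
    ring

end Trunc

section Main

variable [IsNoetherianRing Λ] [Module.Finite Λ k] {F : Art Λ k ⥤ Type v}

/-- the lifting property of a versal family along surjections of coefficient rings -/
theorem exists_lift_of_isVersal
    (hRS : ∀ ⦃B A A₁ A₂ : Art Λ k⦄ (p₁ : B ⟶ A₁) (p₂ : B ⟶ A₂) (f₁ : A₁ ⟶ A) (f₂ : A₂ ⟶ A)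
        (h : IsFibreProd p₁ p₂ f₁ f₂), Function.Surjective f₂ → Function.Injective (cmp F h))
    (R : CRing Λ k) (ξ : Family R.carrier R.res F) (hξ : IsVersal ξ)
    (A' A : CRing Λ k) (g : A'.carrier →ₐ[Λ] A.carrier) (hg : A.res.comp g = A'.res)
    (hgs : Function.Surjective g) (η' : FormalElt F A')
    (φ : R.carrier →ₐ[Λ] A.carrier) (hφ : A.res.comp φ = R.res)
    (hsq : (ξ.along φ hφ).toFormalElt = η'.push g hg) :
    ∃ (ψ : R.carrier →ₐ[Λ] A'.carrier) (hψ : A'.res.comp ψ = R.res),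
      g.comp ψ = φ ∧ (ξ.along ψ hψ).toFormalElt = η' := by
  classical
  -- the truncations of `φ`
  let φn : ∀ n, HomSet R.carrier R.res (A.trunc n) := fun n =>
    ⟨(A.truncHom n).1.comp φ, by rw [← AlgHom.comp_assoc, (A.truncHom n).2, hφ]⟩
  have hφn : ∀ n, ξ.app _ (φn n) = F.map (CRing.truncMapOfHom g hg n) (η'.elt n) := fun n =>
    congrArg (fun w : FormalElt F A => w.elt n) hsq
  have hφcompat : ∀ n, HomSet.map (A.truncMap n) (φn (n + 1)) = φn n := fun n =>
    Subtype.ext (AlgHom.ext fun _ => rfl)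
  -- base step
  have base : ∃ ψ₀ : HomSet R.carrier R.res (A'.trunc 0),
      HomSet.map (CRing.truncMapOfHom g hg 0) ψ₀ = φn 0 ∧ ξ.app _ ψ₀ = η'.elt 0 := by
    let φ₀ : HomSet R.carrier R.res (base Λ k) := ⟨R.res, AlgHom.id_comp _⟩
    have hsurj : Function.Surjective (toBase (A'.trunc 0)) := (A'.trunc 0).res_surjective
    have e1 : F.map (toBase (A'.trunc 0)) (η'.elt 0) = ξ.app _ φ₀ := by
      have e2 : toBase (A'.trunc 0) = CRing.truncMapOfHom g hg 0 ≫ toBase (A.trunc 0) :=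
        (eq_toBase _).symm
      rw [e2, Functor.map_comp_apply, ← hφn 0, ← ξ.natural]
      congr 1
      exact homSet_base_subsingleton _ _ _
    obtain ⟨ψ, -, hψ⟩ := hξ (toBase (A'.trunc 0)) hsurj φ₀ (η'.elt 0) e1
    exact ⟨ψ, homSet_trunc_zero_subsingleton _ A _ _, hψ⟩
  -- inductive step
  have step : ∀ (n : ℕ) (ψ : HomSet R.carrier R.res (A'.trunc n)),
      HomSet.map (CRing.truncMapOfHom g hg n) ψ = φn n → ξ.app _ ψ = η'.elt n →
      ∃ ψ' : HomSet R.carrier R.res (A'.trunc (n + 1)),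
        HomSet.map (A'.truncMap n) ψ' = ψ ∧
        HomSet.map (CRing.truncMapOfHom g hg (n + 1)) ψ' = φn (n + 1) ∧
        ξ.app _ ψ' = η'.elt (n + 1) := by
    intro n ψ hψ1 hψ2
    obtain ⟨P, p₁, p₂, hP⟩ := art_exists_isFibreProd (CRing.truncMapOfHom g hg n) (A.truncMap n)
      (cring_truncMap_surjective A n)
    obtain ⟨q, hq₁, hq₂⟩ := isFibreProd_lift_hom hP (A'.truncMap n)
      (CRing.truncMapOfHom g hg (n + 1)) (CRing.truncMapOfHom_truncMap g hg n).symm
    have hqs : Function.Surjective q := surjective_of_isFibreProd g hg hgs n hP q hq₁ hq₂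
    obtain ⟨φP, hφP1, hφP2⟩ := isFibreProd_lift hP ψ (φn (n + 1))
      (hψ1.trans (hφcompat n).symm)
    have hy : F.map q (η'.elt (n + 1)) = ξ.app P φP := by
      apply hRS p₁ p₂ _ _ hP (cring_truncMap_surjective A n)
      apply FibProd.ext
      · change F.map p₁ (F.map q (η'.elt (n + 1))) = F.map p₁ (ξ.app P φP)
        rw [← Functor.map_comp_apply, hq₁, η'.compat, ← ξ.natural, hφP1, hψ2]
      · change F.map p₂ (F.map q (η'.elt (n + 1))) = F.map p₂ (ξ.app P φP)
        rw [← Functor.map_comp_apply, hq₂, ← ξ.natural, hφP2, hφn]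
    obtain ⟨ψ', hψ'1, hψ'2⟩ := hξ q hqs φP (η'.elt (n + 1)) hy
    refine ⟨ψ', ?_, ?_, hψ'2⟩
    · rw [← hφP1, ← hψ'1, ← hq₁]
      exact Subtype.ext (AlgHom.ext fun _ => rfl)
    · rw [← hφP2, ← hψ'1, ← hq₂]
      exact Subtype.ext (AlgHom.ext fun _ => rfl)
  obtain ⟨ψ₀, hψ₀1, hψ₀2⟩ := base
  let T : ℕ → Type u := fun n => {ψ : HomSet R.carrier R.res (A'.trunc n) //
      HomSet.map (CRing.truncMapOfHom g hg n) ψ = φn n ∧ ξ.app _ ψ = η'.elt n}
  let seq : ∀ n : ℕ, T n := fun n => Nat.rec (motive := T) ⟨ψ₀, hψ₀1, hψ₀2⟩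
      (fun n p => ⟨(step n p.1 p.2.1 p.2.2).choose,
        (step n p.1 p.2.1 p.2.2).choose_spec.2.1, (step n p.1 p.2.1 p.2.2).choose_spec.2.2⟩) n
  have hseq : ∀ n, HomSet.map (A'.truncMap n) (seq (n + 1)).1 = (seq n).1 :=
    fun n => (step n (seq n).1 (seq n).2.1 (seq n).2.2).choose_spec.1
  obtain ⟨ψ, hψ, hψn⟩ := cring_exists_lift R.res A' (fun n => (seq n).1) hseq
  refine ⟨ψ, hψ, ?_, ?_⟩
  · haveI := A.isAdicComplete
    have ha : StrictMono (fun n : ℕ => n + 1) := fun a b h => Nat.succ_lt_succ h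
    have hfun : (fun r => g (ψ r)) = (fun r => φ r) := by
      apply IsHausdorff.StrictMono.funext' (maximalIdeal A.carrier) ha
      intro n r
      have h1 : (seq n).1.1 r = Ideal.Quotient.mk _ (ψ r) :=
        (congrArg (fun t : R.carrier →ₐ[Λ] (A'.trunc n) => t r) (hψn n)).symm
      have h2 : CRing.truncMapOfHom g hg n ((seq n).1.1 r) = (φn n).1 r :=
        congrArg (fun t : HomSet R.carrier R.res (A.trunc n) => t.1 r) (seq n).2.1
      rw [h1, truncMapOfHom_mk] at h2
      exact h2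
    apply AlgHom.ext
    intro r
    exact congrFun hfun r
  · apply FormalElt.ext'
    intro n
    change ξ.app _ ⟨(A'.truncHom n).1.comp ψ, _⟩ = η'.elt n
    rw [← (seq n).2.2]
    congr 1
    exact Subtype.ext (hψn n)

end Main

end Groth.Agent.Lib.Helper58.FormalLift
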