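import Mathlib
import Groth.Prelude.Def_ArtFun5
import Groth.Agent.S0543

/-!
# A smooth ambient coefficient ring over a Noetherian `Λ` with `Λ → k` finite (helper58)

`ambient Λ k : CRing Λ k` is the completion of a polynomial ring `Λ[x_1..x_n]` at the kernel of a
surjection onto `k`; `isSmoothFunctor_ambient`: its functor `h_P` on `Art Λ k` is smooth.

General lemmas on `AdicCompletion I R` as a ring: `ker_evalₐ`, `exists_sub_mem`,
`algHom_ext_of_kills`, `extendₐ`.
-/

set_option autoImplicit false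
universe u v
open CategoryTheory

namespace Groth.Agent.Lib.Helper58.SmAmb

section General

variable {R : Type*} [CommRing R] (I : Ideal R)

theorem ker_evalₐ (fg : I.FG) (n : ℕ) :
    RingHom.ker (AdicCompletion.evalₐ I n).toRingHom =
      (I ^ n).map (algebraMap R (AdicCompletion I R)) := by
  ext x
  trans x ∈ (AdicCompletion.eval I R n).ker
  · have eq : I ^ n * ⊤ = I ^ n := by simp
    have : Function.Injective (Ideal.Quotient.factor ((le_of_eq eq))) := by
      simpa [RingHom.injective_iff_ker_eq_bot, Ideal.Quotient.factor_ker]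
        using Ideal.map_mk_eq_bot_of_le (le_of_eq eq.symm)
    simpa [← AdicCompletion.factor_eval_eq_evalₐ] using map_eq_zero_iff _ this
  · simp [← AdicCompletion.pow_smul_top_eq_ker_eval fg]

theorem exists_sub_mem (fg : I.FG) (n : ℕ) (x : AdicCompletion I R) :
    ∃ q : R, x - algebraMap R (AdicCompletion I R) q ∈
      (I ^ n).map (algebraMap R (AdicCompletion I R)) := by
  obtain ⟨q, hq⟩ := Ideal.Quotient.mk_surjective (AdicCompletion.evalₐ I n x)
  refine ⟨q, ?_⟩
  rw [← ker_evalₐ I fg n, RingHom.mem_ker]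
  change AdicCompletion.evalₐ I n (x - AdicCompletion.of I R q) = 0
  rw [map_sub, AdicCompletion.evalₐ_of, hq, sub_self]

theorem ringHom_ext_of_kills {B : Type*} [CommRing B] (fg : I.FG)
    (f g : AdicCompletion I R →+* B) (n : ℕ)
    (hf : (I ^ n).map (algebraMap R (AdicCompletion I R)) ≤ RingHom.ker f)
    (hg : (I ^ n).map (algebraMap R (AdicCompletion I R)) ≤ RingHom.ker g)
    (h : ∀ q : R, f (algebraMap R _ q) = g (algebraMap R _ q)) : f = g := by
  ext x
  obtain ⟨q, hq⟩ := exists_sub_mem I fg n x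
  have h1 : f (x - algebraMap R _ q) = 0 := hf hq
  have h2 : g (x - algebraMap R _ q) = 0 := hg hq
  rw [map_sub, sub_eq_zero] at h1 h2
  rw [h1, h2, h]

end General

section Ambient

open ArtFun IsLocalRing

variable (Λ : Type u) (k : Type u) [CommRing Λ] [Field k] [Algebra Λ k] [Module.Finite Λ k]

/-- number of module generators of `k` over `Λ` -/
noncomputable def nGen : ℕ := (Module.Finite.exists_fin (R := Λ) (M := k)).choose

/-- module generators of `k` over `Λ` -/
noncomputable def gen : Fin (nGen Λ k) → k :=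
  (Module.Finite.exists_fin (R := Λ) (M := k)).choose_spec.choose

theorem span_gen : Submodule.span Λ (Set.range (gen Λ k)) = ⊤ :=
  (Module.Finite.exists_fin (R := Λ) (M := k)).choose_spec.choose_spec

/-- the polynomial ring -/
abbrev Q : Type u := MvPolynomial (Fin (nGen Λ k)) Λ

/-- the surjection of the polynomial ring onto `k` -/
noncomputable def θ : Q Λ k →ₐ[Λ] k := MvPolynomial.aeval (gen Λ k)

theorem θ_surjective : Function.Surjective (θ Λ k) := by
  intro c
  have hc : c ∈ Submodule.span Λ (Set.range (gen Λ k)) := by rw [span_gen]; trivial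
  induction hc using Submodule.span_induction with
  | mem x hx =>
    obtain ⟨i, rfl⟩ := hx
    exact ⟨MvPolynomial.X i, MvPolynomial.aeval_X _ i⟩
  | zero => exact ⟨0, map_zero _⟩
  | add x y _ _ hx hy =>
    obtain ⟨a, rfl⟩ := hx
    obtain ⟨b, rfl⟩ := hy
    exact ⟨a + b, map_add _ _ _⟩
  | smul r x _ hx =>
    obtain ⟨a, rfl⟩ := hx
    exact ⟨r • a, map_smul _ _ _⟩

/-- the kernel of `θ`, a maximal ideal -/
noncomputable abbrev I : Ideal (Q Λ k) := RingHom.ker (θ Λ k)

instance I_isMaximal : (I Λ k).IsMaximal :=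
  RingHom.ker_isMaximal_of_surjective _ (θ_surjective Λ k)

/-- the completion of the polynomial ring at `I` -/
abbrev P : Type u := AdicCompletion (I Λ k) (Q Λ k)

/-- the augmentation of the completion -/
noncomputable def resP : P Λ k →ₐ[Λ] k := AdicCompletion.kerProj (θ_surjective Λ k)

theorem resP_algebraMap (q : Q Λ k) : resP Λ k (algebraMap (Q Λ k) (P Λ k) q) = θ Λ k q := rfl

theorem resP_surjective : Function.Surjective (resP Λ k) :=
  AdicCompletion.kerProj_surjective _

variable [IsNoetherianRing Λ]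

theorem I_fg : (I Λ k).FG := IsNoetherian.noetherian _

/-- the extended ideal -/
noncomputable abbrev J : Ideal (P Λ k) := (I Λ k).map (algebraMap (Q Λ k) (P Λ k))

instance J_isMaximal : (J Λ k).IsMaximal :=
  AdicCompletion.isMaximal_map_of_le (I Λ k) (I Λ k) le_rfl (I_fg Λ k)

instance J_complete : IsAdicComplete (J Λ k) (P Λ k) :=
  AdicCompletion.isAdicComplete_self (I Λ k) (I_fg Λ k)

instance P_isLocalRing : IsLocalRing (P Λ k) :=
  isLocalRing_of_isAdicComplete_maximal (J Λ k)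

theorem maximalIdeal_P : maximalIdeal (P Λ k) = J Λ k :=
  (IsLocalRing.eq_maximalIdeal (J_isMaximal Λ k)).symm

instance P_isNoetherianRing : IsNoetherianRing (P Λ k) :=
  Groth.Agent.S0543.result (Q Λ k) (I Λ k)

/-- the smooth ambient coefficient ring -/
noncomputable def ambient : CRing Λ k :=
  { carrier := P Λ k
    res := resP Λ k
    res_surjective := resP_surjective Λ k
    isAdicComplete := by
      rw [maximalIdeal_P]
      infer_instance }

end Ambient

section Smooth

open ArtFun IsLocalRing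

variable {Λ : Type u} {k : Type u} [CommRing Λ] [Field k] [Algebra Λ k] [Module.Finite Λ k]

instance : IsScalarTower Λ (Q Λ k) (P Λ k) := IsScalarTower.of_algebraMap_eq (fun _ => rfl)

/-- the canonical map from the polynomial ring to its completion, as a `Λ`-algebra map -/
noncomputable def ι : Q Λ k →ₐ[Λ] P Λ k := IsScalarTower.toAlgHom Λ (Q Λ k) (P Λ k)

theorem ι_apply (q : Q Λ k) : ι q = algebraMap (Q Λ k) (P Λ k) q := rfl

theorem art_pow_eq_bot (A : Art Λ k) : ∃ N : ℕ, maximalIdeal A ^ N = ⊥ := by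
  obtain ⟨N, hN⟩ := (isArtinianRing_iff_isNilpotent_maximalIdeal A).1 inferInstance
  exact ⟨N, hN⟩

/-- an augmentation-compatible map out of `P` sends `J` into the maximal ideal -/
theorem map_J_le (A : Art Λ k) (χ : P Λ k →ₐ[Λ] A) (hχ : A.res.comp χ = resP Λ k) :
    J Λ k ≤ (maximalIdeal A).comap (χ : P Λ k →+* A) := by
  rw [Ideal.map_le_iff_le_comap]
  intro q hq
  rw [Ideal.mem_comap, Ideal.mem_comap, Art.mem_maximalIdeal_iff]
  have h1 : A.res (χ (algebraMap (Q Λ k) (P Λ k) q)) = resP Λ k (algebraMap (Q Λ k) (P Λ k) q) :=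
    congrArg (fun t : P Λ k →ₐ[Λ] k => t (algebraMap (Q Λ k) (P Λ k) q)) hχ
  change A.res (χ (algebraMap (Q Λ k) (P Λ k) q)) = 0
  rw [h1, resP_algebraMap]
  exact hq

theorem map_pow_le_ker (A : Art Λ k) (χ : P Λ k →ₐ[Λ] A) (hχ : A.res.comp χ = resP Λ k)
    (M : ℕ) (hM : maximalIdeal A ^ M = ⊥) :
    (I Λ k ^ M).map (algebraMap (Q Λ k) (P Λ k)) ≤ RingHom.ker (χ : P Λ k →+* A) := by
  rw [Ideal.map_pow]
  calc J Λ k ^ M ≤ ((maximalIdeal A).comap (χ : P Λ k →+* A)) ^ M :=
        Ideal.pow_right_mono (map_J_le A χ hχ) M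
    _ ≤ (maximalIdeal A ^ M).comap (χ : P Λ k →+* A) := Ideal.le_comap_pow _ M
    _ = RingHom.ker (χ : P Λ k →+* A) := by rw [hM]; rfl

variable [IsNoetherianRing Λ]

/-- augmentation-compatible maps out of `P` into an object of `Art Λ k` agreeing on the polynomial
ring are equal -/
theorem algHom_ext_of_ι (A : Art Λ k) (χ χ' : P Λ k →ₐ[Λ] A) (hχ : A.res.comp χ = resP Λ k)
    (hχ' : A.res.comp χ' = resP Λ k) (h : ∀ q : Q Λ k, χ (ι q) = χ' (ι q)) : χ = χ' := by
  obtain ⟨M, hM⟩ := art_pow_eq_bot A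
  have := ringHom_ext_of_kills (I Λ k) (I_fg Λ k) (χ : P Λ k →+* A) (χ' : P Λ k →+* A) M
    (map_pow_le_ker A χ hχ M hM) (map_pow_le_ker A χ' hχ' M hM) h
  exact AlgHom.ext (fun x => RingHom.congr_fun this x)

/-- the functor `h_P` of the ambient ring is smooth -/
theorem isSmoothFunctor_ambient :
    IsSmoothFunctor (hR (ambient Λ k).carrier (ambient Λ k).res) := by
  intro B A μ hμ φ
  change HomSet (P Λ k) (resP Λ k) A at φ
  -- the restriction to the polynomial ring
  let φ₀ : Q Λ k →ₐ[Λ] A := φ.1.comp ι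
  choose b hb using fun i => hμ (φ₀ (MvPolynomial.X i))
  let ψ₀ : Q Λ k →ₐ[Λ] B := MvPolynomial.aeval b
  have hμψ₀ : μ.toAlgHom.comp ψ₀ = φ₀ := by
    apply MvPolynomial.algHom_ext
    intro i
    rw [AlgHom.comp_apply, MvPolynomial.aeval_X]
    exact hb i
  have hres₀ : ∀ q, B.res (ψ₀ q) = θ Λ k q := by
    intro q
    have h1 : B.res (ψ₀ q) = A.res (μ (ψ₀ q)) := (Art.res_app μ (ψ₀ q)).symm
    have h2 : μ (ψ₀ q) = φ₀ q := AlgHom.congr_fun hμψ₀ q
    have h3 : A.res (φ.1 (ι q)) = resP Λ k (ι q) :=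
      congrArg (fun t : P Λ k →ₐ[Λ] k => t (ι q)) φ.2
    rw [h1, h2]
    exact h3
  obtain ⟨N, hN⟩ := art_pow_eq_bot B
  have hI : I Λ k ≤ (maximalIdeal B).comap (ψ₀ : Q Λ k →+* B) := by
    intro q hq
    rw [Ideal.mem_comap, Art.mem_maximalIdeal_iff]
    change B.res (ψ₀ q) = 0
    rw [hres₀]
    exact hq
  have hkill : ∀ a ∈ I Λ k ^ N, ψ₀ a = 0 := by
    intro a ha
    have h1 : I Λ k ^ N ≤ (maximalIdeal B ^ N).comap (ψ₀ : Q Λ k →+* B) :=
      (Ideal.pow_right_mono hI N).trans (Ideal.le_comap_pow _ N)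
    have := h1 ha
    rwa [hN] at this
  let ψ₁ : (Q Λ k ⧸ I Λ k ^ N) →ₐ[Λ] B := Ideal.Quotient.liftₐ (I Λ k ^ N) ψ₀ hkill
  let ψ : P Λ k →ₐ[Λ] B := ψ₁.comp ((AdicCompletion.evalₐ (I Λ k) N).restrictScalars Λ)
  have hψι : ∀ q, ψ (ι q) = ψ₀ q := by
    intro q
    change ψ₁ (AdicCompletion.evalₐ (I Λ k) N (AdicCompletion.of _ _ q)) = ψ₀ q
    rw [AdicCompletion.evalₐ_of]
    rfl
  -- compatibility with the augmentation
  have hψres : B.res.comp ψ = resP Λ k := by
    have hJ1 : J Λ k ≤ RingHom.ker ((B.res.comp ψ : P Λ k →ₐ[Λ] k) : P Λ k →+* k) := by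
      rw [Ideal.map_le_iff_le_comap]
      intro q hq
      rw [Ideal.mem_comap, RingHom.mem_ker]
      change B.res (ψ (ι q)) = 0
      rw [hψι, hres₀]
      exact hq
    have hJ2 : J Λ k ≤ RingHom.ker ((resP Λ k : P Λ k →ₐ[Λ] k) : P Λ k →+* k) := by
      rw [Ideal.map_le_iff_le_comap]
      intro q hq
      rw [Ideal.mem_comap, RingHom.mem_ker]
      change resP Λ k (algebraMap _ _ q) = 0
      rw [resP_algebraMap]
      exact hq
    have := ringHom_ext_of_kills (I Λ k) (I_fg Λ k)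
      ((B.res.comp ψ : P Λ k →ₐ[Λ] k) : P Λ k →+* k) ((resP Λ k : P Λ k →ₐ[Λ] k) : P Λ k →+* k) 1
      (by rw [pow_one]; exact hJ1) (by rw [pow_one]; exact hJ2)
      (fun q => by
        change B.res (ψ (ι q)) = resP Λ k (algebraMap _ _ q)
        rw [hψι, hres₀, resP_algebraMap])
    exact AlgHom.ext (fun x => RingHom.congr_fun this x)
  refine ⟨(⟨ψ, hψres⟩ : HomSet (P Λ k) (resP Λ k) B), ?_⟩
  apply Subtype.ext
  change μ.toAlgHom.comp ψ = φ.1
  apply algHom_ext_of_ι A
  · rw [← AlgHom.comp_assoc, μ.res_comp, hψres]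
  · exact φ.2
  · intro q
    rw [AlgHom.comp_apply, hψι]
    exact AlgHom.congr_fun hμψ₀ q

end Smooth

end Groth.Agent.Lib.Helper58.SmAmb
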