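import Mathlib
import Groth.Prelude.Def_ArtFun5
import Groth.Agent.Lib.Helper58.SmoothAmbient
import Groth.Agent.Lib.Helper58.FormalLift
import Groth.Agent.Lib.Helper65.CRingLift
import Groth.Agent.Lib.Helper59.ArtFun5

/-!
# The ambient ring is free on its generators

Maps from the ambient ring `P` (completion of a polynomial ring over `Λ` at the kernel of a
surjection onto `k`) to Artinian objects / coefficient rings are determined by, and can be
prescribed on, the variables.
-/

set_option autoImplicit false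
universe u v
open CategoryTheory

namespace Groth.Agent.Lib.Helper58.AmbFree

open ArtFun ArtFun.Art IsLocalRing Groth.Agent.Lib.Helper58.SmAmb Groth.Agent.Lib.Helper65
  Groth.Agent.Lib.Helper58.FormalLift

variable {Λ : Type u} {k : Type u} [CommRing Λ] [Field k] [Algebra Λ k] [Module.Finite Λ k]
  [IsNoetherianRing Λ]

/-- the generators of the ambient ring -/
noncomputable def xgen (i : Fin (nGen Λ k)) : P Λ k := ι (MvPolynomial.X i)

theorem resP_xgen (i : Fin (nGen Λ k)) : resP Λ k (xgen i) = gen Λ k i := by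
  change resP Λ k (algebraMap _ _ (MvPolynomial.X i)) = _
  rw [resP_algebraMap]
  exact MvPolynomial.aeval_X _ i

/-- maps from the ambient ring to an Artinian object agreeing on the generators are equal -/
theorem hom_art_ext (B : Art Λ k) (ψ ψ' : HomSet (P Λ k) (resP Λ k) B)
    (h : ∀ i, ψ.1 (xgen i) = ψ'.1 (xgen i)) : ψ = ψ' := by
  apply Subtype.ext
  apply algHom_ext_of_ι B ψ.1 ψ'.1 ψ.2 ψ'.2
  intro q
  have : ψ.1.comp ι = ψ'.1.comp ι := MvPolynomial.algHom_ext (fun i => h i)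
  exact AlgHom.congr_fun this q

/-- maps from the ambient ring to an Artinian object with prescribed values on the generators -/
theorem exists_hom_art (B : Art Λ k) (b : Fin (nGen Λ k) → B.carrier)
    (hb : ∀ i, B.res (b i) = gen Λ k i) :
    ∃ ψ : HomSet (P Λ k) (resP Λ k) B, ∀ i, ψ.1 (xgen i) = b i := by
  let ψ₀ : Q Λ k →ₐ[Λ] B := MvPolynomial.aeval b
  have hres₀ : ∀ q, B.res (ψ₀ q) = θ Λ k q := by
    intro q
    have : B.res.comp ψ₀ = θ Λ k := by
      apply MvPolynomial.algHom_ext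
      intro i
      rw [AlgHom.comp_apply, MvPolynomial.aeval_X, hb]
      exact (MvPolynomial.aeval_X _ i).symm
    exact AlgHom.congr_fun this q
  obtain ⟨N, hN⟩ := art_pow_eq_bot B
  have hI : I Λ k ≤ (maximalIdeal B).comap (ψ₀ : Q Λ k →+* B) := by
    intro q hq
    rw [Ideal.mem_comap, Art.mem_maximalIdeal_iff]
    change B.res (ψ₀ q) = 0
    rw [hres₀]
    exact hq
  have hkill : ∀ a ∈ I Λ k ^ N, ψ₀ a = 0 := by
    intro a ha
    have h1 : I Λ k ^ N ≤ (maximalIdeal B ^ N).comap (ψ₀ : Q Λ k →+* B) :=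
      (Ideal.pow_right_mono hI N).trans (Ideal.le_comap_pow _ N)
    have := h1 ha
    rwa [hN] at this
  let ψ₁ : (Q Λ k ⧸ I Λ k ^ N) →ₐ[Λ] B := Ideal.Quotient.liftₐ (I Λ k ^ N) ψ₀ hkill
  let ψ : P Λ k →ₐ[Λ] B := ψ₁.comp ((AdicCompletion.evalₐ (I Λ k) N).restrictScalars Λ)
  have hψι : ∀ q, ψ (ι q) = ψ₀ q := by
    intro q
    change ψ₁ (AdicCompletion.evalₐ (I Λ k) N (AdicCompletion.of _ _ q)) = ψ₀ q
    rw [AdicCompletion.evalₐ_of]
    rfl
  have hψres : B.res.comp ψ = resP Λ k := by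
    have hJ1 : J Λ k ≤ RingHom.ker ((B.res.comp ψ : P Λ k →ₐ[Λ] k) : P Λ k →+* k) := by
      rw [Ideal.map_le_iff_le_comap]
      intro q hq
      rw [Ideal.mem_comap, RingHom.mem_ker]
      change B.res (ψ (ι q)) = 0
      rw [hψι, hres₀]
      exact hq
    have hJ2 : J Λ k ≤ RingHom.ker ((resP Λ k : P Λ k →ₐ[Λ] k) : P Λ k →+* k) := by
      rw [Ideal.map_le_iff_le_comap]
      intro q hq
      rw [Ideal.mem_comap, RingHom.mem_ker]
      change resP Λ k (algebraMap _ _ q) = 0
      rw [resP_algebraMap]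
      exact hq
    have := ringHom_ext_of_kills (I Λ k) (I_fg Λ k)
      ((B.res.comp ψ : P Λ k →ₐ[Λ] k) : P Λ k →+* k) ((resP Λ k : P Λ k →ₐ[Λ] k) : P Λ k →+* k) 1
      (by rw [pow_one]; exact hJ1) (by rw [pow_one]; exact hJ2)
      (fun q => by
        change B.res (ψ (ι q)) = resP Λ k (algebraMap _ _ q)
        rw [hψι, hres₀, resP_algebraMap])
    exact AlgHom.ext (fun x => RingHom.congr_fun this x)
  refine ⟨⟨ψ, hψres⟩, fun i => ?_⟩
  change ψ (ι (MvPolynomial.X i)) = b i
  rw [hψι]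
  exact MvPolynomial.aeval_X _ i

/-- maps from the ambient ring to a coefficient ring agreeing on the generators are equal -/
theorem hom_ext (T : CRing Λ k) (χ χ' : P Λ k →ₐ[Λ] T.carrier) (hχ : T.res.comp χ = resP Λ k)
    (hχ' : T.res.comp χ' = resP Λ k) (h : ∀ i, χ (xgen i) = χ' (xgen i)) : χ = χ' := by
  apply Groth.Agent.Lib.Helper59.algHom_eq_of_truncHom_comp_eq T
  intro n
  have key : (⟨(T.truncHom n).1.comp χ, by rw [← AlgHom.comp_assoc, (T.truncHom n).2, hχ]⟩ :
      HomSet (P Λ k) (resP Λ k) (T.trunc n)) =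
      ⟨(T.truncHom n).1.comp χ', by rw [← AlgHom.comp_assoc, (T.truncHom n).2, hχ']⟩ := by
    apply hom_art_ext
    intro i
    change (T.truncHom n).1 (χ (xgen i)) = (T.truncHom n).1 (χ' (xgen i))
    rw [h]
  exact congrArg Subtype.val key

/-- maps from the ambient ring to a coefficient ring with prescribed values on the generators -/
theorem exists_hom (T : CRing Λ k) (t : Fin (nGen Λ k) → T.carrier)
    (ht : ∀ i, T.res (t i) = gen Λ k i) :
    ∃ (χ : P Λ k →ₐ[Λ] T.carrier) (_ : T.res.comp χ = resP Λ k), ∀ i, χ (xgen i) = t i := by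
  have hex : ∀ n, ∃ ψ : HomSet (P Λ k) (resP Λ k) (T.trunc n),
      ∀ i, ψ.1 (xgen i) = (T.truncHom n).1 (t i) := fun n =>
    exists_hom_art (T.trunc n) (fun i => (T.truncHom n).1 (t i)) (fun i => ht i)
  choose ψ hψ using hex
  have hcompat : ∀ n, HomSet.map (T.truncMap n) (ψ (n + 1)) = ψ n := by
    intro n
    apply hom_art_ext
    intro i
    change (T.truncMap n) ((ψ (n + 1)).1 (xgen i)) = (ψ n).1 (xgen i)
    rw [hψ, hψ]
    rfl
  obtain ⟨χ, hχ, hχn⟩ := cring_exists_lift (resP Λ k) T ψ hcompat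
  refine ⟨χ, hχ, ?_⟩
  haveI := T.isAdicComplete
  have ha : StrictMono (fun n : ℕ => n + 1) := fun a b h => Nat.succ_lt_succ h
  have hfun : (fun i => χ (xgen i)) = t := by
    apply IsHausdorff.StrictMono.funext' (maximalIdeal T.carrier) ha
    intro n i
    have h1 : (T.truncHom n).1 (χ (xgen i)) = (ψ n).1 (xgen i) :=
      congrArg (fun u : P Λ k →ₐ[Λ] (T.trunc n) => u (xgen i)) (hχn n)
    rw [hψ] at h1
    exact h1
  exact fun i => congrFun hfun i

end Groth.Agent.Lib.Helper58.AmbFree
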