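import Mathlib
import Groth.Prelude.Def_ArtFun5
import Groth.Agent.S12708
import Groth.Agent.Lib.Helper65.ArtFinite

set_option autoImplicit false
universe u v
open CategoryTheory

namespace Groth.Agent.Lib.Helper58.ArtLen

open ArtFun IsLocalRing Groth.Agent.Lib.Helper65

variable {Λ : Type u} {k : Type u} [CommRing Λ] [Field k] [Algebra Λ k]

/-- the residue field has finite length over `Λ` -/
theorem isArtinian_residue [Module.Finite Λ k] : IsArtinian Λ k := by
  haveI : Algebra.IsIntegral Λ k := Algebra.IsIntegral.of_finite Λ k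
  have hmax : (RingHom.ker (algebraMap Λ k)).IsMaximal := by
    have h1 : (⊥ : Ideal k).IsMaximal := Ideal.bot_isMaximal
    have := Ideal.isMaximal_comap_of_isIntegral_of_isMaximal (R := Λ) (⊥ : Ideal k)
    rwa [← RingHom.ker_eq_comap_bot] at this
  set P := RingHom.ker (algebraMap Λ k) with hP
  letI : Field (Λ ⧸ P) := Ideal.Quotient.field P
  have htors : Module.IsTorsionBySet Λ k P := by
    intro x a
    obtain ⟨a, ha⟩ := a
    change a • x = 0
    rw [Algebra.smul_def, RingHom.mem_ker.1 ha, zero_mul]
  letI : Module (Λ ⧸ P) k := htors.module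
  haveI : IsScalarTower Λ (Λ ⧸ P) k := htors.isScalarTower
  haveI : Module.Finite (Λ ⧸ P) k := Module.Finite.of_restrictScalars_finite Λ (Λ ⧸ P) k
  haveI : IsArtinian (Λ ⧸ P) k := inferInstance
  exact isArtinian_of_surjective_algebraMap (S := Λ) (R := Λ ⧸ P) (M := k) Ideal.Quotient.mk_surjective

variable [IsNoetherianRing Λ] [Module.Finite Λ k]

/-- objects of `Art Λ k` are Noetherian `Λ`-modules -/
theorem isNoetherian_art (A : Art Λ k) : IsNoetherian Λ A.carrier := by
  haveI := art_moduleFinite A
  infer_instance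

/-- objects of `Art Λ k` are Artinian `Λ`-modules -/
theorem isArtinian_art (A : Art Λ k) : IsArtinian Λ A.carrier := by
  letI : Algebra A.carrier k := A.res.toRingHom.toAlgebra
  haveI : IsScalarTower Λ A.carrier k := IsScalarTower.of_algebraMap_eq (fun r => (A.res.commutes r).symm)
  have hres : Function.Surjective (algebraMap A.carrier k) := A.res_surjective
  have h := Groth.Agent.S12708.result (Λ := Λ) (k := k) A.carrier hres A.carrier
  have h1 : Module.length Λ k ≠ ⊤ := by
    rw [Module.length_ne_top_iff, isFiniteLength_iff_isNoetherian_isArtinian]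
    exact ⟨inferInstance, isArtinian_residue⟩
  have h2 : Module.length A.carrier A.carrier ≠ ⊤ := by
    rw [Module.length_ne_top_iff, ← isArtinianRing_iff_isFiniteLength]
    infer_instance
  have h3 : Module.length Λ A.carrier ≠ ⊤ := by
    rw [← h]
    exact WithTop.mul_ne_top h1 h2
  rw [Module.length_ne_top_iff, isFiniteLength_iff_isNoetherian_isArtinian] at h3
  exact h3.2

/-- the quotients `R/m^n` of a coefficient ring are Artinian `Λ`-modules -/
theorem isArtinian_quot_pow (R : CRing Λ k) (n : ℕ) :
    IsArtinian Λ (R.carrier ⧸ maximalIdeal R.carrier ^ n) := by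
  haveI h1 : IsArtinian Λ (R.carrier ⧸ maximalIdeal R.carrier ^ (n + 1)) := isArtinian_art (R.trunc n)
  have hle : maximalIdeal R.carrier ^ (n + 1) ≤ maximalIdeal R.carrier ^ n :=
    Ideal.pow_le_pow_right (Nat.le_succ n)
  exact isArtinian_of_surjective _ (Ideal.Quotient.factorₐ Λ hle).toLinearMap
    (Ideal.Quotient.factor_surjective hle)

/-- the quotients `R/m^n` of a coefficient ring are Noetherian `Λ`-modules -/
theorem isNoetherian_quot_pow (R : CRing Λ k) (n : ℕ) :
    IsNoetherian Λ (R.carrier ⧸ maximalIdeal R.carrier ^ n) := by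
  haveI h1 : IsNoetherian Λ (R.carrier ⧸ maximalIdeal R.carrier ^ (n + 1)) := isNoetherian_art (R.trunc n)
  have hle : maximalIdeal R.carrier ^ (n + 1) ≤ maximalIdeal R.carrier ^ n :=
    Ideal.pow_le_pow_right (Nat.le_succ n)
  exact isNoetherian_of_surjective (Ideal.Quotient.factorₐ Λ hle).toLinearMap
    (LinearMap.range_eq_top.2 (Ideal.Quotient.factor_surjective hle))

end Groth.Agent.Lib.Helper58.ArtLen
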