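import Mathlib
import Groth.Agent.Lib.Helper93.DefEnd

/-!
# Global sections of a flat scheme over a local Artinian ring (helper58)

Tools for S11468.  `g : X ⟶ Spec C`:
* `phi g U : C ⟶ Γ(X, U)`, with `phi_res`, `phi_top`, `fromSpec_comp`, `flat_phi`.
* `phi_comp_app`: compatibility with a fibre `i : X₀ ⟶ X` over `Spec (C ⧸ I)`.
* `mem_map_of_app_eq_zero`: for a pullback square, sections over an affine open killed by `i^♯`
  lie in `I·Γ(X, U)`.
* `exists_glue`: gluing sections along a family of opens closed under refinement of intersections.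
* `mem_map_colon_of_flat`, `colonElt_le_maximalIdeal`, `exists_socle`.
-/

set_option autoImplicit false

namespace Groth.Agent.Lib.Helper58.ArtinGamma

open CategoryTheory AlgebraicGeometry Limits TopologicalSpace Opposite
open Groth.Agent.Lib.Helper93.DefEnd

universe u
variable {C : Type u} [CommRing C] {X X₀ : Scheme.{u}} (g : X ⟶ Spec (CommRingCat.of C))

/-- the structure map `C → Γ(X, U)`. -/
noncomputable def phi (U : X.Opens) : CommRingCat.of C ⟶ Γ(X, U) :=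
  (Scheme.ΓSpecIso (CommRingCat.of C)).inv ≫ g.appLE ⊤ U (by simp)

theorem phi_res {U W : X.Opens} (h : W ≤ U) :
    phi g U ≫ X.presheaf.map (homOfLE h).op = phi g W := by
  unfold phi
  rw [Category.assoc, Scheme.Hom.appLE_map]

theorem phi_top : phi g ⊤ = (Scheme.ΓSpecIso (CommRingCat.of C)).inv ≫ g.appTop := by
  unfold phi
  congr 1
  simp [Scheme.Hom.appLE]

theorem fromSpec_comp {U : X.Opens} (hU : IsAffineOpen U) :
    hU.fromSpec ≫ g = Spec.map (phi g U) := by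
  have h := IsAffineOpen.SpecMap_appLE_fromSpec g (isAffineOpen_top (Spec (CommRingCat.of C))) hU
    (by simp)
  rw [← h, IsAffineOpen.fromSpec_top, Scheme.isoSpec_Spec_inv, ← Spec.map_comp]
  rfl

theorem flat_phi [Flat g] {U : X.Opens} (hU : IsAffineOpen U) : (phi g U).hom.Flat := by
  have h1 : (g.appLE ⊤ U (by simp)).hom.Flat :=
    HasRingHomProperty.appLE (P := @Flat) g inferInstance
      ⟨⊤, isAffineOpen_top (Spec (CommRingCat.of C))⟩ ⟨U, hU⟩ (by simp)
  unfold phi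
  rw [CommRingCat.hom_comp]
  refine RingHom.Flat.comp ?_ h1
  exact RingHom.Flat.of_bijective (ConcreteCategory.bijective_of_isIso _)

variable (I : Ideal C) (i : X₀ ⟶ X) (f₀ : X₀ ⟶ Spec (CommRingCat.of (C ⧸ I)))

/-- compatibility of the structure maps of `X` and of the fibre. -/
theorem phi_comp_app (comm : i ≫ g = f₀ ≫ Spec.map (CommRingCat.ofHom (Ideal.Quotient.mk I)))
    (U : X.Opens) :
    phi g U ≫ i.app U = CommRingCat.ofHom (Ideal.Quotient.mk I) ≫
      (Scheme.ΓSpecIso (CommRingCat.of (C ⧸ I))).inv ≫ f₀.appTop ≫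
        X₀.presheaf.map (homOfLE (le_top : i ⁻¹ᵁ U ≤ ⊤)).op := by
  unfold phi
  have h1 : g.appLE ⊤ U (by simp) ≫ i.app U = (i ≫ g).appLE ⊤ (i ⁻¹ᵁ U) (by simp) := by
    rw [Scheme.Hom.app_eq_appLE, Scheme.Hom.appLE_comp_appLE]
  have h2 : (i ≫ g).appLE ⊤ (i ⁻¹ᵁ U) (by simp) =
      (f₀ ≫ Spec.map (CommRingCat.ofHom (Ideal.Quotient.mk I))).appLE ⊤ (i ⁻¹ᵁ U) (by simp) := by
    congr 1
  have h3 : (f₀ ≫ Spec.map (CommRingCat.ofHom (Ideal.Quotient.mk I))).appLE ⊤ (i ⁻¹ᵁ U) (by simp) =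
      (Spec.map (CommRingCat.ofHom (Ideal.Quotient.mk I))).appTop ≫ f₀.appTop ≫
        X₀.presheaf.map (homOfLE (le_top : i ⁻¹ᵁ U ≤ ⊤)).op := by
    rw [← Scheme.Hom.appLE_comp_appLE f₀ _ ⊤ ⊤ (i ⁻¹ᵁ U) (by simp) (by simp)]
    have ha : (Spec.map (CommRingCat.ofHom (Ideal.Quotient.mk I))).appLE ⊤ ⊤ (by simp) =
        (Spec.map (CommRingCat.ofHom (Ideal.Quotient.mk I))).appTop := by
      simp [Scheme.Hom.appLE]
    have hb : f₀.appLE ⊤ (i ⁻¹ᵁ U) (by simp) = f₀.appTop ≫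
        X₀.presheaf.map (homOfLE (le_top : i ⁻¹ᵁ U ≤ ⊤)).op := by
      simp [Scheme.Hom.appLE]
    rw [ha, hb]
  rw [Category.assoc, h1, h2, h3, ← Category.assoc, ← Scheme.ΓSpecIso_inv_naturality,
    Category.assoc]

theorem fromSpec_appLE {U : X.Opens} (hU : IsAffineOpen U) :
    hU.fromSpec.appLE U ⊤ (by simp) = (Scheme.ΓSpecIso Γ(X, U)).inv := by
  rw [Scheme.Hom.appLE, hU.fromSpec_app_self, Category.assoc, ← CategoryTheory.Functor.map_comp]
  have : (eqToHom hU.fromSpec_preimage_self).op ≫ (homOfLE (by simp : (⊤ : (Spec Γ(X, U)).Opens) ≤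
      hU.fromSpec ⁻¹ᵁ U)).op = 𝟙 _ := Subsingleton.elim _ _
  rw [this, CategoryTheory.Functor.map_id, Category.comp_id]

/-- sections over an affine open `U` killed by `i^♯` lie in `I·Γ(X, U)`. -/
theorem mem_map_of_app_eq_zero
    (hsq : IsPullback i f₀ g (Spec.map (CommRingCat.ofHom (Ideal.Quotient.mk I))))
    {U : X.Opens} (hU : IsAffineOpen U) (b : Γ(X, U)) (hb : (i.app U).hom b = 0) :
    b ∈ I.map (phi g U).hom := by
  set IB : Ideal Γ(X, U) := I.map (phi g U).hom with hIB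
  let π : Γ(X, U) ⟶ CommRingCat.of (Γ(X, U) ⧸ IB) := CommRingCat.ofHom (Ideal.Quotient.mk IB)
  let ψ : CommRingCat.of (C ⧸ I) ⟶ CommRingCat.of (Γ(X, U) ⧸ IB) :=
    CommRingCat.ofHom (Ideal.quotientMap IB (phi g U).hom Ideal.le_comap_map)
  have hcomm : phi g U ≫ π = CommRingCat.ofHom (Ideal.Quotient.mk I) ≫ ψ := by
    ext c
    rfl
  let j : Spec (CommRingCat.of (Γ(X, U) ⧸ IB)) ⟶ X := Spec.map π ≫ hU.fromSpec
  have hj : j ≫ g = Spec.map ψ ≫ Spec.map (CommRingCat.ofHom (Ideal.Quotient.mk I)) := by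
    rw [Category.assoc, fromSpec_comp g hU, ← Spec.map_comp, ← Spec.map_comp, hcomm]
  let l := hsq.lift j (Spec.map ψ) hj
  have hl : l ≫ i = j := hsq.lift_fst _ _ _
  have hjU : (⊤ : (Spec (CommRingCat.of (Γ(X, U) ⧸ IB))).Opens) ≤ j ⁻¹ᵁ U := by
    intro x _
    show (hU.fromSpec ((Spec.map π) x)) ∈ U
    have := hU.fromSpec_preimage_self
    have hx : (Spec.map π) x ∈ hU.fromSpec ⁻¹ᵁ U := by rw [this]; trivial
    exact hx
  -- compute j.appLE U ⊤ in two ways
  have e1 : j.appLE U ⊤ hjU = π ≫ (Scheme.ΓSpecIso _).inv := by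
    have : j.appLE U ⊤ hjU = hU.fromSpec.appLE U ⊤ (by simp) ≫ (Spec.map π).appLE ⊤ ⊤ (by simp) :=
      (Scheme.Hom.appLE_comp_appLE _ _ _ _ _ _ _).symm
    rw [this, fromSpec_appLE hU]
    have ha : (Spec.map π).appLE ⊤ ⊤ (by simp) = (Spec.map π).appTop := by
      simp [Scheme.Hom.appLE]
    rw [ha, Scheme.ΓSpecIso_inv_naturality]
  have hlU : (⊤ : (Spec (CommRingCat.of (Γ(X, U) ⧸ IB))).Opens) ≤ l ⁻¹ᵁ (i ⁻¹ᵁ U) := by
    intro x hx
    have := hjU hx
    rw [← hl] at this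
    exact this
  have e2 : j.appLE U ⊤ hjU = i.app U ≫ l.appLE (i ⁻¹ᵁ U) ⊤ hlU := by
    rw [Scheme.Hom.app_eq_appLE, Scheme.Hom.appLE_comp_appLE]
    congr 1
    exact hl.symm
  have h3 : (π ≫ (Scheme.ΓSpecIso _).inv).hom b = 0 := by
    rw [← e1, e2, CommRingCat.hom_comp, RingHom.comp_apply, hb, map_zero]
  rw [CommRingCat.hom_comp, RingHom.comp_apply] at h3
  have h4 : π.hom b = 0 := by
    have hinj : Function.Injective (Scheme.ΓSpecIso (CommRingCat.of (Γ(X, U) ⧸ IB))).inv.hom :=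
      (ConcreteCategory.bijective_of_isIso _).1
    apply hinj
    rw [h3, map_zero]
  exact Ideal.Quotient.eq_zero_iff_mem.1 h4

/-- gluing sections along a family of opens that is "closed under intersections up to refinement". -/
theorem exists_glue (Y : Scheme.{u}) {ι : Type u} (V : ι → Y.Opens) (le : ι → ι → Prop)
    (hle : ∀ c a, le c a → V c ≤ V a)
    (hbasis : ∀ a b (y : Y), y ∈ V a → y ∈ V b → ∃ c, le c a ∧ le c b ∧ y ∈ V c)
    (hcover : ∀ y : Y, ∃ a, y ∈ V a)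
    (sf : ∀ a, Γ(Y, V a))
    (hcompat : ∀ c a (h : le c a), (Y.presheaf.map (homOfLE (hle c a h)).op).hom (sf a) = sf c) :
    ∃ s : Γ(Y, ⊤), ∀ a, (Y.presheaf.map (homOfLE (le_top : V a ≤ ⊤)).op).hom s = sf a := by
  have hcomp : TopCat.Presheaf.IsCompatible Y.presheaf V sf := by
    intro a b
    refine TopCat.Sheaf.eq_of_locally_eq' Y.sheaf
      (fun c : {c : ι // le c a ∧ le c b} => V c.1) (V a ⊓ V b)
      (fun c => homOfLE (le_inf (hle _ _ c.2.1) (hle _ _ c.2.2))) ?_ _ _ fun c => ?_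
    · intro y hy
      obtain ⟨c, hca, hcb, hyc⟩ := hbasis a b y hy.1 hy.2
      exact Opens.mem_iSup.mpr ⟨⟨c, hca, hcb⟩, hyc⟩
    · show (Y.presheaf.map _).hom ((Y.presheaf.map _).hom (sf a)) =
        (Y.presheaf.map _).hom ((Y.presheaf.map _).hom (sf b))
      rw [← RingHom.comp_apply, ← RingHom.comp_apply, ← CommRingCat.hom_comp,
        ← CommRingCat.hom_comp, ← Functor.map_comp, ← Functor.map_comp]
      have h1 := hcompat c.1 a c.2.1
      have h2 := hcompat c.1 b c.2.2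
      exact h1.trans h2.symm
  obtain ⟨s, hs, -⟩ := TopCat.Sheaf.existsUnique_gluing' Y.sheaf V ⊤ (fun a => homOfLE le_top)
    (fun y _ => by
      obtain ⟨a, ha⟩ := hcover y
      exact Opens.mem_iSup.mpr ⟨a, ha⟩) sf hcomp
  exact ⟨s, fun a => hs a⟩

/-- flatness: `φ(t) x ∈ I B` implies `x ∈ (I : t) B`. -/
theorem mem_map_colon_of_flat {C B : Type u} [CommRing C] [CommRing B] (φ : C →+* B) (hφ : φ.Flat)
    (I : Ideal C) (t : C) (x : B) (h : φ t * x ∈ I.map φ) : x ∈ (colonElt I t).map φ := by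
  letI : Algebra C B := φ.toAlgebra
  haveI : Module.Flat C B := hφ
  have h1 : t • x ∈ I • (⊤ : Submodule C B) := by
    rw [Ideal.smul_top_eq_map, Submodule.restrictScalars_mem, Algebra.smul_def]
    exact h
  have h2 := mem_colon_smul_top_of_flat I t x h1
  rw [Ideal.smul_top_eq_map, Submodule.restrictScalars_mem] at h2
  exact h2

theorem colonElt_le_maximalIdeal {C : Type u} [CommRing C] [IsLocalRing C] (I : Ideal C) (t : C)
    (ht : t ∉ I) : colonElt I t ≤ IsLocalRing.maximalIdeal C := by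
  apply IsLocalRing.le_maximalIdeal
  intro htop
  have : (1 : C) ∈ colonElt I t := htop ▸ Submodule.mem_top
  rw [mem_colonElt, one_mul] at this
  exact ht this

/-- a socle element modulo a proper ideal of an Artinian local ring. -/
theorem exists_socle {C : Type u} [CommRing C] [IsLocalRing C] [IsArtinianRing C] (K : Ideal C)
    (hK : K ≠ ⊤) : ∃ t : C, t ∉ K ∧ ∀ a ∈ IsLocalRing.maximalIdeal C, a * t ∈ K := by
  classical
  obtain ⟨N, hN⟩ := IsArtinianRing.isNilpotent_jacobson_bot (R := C)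
  rw [IsLocalRing.jacobson_eq_maximalIdeal ⊥ bot_ne_top] at hN
  have hex : ∃ n : ℕ, IsLocalRing.maximalIdeal C ^ n ≤ K := ⟨N, by rw [hN]; exact bot_le⟩
  have hn0 : Nat.find hex ≠ 0 := by
    intro h0
    have := Nat.find_spec hex
    rw [h0, pow_zero, Ideal.one_eq_top] at this
    exact hK (top_le_iff.1 this)
  obtain ⟨n, hn⟩ := Nat.exists_eq_succ_of_ne_zero hn0
  have hnot : ¬ IsLocalRing.maximalIdeal C ^ n ≤ K := by
    apply Nat.find_min hex
    omega
  obtain ⟨x, hx, hxK⟩ := SetLike.not_le_iff_exists.1 hnot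
  refine ⟨x, hxK, fun a ha => ?_⟩
  have hspec := Nat.find_spec hex
  rw [hn, pow_succ'] at hspec
  exact hspec (Ideal.mul_mem_mul ha hx)

end Groth.Agent.Lib.Helper58.ArtinGamma
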