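import Groth.Agent.Lib.Helper58.ArtinGamma

set_option autoImplicit false

namespace Groth.Agent.Lib.Helper58.ArtinGamma

open CategoryTheory AlgebraicGeometry Limits TopologicalSpace Opposite
open Groth.Agent.Lib.Helper93.DefEnd

universe u

theorem main (C : Type u) [CommRing C] [IsLocalRing C] [IsArtinianRing C] (X X₀ : Scheme.{u})
    (g : X ⟶ Spec (CommRingCat.of C)) [Flat g] (m : Ideal C) (hm : m = IsLocalRing.maximalIdeal C)
    (i : X₀ ⟶ X) (f₀ : X₀ ⟶ Spec (CommRingCat.of (C ⧸ m)))
    (hsq : IsPullback i f₀ g (Spec.map (CommRingCat.ofHom (Ideal.Quotient.mk m))))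
    (h0 : Function.Bijective ((Scheme.ΓSpecIso (CommRingCat.of (C ⧸ m))).inv ≫ f₀.appTop)) :
    Function.Bijective ((Scheme.ΓSpecIso (CommRingCat.of C)).inv ≫ g.appTop) := by
  classical
  set κ : CommRingCat.of (C ⧸ m) ⟶ Γ(X₀, ⊤) :=
    (Scheme.ΓSpecIso (CommRingCat.of (C ⧸ m))).inv ≫ f₀.appTop with hκ
  have h0' : Function.Bijective κ.hom := h0
  haveI : m.IsMaximal := hm ▸ IsLocalRing.maximalIdeal.isMaximal C
  -- Fact A
  have factA : ∀ (U : X.Opens) (c : C), (i.app U).hom ((phi g U).hom c) =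
      (X₀.presheaf.map (homOfLE (le_top : i ⁻¹ᵁ U ≤ ⊤)).op).hom (κ.hom (Ideal.Quotient.mk m c)) := by
    intro U c
    have h := phi_comp_app g m i f₀ hsq.w U
    exact congrArg (fun f => f.hom c) h
  have factA' : ∀ (U : X.Opens) (x : Γ(X, U)), x ∈ m.map (phi g U).hom → (i.app U).hom x = 0 := by
    intro U x hx
    have hle : m.map (phi g U).hom ≤ RingHom.ker (i.app U).hom := by
      rw [Ideal.map_le_iff_le_comap]
      intro a ha
      rw [Ideal.mem_comap, RingHom.mem_ker, factA U a, Ideal.Quotient.eq_zero_iff_mem.2 ha, map_zero,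
        map_zero]
    exact hle hx
  have factB : ∀ (U : X.Opens), IsAffineOpen U → ∀ b : Γ(X, U), (i.app U).hom b = 0 →
      b ∈ m.map (phi g U).hom := fun U hU b hb => mem_map_of_app_eq_zero g m i f₀ hsq hU b hb
  have factN : ∀ {U W : X.Opens} (h : W ≤ U) (b : Γ(X, U)),
      (i.app W).hom ((X.presheaf.map (homOfLE h).op).hom b) =
        (X₀.presheaf.map (homOfLE (i.preimage_mono h)).op).hom ((i.app U).hom b) := by
    intro U W h b
    have := i.naturality (homOfLE h).op
    exact congrArg (fun f => f.hom b) this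
  -- locality on X₀
  have hcoverX₀ : ∀ y : X₀, ∃ U : X.affineOpens, y ∈ i ⁻¹ᵁ U.1 := by
    intro y
    obtain ⟨_, ⟨U, hU, rfl⟩, hyU, -⟩ := X.isBasis_affineOpens.exists_subset_of_mem_open
      (show i y ∈ (⊤ : X.Opens) from trivial) (⊤ : X.Opens).2
    exact ⟨⟨U, hU⟩, hyU⟩
  -- the claim
  have key : ∀ I : Ideal C, ∀ s : Γ(X, ⊤), ∃ c : C, ∀ U : X.affineOpens,
      (X.presheaf.map (homOfLE (le_top : U.1 ≤ ⊤)).op).hom s - (phi g U.1).hom c ∈
        I.map (phi g U.1).hom := by
    intro I
    induction I using WellFoundedGT.induction with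
    | ind I ih =>
    intro s
    by_cases hI : I = ⊤
    · refine ⟨0, fun U => ?_⟩
      rw [hI, Ideal.map_top]
      trivial
    obtain ⟨t, ht, hmt⟩ := exists_socle I hI
    rw [← hm] at hmt
    have hlt : I < I ⊔ Ideal.span {t} := by
      refine lt_of_le_of_ne le_sup_left fun h => ht ?_
      rw [h]
      exact Ideal.mem_sup_right (Ideal.subset_span rfl)
    obtain ⟨c, hc⟩ := ih _ hlt s
    -- choose local coefficients
    have hex : ∀ U : X.affineOpens, ∃ b : Γ(X, U.1),
        (X.presheaf.map (homOfLE (le_top : U.1 ≤ ⊤)).op).hom s - (phi g U.1).hom c -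
          (phi g U.1).hom t * b ∈ I.map (phi g U.1).hom := by
      intro U
      have h := hc U
      rw [Ideal.map_sup, Ideal.map_span, Set.image_singleton] at h
      obtain ⟨e, he, z, hz, hez⟩ := Submodule.mem_sup.1 h
      obtain ⟨b, rfl⟩ := Ideal.mem_span_singleton'.1 hz
      refine ⟨b, ?_⟩
      rw [← hez]
      have : e + b * (phi g U.1).hom t - (phi g U.1).hom t * b = e := by ring
      rw [this]
      exact he
    choose b hb using hex
    -- compatibility
    have hcompat : ∀ (W U : X.affineOpens) (h : W.1 ≤ U.1),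
        (X.presheaf.map (homOfLE h).op).hom (b U) - b W ∈ m.map (phi g W.1).hom := by
      intro W U h
      set r := (X.presheaf.map (homOfLE h).op).hom with hr
      have hrφ : ∀ c : C, r ((phi g U.1).hom c) = (phi g W.1).hom c := by
        intro c
        have := phi_res g h
        exact congrArg (fun f => f.hom c) this
      have hrs : r ((X.presheaf.map (homOfLE (le_top : U.1 ≤ ⊤)).op).hom s) =
          (X.presheaf.map (homOfLE (le_top : W.1 ≤ ⊤)).op).hom s := by
        rw [hr, ← RingHom.comp_apply, ← CommRingCat.hom_comp, ← Functor.map_comp]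
        rfl
      have h1 : r ((X.presheaf.map (homOfLE (le_top : U.1 ≤ ⊤)).op).hom s - (phi g U.1).hom c -
          (phi g U.1).hom t * b U) ∈ I.map (phi g W.1).hom := by
        have hmap : (I.map (phi g U.1).hom).map r ≤ I.map (phi g W.1).hom := by
          rw [Ideal.map_map]
          apply le_of_eq
          congr 1
          ext c
          exact hrφ c
        exact hmap (Ideal.mem_map_of_mem r (hb U))
      rw [map_sub, map_sub, map_mul, hrφ, hrφ, hrs] at h1
      have h2 := Ideal.sub_mem _ (hb W) h1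
      have h3 : (phi g W.1).hom t * (r (b U) - b W) ∈ I.map (phi g W.1).hom := by
        have : (phi g W.1).hom t * (r (b U) - b W) =
            ((X.presheaf.map (homOfLE (le_top : W.1 ≤ ⊤)).op).hom s - (phi g W.1).hom c -
              (phi g W.1).hom t * b W) -
            ((X.presheaf.map (homOfLE (le_top : W.1 ≤ ⊤)).op).hom s - (phi g W.1).hom c -
              (phi g W.1).hom t * r (b U)) := by ring
        rw [this]
        exact h2
      have h4 := mem_map_colon_of_flat _ (flat_phi g W.2) I t _ h3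
      exact Ideal.map_mono (hm ▸ colonElt_le_maximalIdeal I t ht) h4
    -- glue the residues
    obtain ⟨β, hβ⟩ := exists_glue X₀ (fun U : X.affineOpens => i ⁻¹ᵁ U.1)
      (fun W U => W.1 ≤ U.1) (fun W U h => i.preimage_mono h)
      (by
        intro U U' y hy hy'
        obtain ⟨_, ⟨W, hW, rfl⟩, hyW, hWU⟩ := X.isBasis_affineOpens.exists_subset_of_mem_open
          (show i y ∈ (U.1 ⊓ U'.1 : X.Opens) from ⟨hy, hy'⟩) (U.1 ⊓ U'.1 : X.Opens).2
        exact ⟨⟨W, hW⟩, fun z hz => (hWU hz).1, fun z hz => (hWU hz).2, hyW⟩)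
      hcoverX₀
      (fun U => (i.app U.1).hom (b U))
      (by
        intro W U h
        have h1 := factA' W.1 _ (hcompat W U h)
        rw [map_sub, sub_eq_zero, factN h] at h1
        exact h1)
    obtain ⟨cb', hcb'⟩ := h0'.2 β
    obtain ⟨c', rfl⟩ := Ideal.Quotient.mk_surjective cb'
    refine ⟨c + t * c', fun U => ?_⟩
    have h5 : (i.app U.1).hom (b U - (phi g U.1).hom c') = 0 := by
      rw [map_sub, factA U.1 c', hcb', hβ U, sub_self]
    have h6 := factB U.1 U.2 _ h5
    have h7 : (phi g U.1).hom t * (b U - (phi g U.1).hom c') ∈ I.map (phi g U.1).hom := by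
      have hle : Ideal.span {t} * m ≤ I := by
        rw [Ideal.span_singleton_mul_le_iff]
        intro a ha
        rw [mul_comm]
        exact hmt a ha
      have := Ideal.map_mono (f := (phi g U.1).hom) hle
      rw [Ideal.map_mul, Ideal.map_span, Set.image_singleton] at this
      exact this (Ideal.mul_mem_mul (Ideal.subset_span rfl) h6)
    have h8 : (X.presheaf.map (homOfLE (le_top : U.1 ≤ ⊤)).op).hom s - (phi g U.1).hom (c + t * c') =
        ((X.presheaf.map (homOfLE (le_top : U.1 ≤ ⊤)).op).hom s - (phi g U.1).hom c -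
          (phi g U.1).hom t * b U) + (phi g U.1).hom t * (b U - (phi g U.1).hom c') := by
      rw [map_add, map_mul]; ring
    rw [h8]
    exact Ideal.add_mem _ (hb U) h7
  have hγ : ((Scheme.ΓSpecIso (CommRingCat.of C)).inv ≫ g.appTop) = phi g ⊤ := (phi_top g).symm
  rw [hγ]
  show Function.Bijective (phi g ⊤).hom
  have hres : ∀ (U : X.Opens) (c : C), (X.presheaf.map (homOfLE (le_top : U ≤ ⊤)).op).hom
      ((phi g ⊤).hom c) = (phi g U).hom c := by
    intro U c
    have := phi_res g (le_top : U ≤ ⊤)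
    exact congrArg (fun f => f.hom c) this
  constructor
  · -- injective
    rw [injective_iff_map_eq_zero]
    intro c hc
    by_contra hc0
    have hcol : colonElt (⊥ : Ideal C) c ≤ m :=
      hm ▸ colonElt_le_maximalIdeal ⊥ c (by rwa [Ideal.mem_bot])
    have h1 : ∀ U : X.affineOpens, (X₀.presheaf.map (homOfLE (le_top : i ⁻¹ᵁ U.1 ≤ ⊤)).op).hom
        (1 : Γ(X₀, ⊤)) = (X₀.presheaf.map (homOfLE (le_top : i ⁻¹ᵁ U.1 ≤ ⊤)).op).hom 0 := by
      intro U
      have hφc : (phi g U.1).hom c = 0 := by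
        rw [← hres, hc, map_zero]
      have hmem : (phi g U.1).hom c * 1 ∈ (⊥ : Ideal C).map (phi g U.1).hom := by
        rw [hφc, zero_mul]; exact Ideal.zero_mem _
      have h2 := mem_map_colon_of_flat _ (flat_phi g U.2) ⊥ c 1 hmem
      have h3 := factA' U.1 1 (Ideal.map_mono hcol h2)
      rw [map_one] at h3
      rw [map_one, map_zero]
      exact h3
    have h10 : (1 : Γ(X₀, ⊤)) = 0 := by
      refine TopCat.Sheaf.eq_of_locally_eq' X₀.sheaf (fun U : X.affineOpens => i ⁻¹ᵁ U.1) ⊤
        (fun U => homOfLE le_top) ?_ _ _ h1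
      intro y _
      obtain ⟨U, hU⟩ := hcoverX₀ y
      exact Opens.mem_iSup.mpr ⟨U, hU⟩
    have h11 : κ.hom 1 = κ.hom 0 := by rw [map_one, map_zero, h10]
    have h12 : (1 : C ⧸ m) = 0 := h0'.1 h11
    exact one_ne_zero h12
  · -- surjective
    intro s
    obtain ⟨c, hc⟩ := key ⊥ s
    refine ⟨c, ?_⟩
    refine TopCat.Sheaf.eq_of_locally_eq' X.sheaf (fun U : X.affineOpens => U.1) ⊤
      (fun U => homOfLE le_top) ?_ _ _ ?_
    · intro y _
      obtain ⟨_, ⟨U, hU, rfl⟩, hyU, -⟩ := X.isBasis_affineOpens.exists_subset_of_mem_open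
        (show y ∈ (⊤ : X.Opens) from trivial) (⊤ : X.Opens).2
      exact Opens.mem_iSup.mpr ⟨⟨U, hU⟩, hyU⟩
    · intro U
      have h := hc U
      rw [Ideal.map_bot, Ideal.mem_bot, sub_eq_zero] at h
      show (X.presheaf.map _).hom ((phi g ⊤).hom c) = (X.presheaf.map _).hom s
      rw [h]
      exact hres U.1 c

end Groth.Agent.Lib.Helper58.ArtinGamma
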