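import Mathlib.RingTheory.UniqueFactorizationDomain.Kaplansky
import Mathlib.RingTheory.UniqueFactorizationDomain.Multiplicity
import Mathlib.RingTheory.UniqueFactorizationDomain.Ideal
import Mathlib.RingTheory.Localization.Away.Basic
import Mathlib.RingTheory.Localization.Ideal
import Mathlib.GroupTheory.MonoidLocalization.Divisibility
import Mathlib.GroupTheory.MonoidLocalization.UniqueFactorization
import Mathlib.RingTheory.Noetherian.UniqueFactorizationDomain

/-!
# Nagata's criterion for a single prime element (helper58)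

If `R` is a domain in which divisibility is well-founded (e.g. Noetherian), `s` is a prime
element and `R[1/s]` is a UFD, then `R` is a UFD.
-/

set_option autoImplicit false

namespace Groth.Agent.Lib.Helper58

/-- an element not divisible by the prime `s` which becomes prime in `R[1/s]` is prime -/
theorem prime_of_prime_map_away {R : Type*} [CommRing R] [IsDomain R] (s : R) (hs : Prime s)
    (S : Type*) [CommRing S] [Algebra R S] [IsLocalization.Away s S]
    (x : R) (hsx : ¬ s ∣ x) (hx : Prime (algebraMap R S x)) : Prime x := by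
  have hinj : Function.Injective (algebraMap R S) :=
    IsLocalization.injective S (powers_le_nonZeroDivisors_of_noZeroDivisors hs.ne_zero)
  refine ⟨fun h => hx.ne_zero (by rw [h, map_zero]), fun h => hx.not_isUnit (h.map _), ?_⟩
  have key : ∀ a : R, algebraMap R S x ∣ algebraMap R S a → x ∣ a := by
    intro a ha
    obtain ⟨t, ⟨k, rfl⟩, hdvd⟩ :=
      (IsLocalization.toLocalizationMap (Submonoid.powers s) S).map_dvd_map.mp ha
    obtain ⟨c₀, hc₀⟩ := hdvd
    -- s ^ k * a = x * c₀
    have h1 : s ^ k ∣ c₀ := by
      apply hs.pow_dvd_of_dvd_mul_left k hsx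
      exact ⟨a, by rw [← hc₀]⟩
    obtain ⟨c₁, rfl⟩ := h1
    refine ⟨c₁, ?_⟩
    have h2 : s ^ k * a = s ^ k * (x * c₁) := by rw [hc₀]; ring
    exact mul_left_cancel₀ (pow_ne_zero k hs.ne_zero) h2
  intro a b hab
  have h1 : algebraMap R S x ∣ algebraMap R S a * algebraMap R S b := by
    rw [← map_mul]; exact map_dvd _ hab
  rcases hx.dvd_or_dvd h1 with h | h
  · exact Or.inl (key a h)
  · exact Or.inr (key b h)

/-- **Nagata's criterion** for one prime element -/
theorem ufd_of_away {R : Type*} [CommRing R] [IsDomain R] [WfDvdMonoid R] (s : R) (hs : Prime s)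
    (S : Type*) [CommRing S] [IsDomain S] [Algebra R S] [IsLocalization.Away s S]
    [UniqueFactorizationMonoid S] : UniqueFactorizationMonoid R := by
  have hinj : Function.Injective (algebraMap R S) :=
    IsLocalization.injective S (powers_le_nonZeroDivisors_of_noZeroDivisors hs.ne_zero)
  apply UniqueFactorizationMonoid.iff_exists_prime_mem_of_isPrime.mpr
  intro Q hQ hQp
  by_cases hsQ : s ∈ Q
  · exact ⟨s, hsQ, hs⟩
  have hdisj : Disjoint (Submonoid.powers s : Set R) (Q : Set R) := by
    rw [Set.disjoint_left]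
    rintro _ ⟨n, rfl⟩ hn
    exact hsQ (hQp.mem_of_pow_mem n hn)
  have hQS : (Q.map (algebraMap R S)).IsPrime :=
    IsLocalization.isPrime_of_isPrime_disjoint (Submonoid.powers s) S Q hQp hdisj
  have hQS0 : Q.map (algebraMap R S) ≠ ⊥ := by
    intro h
    apply hQ
    rw [eq_bot_iff]
    intro y hy
    have : algebraMap R S y ∈ Q.map (algebraMap R S) := Ideal.mem_map_of_mem _ hy
    rw [h, Ideal.mem_bot] at this
    rw [Ideal.mem_bot]
    exact hinj (by rw [this, map_zero])
  obtain ⟨π, hπQ, hπ⟩ := hQS.exists_mem_prime_of_ne_bot hQS0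
  obtain ⟨x, ⟨_, n, rfl⟩, rfl⟩ := IsLocalization.exists_mk'_eq (Submonoid.powers s) π
  -- `algebraMap x` is associated to `π`
  have hunit : IsUnit (algebraMap R S (s ^ n)) :=
    IsLocalization.map_units S (⟨s ^ n, n, rfl⟩ : Submonoid.powers s)
  have hxeq : algebraMap R S x =
      IsLocalization.mk' S x (⟨s ^ n, n, rfl⟩ : Submonoid.powers s) * algebraMap R S (s ^ n) := by
    rw [IsLocalization.mk'_spec]
  have hxprime : Prime (algebraMap R S x) := by
    rw [hxeq]
    exact (Associated.prime_iff (associated_mul_unit_right _ _ hunit)).mp hπ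
  have hxQ : x ∈ Q := by
    have h1 : algebraMap R S x ∈ Q.map (algebraMap R S) := by
      rw [hxeq]; exact Ideal.mul_mem_right _ _ hπQ
    have h2 := IsLocalization.under_map_of_isPrime_disjoint (Submonoid.powers s) S hQp hdisj
    rw [← h2]
    exact h1
  have hx0 : x ≠ 0 := fun h => hxprime.ne_zero (by rw [h, map_zero])
  obtain ⟨m, x', hsx', rfl⟩ := WfDvdMonoid.max_power_factor' hx0 hs.not_isUnit
  have hx'Q : x' ∈ Q := by
    rcases hQp.mem_or_mem hxQ with h | h
    · exact absurd (hQp.mem_of_pow_mem m h) hsQ
    · exact h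
  have hx'prime : Prime (algebraMap R S x') := by
    have hu : IsUnit (algebraMap R S (s ^ m)) :=
      IsLocalization.map_units S (⟨s ^ m, m, rfl⟩ : Submonoid.powers s)
    rw [map_mul] at hxprime
    exact (Associated.prime_iff (associated_unit_mul_left _ _ hu)).mp hxprime
  exact ⟨x', hx'Q, prime_of_prime_map_away s hs S x' hsx' hx'prime⟩

end Groth.Agent.Lib.Helper58
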