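import Mathlib.RingTheory.GradedAlgebra.HomogeneousLocalization
import Mathlib.RingTheory.Polynomial.UniqueFactorization
import Mathlib.Algebra.DirectSum.Decomposition
import Groth.Agent.Lib.Helper58.Nagata

/-!
# `R[1/s] = R_(s)[T, T⁻¹]` for `s` homogeneous of degree one (helper58)

For an `ℕ`-graded domain `R` and `0 ≠ s ∈ R₁`, the localization `R[1/s]` is a localization of the
polynomial ring `R_(s)[T]` at the powers of `T` (with `T ↦ s`).
-/

set_option autoImplicit false
set_option linter.unusedSectionVars false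

namespace Groth.Agent.Lib.Helper58

open HomogeneousLocalization Polynomial

section Laurent

variable {K R : Type*} [Field K] [CommRing R] [IsDomain R] [Algebra K R]
  (𝒜 : ℕ → Submodule K R) [GradedAlgebra 𝒜] {s : R}

/-- the evaluation map `R_(s)[T] → R[1/s]`, `T ↦ s` -/
noncomputable def Φ : Polynomial (Away 𝒜 s) →+* Localization.Away s :=
  Polynomial.eval₂RingHom (algebraMap (Away 𝒜 s) (Localization.Away s))
    (algebraMap R (Localization.Away s) s)

lemma Φ_C (a : Away 𝒜 s) : Φ 𝒜 (C a) = a.val := by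
  simp [Φ]

lemma Φ_X : Φ 𝒜 (X : Polynomial (Away 𝒜 s)) = algebraMap R (Localization.Away s) s := by
  simp [Φ]

lemma exists_Φ_eq (hs : s ∈ 𝒜 1) (r : R) :
    ∃ p : Polynomial (Away 𝒜 s), Φ 𝒜 p = algebraMap R (Localization.Away s) r := by
  induction r using DirectSum.Decomposition.inductionOn 𝒜 with
  | zero => exact ⟨0, by simp⟩
  | @homogeneous i m =>
    obtain ⟨r, hr⟩ := m
    refine ⟨C (Away.mk 𝒜 hs i r (by simpa using hr)) * X ^ i, ?_⟩
    rw [map_mul, map_pow, Φ_C, Φ_X, Away.val_mk, Localization.mk_eq_mk', ← map_pow]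
    exact IsLocalization.mk'_spec _ _ _
  | add a b ha hb =>
    obtain ⟨p, hp⟩ := ha
    obtain ⟨q, hq⟩ := hb
    exact ⟨p + q, by rw [map_add, hp, hq, map_add]⟩

lemma algebraMap_injective (hs0 : s ≠ 0) :
    Function.Injective (algebraMap R (Localization.Away s)) :=
  IsLocalization.injective _ (powers_le_nonZeroDivisors_of_noZeroDivisors hs0)

lemma Φ_injective (hs : s ∈ 𝒜 1) (hs0 : s ≠ 0) : Function.Injective (Φ 𝒜 (s := s)) := by
  classical
  rw [injective_iff_map_eq_zero]
  intro p hp
  by_contra hp0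
  have hev : ∀ᶠ n in Filter.atTop, ∀ i ∈ p.support,
      s ^ n • (p.coeff i).val ∈
        algebraMap R (Localization.Away s) '' (𝒜 (n • 1) : Set R) := by
    rw [Filter.eventually_all_finset]
    intro i _
    exact Away.eventually_smul_mem hs (p.coeff i)
  obtain ⟨M, hM⟩ := hev.exists
  choose! y hy using hM
  have hdeg : ∀ j ∈ p.support, y j * s ^ j ∈ 𝒜 (M + j) := by
    intro j hj
    have := SetLike.mul_mem_graded (hy j hj).1 (SetLike.pow_mem_graded j hs)
    simpa using this
  have hsum : algebraMap R (Localization.Away s) (∑ i ∈ p.support, y i * s ^ i) = 0 := by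
    have h1 : s ^ M • Φ 𝒜 p = 0 := by rw [hp, smul_zero]
    rw [← h1, Φ, Polynomial.coe_eval₂RingHom, Polynomial.eval₂_eq_sum, Polynomial.sum_def,
      Finset.smul_sum, map_sum]
    refine Finset.sum_congr rfl fun i hi => ?_
    rw [map_mul, (hy i hi).2, HomogeneousLocalization.algebraMap_apply, map_pow, smul_mul_assoc]
  have hsum0 : ∑ i ∈ p.support, y i * s ^ i = 0 :=
    algebraMap_injective hs0 (by rw [hsum, map_zero])
  obtain ⟨i₀, hi₀⟩ : p.support.Nonempty := by
    rw [Finset.nonempty_iff_ne_empty, Ne, Polynomial.support_eq_empty]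
    exact hp0
  have h2 : y i₀ * s ^ i₀ = 0 := by
    have h3 := congrArg (GradedRing.proj 𝒜 (M + i₀)) hsum0
    rw [map_sum, map_zero, Finset.sum_eq_single i₀] at h3
    · rwa [GradedRing.proj_apply, DirectSum.decompose_of_mem_same 𝒜 (hdeg i₀ hi₀)] at h3
    · intro j hj hji
      rw [GradedRing.proj_apply]
      exact DirectSum.decompose_of_mem_ne 𝒜 (hdeg j hj) (by omega)
    · intro h; exact absurd hi₀ h
  have h4 : y i₀ = 0 := by
    rcases mul_eq_zero.mp h2 with h | h
    · exact h
    · exact absurd h (pow_ne_zero _ hs0)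
  have h5 : s ^ M • (p.coeff i₀).val = 0 := by
    rw [← (hy i₀ hi₀).2, h4, map_zero]
  have h6 : (p.coeff i₀).val = 0 := by
    rw [Algebra.smul_def] at h5
    have hu : IsUnit (algebraMap R (Localization.Away s) (s ^ M)) :=
      IsLocalization.map_units _ (⟨s ^ M, M, rfl⟩ : Submonoid.powers s)
    exact (hu.mul_right_eq_zero).mp h5
  have h7 : p.coeff i₀ = 0 := HomogeneousLocalization.val_injective _ (by rw [h6, val_zero])
  exact (Polynomial.mem_support_iff.mp hi₀) h7

/-- if `s ∈ R₁` is prime and `R_(s)` is a UFD, then so is `R` -/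
theorem ufd_of_homogeneousLocalization_away [WfDvdMonoid R] (hs : s ∈ 𝒜 1) (hp : Prime s)
    (h : UniqueFactorizationMonoid (Away 𝒜 s)) : UniqueFactorizationMonoid R := by
  have hs0 := hp.ne_zero
  have : IsDomain (Localization.Away s) :=
    IsLocalization.isDomain_localization (powers_le_nonZeroDivisors_of_noZeroDivisors hs0)
  have : IsDomain (Away 𝒜 s) :=
    Function.Injective.isDomain (algebraMap (Away 𝒜 s) (Localization.Away s)) (val_injective _)
  have : UniqueFactorizationMonoid (Polynomial (Away 𝒜 s)) := inferInstance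
  let _ : Algebra (Polynomial (Away 𝒜 s)) (Localization.Away s) := (Φ 𝒜).toAlgebra
  have hloc : IsLocalization (Submonoid.powers (X : Polynomial (Away 𝒜 s)))
      (Localization.Away s) := by
    rw [isLocalization_iff]
    refine ⟨?_, ?_, ?_⟩
    · rintro ⟨_, n, rfl⟩
      change IsUnit (Φ 𝒜 (X ^ n))
      rw [map_pow, Φ_X, ← map_pow]
      exact IsLocalization.map_units _ (⟨s ^ n, n, rfl⟩ : Submonoid.powers s)
    · intro z
      obtain ⟨r, ⟨_, n, rfl⟩, rfl⟩ := IsLocalization.exists_mk'_eq (Submonoid.powers s) z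
      obtain ⟨p, hp⟩ := exists_Φ_eq 𝒜 hs r
      refine ⟨(p, ⟨X ^ n, n, rfl⟩), ?_⟩
      change IsLocalization.mk' _ r _ * Φ 𝒜 (X ^ n) = Φ 𝒜 p
      rw [hp, map_pow, Φ_X, ← map_pow]
      exact IsLocalization.mk'_spec _ _ _
    · intro x y hxy
      exact ⟨1, by rw [Φ_injective 𝒜 hs hs0 hxy]⟩
  have : UniqueFactorizationMonoid (Localization.Away s) :=
    UniqueFactorizationMonoid.of_isLocalization
      (Submonoid.powers (X : Polynomial (Away 𝒜 s))) (Localization.Away s)
  exact ufd_of_away s hp (Localization.Away s)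

end Laurent

end Groth.Agent.Lib.Helper58
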