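import Mathlib

/-!
# Descent of ideals along a flat ring map (the ring-level core of fpqc descent of closed subschemes)
-/

set_option autoImplicit false

universe u

open TensorProduct

namespace Groth.Agent.Lib.Helper58.CD1

variable {R R' : Type u} [CommRing R] [CommRing R'] [Algebra R R']

/-- If an ideal `J'` of a flat `R`-algebra `R'` satisfies the descent condition
`x ⊗ 1 ∈ (1 ⊗ J')` in `R' ⊗ R'`, then `J'` is generated by its intersection with `R`. -/
theorem le_map_comap_of_flat [Module.Flat R R'] (J' : Ideal R')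
    (H : ∀ x ∈ J', (x ⊗ₜ[R] (1 : R')) ∈
      Ideal.map (Algebra.TensorProduct.includeRight : R' →ₐ[R] R' ⊗[R] R') J') :
    J' ≤ Ideal.map (algebraMap R R') (Ideal.comap (algebraMap R R') J') := by
  intro x hx
  -- the quotient `Q = R'/J'` as an `R`-module, and `ψ : R → Q`
  let q : R' →ₗ[R] (R' ⧸ J') := (Submodule.mkQ J').restrictScalars R
  let ψ : R →ₗ[R] (R' ⧸ J') := q.comp (Algebra.linearMap R R')
  let J : Ideal R := Ideal.comap (algebraMap R R') J'
  have hex : Function.Exact (J.subtype.restrictScalars R : J →ₗ[R] R) ψ := by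
    intro r
    constructor
    · intro hr
      have : algebraMap R R' r ∈ J' := by
        have h0 : (Submodule.mkQ J') (algebraMap R R' r) = 0 := hr
        rwa [Submodule.mkQ_apply, Submodule.Quotient.mk_eq_zero] at h0
      exact ⟨⟨r, this⟩, rfl⟩
    · rintro ⟨⟨j, hj⟩, rfl⟩
      change (Submodule.mkQ J') (algebraMap R R' j) = 0
      rw [Submodule.mkQ_apply, Submodule.Quotient.mk_eq_zero]
      exact hj
  have hex' := Module.Flat.lTensor_exact R' hex
  -- `(id ⊗ ψ)(x ⊗ 1) = 0`
  have h0 : (LinearMap.lTensor R' ψ) (x ⊗ₜ[R] (1 : R)) = 0 := by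
    rw [LinearMap.lTensor_tmul]
    change x ⊗ₜ[R] q (algebraMap R R' 1) = 0
    rw [map_one]
    have hmem := H x hx
    -- the ideal `1 ⊗ J'` is contained in the kernel of `id ⊗ q`
    have hker : Ideal.map (Algebra.TensorProduct.includeRight : R' →ₐ[R] R' ⊗[R] R') J' ≤
        (RingHom.ker (Algebra.TensorProduct.map (AlgHom.id R R')
          (Ideal.Quotient.mkₐ R J')).toRingHom) := by
      rw [Ideal.map_le_iff_le_comap]
      intro j hj
      rw [Ideal.mem_comap, RingHom.mem_ker]
      change (Algebra.TensorProduct.map (AlgHom.id R R') (Ideal.Quotient.mkₐ R J'))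
        ((1 : R') ⊗ₜ[R] j) = 0
      rw [Algebra.TensorProduct.map_tmul, Ideal.Quotient.mkₐ_eq_mk,
        Ideal.Quotient.eq_zero_iff_mem.mpr hj, tmul_zero]
    have h1 := hker hmem
    rw [RingHom.mem_ker] at h1
    change (Algebra.TensorProduct.map (AlgHom.id R R') (Ideal.Quotient.mkₐ R J'))
      (x ⊗ₜ[R] (1 : R')) = 0 at h1
    rw [Algebra.TensorProduct.map_tmul] at h1
    exact h1
  obtain ⟨y, hy⟩ := (hex' _).mp h0
  -- apply multiplication `R' ⊗ R → R'`
  let μ : R' ⊗[R] R →ₗ[R] R' := (TensorProduct.rid R R').toLinearMap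
  have hμ : μ (x ⊗ₜ[R] (1 : R)) = x := by
    change (TensorProduct.rid R R') (x ⊗ₜ[R] (1 : R)) = x
    rw [TensorProduct.rid_tmul, one_smul]
  have key : ∀ y : R' ⊗[R] J, μ ((LinearMap.lTensor R' (J.subtype.restrictScalars R : J →ₗ[R] R)) y) ∈
      Ideal.map (algebraMap R R') (Ideal.comap (algebraMap R R') J') := by
    intro y
    induction y using TensorProduct.induction_on with
    | zero => simp
    | tmul a j =>
      rw [LinearMap.lTensor_tmul]
      change (TensorProduct.rid R R') (a ⊗ₜ[R] (j : R)) ∈ _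
      rw [TensorProduct.rid_tmul, Algebra.smul_def, mul_comm]
      exact Ideal.mul_mem_left _ _ (Ideal.mem_map_of_mem _ j.2)
    | add a b ha hb =>
      rw [map_add, map_add]
      exact Ideal.add_mem _ ha hb
  rw [← hμ, ← hy]
  exact key y

end Groth.Agent.Lib.Helper58.CD1
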