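import Mathlib
import Groth.Agent.Lib.Helper43.GaGm

/-!
# Local predicates on morphisms into a scheme and closed subschemes representing them
-/

set_option autoImplicit false

universe u

open CategoryTheory CategoryTheory.Limits AlgebraicGeometry

namespace Groth.Agent.Lib.Helper58.CD2

open Groth.Agent.Lib.Helper43

/-- a predicate on morphisms into `X`. -/
abbrev Pred (X : Scheme.{u}) : Type (u + 1) := ∀ ⦃T : Scheme.{u}⦄, (T ⟶ X) → Prop

/-- restriction of a predicate along a morphism. -/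
def Pred.pull {X X' : Scheme.{u}} (P : Pred X) (f : X' ⟶ X) : Pred X' := fun _ t => P (t ≫ f)

lemma Pred.pull_apply {X X' : Scheme.{u}} (P : Pred X) (f : X' ⟶ X) {T : Scheme.{u}} (t : T ⟶ X') :
    P.pull f t ↔ P (t ≫ f) := Iff.rfl

/-- a predicate which is stable under precomposition, Zariski local and fpqc local on the source. -/
structure IsLocalPred {X : Scheme.{u}} (P : Pred X) : Prop where
  comp : ∀ {T T' : Scheme.{u}} (b : T' ⟶ T) (t : T ⟶ X), P t → P (b ≫ t)
  zar : ∀ {T : Scheme.{u}} (t : T ⟶ X), (∀ x : T, ∃ O : T.Opens, x ∈ O ∧ P (O.ι ≫ t)) → P t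
  flat : ∀ {T T' : Scheme.{u}} (b : T' ⟶ T) [Flat b] [Surjective b] [QuasiCompact b] (t : T ⟶ X),
    P (b ≫ t) → P t

lemma IsLocalPred.pull {X X' : Scheme.{u}} {P : Pred X} (hP : IsLocalPred P) (f : X' ⟶ X) :
    IsLocalPred (P.pull f) where
  comp b t h := by
    rw [Pred.pull_apply, Category.assoc]
    exact hP.comp b _ h
  zar t h := by
    rw [Pred.pull_apply]
    refine hP.zar _ (fun x => ?_)
    obtain ⟨O, hx, hO⟩ := h x
    refine ⟨O, hx, ?_⟩
    rw [Pred.pull_apply, Category.assoc] at hO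
    exact hO
  flat b _ _ _ t h := by
    rw [Pred.pull_apply] at h ⊢
    rw [Category.assoc] at h
    exact hP.flat b _ h

/-- `P` is represented by the closed immersion `i`, which has property `W`. -/
def Rep {X : Scheme.{u}} (P : Pred X) (W : MorphismProperty Scheme.{u}) {Z : Scheme.{u}}
    (i : Z ⟶ X) : Prop :=
  IsClosedImmersion i ∧ W i ∧ ∀ ⦃T : Scheme.{u}⦄ (t : T ⟶ X), P t ↔ ∃ z : T ⟶ Z, z ≫ i = t

section general

/-- lifts through a monomorphism glue. -/
lemma exists_lift_of_local {T Z W : Scheme.{u}} (m : T ⟶ Z) (w : W ⟶ Z) [Mono w]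
    (h : ∀ x : T, ∃ O : T.Opens, x ∈ O ∧ ∃ l : O.toScheme ⟶ W, l ≫ w = O.ι ≫ m) :
    ∃ l : T ⟶ W, l ≫ w = m := by
  choose O hxO l hl using h
  let 𝒰 : T.OpenCover := {
    I₀ := T, X i := (O i), f i := (O i).ι,
    mem₀ := by
      rw [Scheme.presieve₀_mem_precoverage_iff]
      refine ⟨fun x ↦ ⟨x, by simpa using hxO x⟩, inferInstance⟩ }
  have hcompat : ∀ x y : T, pullback.fst (𝒰.f x) (𝒰.f y) ≫ l x = pullback.snd _ _ ≫ l y := by
    intro x y
    rw [← cancel_mono w, Category.assoc, Category.assoc, hl, hl]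
    exact pullback.condition_assoc _
  refine ⟨𝒰.glueMorphisms l hcompat, ?_⟩
  refine 𝒰.hom_ext _ _ (fun x => ?_)
  rw [← Category.assoc, 𝒰.ι_glueMorphisms]
  exact hl x

/-- lifts through a closed immersion descend along flat surjective quasi-compact morphisms. -/
lemma exists_lift_of_flat {T' T Z W : Scheme.{u}} (b : T' ⟶ T) [Flat b] [Surjective b]
    [QuasiCompact b] (m : T ⟶ Z) (w : W ⟶ Z) [IsClosedImmersion w]
    (h : ∃ l : T' ⟶ W, l ≫ w = b ≫ m) : ∃ l : T ⟶ W, l ≫ w = m := by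
  obtain ⟨l, hl⟩ := h
  -- the pullback of `w` along `m`
  let c : pullback w m ⟶ T := pullback.snd w m
  let s : T' ⟶ pullback w m := pullback.lift l b hl
  have hs : s ≫ c = b := pullback.lift_snd _ _ _
  -- base change of `c` along `b`
  let c' : pullback b c ⟶ T' := pullback.fst b c
  let σ : T' ⟶ pullback b c := pullback.lift (𝟙 T') s (by rw [Category.id_comp, hs])
  have hσ : σ ≫ c' = 𝟙 T' := pullback.lift_fst _ _ _
  haveI : Mono c' := inferInstance
  haveI : IsSplitEpi c' := ⟨⟨σ, hσ⟩⟩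
  haveI : IsIso c' := isIso_of_mono_of_isSplitEpi c'
  have hc : IsIso c := by
    have hq : (@Surjective ⊓ @Flat ⊓ @QuasiCompact : MorphismProperty Scheme.{u}) b :=
      ⟨⟨inferInstance, inferInstance⟩, inferInstance⟩
    exact (MorphismProperty.isomorphisms Scheme.{u}).of_isPullback_of_descendsAlong
      (IsPullback.of_hasPullback b c) hq (by change IsIso c'; infer_instance)
  exact ⟨inv c ≫ pullback.fst w m, by
    rw [Category.assoc, pullback.condition, ← Category.assoc, IsIso.inv_hom_id, Category.id_comp]⟩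

variable {A : Type u} [CommRing A]

/-- factorisation through `Spec (A/I)` in terms of the ring map. -/
lemma factor_iff {T : Scheme.{u}} (t : T ⟶ Spec (CommRingCat.of A)) (I : Ideal A) :
    (∃ z : T ⟶ Spec (CommRingCat.of (A ⧸ I)),
      z ≫ Spec.map (CommRingCat.ofHom (Ideal.Quotient.mk I)) = t) ↔
      I ≤ RingHom.ker (ptFnHom t) := by
  constructor
  · rintro ⟨z, rfl⟩ a ha
    rw [RingHom.mem_ker, ptFnHom_apply, ptFn_specMap, Ideal.Quotient.eq_zero_iff_mem.mpr ha]
    exact map_zero (ptFnHom z)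
  · intro h
    refine ⟨ptOfHom (Ideal.Quotient.lift I (ptFnHom t) (fun a ha => h ha)), ?_⟩
    apply ext_of_ptFnHom
    ext a
    rw [ptFnHom_apply, ptFn_specMap, ptFn_ptOfHom, Ideal.Quotient.lift_mk]

end general

section rep

variable {X : Scheme.{u}} {P : Pred X} {W : MorphismProperty Scheme.{u}}

lemma Rep.self {Z : Scheme.{u}} {i : Z ⟶ X} (h : Rep P W i) : P i :=
  (h.2.2 i).mpr ⟨𝟙 _, Category.id_comp _⟩

lemma Rep.of_factor (hP : IsLocalPred P) {Z : Scheme.{u}} {i : Z ⟶ X} (h : Rep P W i)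
    {T : Scheme.{u}} (z : T ⟶ Z) : P (z ≫ i) := hP.comp z i h.self

/-- base change of a representing closed immersion. -/
lemma Rep.pull [W.IsStableUnderBaseChange] {Z : Scheme.{u}} {i : Z ⟶ X} (h : Rep P W i)
    {X' : Scheme.{u}} (f : X' ⟶ X) : Rep (P.pull f) W (pullback.snd i f) := by
  haveI := h.1
  refine ⟨inferInstance, W.pullback_snd _ _ h.2.1, fun T t => ?_⟩
  rw [Pred.pull_apply, h.2.2]
  constructor
  · rintro ⟨z, hz⟩
    exact ⟨pullback.lift z t hz, pullback.lift_snd _ _ _⟩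
  · rintro ⟨z, rfl⟩
    exact ⟨z ≫ pullback.fst i f, by rw [Category.assoc, Category.assoc, pullback.condition]⟩

/-- uniqueness of the representing closed immersion. -/
lemma Rep.unique {Z₁ Z₂ : Scheme.{u}} {i₁ : Z₁ ⟶ X} {i₂ : Z₂ ⟶ X} {W₁ W₂ : MorphismProperty Scheme.{u}}
    (h₁ : Rep P W₁ i₁) (h₂ : Rep P W₂ i₂) : ∃ e : Z₁ ≅ Z₂, e.hom ≫ i₂ = i₁ := by
  haveI := h₁.1
  haveI := h₂.1
  obtain ⟨a, ha⟩ := (h₂.2.2 i₁).mp h₁.self
  obtain ⟨b, hb⟩ := (h₁.2.2 i₂).mp h₂.self
  refine ⟨⟨a, b, ?_, ?_⟩, ha⟩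
  · rw [← cancel_mono i₁, Category.assoc, hb, ha, Category.id_comp]
  · rw [← cancel_mono i₂, Category.assoc, ha, hb, Category.id_comp]

/-- transport of representability along an isomorphism of the base. -/
lemma Rep.of_iso [W.RespectsIso] {X' : Scheme.{u}} (e : X' ≅ X) {Z : Scheme.{u}} {i : Z ⟶ X'}
    (h : Rep (P.pull e.hom) W i) : Rep P W (i ≫ e.hom) := by
  haveI := h.1
  refine ⟨inferInstance, (W.cancel_right_of_respectsIso i e.hom).mpr h.2.1, fun T t => ?_⟩
  have h1 := h.2.2 (t ≫ e.inv)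
  rw [Pred.pull_apply, Category.assoc, e.inv_hom_id, Category.comp_id] at h1
  rw [h1]
  constructor
  · rintro ⟨z, hz⟩
    exact ⟨z, by rw [← Category.assoc, hz, Category.assoc, e.inv_hom_id, Category.comp_id]⟩
  · rintro ⟨z, rfl⟩
    exact ⟨z, by rw [Category.assoc, Category.assoc, e.hom_inv_id, Category.comp_id]⟩

/-- a criterion to extend the defining equivalence from affine test schemes to all schemes. -/
lemma rep_of_affine (hP : IsLocalPred P) {Z : Scheme.{u}} (i : Z ⟶ X) [IsClosedImmersion i]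
    (hW : W i)
    (h : ∀ ⦃T : Scheme.{u}⦄ [IsAffine T] (t : T ⟶ X), P t ↔ ∃ z : T ⟶ Z, z ≫ i = t) :
    Rep P W i := by
  refine ⟨inferInstance, hW, fun T t => ?_⟩
  constructor
  · intro ht
    apply exists_lift_of_local
    intro x
    obtain ⟨O, hO, hxO⟩ : ∃ O : T.Opens, IsAffineOpen O ∧ x ∈ O := by
      obtain ⟨_, ⟨O, hO, rfl⟩, hxO, -⟩ :=
        T.isBasis_affineOpens.exists_subset_of_mem_open (Set.mem_univ x) isOpen_univ
      exact ⟨O, hO, hxO⟩
    haveI : IsAffine O.toScheme := hO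
    exact ⟨O, hxO, (h (O.ι ≫ t)).mp (hP.comp _ _ ht)⟩
  · rintro ⟨z, rfl⟩
    have hi : P i := by
      apply hP.zar
      intro x
      obtain ⟨O, hO, hxO⟩ : ∃ O : Z.Opens, IsAffineOpen O ∧ x ∈ O := by
        obtain ⟨_, ⟨O, hO, rfl⟩, hxO, -⟩ :=
          Z.isBasis_affineOpens.exists_subset_of_mem_open (Set.mem_univ x) isOpen_univ
        exact ⟨O, hO, hxO⟩
      haveI : IsAffine O.toScheme := hO
      exact ⟨O, hxO, (h (O.ι ≫ i)).mpr ⟨O.ι, rfl⟩⟩
    exact hP.comp z i hi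

end rep

end Groth.Agent.Lib.Helper58.CD2
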