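import Mathlib
import Groth.Agent.Lib.Helper43.GaGm
import Groth.Agent.Lib.Helper58.CD1
import Groth.Agent.Lib.Helper58.CD2

/-!
# fpqc descent of closed subschemes representing a local predicate: the affine step
-/

set_option autoImplicit false

universe u

open CategoryTheory CategoryTheory.Limits AlgebraicGeometry TensorProduct

namespace Groth.Agent.Lib.Helper58.CD3

open Groth.Agent.Lib.Helper43 Groth.Agent.Lib.Helper58.CD2

section spec

variable {A B : Type u} [CommRing A] [CommRing B]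

lemma ptFn_id (a : A) :
    ptFn (𝟙 (Spec (CommRingCat.of A))) a = (Scheme.ΓSpecIso (CommRingCat.of A)).inv a := by
  rw [ptFn, Scheme.Hom.id_appTop]
  rfl

lemma ptFn_specMap' (ψ : A →+* B) (a : A) :
    ptFn (Spec.map (CommRingCat.ofHom ψ)) a = (Scheme.ΓSpecIso (CommRingCat.of B)).inv (ψ a) := by
  have h := ptFn_specMap (𝟙 (Spec (CommRingCat.of B))) ψ a
  rw [Category.id_comp] at h
  rw [h, ptFn_id]

lemma ΓSpecIso_inv_injective :
    Function.Injective ((Scheme.ΓSpecIso (CommRingCat.of B)).inv : B → _) :=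
  (ConcreteCategory.bijective_of_isIso (Scheme.ΓSpecIso (CommRingCat.of B)).inv).1

lemma ker_ptFnHom_specMap (ψ : A →+* B) :
    RingHom.ker (ptFnHom (Spec.map (CommRingCat.ofHom ψ))) = RingHom.ker ψ := by
  ext a
  rw [RingHom.mem_ker, RingHom.mem_ker, ptFnHom_apply, ptFn_specMap']
  constructor
  · intro h
    apply ΓSpecIso_inv_injective
    rw [h, map_zero]
  · intro h
    rw [h, map_zero]

end spec

section step

variable {R R' : Type u} [CommRing R] [CommRing R'] (φ : R →+* R')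
  [Flat (Spec.map (CommRingCat.ofHom φ))] [Surjective (Spec.map (CommRingCat.ofHom φ))]
  (hφ : φ.Flat)
  {P : Pred (Spec (CommRingCat.of R))} (hP : IsLocalPred P) (J' : Ideal R')
  (hJ' : ∀ ⦃T : Scheme.{u}⦄ (t : T ⟶ Spec (CommRingCat.of R')),
    P (t ≫ Spec.map (CommRingCat.ofHom φ)) ↔ J' ≤ RingHom.ker (ptFnHom t))

include hφ hJ' in
lemma le_map_comap : J' ≤ Ideal.map φ (Ideal.comap φ J') := by
  letI := φ.toAlgebra
  haveI : Module.Flat R R' := hφ
  refine CD1.le_map_comap_of_flat J' (fun x hx => ?_)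
  let K : Ideal (R' ⊗[R] R') :=
    Ideal.map (Algebra.TensorProduct.includeRight : R' →ₐ[R] R' ⊗[R] R') J'
  let ψ₁ : R' →+* (R' ⊗[R] R') ⧸ K :=
    (Ideal.Quotient.mk K).comp (Algebra.TensorProduct.includeLeft : R' →ₐ[R] R' ⊗[R] R').toRingHom
  let ψ₂ : R' →+* (R' ⊗[R] R') ⧸ K :=
    (Ideal.Quotient.mk K).comp (Algebra.TensorProduct.includeRight : R' →ₐ[R] R' ⊗[R] R').toRingHom
  have hψ : ψ₁.comp φ = ψ₂.comp φ := by
    ext r
    change Ideal.Quotient.mk K ((algebraMap R R' r) ⊗ₜ[R] (1 : R')) =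
      Ideal.Quotient.mk K ((1 : R') ⊗ₜ[R] (algebraMap R R' r))
    congr 1
    rw [Algebra.algebraMap_eq_smul_one, TensorProduct.smul_tmul]
  have hcomp : Spec.map (CommRingCat.ofHom ψ₁) ≫ Spec.map (CommRingCat.ofHom φ) =
      Spec.map (CommRingCat.ofHom ψ₂) ≫ Spec.map (CommRingCat.ofHom φ) := by
    rw [← Spec.map_comp, ← Spec.map_comp, ← CommRingCat.ofHom_comp, ← CommRingCat.ofHom_comp, hψ]
  have h2 : P (Spec.map (CommRingCat.ofHom ψ₂) ≫ Spec.map (CommRingCat.ofHom φ)) := by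
    rw [hJ', ker_ptFnHom_specMap]
    intro j hj
    rw [RingHom.mem_ker]
    change Ideal.Quotient.mk K ((1 : R') ⊗ₜ[R] j) = 0
    rw [Ideal.Quotient.eq_zero_iff_mem]
    exact Ideal.mem_map_of_mem _ hj
  rw [← hcomp, hJ', ker_ptFnHom_specMap] at h2
  have h3 := h2 hx
  rw [RingHom.mem_ker] at h3
  change Ideal.Quotient.mk K (x ⊗ₜ[R] (1 : R')) = 0 at h3
  rwa [Ideal.Quotient.eq_zero_iff_mem] at h3

include hφ hP hJ' in
theorem rep_spec :
    Rep P ⊤ (Spec.map (CommRingCat.ofHom (Ideal.Quotient.mk (Ideal.comap φ J')))) := by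
  obtain ⟨J, hJ⟩ : ∃ J, J = Ideal.comap φ J' := ⟨_, rfl⟩
  obtain ⟨f, hf⟩ : ∃ f, f = Spec.map (CommRingCat.ofHom φ) := ⟨_, rfl⟩
  haveI : Flat f := by rw [hf]; infer_instance
  haveI : Surjective f := by rw [hf]; infer_instance
  rw [← hJ]
  obtain ⟨i, hi⟩ : ∃ i, i = Spec.map (CommRingCat.ofHom (Ideal.Quotient.mk J)) := ⟨_, rfl⟩
  rw [← hi]
  haveI : IsClosedImmersion i := by
    rw [hi]
    exact IsClosedImmersion.spec_of_surjective _ Ideal.Quotient.mk_surjective
  have hle : J' ≤ Ideal.map φ J := by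
    rw [hJ]
    exact le_map_comap φ hφ J' hJ'
  -- (B) `P i`
  have hPi : P i := by
    apply hP.flat (pullback.fst i f)
    rw [pullback.condition, hf, hJ']
    refine hle.trans ?_
    rw [Ideal.map_le_iff_le_comap]
    intro j hj
    rw [Ideal.mem_comap, RingHom.mem_ker, ptFnHom_apply, ← ptFn_specMap, ← hf, ← pullback.condition,
      hi, ptFn_specMap, Ideal.Quotient.eq_zero_iff_mem.mpr hj]
    exact map_zero (ptFnHom _)
  refine ⟨inferInstance, trivial, fun T t => ?_⟩
  constructor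
  · intro ht
    apply exists_lift_of_flat (pullback.fst t f) t i
    have h1 : P (pullback.snd t f ≫ Spec.map (CommRingCat.ofHom φ)) := by
      rw [← hf, ← pullback.condition]
      exact hP.comp _ _ ht
    rw [hJ'] at h1
    rw [hi, factor_iff]
    intro j hj
    rw [RingHom.mem_ker, ptFnHom_apply, pullback.condition, hf, ptFn_specMap]
    have : φ j ∈ J' := by rw [hJ] at hj; exact hj
    have h2 := h1 this
    rw [RingHom.mem_ker, ptFnHom_apply, hf] at h2
    exact h2
  · rintro ⟨z, rfl⟩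
    exact hP.comp z i hPi

end step

end Groth.Agent.Lib.Helper58.CD3

namespace Groth.Agent.Lib.Helper58.CD3

open Groth.Agent.Lib.Helper43 Groth.Agent.Lib.Helper58.CD2

section affine

lemma Rep.congr {X : Scheme.{u}} {P P' : Pred X} {W : MorphismProperty Scheme.{u}} {Z : Scheme.{u}}
    {i : Z ⟶ X} (h : ∀ ⦃T : Scheme.{u}⦄ (t : T ⟶ X), P t ↔ P' t) (hr : Rep P W i) : Rep P' W i :=
  ⟨hr.1, hr.2.1, fun T t => (h t).symm.trans (hr.2.2 t)⟩

lemma Rep.mono_prop {X : Scheme.{u}} {P : Pred X} {W W' : MorphismProperty Scheme.{u}} {Z : Scheme.{u}}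
    {i : Z ⟶ X} (hr : Rep P W i) (hW : W' i) : Rep P W' i := ⟨hr.1, hW, hr.2.2⟩

/-- the affine fpqc step: a local predicate which is represented by a closed subscheme after a
faithfully flat base change of affine schemes is represented by a closed subscheme. -/
theorem rep_of_flat_affine {X X' : Scheme.{u}} [IsAffine X] [IsAffine X'] (f : X' ⟶ X) [Flat f]
    [Surjective f] {P : Pred X} (hP : IsLocalPred P) (W : MorphismProperty Scheme.{u})
    [W.RespectsIso] [W.IsStableUnderBaseChange]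
    [W.DescendsAlong (@Surjective ⊓ @Flat ⊓ @QuasiCompact)]
    {Z' : Scheme.{u}} (i' : Z' ⟶ X') (h : Rep (P.pull f) W i') :
    ∃ (Z : Scheme.{u}) (i : Z ⟶ X), Rep P W i := by
  -- first with `W = ⊤`
  have key : ∃ (Z : Scheme.{u}) (i : Z ⟶ X), Rep P ⊤ i := by
    let φ : Γ(X, ⊤) →+* Γ(X', ⊤) := f.appTop.hom
    have hφ : φ.Flat := Scheme.Hom.flat_appTop f
    have hnat : X'.isoSpec.hom ≫ Spec.map (CommRingCat.ofHom φ) = f ≫ X.isoSpec.hom :=
      Scheme.isoSpec_hom_naturality f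
    have hf₀ : Spec.map (CommRingCat.ofHom φ) = X'.isoSpec.inv ≫ f ≫ X.isoSpec.hom := by
      rw [← hnat, Iso.inv_hom_id_assoc]
    haveI : Flat (Spec.map (CommRingCat.ofHom φ)) := by rw [hf₀]; infer_instance
    haveI : Surjective (Spec.map (CommRingCat.ofHom φ)) := by rw [hf₀]; infer_instance
    haveI := h.1
    -- the closed immersion into `Spec Γ(X', ⊤)`
    haveI : IsClosedImmersion (i' ≫ X'.isoSpec.hom) := inferInstance
    obtain ⟨J', e, he⟩ := IsClosedImmersion.Spec_iff.mp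
      (inferInstance : IsClosedImmersion (i' ≫ X'.isoSpec.hom))
    let P₀ : Pred (Spec (CommRingCat.of Γ(X, ⊤))) := P.pull X.isoSpec.inv
    have hP₀ : IsLocalPred P₀ := hP.pull _
    have hJ' : ∀ ⦃T : Scheme.{u}⦄ (t : T ⟶ Spec (CommRingCat.of Γ(X', ⊤))),
        P₀ (t ≫ Spec.map (CommRingCat.ofHom φ)) ↔ J' ≤ RingHom.ker (ptFnHom t) := by
      intro T t
      rw [← factor_iff]
      have h1 : P₀ (t ≫ Spec.map (CommRingCat.ofHom φ)) ↔ (P.pull f) (t ≫ X'.isoSpec.inv) := by
        change P ((t ≫ Spec.map (CommRingCat.ofHom φ)) ≫ X.isoSpec.inv) ↔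
          P ((t ≫ X'.isoSpec.inv) ≫ f)
        rw [hf₀]
        simp only [Category.assoc, Iso.hom_inv_id, Category.comp_id]
      rw [h1, h.2.2]
      constructor
      · rintro ⟨z, hz⟩
        refine ⟨z ≫ e.hom, ?_⟩
        change (z ≫ e.hom) ≫ Spec.map (CommRingCat.ofHom (Ideal.Quotient.mk J')) = t
        rw [Category.assoc, ← he, ← Category.assoc, hz, Category.assoc, Iso.inv_hom_id,
          Category.comp_id]
      · rintro ⟨z, hz⟩
        refine ⟨z ≫ e.inv, ?_⟩
        have hz' : z ≫ Spec.map (CommRingCat.ofHom (Ideal.Quotient.mk J')) = t := hz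
        rw [← hz', Category.assoc, Category.assoc]
        have he' : e.inv ≫ i' = Spec.map (CommRingCat.ofHom (Ideal.Quotient.mk J')) ≫
            X'.isoSpec.inv := by
          rw [Iso.inv_comp_eq, ← Category.assoc, ← he, Category.assoc, Iso.hom_inv_id,
            Category.comp_id]
        rw [he']
    have hrep := rep_spec φ hφ hP₀ J' hJ'
    exact ⟨_, _, Rep.of_iso (P := P) X.isoSpec.symm hrep⟩
  obtain ⟨Z, i, hi⟩ := key
  refine ⟨Z, i, Rep.mono_prop hi ?_⟩
  -- `W i` by descent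
  have h1 : Rep (P.pull f) ⊤ (pullback.snd i f) := hi.pull f
  obtain ⟨e, he⟩ := Rep.unique h h1
  have hW : W (pullback.snd i f) := by
    rw [← W.cancel_left_of_respectsIso e.hom, he]
    exact h.2.1
  have hq : (@Surjective ⊓ @Flat ⊓ @QuasiCompact : MorphismProperty Scheme.{u}) f :=
    ⟨⟨inferInstance, inferInstance⟩, inferInstance⟩
  exact W.of_pullback_snd_of_descendsAlong hq hW

end affine

end Groth.Agent.Lib.Helper58.CD3
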