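import Mathlib

/-!
# A concrete criterion for representability of a Zariski sheaf by charts
-/

set_option autoImplicit false

universe u v u₁

open CategoryTheory CategoryTheory.Limits AlgebraicGeometry Opposite

namespace Groth.Agent.Lib.Helper58.LocRep

section yoneda

variable {C : Type u₁} [Category.{v} C] {F : Cᵒᵖ ⥤ Type v}

lemma yonedaEquiv_symm_app {G T : C} (ξ : F.obj (op G)) (p : T ⟶ G) :
    (yonedaEquiv.symm ξ).app (op T) p = F.map p.op ξ := rfl

/-- a concrete criterion for a square of presheaves with representable corners to be a pullback -/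
lemma isPullback_yoneda {G a b : C}
    (ξ : F.obj (op G)) (x : F.obj (op a)) (p : b ⟶ G) (q : b ⟶ a)
    (hw : F.map p.op ξ = F.map q.op x)
    (huniq : ∀ {T : C} (r r' : T ⟶ b), r ≫ p = r' ≫ p → r ≫ q = r' ≫ q → r = r')
    (hex : ∀ {T : C} (p' : T ⟶ G) (q' : T ⟶ a), F.map p'.op ξ = F.map q'.op x →
      ∃ r : T ⟶ b, r ≫ p = p' ∧ r ≫ q = q') :
    IsPullback (yoneda.map p) (yoneda.map q) (yonedaEquiv.symm ξ) (yonedaEquiv.symm x) := by
  apply IsPullback.of_forall_isPullback_app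
  intro T
  rw [Types.isPullback_iff]
  refine ⟨?_, ?_, ?_⟩
  · refine ConcreteCategory.hom_ext _ _ (fun (r : T.unop ⟶ b) => ?_)
    change F.map (r ≫ p).op ξ = F.map (r ≫ q).op x
    rw [op_comp, op_comp, CategoryTheory.Functor.map_comp_apply,
      CategoryTheory.Functor.map_comp_apply, hw]
  · rintro (r : T.unop ⟶ b) (r' : T.unop ⟶ b) ⟨h1, h2⟩
    exact huniq r r' h1 h2
  · rintro (p' : T.unop ⟶ G) (q' : T.unop ⟶ a) h
    obtain ⟨r, hr1, hr2⟩ := hex p' q' h
    exact ⟨r, hr1, hr2⟩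

end yoneda

end Groth.Agent.Lib.Helper58.LocRep

namespace Groth.Agent.Lib.Helper58.LocRep

variable {F : Scheme.{u}ᵒᵖ ⥤ Type u}

lemma map_comp_apply' {T T' T'' : Scheme.{u}} (a : T'' ⟶ T') (b : T' ⟶ T) (x : F.obj (op T)) :
    F.map (a ≫ b).op x = F.map a.op (F.map b.op x) := by
  rw [op_comp, CategoryTheory.Functor.map_comp_apply]

/-- a chart `ξ ∈ F(G)` which is an open subfunctor is a relatively representable
open immersion. -/
theorem isOpenImmersion_presheaf_of_chart {G : Scheme.{u}} (ξ : F.obj (op G))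
    (U : ∀ {T : Scheme.{u}} (_ : F.obj (op T)), T.Opens)
    (hU₁ : ∀ {T T' : Scheme.{u}} (x : F.obj (op T)) (a : T' ⟶ T) (b : T' ⟶ G),
      F.map b.op ξ = F.map a.op x → ∀ y : T', a y ∈ U x)
    (hU₂ : ∀ {T : Scheme.{u}} (x : F.obj (op T)),
      ∃ b : (U x).toScheme ⟶ G, F.map b.op ξ = F.map (U x).ι.op x)
    (hinj : ∀ {T' : Scheme.{u}} (b b' : T' ⟶ G), F.map b.op ξ = F.map b'.op ξ → b = b') :
    IsOpenImmersion.presheaf (yonedaEquiv.symm ξ : yoneda.obj G ⟶ F) := by
  refine MorphismProperty.relative.of_exists (fun a x' => ?_)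
  obtain ⟨x, rfl⟩ := yonedaEquiv.symm.surjective x'
  obtain ⟨b₀, hb₀⟩ := hU₂ x
  refine ⟨(U x).toScheme, yoneda.map b₀, (U x).ι, ?_, inferInstance⟩
  refine isPullback_yoneda ξ x b₀ (U x).ι hb₀ ?_ ?_
  · intro T r r' _ h2
    exact (cancel_mono (U x).ι).mp h2
  · intro T p' q' h
    have hq : Set.range q' ⊆ Set.range (U x).ι := by
      rintro _ ⟨y, rfl⟩
      rw [Scheme.Opens.range_ι]
      exact hU₁ x q' p' h y
    let r : T ⟶ (U x).toScheme := IsOpenImmersion.lift (U x).ι q' hq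
    have hr : r ≫ (U x).ι = q' := IsOpenImmersion.lift_fac _ _ _
    refine ⟨r, ?_, hr⟩
    apply hinj
    rw [map_comp_apply', hb₀, ← map_comp_apply', hr, h]

/-- representability by charts. -/
theorem isRepresentable_of_charts (hF : Presheaf.IsSheaf Scheme.zariskiTopology F) {ι : Type u}
    (G : ι → Scheme.{u}) (ξ : ∀ i, F.obj (op (G i)))
    (U : ∀ (_ : ι) {T : Scheme.{u}} (_ : F.obj (op T)), T.Opens)
    (hU₁ : ∀ (i : ι) {T T' : Scheme.{u}} (x : F.obj (op T)) (a : T' ⟶ T) (b : T' ⟶ G i),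
      F.map b.op (ξ i) = F.map a.op x → ∀ y : T', a y ∈ U i x)
    (hU₂ : ∀ (i : ι) {T : Scheme.{u}} (x : F.obj (op T)),
      ∃ b : (U i x).toScheme ⟶ G i, F.map b.op (ξ i) = F.map (U i x).ι.op x)
    (hinj : ∀ (i : ι) {T' : Scheme.{u}} (b b' : T' ⟶ G i),
      F.map b.op (ξ i) = F.map b'.op (ξ i) → b = b')
    (hcov : ∀ {T : Scheme.{u}} (x : F.obj (op T)) (y : T), ∃ i, y ∈ U i x) :
    F.IsRepresentable := by
  let FS : Sheaf Scheme.zariskiTopology.{u} (Type u) := ⟨F, hF⟩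
  let φ : ∀ i, yoneda.obj (G i) ⟶ FS.1 := fun i => yonedaEquiv.symm (ξ i)
  have hφ : ∀ i, IsOpenImmersion.presheaf (φ i) := fun i =>
    isOpenImmersion_presheaf_of_chart (ξ i) (U i) (hU₁ i) (hU₂ i) (hinj i)
  have : Presheaf.IsLocallySurjective Scheme.zariskiTopology (Sigma.desc φ) := by
    constructor
    intro T x
    rw [Scheme.mem_grothendieckTopology_iff]
    have hcov' : TopologicalSpace.IsOpenCover (fun i => U i (T := T) x) := by
      refine TopologicalSpace.IsOpenCover.mk ?_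
      rw [eq_top_iff]
      intro y _
      rw [TopologicalSpace.Opens.mem_iSup]
      exact hcov x y
    refine ⟨T.openCoverOfIsOpenCover _ hcov', ?_⟩
    rintro T' a ⟨(i : ι)⟩
    obtain ⟨b, hb⟩ := hU₂ i x
    change ∃ t : (∐ fun i => yoneda.obj (G i)).obj (op (U i x).toScheme),
      (Sigma.desc φ).app (op (U i x).toScheme) t = F.map (U i x).ι.op x
    refine ⟨(Sigma.ι (fun i => yoneda.obj (G i)) i).app (op (U i x).toScheme) b, ?_⟩
    have h1 : Sigma.ι (fun i => yoneda.obj (G i)) i ≫ Sigma.desc φ = φ i := Sigma.ι_desc φ i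
    have h2 := congrArg (fun k => k.app (op (U i x).toScheme) b) h1
    exact h2.trans hb
  exact Scheme.LocalRepresentability.isRepresentable (F := FS) (f := φ) hφ

end Groth.Agent.Lib.Helper58.LocRep
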