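import Mathlib
import Groth.Agent.Lib.Helper58.LocRep
import Groth.Agent.Lib.Helper58.CD2
import Groth.Agent.Lib.Helper58.CD3

/-!
# Zariski gluing of closed subschemes representing a local predicate
-/

set_option autoImplicit false

universe u

open CategoryTheory CategoryTheory.Limits AlgebraicGeometry Opposite

namespace Groth.Agent.Lib.Helper58.CD4

open Groth.Agent.Lib.Helper58.CD2 Groth.Agent.Lib.Helper58.CD3

variable {X : Scheme.{u}} {P : Pred X} (hP : IsLocalPred P)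

/-- points satisfying `P`. -/
def El (P : Pred X) (T : Scheme.{u}) : Type u := {t : T ⟶ X // P t}

/-- restriction of points. -/
def res {T T' : Scheme.{u}} (a : T' ⟶ T) (t : El P T) : El P T' :=
  ⟨a ≫ t.1, hP.comp a t.1 t.2⟩

/-- the functor of points satisfying `P`. -/
def predFunctor (hP : IsLocalPred P) : Scheme.{u}ᵒᵖ ⥤ Type u where
  obj T := El P T.unop
  map {T T'} a := ↾(fun t => res hP a.unop t)
  map_id T := by
    refine ConcreteCategory.hom_ext _ _ (fun t => ?_)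
    apply Subtype.ext
    exact Category.id_comp _
  map_comp {T T' T''} a b := by
    refine ConcreteCategory.hom_ext _ _ (fun t => ?_)
    apply Subtype.ext
    exact Category.assoc _ _ _

lemma predFunctor_map_val {T T' : Scheme.{u}} (a : T' ⟶ T) (t : El P T) :
    ((predFunctor hP).map a.op t : El P T').1 = a ≫ t.1 := rfl

theorem isSheaf_predFunctor : Presieve.IsSheaf Scheme.zariskiTopology (predFunctor hP) := by
  rw [Precoverage.isSheaf_toGrothendieck_iff_of_isStableUnderBaseChange]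
  rintro Y R hR x hx
  obtain ⟨(𝓤 : Scheme.OpenCover Y), rfl⟩ := Scheme.exists_cover_of_mem_pretopology hR
  let xx : ∀ j, El P (𝓤.X j) := fun j => x (𝓤.f j) (.mk j)
  have hcomp : ∀ (i j : 𝓤.I₀), pullback.fst (𝓤.f i) (𝓤.f j) ≫ (xx i).1 =
      pullback.snd (𝓤.f i) (𝓤.f j) ≫ (xx j).1 := by
    intro i j
    exact congrArg Subtype.val (hx _ _ (.mk i) (.mk j) pullback.condition)
  obtain ⟨t, ht⟩ : ∃ t : Y ⟶ X, ∀ j, 𝓤.f j ≫ t = (xx j).1 :=
    ⟨𝓤.glueMorphisms (fun j => (xx j).1) hcomp, fun j => 𝓤.ι_glueMorphisms _ _ j⟩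
  have hPt : P t := by
    apply hP.zar
    intro y
    obtain ⟨j, z, hz⟩ := 𝓤.exists_eq y
    refine ⟨(𝓤.f j).opensRange, ⟨z, hz⟩, ?_⟩
    have h1 : (𝓤.f j).opensRange.ι = (𝓤.f j).isoOpensRange.inv ≫ 𝓤.f j := by
      rw [Iso.eq_inv_comp]
      exact (𝓤.f j).isoOpensRange_hom_ι
    rw [h1, Category.assoc, ht]
    exact hP.comp _ _ (xx j).2
  refine ⟨(⟨t, hPt⟩ : El P Y), ?_, ?_⟩
  · rintro Y' a ⟨j⟩
    apply Subtype.ext
    exact ht j
  · intro y' hy'
    apply Subtype.ext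
    refine 𝓤.hom_ext _ _ (fun j => ?_)
    rw [ht j]
    exact congrArg Subtype.val (hy' (𝓤.f j) (.mk j))


/-- a weak form of representability (no condition on the representing morphism). -/
def WRep (P : Pred X) {Z : Scheme.{u}} (i : Z ⟶ X) : Prop :=
  Mono i ∧ ∀ ⦃T : Scheme.{u}⦄ (t : T ⟶ X), P t ↔ ∃ z : T ⟶ Z, z ≫ i = t

lemma WRep.pull {Z : Scheme.{u}} {i : Z ⟶ X} (h : WRep P i) {X' : Scheme.{u}} (f : X' ⟶ X) :
    WRep (P.pull f) (pullback.snd i f) := by
  haveI := h.1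
  refine ⟨inferInstance, fun T t => ?_⟩
  rw [Pred.pull_apply, h.2]
  constructor
  · rintro ⟨z, hz⟩
    exact ⟨pullback.lift z t hz, pullback.lift_snd _ _ _⟩
  · rintro ⟨z, rfl⟩
    exact ⟨z ≫ pullback.fst i f, by rw [Category.assoc, Category.assoc, pullback.condition]⟩

lemma WRep.unique {Z₁ Z₂ : Scheme.{u}} {i₁ : Z₁ ⟶ X} {i₂ : Z₂ ⟶ X}
    (h₁ : WRep P i₁) (h₂ : WRep P i₂) : ∃ e : Z₁ ≅ Z₂, e.hom ≫ i₂ = i₁ := by
  haveI := h₁.1
  haveI := h₂.1
  obtain ⟨a, ha⟩ := (h₂.2 i₁).mp ((h₁.2 i₁).mpr ⟨𝟙 _, Category.id_comp _⟩)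
  obtain ⟨b, hb⟩ := (h₁.2 i₂).mp ((h₂.2 i₂).mpr ⟨𝟙 _, Category.id_comp _⟩)
  refine ⟨⟨a, b, ?_, ?_⟩, ha⟩
  · rw [← cancel_mono i₁, Category.assoc, hb, ha, Category.id_comp]
  · rw [← cancel_mono i₂, Category.assoc, ha, hb, Category.id_comp]

lemma Rep.wrep {W : MorphismProperty Scheme.{u}} {Z : Scheme.{u}} {i : Z ⟶ X} (h : Rep P W i) :
    WRep P i := by
  haveI := h.1
  exact ⟨inferInstance, h.2.2⟩

include hP in
/-- a local predicate which is Zariski locally on `X` represented by closed subschemes is weakly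
representable. -/
theorem exists_wrep_of_zariski {W : MorphismProperty Scheme.{u}}
    (h : ∀ x : X, ∃ O : X.Opens, x ∈ O ∧ ∃ (Z : Scheme.{u}) (i : Z ⟶ O.toScheme),
      Rep (P.pull O.ι) W i) :
    ∃ (Z : Scheme.{u}) (i : Z ⟶ X), WRep P i := by
  choose O hxO Zc ic hrep using h
  have hF : Presheaf.IsSheaf Scheme.zariskiTopology (predFunctor hP) :=
    (isSheaf_iff_isSheaf_of_type _ _).mpr (isSheaf_predFunctor hP)
  have hmono : ∀ x, Mono (ic x ≫ (O x).ι) := by
    intro x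
    haveI := (hrep x).1
    infer_instance
  have hR : (predFunctor hP).IsRepresentable := by
    refine LocRep.isRepresentable_of_charts hF (ι := X) Zc
      (fun x => (⟨ic x ≫ (O x).ι, (hrep x).self⟩ : El P (Zc x)))
      (fun x T t => (t : El P T).1 ⁻¹ᵁ (O x)) ?_ ?_ ?_ ?_
    · -- hU₁
      intro x T T' t a b hab y
      have h1 : b ≫ ic x ≫ (O x).ι = a ≫ (t : El P T).1 := congrArg Subtype.val hab
      change (t : El P T).1 (a y) ∈ O x
      rw [← Scheme.Hom.comp_apply, ← h1, Scheme.Hom.comp_apply]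
      exact ((b ≫ ic x) y).2
    · -- hU₂
      intro x T t
      have ht : (P.pull (O x).ι) ((t : El P T).1 ∣_ (O x)) := by
        rw [Pred.pull_apply, morphismRestrict_ι]
        exact hP.comp _ _ (t : El P T).2
      obtain ⟨b, hb⟩ := ((hrep x).2.2 _).mp ht
      refine ⟨b, ?_⟩
      apply Subtype.ext
      change b ≫ ic x ≫ (O x).ι = ((t : El P T).1 ⁻¹ᵁ (O x)).ι ≫ (t : El P T).1
      rw [← Category.assoc, hb, morphismRestrict_ι]
    · -- hinj
      intro x T' b b' hbb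
      have h1 : b ≫ ic x ≫ (O x).ι = b' ≫ ic x ≫ (O x).ι := congrArg Subtype.val hbb
      haveI := hmono x
      exact (cancel_mono _).mp h1
    · -- hcov
      intro T t y
      exact ⟨(t : El P T).1 y, hxO _⟩
  obtain ⟨Z, ⟨e⟩⟩ := hR
  obtain ⟨ξ, hξ⟩ : ∃ ξ : El P Z, ξ = e.homEquiv (𝟙 Z) := ⟨_, rfl⟩
  have hcomp : ∀ {T : Scheme.{u}} (z : T ⟶ Z), (e.homEquiv z : El P T).1 = z ≫ ξ.1 := by
    intro T z
    rw [e.homEquiv_eq z, ← hξ]
    rfl
  refine ⟨Z, ξ.1, ⟨fun {T} z z' hz => ?_⟩, fun T t => ?_⟩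
  · apply e.homEquiv.injective
    apply Subtype.ext
    rw [hcomp, hcomp, hz]
  · constructor
    · intro ht
      refine ⟨e.homEquiv.symm (⟨t, ht⟩ : El P T), ?_⟩
      rw [← hcomp, Equiv.apply_symm_apply]
    · rintro ⟨z, rfl⟩
      exact hP.comp z _ ξ.2

include hP in
/-- a local predicate which is Zariski locally on `X` represented by closed subschemes is
represented by a closed subscheme. -/
theorem rep_of_zariski {W : MorphismProperty Scheme.{u}} [W.RespectsIso]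
    [IsZariskiLocalAtTarget W]
    (h : ∀ x : X, ∃ O : X.Opens, x ∈ O ∧ ∃ (Z : Scheme.{u}) (i : Z ⟶ O.toScheme),
      Rep (P.pull O.ι) W i) :
    ∃ (Z : Scheme.{u}) (i : Z ⟶ X), Rep P W i := by
  obtain ⟨Z, i, hi⟩ := exists_wrep_of_zariski hP h
  choose O hxO Zc ic hrep using h
  refine ⟨Z, i, ?_⟩
  let 𝒰 : X.OpenCover := {
    I₀ := X, X x := (O x), f x := (O x).ι,
    mem₀ := by
      rw [Scheme.presieve₀_mem_precoverage_iff]
      refine ⟨fun x ↦ ⟨x, by simpa using hxO x⟩, inferInstance⟩ }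
  have hloc : ∀ x : X, IsClosedImmersion (pullback.snd i (O x).ι) ∧ W (pullback.snd i (O x).ι) := by
    intro x
    have hrx : Rep (P.pull (O x).ι) W (ic x) := hrep x
    obtain ⟨ε, hε⟩ := WRep.unique (Rep.wrep hrx) (hi.pull (O x).ι)
    haveI := hrx.1
    have h2 : pullback.snd i (O x).ι = ε.inv ≫ ic x := by
      rw [Iso.eq_inv_comp, hε]
    constructor
    · rw [h2]
      infer_instance
    · rw [h2, W.cancel_left_of_respectsIso]
      exact hrx.2.1
  refine ⟨?_, ?_, hi.2⟩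
  · exact IsZariskiLocalAtTarget.of_openCover (P := @IsClosedImmersion) 𝒰 (fun x => (hloc x).1)
  · exact IsZariskiLocalAtTarget.of_openCover (P := W) 𝒰 (fun x => (hloc x).2)

end Groth.Agent.Lib.Helper58.CD4
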