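import Mathlib
import Groth.Agent.Lib.Helper58.CD2
import Groth.Agent.Lib.Helper58.CD3
import Groth.Agent.Lib.Helper58.CD4

/-!
# fpqc descent of closed subschemes representing a local predicate
-/

set_option autoImplicit false

universe u

open CategoryTheory CategoryTheory.Limits AlgebraicGeometry Opposite

namespace Groth.Agent.Lib.Helper58.CD5

open Groth.Agent.Lib.Helper58.CD2 Groth.Agent.Lib.Helper58.CD3 Groth.Agent.Lib.Helper58.CD4

variable {X : Scheme.{u}} {P : Pred X} (hP : IsLocalPred P)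

include hP in
/-- the finite family version of the affine fpqc step. -/
theorem rep_of_flat_family [IsAffine X] (W : MorphismProperty Scheme.{u})
    [W.RespectsIso] [W.IsStableUnderBaseChange] [IsZariskiLocalAtTarget W]
    [W.DescendsAlong (@Surjective ⊓ @Flat ⊓ @QuasiCompact)]
    {ι : Type u} [Finite ι] (V : ι → Scheme.{u}) [∀ k, IsAffine (V k)] (v : ∀ k, V k ⟶ X)
    (hflat : ∀ k, Flat (v k)) (hsurj : ∀ y : X, ∃ k, y ∈ Set.range (v k).base)
    (h : ∀ k, ∃ (Z : Scheme.{u}) (i : Z ⟶ V k), Rep (P.pull (v k)) W i) :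
    ∃ (Z : Scheme.{u}) (i : Z ⟶ X), Rep P W i := by
  let f : ∐ V ⟶ X := Sigma.desc v
  haveI : Flat f := IsZariskiLocalAtSource.sigmaDesc hflat
  haveI : Surjective f := by
    refine ⟨fun y => ?_⟩
    obtain ⟨k, z, hz⟩ := hsurj y
    refine ⟨(Sigma.ι V k) z, ?_⟩
    rw [← Scheme.Hom.comp_apply, Sigma.ι_desc]
    exact hz
  -- representability on the coproduct
  have h' : ∃ (Z' : Scheme.{u}) (i' : Z' ⟶ ∐ V), Rep (P.pull f) W i' := by
    apply rep_of_zariski (hP.pull f)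
    intro p
    obtain ⟨k, z, hz'⟩ : ∃ (k : ι) (z : V k), (Sigma.ι V k) z = p :=
      (sigmaOpenCover V).exists_eq p
    refine ⟨(Sigma.ι V k).opensRange, ⟨z, hz'⟩, ?_⟩
    obtain ⟨Z, i, hi⟩ := h k
    let ψ : V k ≅ (Sigma.ι V k).opensRange.toScheme := (Sigma.ι V k).isoOpensRange
    have hψ : ψ.hom ≫ (Sigma.ι V k).opensRange.ι = Sigma.ι V k := (Sigma.ι V k).isoOpensRange_hom_ι
    refine ⟨Z, i ≫ ψ.hom, Rep.of_iso ψ (Rep.congr ?_ hi)⟩
    intro T t
    change P (t ≫ v k) ↔ P (((t ≫ ψ.hom) ≫ (Sigma.ι V k).opensRange.ι) ≫ f)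
    have e1 : ((t ≫ ψ.hom) ≫ (Sigma.ι V k).opensRange.ι) ≫ f = t ≫ v k := by
      have e2 := Sigma.ι_desc v k
      simp only [Category.assoc]
      rw [reassoc_of% hψ]
      exact congrArg (fun q => t ≫ q) e2
    rw [e1]
  obtain ⟨Z', i', hi'⟩ := h'
  exact rep_of_flat_affine f hP W i' hi'

include hP in
/-- fpqc descent: a local predicate which is represented by closed subschemes locally for the
fpqc topology is represented by a closed subscheme. -/
theorem rep_of_fpqc (W : MorphismProperty Scheme.{u})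
    [W.RespectsIso] [W.IsStableUnderBaseChange] [IsZariskiLocalAtTarget W]
    [W.DescendsAlong (@Surjective ⊓ @Flat ⊓ @QuasiCompact)]
    (h : ∀ x : X, ∃ O : X.Opens, x ∈ O ∧ IsAffineOpen O ∧ ∃ (ι : Type u) (_ : Finite ι) (V : ι → Scheme.{u})
      (_ : ∀ k, IsAffine (V k)) (v : ∀ k, V k ⟶ O.toScheme), (∀ k, Flat (v k)) ∧
      (∀ y : O.toScheme, ∃ k, y ∈ Set.range (v k).base) ∧
      ∀ k, ∃ (Z : Scheme.{u}) (i : Z ⟶ V k), Rep (P.pull (v k ≫ O.ι)) W i) :
    ∃ (Z : Scheme.{u}) (i : Z ⟶ X), Rep P W i := by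
  apply rep_of_zariski hP
  intro x
  obtain ⟨O, hxO, hO, ι, hι, V, hV, v, hflat, hsurj, hrep⟩ := h x
  refine ⟨O, hxO, ?_⟩
  haveI : IsAffine O.toScheme := hO
  exact rep_of_flat_family (hP.pull O.ι) W V v hflat hsurj hrep

end Groth.Agent.Lib.Helper58.CD5
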