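import Mathlib
import Groth.Prelude.Def_ArtFun5
import Groth.Agent.Lib.Helper58.PSRel
import Groth.Agent.Lib.Helper44.AdicQuot

/-!
# Quotients of coefficient rings
-/

set_option autoImplicit false
universe u v
open CategoryTheory

namespace Groth.Agent.Lib.Helper58.CRQ

open ArtFun IsLocalRing Groth.Agent.Lib.Helper58.PSRel Groth.Agent.Lib.Helper58.Schl

variable {Λ : Type u} {k : Type u} [CommRing Λ] [Field k] [Algebra Λ k]
  (R : CRing Λ k) (K : Ideal R.carrier) (hK : K ≤ maximalIdeal R.carrier)

/-- the quotient of a coefficient ring by a proper ideal -/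
noncomputable def quot : CRing Λ k :=
  { carrier := R.carrier ⧸ K
    isLocalRing := cquot_isLocalRing R K hK
    res := Ideal.Quotient.liftₐ K R.res (fun a ha => (CRing.mem_maximalIdeal_iff R a).1 (hK ha))
    res_surjective := fun c => by
      obtain ⟨a, ha⟩ := R.res_surjective c
      exact ⟨Ideal.Quotient.mk K a, ha⟩
    isAdicComplete := by
      haveI := cquot_isLocalRing R K hK
      haveI := R.isAdicComplete
      have := Groth.Agent.Lib.Helper44.isAdicComplete_quotient_ring (maximalIdeal R.carrier) K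
      rw [← map_mk_maximalIdeal K]
      exact this }

/-- the quotient map -/
noncomputable def quotMk : R.carrier →ₐ[Λ] (quot R K hK).carrier := Ideal.Quotient.mkₐ Λ K

theorem quotMk_apply (a : R.carrier) : quotMk R K hK a = Ideal.Quotient.mk K a := rfl

theorem quotMk_res : (quot R K hK).res.comp (quotMk R K hK) = R.res :=
  Ideal.Quotient.liftₐ_comp _ _ _

theorem quot_res_mk (a : R.carrier) : (quot R K hK).res (Ideal.Quotient.mk K a) = R.res a := rfl

theorem quotMk_surjective : Function.Surjective (quotMk R K hK) := Ideal.Quotient.mk_surjective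

theorem quotMk_eq_zero_iff (a : R.carrier) : quotMk R K hK a = 0 ↔ a ∈ K :=
  Ideal.Quotient.eq_zero_iff_mem

/-- maps out of the quotient -/
theorem exists_lift (T : CRing Λ k) (g : R.carrier →ₐ[Λ] T.carrier) (hg : T.res.comp g = R.res)
    (hker : ∀ a ∈ K, g a = 0) :
    ∃ h : (quot R K hK).carrier →ₐ[Λ] T.carrier,
      T.res.comp h = (quot R K hK).res ∧ h.comp (quotMk R K hK) = g := by
  refine ⟨Ideal.Quotient.liftₐ K g hker, ?_, Ideal.Quotient.liftₐ_comp _ _ _⟩
  apply AlgHom.ext
  intro x
  obtain ⟨a, rfl⟩ := Ideal.Quotient.mk_surjective x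
  exact congrArg (fun t : R.carrier →ₐ[Λ] k => t a) hg

theorem hom_ext {T : Type*} [CommRing T] [Algebra Λ T] (h h' : (quot R K hK).carrier →ₐ[Λ] T)
    (e : h.comp (quotMk R K hK) = h'.comp (quotMk R K hK)) : h = h' := by
  apply AlgHom.ext
  intro x
  obtain ⟨a, rfl⟩ := Ideal.Quotient.mk_surjective x
  exact congrArg (fun t : R.carrier →ₐ[Λ] T => t a) e

end Groth.Agent.Lib.Helper58.CRQ
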