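import Mathlib
import Groth.Prelude.Def_ArtFun5
import Groth.Agent.Lib.Helper58.PSRel

/-!
# Maps out of power series rings over coefficient rings
-/

set_option autoImplicit false
universe u v
open CategoryTheory

namespace Groth.Agent.Lib.Helper58.PSRel2

open ArtFun IsLocalRing MvPowerSeries Groth.Agent.Lib.Helper58.PSRel
  Groth.Agent.Lib.Helper58.PSComplete Groth.Agent.Lib.Helper65

variable {Λ : Type u} {k : Type u} [CommRing Λ] [Field k] [Algebra Λ k] (R T : CRing Λ k)

theorem psR_res_apply (d : ℕ) (f : MvPowerSeries (Fin d) R.carrier) :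
    (psR R d).res f = R.res (constantCoeff f) := rfl

/-- maps out of `R[[X]]` with prescribed values -/
theorem psR_exists_hom (χ : R.carrier →ₐ[Λ] T.carrier) (hχ : T.res.comp χ = R.res) (d : ℕ)
    (y : Fin d → T.carrier) (hy : ∀ j, y j ∈ maximalIdeal T.carrier) :
    ∃ ω : MvPowerSeries (Fin d) R.carrier →ₐ[Λ] T.carrier,
      T.res.comp ω = (psR R d).res ∧ (∀ r, ω (C r) = χ r) ∧ ∀ j, ω (X j) = y j := by
  letI : Algebra R.carrier T.carrier := χ.toRingHom.toAlgebra
  haveI := T.isAdicComplete
  let π : MvPowerSeries (Fin d) R.carrier →ₐ[R.carrier] T.carrier :=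
    evalComplete (maximalIdeal T.carrier) y hy
  have hπX : ∀ j, π (X j) = y j := evalComplete_X _ y hy
  have hπC : ∀ r, π (C r) = χ r := fun r => π.commutes r
  let ω : MvPowerSeries (Fin d) R.carrier →ₐ[Λ] T.carrier :=
    { toRingHom := π.toRingHom
      commutes' := fun l => by
        change π (algebraMap Λ (MvPowerSeries (Fin d) R.carrier) l) = algebraMap Λ T.carrier l
        rw [MvPowerSeries.algebraMap_apply, hπC, AlgHom.commutes] }
  refine ⟨ω, ?_, hπC, hπX⟩
  apply AlgHom.ext
  intro f
  have h1 : π f = π (C (constantCoeff f)) + π (f - C (constantCoeff f)) := by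
    rw [← map_add]; congr 1; ring
  change T.res (π f) = R.res (constantCoeff f)
  rw [h1, map_add, hπC]
  have h2 : π (f - C (constantCoeff f)) ∈ maximalIdeal T.carrier :=
    map_mem_of_constantCoeff_eq_zero (maximalIdeal T.carrier) π
      (by intro i; rw [hπX]; exact hy i) _ (by simp)
  rw [(CRing.mem_maximalIdeal_iff T _).1 h2, add_zero]
  exact congrArg (fun t : R.carrier →ₐ[Λ] k => t (constantCoeff f)) hχ

/-- maps out of `R[[X]]` are determined by their values on constants and variables -/
theorem psR_hom_ext (d : ℕ) (ω ω' : MvPowerSeries (Fin d) R.carrier →ₐ[Λ] T.carrier)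
    (hω : T.res.comp ω = (psR R d).res)
    (hC : ∀ r, ω (C r) = ω' (C r)) (hX : ∀ j, ω (X j) = ω' (X j)) : ω = ω' := by
  let χ : R.carrier →+* T.carrier :=
    (ω : MvPowerSeries (Fin d) R.carrier →+* T.carrier).comp C
  letI : Algebra R.carrier T.carrier := χ.toAlgebra
  haveI := T.isAdicComplete
  let u : MvPowerSeries (Fin d) R.carrier →ₐ[R.carrier] T.carrier :=
    { toRingHom := ω, commutes' := fun r => rfl }
  let u' : MvPowerSeries (Fin d) R.carrier →ₐ[R.carrier] T.carrier :=
    { toRingHom := ω', commutes' := fun r => (hC r).symm }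
  have hXm : ∀ j, u (X j) ∈ maximalIdeal T.carrier := by
    intro j
    rw [CRing.mem_maximalIdeal_iff]
    change T.res (ω (X j)) = 0
    have h1 : T.res (ω (X j)) = (psR R d).res (X j) :=
      congrArg (fun t : MvPowerSeries (Fin d) R.carrier →ₐ[Λ] k => t (X j)) hω
    rw [h1, psR_res_apply, constantCoeff_X, map_zero]
  have key := algHom_ext_of_X (maximalIdeal T.carrier) u u' hXm hX
  apply AlgHom.ext
  intro f
  exact AlgHom.congr_fun key f

/-- every coefficient ring under `R` is a quotient of a power series ring over `R` -/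
theorem exists_ps_surjection [IsNoetherianRing Λ] [Module.Finite Λ k]
    (g : R.carrier →ₐ[Λ] T.carrier) (hg : T.res.comp g = R.res) :
    ∃ (d : ℕ) (ω : MvPowerSeries (Fin d) R.carrier →ₐ[Λ] T.carrier),
      T.res.comp ω = (psR R d).res ∧ (∀ r, ω (C r) = g r) ∧ Function.Surjective ω := by
  set I₀ : Ideal T.carrier := (maximalIdeal R.carrier).map (g : R.carrier →+* T.carrier) with hI₀
  have hI₀le : I₀ ≤ maximalIdeal T.carrier := cring_map_maximalIdeal_le R T g hg
  obtain ⟨d, x, hxm, hspan, -⟩ := exists_gens I₀ hI₀le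
  obtain ⟨ω, hω, hωC, hωX⟩ := psR_exists_hom R T g hg d x hxm
  refine ⟨d, ω, hω, hωC, ?_⟩
  apply cring_surjective_of_cotangent (psR R d) T ω hω
  apply le_antisymm
  · exact sup_le (cring_map_maximalIdeal_le (psR R d) T ω hω) (Ideal.pow_le_self two_ne_zero)
  · refine le_trans ?_ le_sup_left
    rw [hspan]
    apply sup_le
    · rw [Ideal.span_le]
      rintro _ ⟨i, rfl⟩
      rw [← hωX]
      exact Ideal.mem_map_of_mem _ (X_mem R d i)
    · rw [hI₀, Ideal.map_le_iff_le_comap]
      intro r hr
      rw [Ideal.mem_comap]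
      change g r ∈ _
      rw [← hωC]
      exact Ideal.mem_map_of_mem _ (C_mem R d r hr)

end Groth.Agent.Lib.Helper58.PSRel2
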