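import Mathlib
import Groth.Prelude.Def_ArtFun5
import Groth.Agent.Lib.Helper58.PSRel2
import Groth.Agent.Lib.Helper58.CRingQuot
import Groth.Agent.Lib.Helper58.AmbientFree

/-!
# Coproducts of coefficient rings
-/

set_option autoImplicit false
universe u v
open CategoryTheory

namespace Groth.Agent.Lib.Helper58.Coprod

open ArtFun IsLocalRing MvPowerSeries Groth.Agent.Lib.Helper58.PSRel
  Groth.Agent.Lib.Helper58.PSRel2 Groth.Agent.Lib.Helper58.SmAmb
  Groth.Agent.Lib.Helper58.AmbFree Groth.Agent.Lib.Helper65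

variable {Λ : Type u} {k : Type u} [CommRing Λ] [Field k] [Algebra Λ k]
  [IsNoetherianRing Λ] [Module.Finite Λ k]

section Wrappers

/-- the generators, as elements of the ambient coefficient ring -/
noncomputable def xg (i : Fin (nGen Λ k)) : (ambient Λ k).carrier := xgen i

theorem res_xg (i : Fin (nGen Λ k)) : (ambient Λ k).res (xg i) = gen Λ k i := resP_xgen i

theorem amb_exists_hom (T : CRing Λ k) (t : Fin (nGen Λ k) → T.carrier)
    (ht : ∀ i, T.res (t i) = gen Λ k i) :
    ∃ (χ : (ambient Λ k).carrier →ₐ[Λ] T.carrier) (_ : T.res.comp χ = (ambient Λ k).res),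
      ∀ i, χ (xg i) = t i :=
  exists_hom T t ht

theorem amb_hom_ext (T : CRing Λ k) (χ χ' : (ambient Λ k).carrier →ₐ[Λ] T.carrier)
    (hχ : T.res.comp χ = (ambient Λ k).res) (hχ' : T.res.comp χ' = (ambient Λ k).res)
    (h : ∀ i, χ (xg i) = χ' (xg i)) : χ = χ' :=
  hom_ext T χ χ' hχ hχ' h

end Wrappers

theorem exists_coproduct (R S : CRing Λ k) :
    ∃ (P : CRing Λ k) (i₁ : R.carrier →ₐ[Λ] P.carrier) (i₂ : S.carrier →ₐ[Λ] P.carrier),
      P.res.comp i₁ = R.res ∧ P.res.comp i₂ = S.res ∧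
      ∀ (T : CRing Λ k) (g₁ : R.carrier →ₐ[Λ] T.carrier) (g₂ : S.carrier →ₐ[Λ] T.carrier),
        T.res.comp g₁ = R.res → T.res.comp g₂ = S.res →
          ∃! h : P.carrier →ₐ[Λ] T.carrier, T.res.comp h = P.res ∧ h.comp i₁ = g₁ ∧ h.comp i₂ = g₂ := by
  classical
  -- the ambient ring and a presentation of `S`
  let N := nGen Λ k
  choose t ht using fun i : Fin N => S.res_surjective (gen Λ k i)
  obtain ⟨χS, hχS, hχSx⟩ := amb_exists_hom S t ht
  obtain ⟨e, ρ, hρres, hρC, hρs⟩ := exists_ps_surjection (ambient Λ k) S χS hχS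
  have hρres' : ∀ w, S.res (ρ w) = (ambient Λ k).res (constantCoeff w) := fun w =>
    congrArg (fun u : MvPowerSeries (Fin e) (ambient Λ k).carrier →ₐ[Λ] k => u w) hρres
  -- the power series ring over `R`
  choose r hr using fun i : Fin N => R.res_surjective (gen Λ k i)
  let RZ : CRing Λ k := psR R (N + e)
  have hRZres : ∀ f : MvPowerSeries (Fin (N + e)) R.carrier, RZ.res f = R.res (constantCoeff f) :=
    fun _ => rfl
  obtain ⟨χ₁, hχ₁, hχ₁x⟩ := amb_exists_hom RZ
    (fun i => (C (r i) + X (Fin.castAdd e i) : MvPowerSeries (Fin (N + e)) R.carrier))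
    (fun i => by rw [hRZres, map_add, constantCoeff_C, constantCoeff_X, add_zero, hr])
  obtain ⟨ιW, hιW, hιWC, hιWX⟩ := psR_exists_hom (ambient Λ k) RZ χ₁ hχ₁ e
    (fun j => (X (Fin.natAdd N j) : MvPowerSeries (Fin (N + e)) R.carrier))
    (fun j => X_mem R (N + e) _)
  -- the ideal
  let K : Ideal RZ.carrier := (RingHom.ker (ρ : MvPowerSeries (Fin e) (ambient Λ k).carrier →+* S.carrier)).map
    (ιW : MvPowerSeries (Fin e) (ambient Λ k).carrier →+* RZ.carrier)
  have hK : K ≤ maximalIdeal RZ.carrier := by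
    rw [Ideal.map_le_iff_le_comap]
    intro w hw
    rw [Ideal.mem_comap, CRing.mem_maximalIdeal_iff]
    have h1 : RZ.res (ιW w) = (psR (ambient Λ k) e).res w :=
      congrArg (fun u : MvPowerSeries (Fin e) (ambient Λ k).carrier →ₐ[Λ] k => u w) hιW
    change RZ.res (ιW w) = 0
    rw [h1, psR_res_apply, ← hρres', (RingHom.mem_ker.1 hw : ρ w = 0), map_zero]
  let Pc : CRing Λ k := CRQ.quot RZ K hK
  let mkP : RZ.carrier →ₐ[Λ] Pc.carrier := CRQ.quotMk RZ K hK
  have hmkP : Pc.res.comp mkP = RZ.res := CRQ.quotMk_res RZ K hK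
  let i₁ : R.carrier →ₐ[Λ] Pc.carrier := mkP.comp (CΛ R (N + e))
  have hkill : ∀ w ∈ RingHom.ker (ρ : MvPowerSeries (Fin e) (ambient Λ k).carrier →+* S.carrier),
      (mkP.comp ιW) w = 0 := by
    intro w hw
    change mkP (ιW w) = 0
    rw [CRQ.quotMk_eq_zero_iff]
    exact Ideal.mem_map_of_mem _ hw
  let eρ := Ideal.quotientKerAlgEquivOfSurjective (f := ρ) hρs
  let i₂ : S.carrier →ₐ[Λ] Pc.carrier :=
    (Ideal.Quotient.liftₐ _ (mkP.comp ιW) hkill).comp eρ.symm.toAlgHom
  have hi₂ : ∀ w, i₂ (ρ w) = mkP (ιW w) := by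
    intro w
    have : eρ.symm (ρ w) = Ideal.Quotient.mk _ w := by
      rw [AlgEquiv.symm_apply_eq]; rfl
    change Ideal.Quotient.liftₐ _ (mkP.comp ιW) hkill (eρ.symm (ρ w)) = _
    rw [this]
    rfl
  have hi₁ : ∀ a, i₁ a = mkP (C a) := fun _ => rfl
  have hPcres : ∀ f, Pc.res (mkP f) = RZ.res f := fun f =>
    congrArg (fun u : RZ.carrier →ₐ[Λ] k => u f) hmkP
  have hιWres : ∀ w, RZ.res (ιW w) = (ambient Λ k).res (constantCoeff w) := fun w =>
    congrArg (fun u : MvPowerSeries (Fin e) (ambient Λ k).carrier →ₐ[Λ] k => u w) hιW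
  refine ⟨Pc, i₁, i₂, ?_, ?_, ?_⟩
  · apply AlgHom.ext
    intro a
    change Pc.res (i₁ a) = R.res a
    rw [hi₁, hPcres, hRZres, constantCoeff_C]
  · apply AlgHom.ext
    intro s
    obtain ⟨w, rfl⟩ := hρs s
    change Pc.res (i₂ (ρ w)) = S.res (ρ w)
    rw [hi₂, hPcres, hιWres, hρres']
  · intro T g₁ g₂ hg₁ hg₂
    have hg₁' : ∀ a, T.res (g₁ a) = R.res a := fun a =>
      congrArg (fun u : R.carrier →ₐ[Λ] k => u a) hg₁
    have hg₂' : ∀ s, T.res (g₂ s) = S.res s := fun s =>
      congrArg (fun u : S.carrier →ₐ[Λ] k => u s) hg₂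
    -- the values of the variables
    let z : Fin (N + e) → T.carrier := Fin.addCases
      (fun i => g₂ (ρ (C (xg i))) - g₁ (r i)) (fun j => g₂ (ρ (X j)))
    have hzl : ∀ i, z (Fin.castAdd e i) = g₂ (ρ (C (xg i))) - g₁ (r i) := fun i =>
      Fin.addCases_left _
    have hzr : ∀ j, z (Fin.natAdd N j) = g₂ (ρ (X j)) := fun j => Fin.addCases_right _
    have hz : ∀ m, z m ∈ maximalIdeal T.carrier := by
      intro m
      induction m using Fin.addCases with
      | left i =>
        rw [CRing.mem_maximalIdeal_iff, hzl, map_sub, hg₂', hg₁', hρres', constantCoeff_C, hr,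
          res_xg, sub_self]
      | right j =>
        rw [CRing.mem_maximalIdeal_iff, hzr, hg₂', hρres', constantCoeff_X, map_zero]
    obtain ⟨ht, hht, hhtC, hhtX⟩ := psR_exists_hom R T g₁ hg₁ (N + e) z hz
    -- `ht ∘ ιW = g₂ ∘ ρ`
    have hcomp : ht.comp ιW = g₂.comp ρ := by
      have hres1 : T.res.comp (ht.comp ιW) = (psR (ambient Λ k) e).res := by
        rw [← AlgHom.comp_assoc, hht]; exact hιW
      apply psR_hom_ext (ambient Λ k) T e _ _ hres1
      · -- constants
        have hc : (ht.comp ιW).comp (CΛ (ambient Λ k) e) = (g₂.comp ρ).comp (CΛ (ambient Λ k) e) := by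
          apply amb_hom_ext T
          · rw [← AlgHom.comp_assoc, hres1]
            apply AlgHom.ext
            intro p
            change (ambient Λ k).res (constantCoeff (C p : MvPowerSeries (Fin e) (ambient Λ k).carrier)) = _
            rw [constantCoeff_C]
          · rw [← AlgHom.comp_assoc, ← AlgHom.comp_assoc, hg₂, hρres]
            apply AlgHom.ext
            intro p
            change (ambient Λ k).res (constantCoeff (C p : MvPowerSeries (Fin e) (ambient Λ k).carrier)) = _
            rw [constantCoeff_C]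
          · intro i
            change ht (ιW (C (xg i))) = g₂ (ρ (C (xg i)))
            rw [hιWC, hχ₁x, map_add, hhtC, hhtX, hzl]
            ring
        intro p
        exact AlgHom.congr_fun hc p
      · intro j
        change ht (ιW (X j)) = g₂ (ρ (X j))
        rw [hιWX, hhtX, hzr]
    have hcomp' : ∀ w, ht (ιW w) = g₂ (ρ w) := fun w => AlgHom.congr_fun hcomp w
    have hkillK : ∀ f ∈ K, ht f = 0 := by
      have : K ≤ RingHom.ker (ht : RZ.carrier →+* T.carrier) := by
        rw [Ideal.map_le_iff_le_comap]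
        intro w hw
        rw [Ideal.mem_comap, RingHom.mem_ker]
        change ht (ιW w) = 0
        rw [hcomp', (RingHom.mem_ker.1 hw : ρ w = 0), map_zero]
      exact fun f hf => this hf
    obtain ⟨h, hhres, hhmk⟩ := CRQ.exists_lift RZ K hK T ht hht hkillK
    have hhmk' : ∀ f, h (mkP f) = ht f := fun f => AlgHom.congr_fun hhmk f
    refine ⟨h, ⟨hhres, ?_, ?_⟩, ?_⟩
    · apply AlgHom.ext
      intro a
      change h (i₁ a) = g₁ a
      rw [hi₁, hhmk', hhtC]
    · apply AlgHom.ext
      intro s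
      obtain ⟨w, rfl⟩ := hρs s
      change h (i₂ (ρ w)) = g₂ (ρ w)
      rw [hi₂, hhmk', hcomp']
    · rintro h' ⟨hh'res, hh'1, hh'2⟩
      have hh'1' : ∀ a, h' (mkP (C a)) = g₁ a := fun a => AlgHom.congr_fun hh'1 a
      have hh'2' : ∀ w, h' (mkP (ιW w)) = g₂ (ρ w) := fun w => by
        rw [← hi₂]; exact AlgHom.congr_fun hh'2 (ρ w)
      apply CRQ.hom_ext RZ K hK
      have hres2 : T.res.comp (h'.comp mkP) = RZ.res := by
        rw [← AlgHom.comp_assoc, hh'res]; exact hmkP
      apply psR_hom_ext R T (N + e) _ _ hres2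
      · intro a
        change h' (mkP (C a)) = h (mkP (C a))
        rw [hh'1', hhmk', hhtC]
      · intro m
        change h' (mkP (X m)) = h (mkP (X m))
        rw [hhmk', hhtX]
        induction m using Fin.addCases with
        | left i =>
          have e1 : (X (Fin.castAdd e i) : MvPowerSeries (Fin (N + e)) R.carrier) =
              ιW (C (xg i)) - C (r i) := by
            rw [hιWC, hχ₁x]; ring
          rw [e1, map_sub, map_sub, hh'2', hh'1', hzl]
        | right j =>
          have e2 : (X (Fin.natAdd N j) : MvPowerSeries (Fin (N + e)) R.carrier) = ιW (X j) :=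
            (hιWX j).symm
          rw [e2, hh'2', hzr]

end Groth.Agent.Lib.Helper58.Coprod
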