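import Mathlib
import Groth.Prelude.Def_ArtFun5
import Groth.Agent.Lib.Helper65.CRingBasic
import Groth.Agent.Lib.Helper65.ArtBasic

/-!
# Limits of surjective systems of Artinian local algebras: auxiliary results
-/

set_option autoImplicit false
universe u v
open CategoryTheory

namespace Groth.Agent.Lib.Helper58.LimAux

open ArtFun ArtFun.Art IsLocalRing Groth.Agent.Lib.Helper65

section Algebra

/-- a surjective local homomorphism which does not decrease the number of generators of the
maximal ideal has kernel in the square of the maximal ideal -/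
theorem ker_le_sq_of_spanFinrank_le {A' A : Type*} [CommRing A'] [CommRing A] [IsLocalRing A']
    [IsLocalRing A] [IsNoetherianRing A'] (g : A' →+* A) (hg : Function.Surjective g)
    (hloc : ∀ a, g a ∈ maximalIdeal A → a ∈ maximalIdeal A')
    (he : (maximalIdeal A').spanFinrank ≤ (maximalIdeal A).spanFinrank) :
    RingHom.ker g ≤ maximalIdeal A' ^ 2 := by
  classical
  have hfg : (maximalIdeal A').FG := IsNoetherian.noetherian _
  obtain ⟨s, hcard, hspan⟩ := Submodule.FG.exists_span_finset_card_eq_spanFinrank hfg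
  have hsm : ∀ y ∈ s, y ∈ maximalIdeal A' := fun y hy => by
    rw [← hspan]; exact Submodule.subset_span hy
  have hmap : (maximalIdeal A').map g = maximalIdeal A := by
    apply le_antisymm
    · rw [Ideal.map_le_iff_le_comap]
      intro a ha
      rw [Ideal.mem_comap, IsLocalRing.mem_maximalIdeal, mem_nonunits_iff]
      intro hu
      obtain ⟨b, hb⟩ := hu.exists_right_inv
      obtain ⟨b', rfl⟩ := hg b
      rw [← map_mul] at hb
      have h1 : a * b' ∈ maximalIdeal A' := Ideal.mul_mem_right _ _ ha
      have h2 : a * b' - 1 ∈ maximalIdeal A' := by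
        apply hloc
        rw [map_sub, hb, map_one, sub_self]
        exact zero_mem _
      have h3 : (1 : A') ∈ maximalIdeal A' := by
        have := Ideal.sub_mem _ h1 h2
        simpa using this
      exact (Ideal.ne_top_iff_one _).mp (IsLocalRing.maximalIdeal.isMaximal A').ne_top h3
    · intro a ha
      obtain ⟨a', rfl⟩ := hg a
      exact Ideal.mem_map_of_mem _ (hloc a' ha)
  intro z hz
  rw [RingHom.mem_ker] at hz
  have hzm : z ∈ maximalIdeal A' := hloc z (by rw [hz]; exact zero_mem _)
  rw [← hspan] at hzm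
  obtain ⟨a, -, hz'⟩ := Submodule.mem_span_finset.1 hzm
  have hall : ∀ y ∈ s, a y ∈ maximalIdeal A' := by
    intro y₀ hy₀
    by_contra hnot
    have hunit : IsUnit (a y₀) := by
      by_contra h
      exact hnot ((IsLocalRing.mem_maximalIdeal _).2 h)
    have hgunit : IsUnit (g (a y₀)) := hunit.map g
    -- `g y₀` lies in the span of the other images
    have hsum : ∑ y ∈ s, g (a y) * g y = 0 := by
      rw [← hz, ← hz', map_sum]
      refine Finset.sum_congr rfl fun y _ => ?_
      rw [smul_eq_mul, map_mul]
    rw [← Finset.add_sum_erase s _ hy₀] at hsum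
    have hmem : g y₀ ∈ Ideal.span ((s.erase y₀).image g : Set A) := by
      obtain ⟨c, hc⟩ := hgunit.exists_left_inv
      have e1 : g y₀ = -(c * ∑ y ∈ s.erase y₀, g (a y) * g y) := by
        have : c * (g (a y₀) * g y₀ + ∑ y ∈ s.erase y₀, g (a y) * g y) = 0 := by
          rw [hsum, mul_zero]
        rw [mul_add, ← mul_assoc, hc, one_mul] at this
        exact eq_neg_of_add_eq_zero_left this
      rw [e1]
      refine Ideal.neg_mem_iff _ |>.2 (Ideal.mul_mem_left _ _ (Ideal.sum_mem _ fun y hy => ?_))
      exact Ideal.mul_mem_left _ _ (Ideal.subset_span (by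
        rw [Finset.coe_image]; exact ⟨y, hy, rfl⟩))
    have hle : maximalIdeal A ≤ Ideal.span ((s.erase y₀).image g : Set A) := by
      rw [← hmap, ← hspan, Ideal.map_span, Ideal.span_le]
      rintro _ ⟨y, hy, rfl⟩
      by_cases hyy : y = y₀
      · rw [hyy]; exact hmem
      · exact Ideal.subset_span (by
          rw [Finset.coe_image]; exact ⟨y, Finset.mem_erase.2 ⟨hyy, hy⟩, rfl⟩)
    have heq : maximalIdeal A = Ideal.span ((s.erase y₀).image g : Set A) := by
      apply le_antisymm hle
      rw [Ideal.span_le]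
      intro b hb
      rw [Finset.coe_image] at hb
      obtain ⟨y, hy, rfl⟩ := hb
      rw [← hmap]
      exact Ideal.mem_map_of_mem _ (hsm y (Finset.mem_of_mem_erase hy))
    have h1 : (maximalIdeal A).spanFinrank ≤ ((s.erase y₀).image g).card := by
      conv_lhs => rw [heq]
      have := Submodule.spanFinrank_span_le_ncard_of_finite (R := A)
        (Finset.finite_toSet ((s.erase y₀).image g))
      rwa [Set.ncard_coe_finset] at this
    have h2 : ((s.erase y₀).image g).card ≤ (s.erase y₀).card := Finset.card_image_le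
    have h3 : (s.erase y₀).card = s.card - 1 := Finset.card_erase_of_mem hy₀
    have h4 : 0 < s.card := Finset.card_pos.2 ⟨y₀, hy₀⟩
    omega
  rw [← hz', pow_two]
  refine Ideal.sum_mem _ fun y hy => ?_
  rw [smul_eq_mul]
  exact Ideal.mul_mem_mul (hall y hy) (hsm y hy)

end Algebra

section ArtCRing

variable {Λ : Type u} {k : Type u} [CommRing Λ] [Field k] [Algebra Λ k]

/-- an Artinian object as a coefficient ring -/
noncomputable abbrev artCRing (A : Art Λ k) : CRing Λ k :=
  { carrier := A.carrier
    res := A.res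
    res_surjective := A.res_surjective
    isAdicComplete := inferInstance }

end ArtCRing

section Trans

variable {Λ : Type u} {k : Type u} [CommRing Λ] [Field k] [Algebra Λ k]
  (A : ℕ → Art Λ k) (f : ∀ n, A (n + 1) ⟶ A n)

/-- transition maps of the system -/
noncomputable def tr {n m : ℕ} (h : n ≤ m) : A m ⟶ A n :=
  Nat.leRecOn (C := fun j => A j ⟶ A n) h (fun {j} g => f j ≫ g) (𝟙 (A n))

theorem tr_self (n : ℕ) : tr A f (le_refl n) = 𝟙 (A n) :=
  Nat.leRecOn_self _

theorem tr_succ {n m : ℕ} (h : n ≤ m) (h2 : n ≤ m + 1) : tr A f h2 = f m ≫ tr A f h :=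
  Nat.leRecOn_succ h _

theorem comp_apply' {X Y Z : Art Λ k} (p : X ⟶ Y) (q : Y ⟶ Z) (x : X.carrier) :
    (p ≫ q) x = q (p x) := rfl

theorem tr_self_apply (n : ℕ) (x : (A n).carrier) : tr A f (le_refl n) x = x := by
  rw [tr_self]; rfl

theorem tr_succ_apply {n m : ℕ} (h : n ≤ m) (h2 : n ≤ m + 1) (x : (A (m + 1)).carrier) :
    tr A f h2 x = tr A f h (f m x) := by
  rw [tr_succ A f h h2, comp_apply']

theorem tr_surjective (hf : ∀ n, Function.Surjective (f n)) {n m : ℕ} (h : n ≤ m) :
    Function.Surjective (tr A f h) := by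
  induction m, h using Nat.le_induction with
  | base =>
    intro y
    exact ⟨y, tr_self_apply A f n y⟩
  | succ m h ih =>
    intro y
    obtain ⟨x, hx⟩ := ih y
    obtain ⟨x', hx'⟩ := hf m x
    refine ⟨x', ?_⟩
    rw [tr_succ_apply A f h, hx', hx]

theorem tr_apply_of_compat (a : ∀ n, (A n).carrier) (ha : ∀ n, f n (a (n + 1)) = a n)
    {n m : ℕ} (h : n ≤ m) : tr A f h (a m) = a n := by
  induction m, h using Nat.le_induction with
  | base => exact tr_self_apply A f n _
  | succ m h ih => rw [tr_succ_apply A f h, ha, ih]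

/-- naturality of the transition maps -/
theorem tr_nat {n m : ℕ} (h : n ≤ m) (h' : n + 1 ≤ m + 1) (x : (A (m + 1)).carrier) :
    f n (tr A f h' x) = tr A f h (f m x) := by
  induction m, h using Nat.le_induction with
  | base => rw [tr_self_apply, tr_self_apply]
  | succ m h ih =>
    rw [tr_succ_apply A f (Nat.succ_le_succ h) h', ih (Nat.succ_le_succ h),
      tr_succ_apply A f h (Nat.le_succ_of_le h)]

/-- the number of generators of the maximal ideals stabilizes -/
theorem exists_stable [IsNoetherianRing Λ] [Module.Finite Λ k]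
    (hf : ∀ n, Function.Surjective (f n)) (d : ℕ)
    (hd : ∀ n, Module.finrank (IsLocalRing.ResidueField (A n)) (IsLocalRing.CotangentSpace (A n)) ≤ d) :
    ∃ n₀, ∀ n, n₀ ≤ n →
      (maximalIdeal (A (n + 1)).carrier).spanFinrank ≤ (maximalIdeal (A n).carrier).spanFinrank := by
  have hmap : ∀ n, (maximalIdeal (A (n + 1)).carrier).map ((f n).toAlgHom : (A (n + 1)).carrier →+* (A n).carrier) =
      maximalIdeal (A n).carrier := by
    intro n
    apply le_antisymm
    · rw [Ideal.map_le_iff_le_comap]
      intro a ha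
      rw [Ideal.mem_comap, Art.mem_maximalIdeal_iff]
      change (A n).res (f n a) = 0
      rw [Art.res_app]
      exact (Art.mem_maximalIdeal_iff _ a).1 ha
    · intro b hb
      obtain ⟨a, rfl⟩ := hf n b
      apply Ideal.mem_map_of_mem
      rw [Art.mem_maximalIdeal_iff] at hb ⊢
      rw [← Art.res_app (f n)]
      exact hb
  have hmono : ∀ n, (maximalIdeal (A n).carrier).spanFinrank ≤
      (maximalIdeal (A (n + 1)).carrier).spanFinrank := by
    intro n
    rw [← hmap n]
    exact Ideal.spanFinrank_map_le_of_fg _ (IsNoetherian.noetherian _)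
  have hbd : ∀ n, (maximalIdeal (A n).carrier).spanFinrank ≤ d := by
    intro n
    rw [IsLocalRing.spanFinrank_maximalIdeal_eq_finrank_cotangentSpace]
    exact hd n
  let e : ℕ →o Fin (d + 1) :=
    ⟨fun n => ⟨(maximalIdeal (A n).carrier).spanFinrank, Nat.lt_succ_of_le (hbd n)⟩,
      monotone_nat_of_le_succ (fun n => hmono n)⟩
  obtain ⟨n₀, hn₀⟩ := WellFoundedGT.monotone_chain_condition e
  refine ⟨n₀, fun n hn => ?_⟩
  have h1 := hn₀ n hn
  have h2 := hn₀ (n + 1) (hn.trans (Nat.le_succ n))
  have h3 : e n = e (n + 1) := h1.symm.trans h2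
  have h4 := congrArg Fin.val h3
  exact le_of_eq h4.symm

end Trans

end Groth.Agent.Lib.Helper58.LimAux
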