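import Mathlib
import Groth.Prelude.Def_ArtFun5
import Groth.Agent.Lib.Helper58.LimAux
import Groth.Agent.Lib.Helper58.CRingCoprod

/-!
# Limits of surjective systems of Artinian local algebras: compatible surjections
-/

set_option autoImplicit false
universe u v
open CategoryTheory

namespace Groth.Agent.Lib.Helper58.LimSeq

open ArtFun ArtFun.Art IsLocalRing MvPowerSeries Groth.Agent.Lib.Helper65
  Groth.Agent.Lib.Helper58.LimAux Groth.Agent.Lib.Helper58.PSRel Groth.Agent.Lib.Helper58.PSRel2
  Groth.Agent.Lib.Helper58.SmAmb Groth.Agent.Lib.Helper58.Coprod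

variable {Λ : Type u} {k : Type u} [CommRing Λ] [Field k] [Algebra Λ k]
  [IsNoetherianRing Λ] [Module.Finite Λ k]

/-- power series rings over the ambient ring have smooth `h` -/
theorem isSmoothFunctor_psAmb (d : ℕ) :
    IsSmoothFunctor (hR (psR (ambient Λ k) d).carrier (psR (ambient Λ k) d).res) := by
  intro B A μ hμ φ
  change HomSet (psR (ambient Λ k) d).carrier (psR (ambient Λ k) d).res A at φ
  have hφres : ∀ w, A.res (φ.1 w) = (ambient Λ k).res (constantCoeff w) := fun w =>
    congrArg (fun t : (psR (ambient Λ k) d).carrier →ₐ[Λ] k => t w) φ.2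
  choose b hb using fun i => hμ (φ.1 (C (xg i)))
  have hbres : ∀ i, (artCRing B).res (b i) = gen Λ k i := by
    intro i
    change B.res (b i) = _
    rw [← Art.res_app μ, hb, hφres, constantCoeff_C, res_xg]
  obtain ⟨χB, hχB, hχBx⟩ := amb_exists_hom (artCRing B) b hbres
  choose y hy using fun j => hμ (φ.1 (X j))
  have hym : ∀ j, y j ∈ maximalIdeal (artCRing B).carrier := by
    intro j
    rw [CRing.mem_maximalIdeal_iff]
    change B.res (y j) = 0
    rw [← Art.res_app μ, hy, hφres, constantCoeff_X, map_zero]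
  obtain ⟨ψ, hψres, hψC, hψX⟩ := psR_exists_hom (ambient Λ k) (artCRing B) χB hχB d y hym
  refine ⟨(⟨ψ, hψres⟩ : HomSet (psR (ambient Λ k) d).carrier (psR (ambient Λ k) d).res B), ?_⟩
  apply Subtype.ext
  change μ.toAlgHom.comp ψ = φ.1
  have hres1 : (artCRing A).res.comp (μ.toAlgHom.comp ψ) = (psR (ambient Λ k) d).res := by
    rw [← AlgHom.comp_assoc]
    change (A.res.comp μ.toAlgHom).comp ψ = _
    rw [μ.res_comp]
    exact hψres
  apply psR_hom_ext (ambient Λ k) (artCRing A) d (μ.toAlgHom.comp ψ) φ.1 hres1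
  · have hc : (μ.toAlgHom.comp ψ).comp (CΛ (ambient Λ k) d) = φ.1.comp (CΛ (ambient Λ k) d) := by
      apply amb_hom_ext (artCRing A)
      · rw [← AlgHom.comp_assoc, hres1]
        apply AlgHom.ext
        intro p
        change (ambient Λ k).res (constantCoeff (C p : MvPowerSeries (Fin d) (ambient Λ k).carrier)) = _
        rw [constantCoeff_C]
      · rw [← AlgHom.comp_assoc]
        change (A.res.comp φ.1).comp _ = _
        rw [φ.2]
        apply AlgHom.ext
        intro p
        change (ambient Λ k).res (constantCoeff (C p : MvPowerSeries (Fin d) (ambient Λ k).carrier)) = _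
        rw [constantCoeff_C]
      · intro i
        change μ (ψ (C (xg i))) = φ.1 (C (xg i))
        rw [hψC, hχBx, hb]
    intro p
    exact AlgHom.congr_fun hc p
  · intro j
    change μ (ψ (X j)) = φ.1 (X j)
    rw [hψX, hy]

/-- a lift of a surjection along a map with kernel in the square of the maximal ideal is
surjective -/
theorem surjective_lift {A' A₀ : Art Λ k} (g : A' ⟶ A₀) (hg : Function.Surjective g)
    (hker : RingHom.ker (g.toAlgHom : A'.carrier →+* A₀.carrier) ≤ maximalIdeal A'.carrier ^ 2)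
    (W : CRing Λ k) (v' : HomSet W.carrier W.res A')
    (hv : Function.Surjective (HomSet.map g v').1) : Function.Surjective v'.1 := by
  apply cring_surjective_of_cotangent W (artCRing A') v'.1 v'.2
  apply le_antisymm
  · exact sup_le (cring_map_maximalIdeal_le W (artCRing A') v'.1 v'.2)
      (Ideal.pow_le_self two_ne_zero)
  · intro y hy
    have h1 : g y ∈ maximalIdeal A₀.carrier := by
      rw [Art.mem_maximalIdeal_iff, Art.res_app]
      exact (Art.mem_maximalIdeal_iff A' y).1 hy
    have h2 := cring_map_maximalIdeal_eq_of_surjective W (artCRing A₀) (HomSet.map g v').1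
      (HomSet.map g v').2 hv
    have h3 : Ideal.map (HomSet.map g v').1 (maximalIdeal W.carrier) =
        Ideal.map (g.toAlgHom : A'.carrier →+* A₀.carrier)
          (Ideal.map (v'.1 : W.carrier →+* A'.carrier) (maximalIdeal W.carrier)) := by
      rw [Ideal.map_map]
      rfl
    rw [← h2, h3] at h1
    obtain ⟨i, hi, hgi⟩ := (Ideal.mem_map_iff_of_surjective
      (g.toAlgHom : A'.carrier →+* A₀.carrier) hg).1 h1
    have h4 : y - i ∈ RingHom.ker (g.toAlgHom : A'.carrier →+* A₀.carrier) := by
      rw [RingHom.mem_ker, map_sub, sub_eq_zero]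
      exact hgi.symm
    have h5 : y = i + (y - i) := by ring
    rw [h5]
    exact Ideal.add_mem _ (Ideal.mem_sup_left hi) (Ideal.mem_sup_right (hker h4))

section Seq

variable (A : ℕ → Art Λ k) (f : ∀ n, A (n + 1) ⟶ A n)

/-- compatible surjections from a power series ring over the ambient ring -/
theorem exists_compatible_surjections (hf : ∀ n, Function.Surjective (f n)) (d : ℕ)
    (hd : ∀ n, Module.finrank (IsLocalRing.ResidueField (A n)) (IsLocalRing.CotangentSpace (A n)) ≤ d) :
    ∃ (d' : ℕ) (u : ∀ n, HomSet (psR (ambient Λ k) d').carrier (psR (ambient Λ k) d').res (A n)),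
      (∀ n, HomSet.map (f n) (u (n + 1)) = u n) ∧ ∀ n, Function.Surjective (u n).1 := by
  classical
  obtain ⟨n₀, hn₀⟩ := exists_stable A f hf d hd
  have hker : ∀ n, n₀ ≤ n → RingHom.ker ((f n).toAlgHom : (A (n + 1)).carrier →+* (A n).carrier) ≤
      maximalIdeal (A (n + 1)).carrier ^ 2 := by
    intro n hn
    apply ker_le_sq_of_spanFinrank_le _ (hf n) _ (hn₀ n hn)
    intro a ha
    rw [Art.mem_maximalIdeal_iff] at ha ⊢
    rw [← Art.res_app (f n)]
    exact ha
  -- the base map
  choose t ht using fun i : Fin (nGen Λ k) => (A n₀).res_surjective (gen Λ k i)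
  obtain ⟨χ₀, hχ₀, -⟩ := amb_exists_hom (artCRing (A n₀)) t ht
  obtain ⟨d', ω, hω, -, hωs⟩ := exists_ps_surjection (ambient Λ k) (artCRing (A n₀)) χ₀ hχ₀
  have hsm := isSmoothFunctor_psAmb (Λ := Λ) (k := k) d'
  let W : CRing Λ k := psR (ambient Λ k) d'
  have step : ∀ (j : ℕ) (p : {v : HomSet W.carrier W.res (A (n₀ + j)) // Function.Surjective v.1}),
      ∃ q : {v : HomSet W.carrier W.res (A (n₀ + j + 1)) // Function.Surjective v.1},
        HomSet.map (f (n₀ + j)) q.1 = p.1 := by
    intro j p
    obtain ⟨ψ, hψ⟩ := hsm (f (n₀ + j)) (hf _) p.1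
    have hψ' : HomSet.map (f (n₀ + j)) ψ = p.1 := hψ
    refine ⟨⟨ψ, ?_⟩, hψ'⟩
    apply surjective_lift (f (n₀ + j)) (hf _) (hker _ (Nat.le_add_right n₀ j)) W ψ
    rw [hψ']
    exact p.2
  let v : ∀ j : ℕ, {v : HomSet W.carrier W.res (A (n₀ + j)) // Function.Surjective v.1} :=
    fun j => Nat.rec
      (motive := fun j => {v : HomSet W.carrier W.res (A (n₀ + j)) // Function.Surjective v.1})
      ⟨⟨ω, hω⟩, hωs⟩ (fun j p => (step j p).choose) j
  have hv : ∀ j, HomSet.map (f (n₀ + j)) (v (j + 1)).1 = (v j).1 :=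
    fun j => (step j (v j)).choose_spec
  refine ⟨d', fun n => HomSet.map (tr A f (Nat.le_add_left n n₀)) (v n).1, ?_, ?_⟩
  · intro n
    apply Subtype.ext
    apply AlgHom.ext
    intro r
    change f n (tr A f (Nat.le_add_left (n + 1) n₀) ((v (n + 1)).1.1 r)) =
      tr A f (Nat.le_add_left n n₀) ((v n).1.1 r)
    rw [tr_nat A f (Nat.le_add_left n n₀)]
    congr 1
    exact congrArg (fun t : HomSet W.carrier W.res (A (n₀ + n)) => t.1 r) (hv n)
  · intro n
    exact (tr_surjective A f hf (Nat.le_add_left n n₀)).comp (v n).2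

end Seq

end Groth.Agent.Lib.Helper58.LimSeq
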