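import Mathlib
import Groth.Prelude.Def_ArtFun5
import Groth.Agent.Lib.Helper58.LimSeq
import Groth.Agent.Lib.Helper58.SchlAmbient

/-!
# Limits of surjective systems of Artinian local algebras
-/

set_option autoImplicit false
universe u v
open CategoryTheory

namespace Groth.Agent.Lib.Helper58.Lim

open ArtFun ArtFun.Art IsLocalRing Groth.Agent.Lib.Helper65
  Groth.Agent.Lib.Helper58.LimAux Groth.Agent.Lib.Helper58.LimSeq

variable {Λ : Type u} {k : Type u} [CommRing Λ] [Field k] [Algebra Λ k]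

/-- the limit of a surjective system of quotients of a coefficient ring -/
theorem exists_limit_of_surjections (W : CRing Λ k) (A : ℕ → Art Λ k) (f : ∀ n, A (n + 1) ⟶ A n)
    (u : ∀ n, HomSet W.carrier W.res (A n)) (hu : ∀ n, HomSet.map (f n) (u (n + 1)) = u n)
    (hus : ∀ n, Function.Surjective (u n).1) :
    ∃ (S : CRing Λ k) (π : ∀ n, HomSet S.carrier S.res (A n)),
      (∀ n, HomSet.map (f n) (π (n + 1)) = π n) ∧
      (∀ n, Function.Surjective (π n).1) ∧
      (∀ a : ∀ n, A n, (∀ n, f n (a (n + 1)) = a n) → ∃! s : S.carrier, ∀ n, (π n).1 s = a n) ∧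
      (∀ n, ∃ N, RingHom.ker (π N).1 ≤ maximalIdeal S.carrier ^ n) ∧
      (∀ n, ∃ N, maximalIdeal S.carrier ^ N ≤ RingHom.ker (π n).1) := by
  classical
  haveI := W.isAdicComplete
  let J : ℕ → Ideal W.carrier := fun n => RingHom.ker ((u n).1 : W.carrier →+* (A n).carrier)
  have hJmem : ∀ n w, w ∈ J n ↔ (u n).1 w = 0 := fun n w => RingHom.mem_ker
  have hu' : ∀ n w, f n ((u (n + 1)).1 w) = (u n).1 w := fun n w =>
    congrArg (fun t : HomSet W.carrier W.res (A n) => t.1 w) (hu n)
  have hanti : Antitone J := by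
    apply antitone_nat_of_succ_le
    intro n w hw
    rw [hJmem] at hw ⊢
    rw [← hu', hw, map_zero]
  have hutr : ∀ {n m : ℕ} (h : n ≤ m) w, tr A f h ((u m).1 w) = (u n).1 w := fun h w =>
    tr_apply_of_compat A f (fun n => (u n).1 w) (fun n => hu' n w) h
  have hures : ∀ n w, (A n).res ((u n).1 w) = W.res w := fun n w =>
    congrArg (fun t : W.carrier →ₐ[Λ] k => t w) (u n).2
  have hopen : ∀ n, ∃ N, maximalIdeal W.carrier ^ N ≤ J n := by
    intro n
    obtain ⟨N, hN⟩ := art_maximalIdeal_nilpotent (A n)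
    refine ⟨N, ?_⟩
    have h1 : Ideal.map ((u n).1 : W.carrier →+* (A n).carrier) (maximalIdeal W.carrier) ≤
        maximalIdeal (A n).carrier := cring_map_maximalIdeal_le W (artCRing (A n)) (u n).1 (u n).2
    intro w hw
    rw [hJmem]
    have h2 : (u n).1 w ∈ Ideal.map ((u n).1 : W.carrier →+* (A n).carrier)
        (maximalIdeal W.carrier ^ N) := Ideal.mem_map_of_mem _ hw
    rw [Ideal.map_pow] at h2
    have h3 := Ideal.pow_right_mono h1 N h2
    rwa [hN, Ideal.mem_bot] at h3
  let Jinf : Ideal W.carrier := ⨅ n, J n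
  have hJinf_le : ∀ n, Jinf ≤ J n := fun n => iInf_le J n
  have hJ : Jinf ≤ maximalIdeal W.carrier := by
    intro w hw
    have h1 := (hJmem 0 w).1 (hJinf_le 0 hw)
    rw [CRing.mem_maximalIdeal_iff, ← hures 0, h1, map_zero]
  let S : CRing Λ k := CRQ.quot W Jinf hJ
  let mk : W.carrier →ₐ[Λ] S.carrier := CRQ.quotMk W Jinf hJ
  have hmks : Function.Surjective mk := CRQ.quotMk_surjective W Jinf hJ
  have hmk0 : ∀ w, mk w = 0 ↔ w ∈ Jinf := CRQ.quotMk_eq_zero_iff W Jinf hJ
  have hmkm : Ideal.map (mk : W.carrier →+* S.carrier) (maximalIdeal W.carrier) =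
      maximalIdeal S.carrier :=
    cring_map_maximalIdeal_eq_of_surjective W S mk (CRQ.quotMk_res W Jinf hJ) hmks
  have hmkpow : ∀ n w, w ∈ Jinf ⊔ maximalIdeal W.carrier ^ n → mk w ∈ maximalIdeal S.carrier ^ n := by
    intro n w hw
    obtain ⟨j, hj, p, hp, rfl⟩ := Submodule.mem_sup.1 hw
    rw [map_add, (hmk0 j).2 hj, zero_add, ← hmkm, ← Ideal.map_pow]
    exact Ideal.mem_map_of_mem _ hp
  -- the projections
  let π₀ : ∀ n, S.carrier →ₐ[Λ] (A n).carrier := fun n =>
    Ideal.Quotient.liftₐ Jinf (u n).1 (fun w hw => (hJmem n w).1 (hJinf_le n hw))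
  have hπmk : ∀ n w, π₀ n (mk w) = (u n).1 w := fun n w => rfl
  have hπres : ∀ n, (A n).res.comp (π₀ n) = S.res := by
    intro n
    apply AlgHom.ext
    intro s
    obtain ⟨w, rfl⟩ := hmks s
    change (A n).res (π₀ n (mk w)) = S.res (mk w)
    rw [hπmk, hures]
    rfl
  let π : ∀ n, HomSet S.carrier S.res (A n) := fun n => ⟨π₀ n, hπres n⟩
  have hπ : ∀ n s, (π n).1 s = π₀ n s := fun _ _ => rfl
  -- kernels and powers of the maximal ideal
  have hpow_le_ker : ∀ n, ∃ N, maximalIdeal S.carrier ^ N ≤ RingHom.ker (π n).1 := by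
    intro n
    obtain ⟨N, hN⟩ := hopen n
    refine ⟨N, ?_⟩
    rw [← hmkm, ← Ideal.map_pow, Ideal.map_le_iff_le_comap]
    intro w hw
    rw [Ideal.mem_comap, RingHom.mem_ker]
    change π₀ n (mk w) = 0
    rw [hπmk]
    exact (hJmem n w).1 (hN hw)
  have hchev : ∀ N, ∃ q, J q ≤ Jinf ⊔ maximalIdeal W.carrier ^ N :=
    fun N => Groth.Agent.Lib.Helper58.Schl.chevalley J hanti hopen N
  refine ⟨S, π, ?_, ?_, ?_, ?_, hpow_le_ker⟩
  · intro n
    apply Subtype.ext
    apply AlgHom.ext
    intro s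
    obtain ⟨w, rfl⟩ := hmks s
    change f n (π₀ (n + 1) (mk w)) = π₀ n (mk w)
    rw [hπmk, hπmk, hu']
  · intro n a
    obtain ⟨w, rfl⟩ := hus n a
    exact ⟨mk w, hπmk n w⟩
  · intro a ha
    -- uniqueness
    have huniq : ∀ s s' : S.carrier, (∀ n, (π n).1 s = a n) → (∀ n, (π n).1 s' = a n) → s = s' := by
      intro s s' hs hs'
      obtain ⟨w, rfl⟩ := hmks s
      obtain ⟨w', rfl⟩ := hmks s'
      rw [← sub_eq_zero, ← map_sub, hmk0]
      rw [Submodule.mem_iInf]
      intro n
      rw [hJmem, map_sub, sub_eq_zero]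
      have h1 := hs n
      have h2 := hs' n
      rw [hπ, hπmk] at h1 h2
      rw [h1, h2]
    -- existence
    choose q hq using hchev
    let Q : ℕ → ℕ := fun N => (Finset.range (N + 1)).sup q + N
    have hQmono : Monotone Q := by
      intro x y hxy
      have : (Finset.range (x + 1)).sup q ≤ (Finset.range (y + 1)).sup q :=
        Finset.sup_mono (Finset.range_mono (by omega))
      change (Finset.range (x + 1)).sup q + x ≤ (Finset.range (y + 1)).sup q + y
      omega
    have hQq : ∀ N, q N ≤ Q N := by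
      intro N
      have : q N ≤ (Finset.range (N + 1)).sup q :=
        Finset.le_sup (f := q) (Finset.mem_range.2 (Nat.lt_succ_self N))
      change q N ≤ (Finset.range (N + 1)).sup q + N
      omega
    have hQN : ∀ N, N ≤ Q N := fun N => Nat.le_add_left _ _
    choose w hw using fun N => hus (Q N) (a (Q N))
    have hwn : ∀ n N, n ≤ Q N → (u n).1 (w N) = a n := by
      intro n N h
      rw [← hutr h, hw, tr_apply_of_compat A f a ha h]
    have hcauchy : ∀ {M N : ℕ}, M ≤ N → mk (w M) - mk (w N) ∈ maximalIdeal S.carrier ^ M := by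
      intro M N hMN
      rw [← map_sub]
      apply hmkpow
      apply hq M
      apply hanti (hQq M)
      rw [hJmem, map_sub, hwn (Q M) M le_rfl, hwn (Q M) N (hQmono hMN), sub_self]
    haveI := S.isAdicComplete
    obtain ⟨s, hs⟩ := IsPrecomplete.prec (I := maximalIdeal S.carrier) (M := S.carrier)
      inferInstance (f := fun N => mk (w N)) (by
        intro M N hMN
        rw [SModEq.sub_mem, smul_eq_mul, Ideal.mul_top]
        exact hcauchy hMN)
    have hs' : ∀ N, mk (w N) - s ∈ maximalIdeal S.carrier ^ N := by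
      intro N
      have := hs N
      rwa [SModEq.sub_mem, smul_eq_mul, Ideal.mul_top] at this
    have hsa : ∀ n, (π n).1 s = a n := by
      intro n
      obtain ⟨N₀, hN₀⟩ := hpow_le_ker n
      let N := max N₀ n
      have h1 : mk (w N) - s ∈ RingHom.ker (π n).1 :=
        hN₀ (Ideal.pow_le_pow_right (le_max_left N₀ n) (hs' N))
      rw [RingHom.mem_ker, map_sub, sub_eq_zero] at h1
      rw [← h1, hπ, hπmk]
      exact hwn n N ((le_max_right N₀ n).trans (hQN N))
    exact ⟨s, hsa, fun s' hs'' => huniq s' s hs'' hsa⟩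
  · intro n
    obtain ⟨q, hq⟩ := hchev n
    refine ⟨q, ?_⟩
    intro s hs
    obtain ⟨w, rfl⟩ := hmks s
    rw [RingHom.mem_ker] at hs
    change π₀ q (mk w) = 0 at hs
    rw [hπmk] at hs
    exact hmkpow n w (hq ((hJmem q w).2 hs))

end Groth.Agent.Lib.Helper58.Lim
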