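/-
Helper library (helper58): ring-level preliminaries for the pushout of two closed immersions:
the fibre product of rings as a subring of the product, and the converse localization lemma for
fibre squares.
-/
import Mathlib
import Groth.Agent.Lib.Helper61.FibSq5

set_option autoImplicit false
universe u

namespace Groth.Agent.Lib.Helper58.ClPushout

open Groth.Agent.Lib.Helper61

section FP

variable {B A' A : Type*} [CommRing B] [CommRing A'] [CommRing A]

/-- The fibre product `B ×_A A'` as a subring of `B × A'`. -/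
def FP (q : B →+* A) (p : A' →+* A) : Subring (B × A') :=
  RingHom.eqLocus (q.comp (RingHom.fst B A')) (p.comp (RingHom.snd B A'))

variable (q : B →+* A) (p : A' →+* A)

theorem mem_FP {x : B × A'} : x ∈ FP q p ↔ q x.1 = p x.2 := Iff.rfl

/-- First projection. -/
def FP.fst : FP q p →+* B := (RingHom.fst B A').comp (FP q p).subtype

/-- Second projection. -/
def FP.snd : FP q p →+* A' := (RingHom.snd B A').comp (FP q p).subtype

@[simp] theorem FP.fst_apply (x : FP q p) : FP.fst q p x = x.1.1 := rfl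
@[simp] theorem FP.snd_apply (x : FP q p) : FP.snd q p x = x.1.2 := rfl

theorem FP.comm (x : FP q p) : q (FP.fst q p x) = p (FP.snd q p x) := x.2

theorem FP.ext {x y : FP q p} (h1 : FP.fst q p x = FP.fst q p y)
    (h2 : FP.snd q p x = FP.snd q p y) : x = y :=
  Subtype.ext (Prod.ext h1 h2)

theorem fibSq_FP (hp : Function.Surjective p) : FibSq (FP.fst q p) (FP.snd q p) q p :=
  ⟨FP.comm q p, hp, fun b a' h => ⟨⟨(b, a'), h⟩, rfl, rfl⟩, fun _ _ h1 h2 => FP.ext q p h1 h2⟩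

/-- The map between fibre products induced by a map of cospans. -/
def FP.map {B₂ A₂' A₂ : Type*} [CommRing B₂] [CommRing A₂'] [CommRing A₂]
    (q₂ : B₂ →+* A₂) (p₂ : A₂' →+* A₂) (β : B →+* B₂) (α' : A' →+* A₂') (α : A →+* A₂)
    (hq : q₂.comp β = α.comp q) (hp : p₂.comp α' = α.comp p) : FP q p →+* FP q₂ p₂ :=
  ((β.comp (FP.fst q p)).prod (α'.comp (FP.snd q p))).codRestrict (FP q₂ p₂) (fun x => by
    change q₂ (β x.1.1) = p₂ (α' x.1.2)
    have h1 : q₂ (β x.1.1) = α (q x.1.1) := congr($hq x.1.1)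
    have h2 : p₂ (α' x.1.2) = α (p x.1.2) := congr($hp x.1.2)
    rw [h1, h2, show q x.1.1 = p x.1.2 from x.2])

@[simp] theorem FP.fst_map {B₂ A₂' A₂ : Type*} [CommRing B₂] [CommRing A₂'] [CommRing A₂]
    (q₂ : B₂ →+* A₂) (p₂ : A₂' →+* A₂) (β : B →+* B₂) (α' : A' →+* A₂') (α : A →+* A₂)
    (hq : q₂.comp β = α.comp q) (hp : p₂.comp α' = α.comp p) (x : FP q p) :
    FP.fst q₂ p₂ (FP.map q p q₂ p₂ β α' α hq hp x) = β (FP.fst q p x) := rfl

@[simp] theorem FP.snd_map {B₂ A₂' A₂ : Type*} [CommRing B₂] [CommRing A₂'] [CommRing A₂]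
    (q₂ : B₂ →+* A₂) (p₂ : A₂' →+* A₂) (β : B →+* B₂) (α' : A' →+* A₂') (α : A →+* A₂)
    (hq : q₂.comp β = α.comp q) (hp : p₂.comp α' = α.comp p) (x : FP q p) :
    FP.snd q₂ p₂ (FP.map q p q₂ p₂ β α' α hq hp x) = α' (FP.snd q p x) := rfl

end FP

section CL

variable {C B A' A C₂ B₂ A₂' A₂ : Type*} [CommRing C] [CommRing B] [CommRing A'] [CommRing A]
  [CommRing C₂] [CommRing B₂] [CommRing A₂'] [CommRing A₂]
  {f : C →+* B} {s : C →+* A'} {q : B →+* A} {p : A' →+* A}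
  {f₂ : C₂ →+* B₂} {s₂ : C₂ →+* A₂'} {q₂ : B₂ →+* A₂} {p₂ : A₂' →+* A₂}

/-- Converse localization lemma: a map of fibre squares which is a localization away from the
images of `c` on the three outer corners is a localization away from `c` on the fibre product. -/
theorem isLocalizationAway_of_fibSq (h : FibSq f s q p) (h₂ : FibSq f₂ s₂ q₂ p₂)
    (γ : C →+* C₂) (β : B →+* B₂) (α' : A' →+* A₂') (α : A →+* A₂)
    (hf : f₂.comp γ = β.comp f) (hs : s₂.comp γ = α'.comp s)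
    (hq : q₂.comp β = α.comp q) (hp : p₂.comp α' = α.comp p) (c : C)
    (hB : @IsLocalization.Away B _ (f c) B₂ _ β.toAlgebra)
    (hA' : @IsLocalization.Away A' _ (s c) A₂' _ α'.toAlgebra)
    (hA : @IsLocalization.Away A _ (q (f c)) A₂ _ α.toAlgebra) :
    @IsLocalization.Away C _ c C₂ _ γ.toAlgebra := by
  letI := γ.toAlgebra
  letI := β.toAlgebra
  letI := α'.toAlgebra
  letI := α.toAlgebra
  have hf' : ∀ x, f₂ (γ x) = β (f x) := fun x => congr($hf x)
  have hs' : ∀ x, s₂ (γ x) = α' (s x) := fun x => congr($hs x)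
  have hq' : ∀ x, q₂ (β x) = α (q x) := fun x => congr($hq x)
  have hp' : ∀ x, p₂ (α' x) = α (p x) := fun x => congr($hp x)
  have uB : IsUnit (β (f c)) := IsLocalization.Away.algebraMap_isUnit (S := B₂) (f c)
  have uA' : IsUnit (α' (s c)) := IsLocalization.Away.algebraMap_isUnit (S := A₂') (s c)
  have uA : IsUnit (α (q (f c))) := IsLocalization.Away.algebraMap_isUnit (S := A₂) (q (f c))
  refine IsLocalization.Away.mk c ?_ ?_ ?_
  · -- `γ c` is a unit
    change IsUnit (γ c)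
    obtain ⟨u, hu⟩ := uB
    obtain ⟨v, hv⟩ := uA'
    have hcompat : q₂ (↑u⁻¹ : B₂) = p₂ (↑v⁻¹ : A₂') := by
      have h1 : q₂ (↑u⁻¹ : B₂) * α (q (f c)) = 1 := by
        rw [← hq', ← hu, ← map_mul, Units.inv_mul, map_one]
      have h2 : p₂ (↑v⁻¹ : A₂') * α (q (f c)) = 1 := by
        rw [h.comm c, ← hp', ← hv, ← map_mul, Units.inv_mul, map_one]
      calc q₂ (↑u⁻¹ : B₂) = q₂ (↑u⁻¹ : B₂) * (p₂ (↑v⁻¹ : A₂') * α (q (f c))) := by
            rw [h2, mul_one]
        _ = (q₂ (↑u⁻¹ : B₂) * α (q (f c))) * p₂ (↑v⁻¹ : A₂') := by ring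
        _ = p₂ (↑v⁻¹ : A₂') := by rw [h1, one_mul]
    obtain ⟨d, hd1, hd2⟩ := h₂.lift _ _ hcompat
    refine IsUnit.of_mul_eq_one d (h₂.inj _ _ ?_ ?_)
    · rw [map_mul, map_one, hf', hd1, ← hu, Units.mul_inv]
    · rw [map_mul, map_one, hs', hd2, ← hv, Units.mul_inv]
  · -- surjectivity
    intro z
    change ∃ (n : ℕ) (a : C), z * γ c ^ n = γ a
    obtain ⟨n₁, b, hb⟩ := IsLocalization.Away.surj (f c) (f₂ z)
    obtain ⟨n₂, a', ha'⟩ := IsLocalization.Away.surj (s c) (s₂ z)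
    change f₂ z * β (f c) ^ n₁ = β b at hb
    change s₂ z * α' (s c) ^ n₂ = α' a' at ha'
    -- common exponent
    have hb' : f₂ z * β (f c) ^ (n₁ + n₂) = β (b * f c ^ n₂) := by
      rw [pow_add, ← mul_assoc, hb, map_mul, map_pow]
    have ha'' : s₂ z * α' (s c) ^ (n₁ + n₂) = α' (a' * s c ^ n₁) := by
      rw [add_comm, pow_add, ← mul_assoc, ha', map_mul, map_pow]
    generalize b * f c ^ n₂ = b₁ at hb'
    generalize a' * s c ^ n₁ = a₁ at ha''
    have hα : α (q b₁) = α (p a₁) := by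
      rw [← hq', ← hp', ← hb', ← ha'', map_mul, map_mul, map_pow, map_pow, hq', hp', h₂.comm z,
        h.comm c]
    obtain ⟨N, hN⟩ := IsLocalization.Away.exists_of_eq (S := A₂) (q (f c)) hα
    have hcompat : q (b₁ * f c ^ N) = p (a₁ * s c ^ N) := by
      rw [map_mul, map_mul, map_pow, map_pow, ← h.comm c, mul_comm, hN, mul_comm]
    obtain ⟨x, hx1, hx2⟩ := h.lift _ _ hcompat
    refine ⟨n₁ + n₂ + N, x, h₂.inj _ _ ?_ ?_⟩
    · rw [map_mul, map_pow, hf', hf', hx1, map_mul, map_pow, pow_add, ← mul_assoc, hb']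
    · rw [map_mul, map_pow, hs', hs', hx2, map_mul, map_pow, pow_add, ← mul_assoc, ha'']
  · -- kernel
    intro x y hxy
    change γ x = γ y at hxy
    have h1 : β (f x) = β (f y) := by rw [← hf', ← hf', hxy]
    have h2 : α' (s x) = α' (s y) := by rw [← hs', ← hs', hxy]
    obtain ⟨n₁, hn₁⟩ := IsLocalization.Away.exists_of_eq (S := B₂) (f c) h1
    obtain ⟨n₂, hn₂⟩ := IsLocalization.Away.exists_of_eq (S := A₂') (s c) h2
    refine ⟨n₁ + n₂, h.inj _ _ ?_ ?_⟩
    · rw [map_mul, map_mul, map_pow, pow_add, mul_comm (f c ^ n₁), mul_assoc, mul_assoc, hn₁]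
    · rw [map_mul, map_mul, map_pow, pow_add, mul_assoc, mul_assoc, hn₂]

end CL

end Groth.Agent.Lib.Helper58.ClPushout
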