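/-
Helper library (helper58): the diagram of affine charts for the pushout of two closed immersions.
-/
import Mathlib
import Groth.Agent.Lib.Helper58.ClPushoutRing

set_option autoImplicit false
universe u

open AlgebraicGeometry CategoryTheory Limits

namespace Groth.Agent.Lib.Helper58.ClPushout

open Groth.Agent.Lib.Helper61

variable {X Y Z : Scheme.{u}} (i : Z ⟶ X) (j : Z ⟶ Y)

/-- A pair of affine opens of `X` and `Y` with the same trace on `Z`. -/
structure GoodPair where
  U : X.Opens
  V : Y.Opens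
  hU : IsAffineOpen U
  hV : IsAffineOpen V
  h : i ⁻¹ᵁ U = j ⁻¹ᵁ V

namespace GoodPair

variable {i j}

@[ext] theorem ext' {k l : GoodPair i j} (h1 : k.U = l.U) (h2 : k.V = l.V) : k = l := by
  cases k; cases l; simp_all

instance : PartialOrder (GoodPair i j) where
  le k l := k.U ≤ l.U ∧ k.V ≤ l.V
  le_refl k := ⟨le_rfl, le_rfl⟩
  le_trans _ _ _ h1 h2 := ⟨h1.1.trans h2.1, h1.2.trans h2.2⟩
  le_antisymm _ _ h1 h2 := ext' (le_antisymm h1.1 h2.1) (le_antisymm h1.2 h2.2)

theorem le_def {k l : GoodPair i j} : k ≤ l ↔ k.U ≤ l.U ∧ k.V ≤ l.V := Iff.rfl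

/-- The common trace on `Z`. -/
abbrev W (k : GoodPair i j) : Z.Opens := i ⁻¹ᵁ k.U

theorem W_le_of_le {k l : GoodPair i j} (h : k ≤ l) : k.W ≤ l.W :=
  fun _ hx => h.1 hx

/-- `Γ(X, U) → Γ(Z, W)`. -/
noncomputable def q (k : GoodPair i j) : Γ(X, k.U) →+* Γ(Z, k.W) :=
  (i.appLE k.U k.W le_rfl).hom

/-- `Γ(Y, V) → Γ(Z, W)`. -/
noncomputable def p (k : GoodPair i j) : Γ(Y, k.V) →+* Γ(Z, k.W) :=
  (j.appLE k.V k.W k.h.le).hom

/-- The ring of the chart: `Γ(X, U) ×_{Γ(Z, W)} Γ(Y, V)`. -/
noncomputable abbrev C (k : GoodPair i j) : Subring (Γ(X, k.U) × Γ(Y, k.V)) := FP k.q k.p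

theorem p_surjective [IsClosedImmersion j] (k : GoodPair i j) : Function.Surjective k.p := by
  have h1 : Function.Surjective (j.app k.V) := j.app_surjective k.V k.hV
  have h2 : Function.Bijective (Z.presheaf.map (homOfLE k.h.le).op) := by
    rw [← ConcreteCategory.isIso_iff_bijective]
    have : IsIso (homOfLE k.h.le) := ⟨homOfLE k.h.ge, Subsingleton.elim _ _, Subsingleton.elim _ _⟩
    infer_instance
  exact h2.surjective.comp h1

theorem q_surjective [IsClosedImmersion i] (k : GoodPair i j) : Function.Surjective k.q := by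
  have h1 : Function.Surjective (i.app k.U) := i.app_surjective k.U k.hU
  have : k.q = (i.app k.U).hom := by
    unfold q
    rw [Scheme.Hom.appLE_eq_app]
  rw [this]
  exact h1

theorem fibSq [IsClosedImmersion j] (k : GoodPair i j) :
    FibSq (FP.fst k.q k.p) (FP.snd k.q k.p) k.q k.p :=
  fibSq_FP k.q k.p k.p_surjective

/-- Restriction maps between chart rings. -/
noncomputable def res {k l : GoodPair i j} (h : k ≤ l) : l.C →+* k.C :=
  FP.map l.q l.p k.q k.p (X.presheaf.map (homOfLE h.1).op).hom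
    (Y.presheaf.map (homOfLE h.2).op).hom (Z.presheaf.map (homOfLE (W_le_of_le h)).op).hom
    (by
      unfold q
      rw [← CommRingCat.hom_comp, ← CommRingCat.hom_comp, Scheme.Hom.map_appLE,
        Scheme.Hom.appLE_map])
    (by
      unfold p
      rw [← CommRingCat.hom_comp, ← CommRingCat.hom_comp, Scheme.Hom.map_appLE,
        Scheme.Hom.appLE_map])

@[simp] theorem fst_res {k l : GoodPair i j} (h : k ≤ l) (x : l.C) :
    FP.fst k.q k.p (res h x) = X.presheaf.map (homOfLE h.1).op (FP.fst l.q l.p x) := rfl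

@[simp] theorem snd_res {k l : GoodPair i j} (h : k ≤ l) (x : l.C) :
    FP.snd k.q k.p (res h x) = Y.presheaf.map (homOfLE h.2).op (FP.snd l.q l.p x) := rfl

theorem res_id (k : GoodPair i j) : res (le_refl k) = RingHom.id _ := by
  ext x
  · change X.presheaf.map (homOfLE _).op _ = _
    rw [show homOfLE (le_refl k).1 = 𝟙 k.U from rfl, op_id, X.presheaf.map_id]
    rfl
  · change Y.presheaf.map (homOfLE _).op _ = _
    rw [show homOfLE (le_refl k).2 = 𝟙 k.V from rfl, op_id, Y.presheaf.map_id]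
    rfl

theorem res_comp {k l m : GoodPair i j} (h1 : k ≤ l) (h2 : l ≤ m) :
    (res h1).comp (res h2) = res (h1.trans h2) := by
  ext x
  · change X.presheaf.map (homOfLE _).op (X.presheaf.map (homOfLE _).op _) = 
      X.presheaf.map (homOfLE _).op _
    rw [← CommRingCat.comp_apply, ← X.presheaf.map_comp]
    rfl
  · change Y.presheaf.map (homOfLE _).op (Y.presheaf.map (homOfLE _).op _) = 
      Y.presheaf.map (homOfLE _).op _
    rw [← CommRingCat.comp_apply, ← Y.presheaf.map_comp]
    rfl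

end GoodPair

end Groth.Agent.Lib.Helper58.ClPushout
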