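/-
Helper library (helper58): the functor of affine charts for the pushout of two closed immersions and
the description of the points of the charts.
-/
import Mathlib
import Groth.Agent.Lib.Helper58.ClPushoutDiag

set_option autoImplicit false
universe u

open AlgebraicGeometry CategoryTheory Limits

namespace Groth.Agent.Lib.Helper58.ClPushout

open Groth.Agent.Lib.Helper61

/-- Two primes of `B` and `A'` with the same trace on `C` come from a prime of `A`. -/
theorem _root_.Groth.Agent.Lib.Helper61.FibSq.exists_of_comap_eq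
    {C B A' A : Type u} [CommRing C] [CommRing B] [CommRing A'] [CommRing A]
    {f : C →+* B} {s : C →+* A'} {q : B →+* A} {p : A' →+* A} (h : FibSq f s q p)
    (y : PrimeSpectrum B) (y' : PrimeSpectrum A')
    (e : PrimeSpectrum.comap f y = PrimeSpectrum.comap s y') :
    ∃ w : PrimeSpectrum A, PrimeSpectrum.comap q w = y ∧ PrimeSpectrum.comap p w = y' := by
  let _ : Algebra C B := f.toAlgebra
  let _ : Algebra C A' := s.toAlgebra
  let _ : Algebra B A := q.toAlgebra
  let _ : Algebra A' A := p.toAlgebra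
  let _ : Algebra C A := (q.comp f).toAlgebra
  have : IsScalarTower C B A := IsScalarTower.of_algebraMap_eq (fun _ => rfl)
  have : IsScalarTower C A' A := IsScalarTower.of_algebraMap_eq (fun c => h.comm c)
  have hsq : EtMil.IsFibreSquare C B A' A := by
    refine ⟨h.surj, fun b a' hba => ?_⟩
    obtain ⟨c, hc1, hc2⟩ := h.lift b a' hba
    exact ⟨c, ⟨hc1, hc2⟩, fun c' hc' => h.inj _ _ (hc'.1.trans hc1.symm) (hc'.2.trans hc2.symm)⟩
  exact Groth.Agent.H76.MilnorSpec.exists_of_comap_eq hsq y y' e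

variable {X Y Z : Scheme.{u}} (i : Z ⟶ X) (j : Z ⟶ Y)

/-- The diagram of affine charts. -/
noncomputable def F : GoodPair i j ⥤ Scheme.{u} where
  obj k := Spec (CommRingCat.of k.C)
  map {k l} h := Spec.map (CommRingCat.ofHom (GoodPair.res h.le))
  map_id k := by
    rw [show (𝟙 k : k ⟶ k).le = le_refl k from rfl, GoodPair.res_id]
    exact Spec.map_id _
  map_comp {k l m} f g := by
    rw [← Spec.map_comp, ← CommRingCat.ofHom_comp, GoodPair.res_comp]

variable {i j}

namespace GoodPair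

/-- The closed immersion `Spec Γ(X, U) → Spec C`. -/
noncomputable def aS (k : GoodPair i j) : Spec Γ(X, k.U) ⟶ (F i j).obj k :=
  Spec.map (CommRingCat.ofHom (FP.fst k.q k.p))

/-- The closed immersion `Spec Γ(Y, V) → Spec C`. -/
noncomputable def bS (k : GoodPair i j) : Spec Γ(Y, k.V) ⟶ (F i j).obj k :=
  Spec.map (CommRingCat.ofHom (FP.snd k.q k.p))

theorem aS_naturality {k l : GoodPair i j} (h : k ⟶ l) :
    Spec.map (X.presheaf.map (homOfLE h.le.1).op) ≫ l.aS = k.aS ≫ (F i j).map h := by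
  change Spec.map _ ≫ Spec.map _ = Spec.map _ ≫ Spec.map _
  rw [← Spec.map_comp, ← Spec.map_comp]
  rfl

theorem bS_naturality {k l : GoodPair i j} (h : k ⟶ l) :
    Spec.map (Y.presheaf.map (homOfLE h.le.2).op) ≫ l.bS = k.bS ≫ (F i j).map h := by
  change Spec.map _ ≫ Spec.map _ = Spec.map _ ≫ Spec.map _
  rw [← Spec.map_comp, ← Spec.map_comp]
  rfl

/-- The point of the chart given by a point of `U`. -/
noncomputable def ax (k : GoodPair i j) (x : X) (hx : x ∈ k.U) : (F i j).obj k :=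
  k.aS (k.hU.primeIdealOf ⟨x, hx⟩)

/-- The point of the chart given by a point of `V`. -/
noncomputable def by' (k : GoodPair i j) (y : Y) (hy : y ∈ k.V) : (F i j).obj k :=
  k.bS (k.hV.primeIdealOf ⟨y, hy⟩)

theorem primeIdealOf_res {T : Scheme.{u}} {U V : T.Opens} (hU : IsAffineOpen U)
    (hV : IsAffineOpen V) (h : U ≤ V) (x : T) (hx : x ∈ U) :
    Spec.map (T.presheaf.map (homOfLE h).op) (hU.primeIdealOf ⟨x, hx⟩) =
      hV.primeIdealOf ⟨x, h hx⟩ := by
  apply hV.fromSpec.isOpenEmbedding.injective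
  rw [← Scheme.Hom.comp_apply, hV.map_fromSpec hU, hU.fromSpec_primeIdealOf,
    hV.fromSpec_primeIdealOf]

theorem primeIdealOf_surjective {T : Scheme.{u}} {U : T.Opens} (hU : IsAffineOpen U)
    (u : Spec Γ(T, U)) : ∃ (x : T) (hx : x ∈ U), hU.primeIdealOf ⟨x, hx⟩ = u := by
  have hx : hU.fromSpec u ∈ U := by
    have : hU.fromSpec u ∈ Set.range hU.fromSpec := ⟨u, rfl⟩
    rwa [hU.range_fromSpec] at this
  refine ⟨hU.fromSpec u, hx, ?_⟩
  apply hU.fromSpec.isOpenEmbedding.injective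
  rw [hU.fromSpec_primeIdealOf]

theorem map_ax {k l : GoodPair i j} (h : k ⟶ l) (x : X) (hx : x ∈ k.U) :
    (F i j).map h (k.ax x hx) = l.ax x (h.le.1 hx) := by
  unfold ax
  rw [← Scheme.Hom.comp_apply, ← aS_naturality, Scheme.Hom.comp_apply,
    primeIdealOf_res k.hU l.hU h.le.1]

theorem map_by {k l : GoodPair i j} (h : k ⟶ l) (y : Y) (hy : y ∈ k.V) :
    (F i j).map h (k.by' y hy) = l.by' y (h.le.2 hy) := by
  unfold by'
  rw [← Scheme.Hom.comp_apply, ← bS_naturality, Scheme.Hom.comp_apply,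
    primeIdealOf_res k.hV l.hV h.le.2]

section closed

variable [IsClosedImmersion i] [IsClosedImmersion j]

theorem fst_surjective (k : GoodPair i j) : Function.Surjective (FP.fst k.q k.p) :=
  k.fibSq.f_surjective

theorem snd_surjective (k : GoodPair i j) : Function.Surjective (FP.snd k.q k.p) := by
  intro a'
  obtain ⟨b, hb⟩ := k.q_surjective (k.p a')
  exact ⟨⟨(b, a'), hb⟩, rfl⟩

instance (k : GoodPair i j) : IsClosedImmersion k.aS :=
  IsClosedImmersion.spec_of_surjective _ k.fst_surjective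

instance (k : GoodPair i j) : IsClosedImmersion k.bS :=
  IsClosedImmersion.spec_of_surjective _ k.snd_surjective

theorem ax_injective (k : GoodPair i j) {x x' : X} {hx : x ∈ k.U} {hx' : x' ∈ k.U}
    (h : k.ax x hx = k.ax x' hx') : x = x' := by
  have h1 := (Scheme.Hom.isClosedEmbedding k.aS).injective h
  have h2 := congrArg k.hU.fromSpec h1
  rwa [k.hU.fromSpec_primeIdealOf, k.hU.fromSpec_primeIdealOf] at h2

theorem by_injective (k : GoodPair i j) {y y' : Y} {hy : y ∈ k.V} {hy' : y' ∈ k.V}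
    (h : k.by' y hy = k.by' y' hy') : y = y' := by
  have h1 := (Scheme.Hom.isClosedEmbedding k.bS).injective h
  have h2 := congrArg k.hV.fromSpec h1
  rwa [k.hV.fromSpec_primeIdealOf, k.hV.fromSpec_primeIdealOf] at h2

/-- Every point of the chart comes from `U` or from `V`. -/
theorem exists_ax_or_by (k : GoodPair i j) (ξ : (F i j).obj k) :
    (∃ (x : X) (hx : x ∈ k.U), k.ax x hx = ξ) ∨ (∃ (y : Y) (hy : y ∈ k.V), k.by' y hy = ξ) := by
  rcases k.fibSq.exists_prime ξ with ⟨u, hu⟩ | ⟨v, -, -, -, hv⟩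
  · left
    obtain ⟨x, hx, rfl⟩ := primeIdealOf_surjective k.hU u
    exact ⟨x, hx, hu⟩
  · right
    obtain ⟨y, hy, rfl⟩ := primeIdealOf_surjective k.hV v
    exact ⟨y, hy, hv⟩

theorem W_isAffineOpen (k : GoodPair i j) : IsAffineOpen k.W :=
  k.hU.preimage i

/-- Points of `U` and `V` with the same image in the chart come from a point of `Z`. -/
theorem exists_of_ax_eq_by (k : GoodPair i j) {x : X} {hx : x ∈ k.U} {y : Y} {hy : y ∈ k.V}
    (h : k.ax x hx = k.by' y hy) : ∃ z : Z, i z = x ∧ j z = y := by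
  obtain ⟨w, hw1, hw2⟩ := k.fibSq.exists_of_comap_eq _ _ h
  refine ⟨k.W_isAffineOpen.fromSpec w, ?_, ?_⟩
  · have h1 : Spec.map (i.appLE k.U k.W le_rfl) w = k.hU.primeIdealOf ⟨x, hx⟩ := hw1
    have h2 := congrArg k.hU.fromSpec h1
    rw [k.hU.fromSpec_primeIdealOf, ← Scheme.Hom.comp_apply,
      IsAffineOpen.SpecMap_appLE_fromSpec i k.hU k.W_isAffineOpen] at h2
    exact h2
  · have h1 : Spec.map (j.appLE k.V k.W k.h.le) w = k.hV.primeIdealOf ⟨y, hy⟩ := hw2
    have h2 := congrArg k.hV.fromSpec h1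
    rw [k.hV.fromSpec_primeIdealOf, ← Scheme.Hom.comp_apply,
      IsAffineOpen.SpecMap_appLE_fromSpec j k.hV k.W_isAffineOpen] at h2
    exact h2

theorem zS_comm (k : GoodPair i j) :
    Spec.map (CommRingCat.ofHom k.q) ≫ k.aS = Spec.map (CommRingCat.ofHom k.p) ≫ k.bS := by
  change Spec.map _ ≫ Spec.map _ = Spec.map _ ≫ Spec.map _
  rw [← Spec.map_comp, ← Spec.map_comp, ← CommRingCat.ofHom_comp, ← CommRingCat.ofHom_comp]
  congr 2
  ext c
  exact FP.comm k.q k.p c

/-- Conversely the two images of a point of `Z` agree in the chart. -/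
theorem ax_eq_by (k : GoodPair i j) (z : Z) (hz : i z ∈ k.U) :
    k.ax (i z) hz = k.by' (j z) (show z ∈ j ⁻¹ᵁ k.V from k.h ▸ hz) := by
  have hzW : z ∈ k.W := hz
  have e1 := IsAffineOpen.comap_primeIdealOf_appLE (f := i) k.U k.hU k.W k.W_isAffineOpen le_rfl hzW
  have e2 := IsAffineOpen.comap_primeIdealOf_appLE (f := j) k.V k.hV k.W k.W_isAffineOpen k.h.le hzW
  have e1' : Spec.map (CommRingCat.ofHom k.q) (k.W_isAffineOpen.primeIdealOf ⟨z, hzW⟩) =
      k.hU.primeIdealOf ⟨i z, hz⟩ := e1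
  have e2' : Spec.map (CommRingCat.ofHom k.p) (k.W_isAffineOpen.primeIdealOf ⟨z, hzW⟩) =
      k.hV.primeIdealOf ⟨j z, k.h.le hzW⟩ := e2
  unfold ax by'
  rw [← e1', ← e2', ← Scheme.Hom.comp_apply, ← Scheme.Hom.comp_apply, zS_comm]

end closed

end GoodPair

end Groth.Agent.Lib.Helper58.ClPushout
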