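/-
Helper library (helper58): existence of good affine pairs inside a given pair of opens with the same
trace on `Z`.
-/
import Mathlib
import Groth.Agent.Lib.Helper58.ClPushoutChart

set_option autoImplicit false
universe u

open AlgebraicGeometry CategoryTheory Limits

namespace Groth.Agent.Lib.Helper58.ClPushout

variable {X Y Z : Scheme.{u}} {i : Z ⟶ X} {j : Z ⟶ Y} [IsClosedImmersion i] [IsClosedImmersion j]

/-- Around a point of `Z` there are good affine pairs inside any pair of open neighbourhoods. -/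
theorem exists_goodPair_of_mem_Z (U₀ : X.Opens) (V₀ : Y.Opens) (z : Z) (hzU : i z ∈ U₀)
    (hzV : j z ∈ V₀) :
    ∃ k : GoodPair i j, i z ∈ k.U ∧ j z ∈ k.V ∧ k.U ≤ U₀ ∧ k.V ≤ V₀ := by
  obtain ⟨_, ⟨U₁, hU₁ : IsAffineOpen U₁, rfl⟩, hzU₁, hU₁U₀⟩ :=
    X.isBasis_affineOpens.exists_subset_of_mem_open hzU U₀.isOpen
  obtain ⟨_, ⟨V₁, hV₁ : IsAffineOpen V₁, rfl⟩, hzV₁, hV₁V₀⟩ :=
    Y.isBasis_affineOpens.exists_subset_of_mem_open hzV V₀.isOpen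
  have hW₁ : IsAffineOpen (i ⁻¹ᵁ U₁) := hU₁.preimage i
  have hW₁' : IsAffineOpen (j ⁻¹ᵁ V₁) := hV₁.preimage j
  -- first shrink `U₁`
  obtain ⟨f', hf'1, hf'2⟩ := hW₁.exists_basicOpen_le (V := j ⁻¹ᵁ V₁) ⟨z, hzV₁⟩ hzU₁
  obtain ⟨f, rfl⟩ := i.app_surjective U₁ hU₁ f'
  have hU₂ : IsAffineOpen (X.basicOpen f) := hU₁.basicOpen f
  have eU₂ : i ⁻¹ᵁ (X.basicOpen f) = Z.basicOpen (i.app U₁ f) := Scheme.preimage_basicOpen i f
  -- then shrink `V₁`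
  obtain ⟨g', hg'1, hg'2⟩ := hW₁'.exists_basicOpen_le (V := Z.basicOpen (i.app U₁ f)) ⟨z, hf'2⟩ hzV₁
  obtain ⟨g, rfl⟩ := j.app_surjective V₁ hV₁ g'
  have hV₂ : IsAffineOpen (Y.basicOpen g) := hV₁.basicOpen g
  have eV₂ : j ⁻¹ᵁ (Y.basicOpen g) = Z.basicOpen (j.app V₁ g) := Scheme.preimage_basicOpen j g
  -- finally shrink `U₂`
  have hle : i ⁻¹ᵁ (X.basicOpen f) ≤ j ⁻¹ᵁ V₁ := eU₂ ▸ hf'1
  obtain ⟨h, hh⟩ := i.app_surjective (X.basicOpen f) hU₂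
    (Z.presheaf.map (homOfLE hle).op (j.app V₁ g))
  have hU₃ : IsAffineOpen (X.basicOpen h) := hU₂.basicOpen h
  have eU₃ : i ⁻¹ᵁ (X.basicOpen h) = j ⁻¹ᵁ (Y.basicOpen g) := by
    rw [Scheme.preimage_basicOpen i h, hh, Scheme.basicOpen_res, eV₂, eU₂]
    exact inf_eq_right.mpr hg'1
  refine ⟨⟨X.basicOpen h, Y.basicOpen g, hU₃, hV₂, eU₃⟩, ?_, ?_, ?_, ?_⟩
  · change z ∈ i ⁻¹ᵁ (X.basicOpen h)
    rw [eU₃, eV₂]
    exact hg'2
  · change z ∈ j ⁻¹ᵁ (Y.basicOpen g)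
    rw [eV₂]
    exact hg'2
  · exact ((X.basicOpen_le h).trans (X.basicOpen_le f)).trans hU₁U₀
  · exact (Y.basicOpen_le g).trans hV₁V₀

/-- Around a point of `X` there are good affine pairs inside any good pair of opens. -/
theorem exists_goodPair_of_mem_X (U₀ : X.Opens) (V₀ : Y.Opens) (h₀ : i ⁻¹ᵁ U₀ = j ⁻¹ᵁ V₀) (x : X)
    (hx : x ∈ U₀) : ∃ k : GoodPair i j, x ∈ k.U ∧ k.U ≤ U₀ ∧ k.V ≤ V₀ := by
  by_cases hxi : x ∈ Set.range i
  · obtain ⟨z, rfl⟩ := hxi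
    have hzV : j z ∈ V₀ := by
      have : z ∈ i ⁻¹ᵁ U₀ := hx
      rw [h₀] at this
      exact this
    obtain ⟨k, h1, -, h3, h4⟩ := exists_goodPair_of_mem_Z U₀ V₀ z hx hzV
    exact ⟨k, h1, h3, h4⟩
  · have hopen : IsOpen ((U₀ : Set X) ∩ (Set.range i)ᶜ) :=
      U₀.isOpen.inter (Scheme.Hom.isClosedEmbedding i).isClosed_range.isOpen_compl
    obtain ⟨_, ⟨U₁, hU₁ : IsAffineOpen U₁, rfl⟩, hxU₁, hU₁U₀⟩ :=
      X.isBasis_affineOpens.exists_subset_of_mem_open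
        (show x ∈ (U₀ : Set X) ∩ (Set.range i)ᶜ from ⟨hx, hxi⟩) hopen
    refine ⟨⟨U₁, ⊥, hU₁, isAffineOpen_bot Y, ?_⟩, hxU₁, fun y hy => (hU₁U₀ hy).1, bot_le⟩
    ext z
    simp only [TopologicalSpace.Opens.map_coe, Set.mem_preimage, SetLike.mem_coe,
      TopologicalSpace.Opens.coe_bot, Set.mem_empty_iff_false, iff_false]
    intro hz
    exact (hU₁U₀ hz).2 ⟨z, rfl⟩

/-- Around a point of `Y` there are good affine pairs inside any good pair of opens. -/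
theorem exists_goodPair_of_mem_Y (U₀ : X.Opens) (V₀ : Y.Opens) (h₀ : i ⁻¹ᵁ U₀ = j ⁻¹ᵁ V₀) (y : Y)
    (hy : y ∈ V₀) : ∃ k : GoodPair i j, y ∈ k.V ∧ k.U ≤ U₀ ∧ k.V ≤ V₀ := by
  by_cases hyj : y ∈ Set.range j
  · obtain ⟨z, rfl⟩ := hyj
    have hzU : i z ∈ U₀ := by
      have : z ∈ j ⁻¹ᵁ V₀ := hy
      rw [← h₀] at this
      exact this
    obtain ⟨k, -, h2, h3, h4⟩ := exists_goodPair_of_mem_Z U₀ V₀ z hzU hy
    exact ⟨k, h2, h3, h4⟩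
  · have hopen : IsOpen ((V₀ : Set Y) ∩ (Set.range j)ᶜ) :=
      V₀.isOpen.inter (Scheme.Hom.isClosedEmbedding j).isClosed_range.isOpen_compl
    obtain ⟨_, ⟨V₁, hV₁ : IsAffineOpen V₁, rfl⟩, hyV₁, hV₁V₀⟩ :=
      Y.isBasis_affineOpens.exists_subset_of_mem_open
        (show y ∈ (V₀ : Set Y) ∩ (Set.range j)ᶜ from ⟨hy, hyj⟩) hopen
    refine ⟨⟨⊥, V₁, isAffineOpen_bot X, hV₁, ?_⟩, hyV₁, bot_le, fun y hy => (hV₁V₀ hy).1⟩
    ext z
    simp only [TopologicalSpace.Opens.map_coe, Set.mem_preimage, SetLike.mem_coe,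
      TopologicalSpace.Opens.coe_bot, Set.mem_empty_iff_false, false_iff]
    intro hz
    exact (hV₁V₀ hz).2 ⟨z, rfl⟩

/-- Common refinement of two good pairs around a point of `X`. -/
theorem exists_goodPair_le_le_of_mem_X (k l : GoodPair i j) (x : X) (hk : x ∈ k.U) (hl : x ∈ l.U) :
    ∃ m : GoodPair i j, m ≤ k ∧ m ≤ l ∧ x ∈ m.U := by
  obtain ⟨m, h1, h2, h3⟩ := exists_goodPair_of_mem_X (i := i) (j := j) (k.U ⊓ l.U) (k.V ⊓ l.V) (by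
    ext z
    have e1 := congrArg (fun W : Z.Opens => z ∈ W) k.h
    have e2 := congrArg (fun W : Z.Opens => z ∈ W) l.h
    simp only [eq_iff_iff] at e1 e2
    exact and_congr e1 e2) x ⟨hk, hl⟩
  exact ⟨m, ⟨h2.trans inf_le_left, h3.trans inf_le_left⟩,
    ⟨h2.trans inf_le_right, h3.trans inf_le_right⟩, h1⟩

/-- Common refinement of two good pairs around a point of `Y`. -/
theorem exists_goodPair_le_le_of_mem_Y (k l : GoodPair i j) (y : Y) (hk : y ∈ k.V) (hl : y ∈ l.V) :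
    ∃ m : GoodPair i j, m ≤ k ∧ m ≤ l ∧ y ∈ m.V := by
  obtain ⟨m, h1, h2, h3⟩ := exists_goodPair_of_mem_Y (i := i) (j := j) (k.U ⊓ l.U) (k.V ⊓ l.V) (by
    ext z
    have e1 := congrArg (fun W : Z.Opens => z ∈ W) k.h
    have e2 := congrArg (fun W : Z.Opens => z ∈ W) l.h
    simp only [eq_iff_iff] at e1 e2
    exact and_congr e1 e2) y ⟨hk, hl⟩
  exact ⟨m, ⟨h2.trans inf_le_left, h3.trans inf_le_left⟩,
    ⟨h2.trans inf_le_right, h3.trans inf_le_right⟩, h1⟩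

end Groth.Agent.Lib.Helper58.ClPushout
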