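/-
Helper library (helper58): basic charts, the key localization lemma, and the transition maps between
the affine charts are open immersions.
-/
import Mathlib
import Groth.Agent.Lib.Helper58.ClPushoutRefine

set_option autoImplicit false
universe u

open AlgebraicGeometry CategoryTheory Limits

namespace Groth.Agent.Lib.Helper58.ClPushout

open Groth.Agent.Lib.Helper61

variable {X Y Z : Scheme.{u}} {i : Z ⟶ X} {j : Z ⟶ Y}

namespace GoodPair

/-- The basic good pair `D(c)` of a chart. -/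
noncomputable def basic (k : GoodPair i j) (c : k.C) : GoodPair i j where
  U := X.basicOpen (FP.fst k.q k.p c)
  V := Y.basicOpen (FP.snd k.q k.p c)
  hU := k.hU.basicOpen _
  hV := k.hV.basicOpen _
  h := by
    have e1 := Scheme.basicOpen_appLE i k.W k.U le_rfl (FP.fst k.q k.p c)
    have e2 := Scheme.basicOpen_appLE j k.W k.V k.h.le (FP.snd k.q k.p c)
    have e3 : (i.appLE k.U k.W le_rfl) (FP.fst k.q k.p c) =
        (j.appLE k.V k.W k.h.le) (FP.snd k.q k.p c) := FP.comm k.q k.p c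
    rw [e3, e2] at e1
    have h1 : i ⁻¹ᵁ X.basicOpen (FP.fst k.q k.p c) ≤ k.W :=
      fun z hz => X.basicOpen_le _ hz
    have h2 : j ⁻¹ᵁ Y.basicOpen (FP.snd k.q k.p c) ≤ k.W := by
      intro z hz
      have : z ∈ j ⁻¹ᵁ k.V := Y.basicOpen_le _ hz
      rwa [← k.h] at this
    rw [inf_eq_right.mpr h1, inf_eq_right.mpr h2] at e1
    exact e1.symm

theorem basic_le (k : GoodPair i j) (c : k.C) : k.basic c ≤ k :=
  ⟨X.basicOpen_le _, Y.basicOpen_le _⟩

theorem basic_W (k : GoodPair i j) (c : k.C) :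
    (k.basic c).W = Z.basicOpen (k.q (FP.fst k.q k.p c)) := by
  have e1 := Scheme.basicOpen_appLE i k.W k.U le_rfl (FP.fst k.q k.p c)
  have h1 : i ⁻¹ᵁ X.basicOpen (FP.fst k.q k.p c) ≤ k.W :=
    fun z hz => X.basicOpen_le _ hz
  rw [inf_eq_right.mpr h1] at e1
  exact e1.symm

variable [IsClosedImmersion i] [IsClosedImmersion j]

/-- Key localization lemma: the ring of the basic chart `D(c)` is the localization at `c`. -/
theorem isLocalization_basic (k : GoodPair i j) (c : k.C) :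
    @IsLocalization.Away k.C _ c (k.basic c).C _ (res (k.basic_le c)).toAlgebra := by
  refine isLocalizationAway_of_fibSq k.fibSq (k.basic c).fibSq (res (k.basic_le c))
    (X.presheaf.map (homOfLE (k.basic_le c).1).op).hom
    (Y.presheaf.map (homOfLE (k.basic_le c).2).op).hom
    (Z.presheaf.map (homOfLE (W_le_of_le (k.basic_le c))).op).hom ?_ ?_ ?_ ?_ c ?_ ?_ ?_
  · rfl
  · rfl
  · unfold q
    rw [← CommRingCat.hom_comp, ← CommRingCat.hom_comp, Scheme.Hom.map_appLE,
      Scheme.Hom.appLE_map]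
  · unfold p
    rw [← CommRingCat.hom_comp, ← CommRingCat.hom_comp, Scheme.Hom.map_appLE,
      Scheme.Hom.appLE_map]
  · exact k.hU.isLocalization_of_eq_basicOpen (FP.fst k.q k.p c) (homOfLE (k.basic_le c).1) rfl
  · exact k.hV.isLocalization_of_eq_basicOpen (FP.snd k.q k.p c) (homOfLE (k.basic_le c).2) rfl
  · exact k.W_isAffineOpen.isLocalization_of_eq_basicOpen (k.q (FP.fst k.q k.p c))
      (homOfLE (W_le_of_le (k.basic_le c))) (k.basic_W c)

/-- The transition map from a basic chart is an open immersion. -/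
theorem isOpenImmersion_map_of_eq_basic (k : GoodPair i j) (c : k.C) (m : GoodPair i j)
    (hm : m = k.basic c) (h : m ⟶ k) : IsOpenImmersion ((F i j).map h) := by
  subst hm
  letI := (res (k.basic_le c)).toAlgebra
  haveI := k.isLocalization_basic c
  exact IsOpenImmersion.of_isLocalization (R := k.C) (S := (k.basic c).C) c

theorem ax_mem_basicOpen_iff (k : GoodPair i j) (c : k.C) (x : X) (hx : x ∈ k.U) :
    k.ax x hx ∈ PrimeSpectrum.basicOpen c ↔ x ∈ X.basicOpen (FP.fst k.q k.p c) := by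
  have h1 : k.ax x hx ∈ PrimeSpectrum.basicOpen c ↔
      k.hU.primeIdealOf ⟨x, hx⟩ ∈ PrimeSpectrum.basicOpen (FP.fst k.q k.p c) := Iff.rfl
  rw [h1, ← k.hU.fromSpec_preimage_basicOpen]
  change k.hU.fromSpec (k.hU.primeIdealOf ⟨x, hx⟩) ∈ X.basicOpen _ ↔ _
  rw [k.hU.fromSpec_primeIdealOf]

theorem by_mem_basicOpen_iff (k : GoodPair i j) (c : k.C) (y : Y) (hy : y ∈ k.V) :
    k.by' y hy ∈ PrimeSpectrum.basicOpen c ↔ y ∈ Y.basicOpen (FP.snd k.q k.p c) := by
  have h1 : k.by' y hy ∈ PrimeSpectrum.basicOpen c ↔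
      k.hV.primeIdealOf ⟨y, hy⟩ ∈ PrimeSpectrum.basicOpen (FP.snd k.q k.p c) := Iff.rfl
  rw [h1, ← k.hV.fromSpec_preimage_basicOpen]
  change k.hV.fromSpec (k.hV.primeIdealOf ⟨y, hy⟩) ∈ Y.basicOpen _ ↔ _
  rw [k.hV.fromSpec_primeIdealOf]

theorem ax_congr (k : GoodPair i j) {x x' : X} (e : x = x') (hx : x ∈ k.U) :
    k.ax x hx = k.ax x' (e ▸ hx) := by
  subst e; rfl

theorem by_congr (k : GoodPair i j) {y y' : Y} (e : y = y') (hy : y ∈ k.V) :
    k.by' y hy = k.by' y' (e ▸ hy) := by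
  subst e; rfl

theorem map_injective {k l : GoodPair i j} (h : k ⟶ l) : Function.Injective ((F i j).map h) := by
  intro ξ ξ' e
  rcases k.exists_ax_or_by ξ with ⟨x, hx, rfl⟩ | ⟨y, hy, rfl⟩ <;>
    rcases k.exists_ax_or_by ξ' with ⟨x', hx', rfl⟩ | ⟨y', hy', rfl⟩
  · rw [map_ax, map_ax] at e
    have := l.ax_injective e
    subst this
    rfl
  · rw [map_ax, map_by] at e
    obtain ⟨z, rfl, rfl⟩ := l.exists_of_ax_eq_by e
    exact k.ax_eq_by z hx
  · rw [map_by, map_ax] at e
    obtain ⟨z, rfl, rfl⟩ := l.exists_of_ax_eq_by e.symm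
    exact (k.ax_eq_by z hx').symm
  · rw [map_by, map_by] at e
    have := l.by_injective e
    subst this
    rfl

/-- The closed subset of the chart `l` of points outside the smaller chart `k`. -/
def outside (k l : GoodPair i j) : Set ((F i j).obj l) :=
  l.aS '' (l.hU.fromSpec ⁻¹' ((k.U : Set X)ᶜ)) ∪ l.bS '' (l.hV.fromSpec ⁻¹' ((k.V : Set Y)ᶜ))

theorem isClosed_outside (k l : GoodPair i j) : IsClosed (outside k l) := by
  refine IsClosed.union ?_ ?_
  · exact (Scheme.Hom.isClosedEmbedding l.aS).isClosedMap _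
      (k.U.isOpen.isClosed_compl.preimage l.hU.fromSpec.continuous)
  · exact (Scheme.Hom.isClosedEmbedding l.bS).isClosedMap _
      (k.V.isOpen.isClosed_compl.preimage l.hV.fromSpec.continuous)

theorem ax_mem_outside {k l : GoodPair i j} (x : X) (hx : x ∈ l.U) (hxk : x ∉ k.U) :
    l.ax x hx ∈ outside k l := by
  left
  refine ⟨l.hU.primeIdealOf ⟨x, hx⟩, ?_, rfl⟩
  change l.hU.fromSpec _ ∉ (k.U : Set X)
  rwa [l.hU.fromSpec_primeIdealOf]

theorem by_mem_outside {k l : GoodPair i j} (y : Y) (hy : y ∈ l.V) (hyk : y ∉ k.V) :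
    l.by' y hy ∈ outside k l := by
  right
  refine ⟨l.hV.primeIdealOf ⟨y, hy⟩, ?_, rfl⟩
  change l.hV.fromSpec _ ∉ (k.V : Set Y)
  rwa [l.hV.fromSpec_primeIdealOf]

theorem mem_outside_iff {k l : GoodPair i j} (ξ : (F i j).obj l) :
    ξ ∈ outside k l ↔ (∃ (x : X) (hx : x ∈ l.U), x ∉ k.U ∧ l.ax x hx = ξ) ∨
      (∃ (y : Y) (hy : y ∈ l.V), y ∉ k.V ∧ l.by' y hy = ξ) := by
  constructor
  · rintro (⟨u, hu, rfl⟩ | ⟨v, hv, rfl⟩)
    · left
      obtain ⟨x, hx, rfl⟩ := primeIdealOf_surjective l.hU u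
      refine ⟨x, hx, ?_, rfl⟩
      have : l.hU.fromSpec _ ∉ (k.U : Set X) := hu
      rwa [l.hU.fromSpec_primeIdealOf] at this
    · right
      obtain ⟨y, hy, rfl⟩ := primeIdealOf_surjective l.hV v
      refine ⟨y, hy, ?_, rfl⟩
      have : l.hV.fromSpec _ ∉ (k.V : Set Y) := hv
      rwa [l.hV.fromSpec_primeIdealOf] at this
  · rintro (⟨x, hx, hxk, rfl⟩ | ⟨y, hy, hyk, rfl⟩)
    · exact ax_mem_outside x hx hxk
    · exact by_mem_outside y hy hyk

theorem map_notMem_outside {k l : GoodPair i j} (h : k ⟶ l) (ξ : (F i j).obj k) :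
    (F i j).map h ξ ∉ outside k l := by
  rw [mem_outside_iff]
  rcases k.exists_ax_or_by ξ with ⟨x, hx, rfl⟩ | ⟨y, hy, rfl⟩
  · rw [map_ax]
    rintro (⟨x', hx', hx'k, e⟩ | ⟨y', hy', hy'k, e⟩)
    · exact hx'k (l.ax_injective e ▸ hx)
    · obtain ⟨z, rfl, rfl⟩ := l.exists_of_ax_eq_by e.symm
      apply hy'k
      have : z ∈ i ⁻¹ᵁ k.U := hx
      rw [k.h] at this
      exact this
  · rw [map_by]
    rintro (⟨x', hx', hx'k, e⟩ | ⟨y', hy', hy'k, e⟩)
    · obtain ⟨z, rfl, rfl⟩ := l.exists_of_ax_eq_by e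
      apply hx'k
      have : z ∈ j ⁻¹ᵁ k.V := hy
      rw [← k.h] at this
      exact this
    · exact hy'k (l.by_injective e ▸ hy)

/-- The transition maps between the affine charts are open immersions. -/
instance isOpenImmersion_map {k l : GoodPair i j} (h : k ⟶ l) :
    IsOpenImmersion ((F i j).map h) := by
  refine IsOpenImmersion.of_forall_source_exists _ (map_injective h) fun ξ => ?_
  -- choose `c` with `map ξ ∈ D(c)` disjoint from `outside k l`
  obtain ⟨_, ⟨_, ⟨c, rfl⟩, rfl⟩, hξc, hc⟩ :=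
    PrimeSpectrum.isBasis_basic_opens.exists_subset_of_mem_open
    (show (F i j).map h ξ ∈ (outside k l)ᶜ from map_notMem_outside h ξ)
    (isClosed_outside k l).isOpen_compl
  have hmk : l.basic c ≤ k := by
    constructor
    · intro x hx
      have hxl : x ∈ l.U := X.basicOpen_le _ hx
      by_contra hxk
      exact hc ((l.ax_mem_basicOpen_iff c x hxl).mpr hx) (ax_mem_outside x hxl hxk)
    · intro y hy
      have hyl : y ∈ l.V := Y.basicOpen_le _ hy
      by_contra hyk
      exact hc ((l.by_mem_basicOpen_iff c y hyl).mpr hy) (by_mem_outside y hyl hyk)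
  have hcomp : (F i j).map (homOfLE hmk) ≫ (F i j).map h = (F i j).map (homOfLE (l.basic_le c)) := by
    rw [← (F i j).map_comp]
    rfl
  have ho1 : IsOpenImmersion ((F i j).map (homOfLE (l.basic_le c))) :=
    l.isOpenImmersion_map_of_eq_basic c _ rfl _
  have hm' : l.basic c = k.basic (res h.le c) := by
    apply ext'
    · change X.basicOpen _ = X.basicOpen (X.presheaf.map (homOfLE h.le.1).op _)
      rw [Scheme.basicOpen_res]
      exact (inf_eq_right.mpr hmk.1).symm
    · change Y.basicOpen _ = Y.basicOpen (Y.presheaf.map (homOfLE h.le.2).op _)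
      rw [Scheme.basicOpen_res]
      exact (inf_eq_right.mpr hmk.2).symm
  have ho2 : IsOpenImmersion ((F i j).map (homOfLE hmk)) :=
    k.isOpenImmersion_map_of_eq_basic (res h.le c) _ hm' _
  refine ⟨_, (F i j).map (homOfLE hmk), ho2, ?_, hcomp ▸ ho1⟩
  -- `ξ` lies in the image
  rcases k.exists_ax_or_by ξ with ⟨x, hx, rfl⟩ | ⟨y, hy, rfl⟩
  · rw [map_ax] at hξc
    have hxm : x ∈ (l.basic c).U := (l.ax_mem_basicOpen_iff c x (h.le.1 hx)).mp hξc
    exact ⟨(l.basic c).ax x hxm, map_ax (homOfLE hmk) x hxm⟩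
  · rw [map_by] at hξc
    have hym : y ∈ (l.basic c).V := (l.by_mem_basicOpen_iff c y (h.le.2 hy)).mp hξc
    exact ⟨(l.basic c).by' y hym, map_by (homOfLE hmk) y hym⟩

end GoodPair

end Groth.Agent.Lib.Helper58.ClPushout
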