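/-
Helper library (helper58): the scheme-theoretic union of two closed subschemes is the pushout of
the two along their scheme-theoretic intersection.
-/
import Mathlib
import Groth.Agent.Lib.Helper61.FibSq5

set_option autoImplicit false
universe u

open AlgebraicGeometry CategoryTheory Limits

namespace Groth.Agent.Lib.Helper58.UnionPushout

open Groth.Agent.Lib.Helper61

/-- The Milnor square of quotients `R/(𝔞 ⊓ 𝔟)`, `R/𝔞`, `R/𝔟`, `R/(𝔞 ⊔ 𝔟)`. -/
theorem fibSq_quotient {R : Type*} [CommRing R] (𝔞 𝔟 : Ideal R) :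
    FibSq (Ideal.Quotient.factor (inf_le_left : 𝔞 ⊓ 𝔟 ≤ 𝔞))
      (Ideal.Quotient.factor (inf_le_right : 𝔞 ⊓ 𝔟 ≤ 𝔟))
      (Ideal.Quotient.factor (le_sup_left : 𝔞 ≤ 𝔞 ⊔ 𝔟))
      (Ideal.Quotient.factor (le_sup_right : 𝔟 ≤ 𝔞 ⊔ 𝔟)) := by
  refine ⟨fun c => ?_, Ideal.Quotient.factor_surjective _, fun b a' h => ?_, fun c c' h1 h2 => ?_⟩
  · obtain ⟨c, rfl⟩ := Ideal.Quotient.mk_surjective c
    simp
  · obtain ⟨b, rfl⟩ := Ideal.Quotient.mk_surjective b
    obtain ⟨a', rfl⟩ := Ideal.Quotient.mk_surjective a'
    simp only [Ideal.Quotient.factor_mk] at h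
    rw [Ideal.Quotient.eq, Submodule.mem_sup] at h
    obtain ⟨x, hx, y, hy, hxy⟩ := h
    refine ⟨Ideal.Quotient.mk _ (b - x), ?_, ?_⟩
    · simp only [Ideal.Quotient.factor_mk]
      rw [Ideal.Quotient.eq]
      simpa using 𝔞.neg_mem hx
    · simp only [Ideal.Quotient.factor_mk]
      rw [Ideal.Quotient.eq]
      have : b - x - a' = y := by linear_combination (-1 : R) * hxy
      rw [this]; exact hy
  · obtain ⟨c, rfl⟩ := Ideal.Quotient.mk_surjective c
    obtain ⟨c', rfl⟩ := Ideal.Quotient.mk_surjective c'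
    simp only [Ideal.Quotient.factor_mk] at h1 h2
    rw [Ideal.Quotient.eq] at h1 h2 ⊢
    exact ⟨h1, h2⟩


open Scheme.IdealSheafData

variable {S : Scheme.{u}} (I J : S.IdealSheafData)

set_option backward.isDefEq.respectTransparency false in
theorem glueDataObjHom_comp_cover {I J : S.IdealSheafData} (h : I ≤ J) (U : S.affineOpens)
    {T : Scheme.{u}} (g : I.subscheme ⟶ T) :
    glueDataObjHom h U ≫ I.subschemeCover.f U ≫ g = J.subschemeCover.f U ≫ inclusion h ≫ g := by
  rw [← Category.assoc, ← subSchemeCover_map_inclusion, Category.assoc]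

set_option backward.isDefEq.respectTransparency false in
/-- Uniqueness of morphisms out of the scheme-theoretic union. -/
theorem hom_ext {T : Scheme.{u}} (g g' : (I ⊓ J).subscheme ⟶ T)
    (h1 : inclusion (inf_le_left : I ⊓ J ≤ I) ≫ g = inclusion (inf_le_left : I ⊓ J ≤ I) ≫ g')
    (h2 : inclusion (inf_le_right : I ⊓ J ≤ J) ≫ g = inclusion (inf_le_right : I ⊓ J ≤ J) ≫ g') :
    g = g' := by
  refine (I ⊓ J).subschemeCover.openCover.hom_ext _ _ fun (U : S.affineOpens) => ?_
  refine (fibSq_quotient (I.ideal U) (J.ideal U)).hom_ext _ _ ?_ ?_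
  · exact (glueDataObjHom_comp_cover (inf_le_left : I ⊓ J ≤ I) U g).trans
      ((congrArg (I.subschemeCover.f U ≫ ·) h1).trans
        (glueDataObjHom_comp_cover (inf_le_left : I ⊓ J ≤ I) U g').symm)
  · exact (glueDataObjHom_comp_cover (inf_le_right : I ⊓ J ≤ J) U g).trans
      ((congrArg (J.subschemeCover.f U ≫ ·) h2).trans
        (glueDataObjHom_comp_cover (inf_le_right : I ⊓ J ≤ J) U g').symm)


/-- Two morphisms agree if they agree on open immersions covering the source. -/
theorem hom_ext_of_forall_openImmersion {X T : Scheme.{u}} (f g : X ⟶ T)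
    (H : ∀ x : X, ∃ (W : Scheme.{u}) (j : W ⟶ X), IsOpenImmersion j ∧ x ∈ Set.range j ∧
      j ≫ f = j ≫ g) : f = g := by
  refine Scheme.hom_ext_of_forall f g fun x => ?_
  obtain ⟨W, j, hj, hx, e⟩ := H x
  refine ⟨j.opensRange, hx, ?_⟩
  rw [← cancel_epi j.isoOpensRange.hom]
  simp only [Scheme.Hom.isoOpensRange_hom_ι_assoc, e]

set_option backward.isDefEq.respectTransparency false in
/-- Transition maps between the affine pieces of the subscheme cover. -/
noncomputable def trans (K : S.IdealSheafData) {W U : S.affineOpens} (h : W ≤ U) :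
    K.subschemeCover.openCover.X W ⟶ K.subschemeCover.openCover.X U :=
  IsOpenImmersion.lift (K.subschemeCover.f U) (K.subschemeCover.f W) (by
    have h1 := K.opensRange_subschemeCover_map W
    have h2 := K.opensRange_subschemeCover_map U
    intro y hy
    have hy' : y ∈ (K.subschemeCover.f W).opensRange := hy
    rw [h1] at hy'
    have : y ∈ (K.subschemeCover.f U).opensRange := by
      rw [h2]
      exact h hy'
    exact this)

set_option backward.isDefEq.respectTransparency false in
@[reassoc (attr := simp)]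
theorem trans_fac (K : S.IdealSheafData) {W U : S.affineOpens} (h : W ≤ U) :
    trans K h ≫ K.subschemeCover.f U = K.subschemeCover.f W :=
  IsOpenImmersion.lift_fac _ _ _


set_option backward.isDefEq.respectTransparency false in
instance (K : S.IdealSheafData) {W U : S.affineOpens} (h : W ≤ U) : IsOpenImmersion (trans K h) := by
  have : IsOpenImmersion (trans K h ≫ K.subschemeCover.f U) := by
    rw [trans_fac]; infer_instance
  exact IsOpenImmersion.of_comp (trans K h) (K.subschemeCover.f U)

set_option backward.isDefEq.respectTransparency false in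
/-- Naturality of the transition maps with respect to inclusions of ideal sheaves. -/
theorem glueDataObjHom_trans {K K' : S.IdealSheafData} (hK : K ≤ K') {W U : S.affineOpens}
    (h : W ≤ U) :
    glueDataObjHom hK W ≫ trans K h = trans K' h ≫ glueDataObjHom hK U := by
  rw [← cancel_mono (K.subschemeCover.f U)]
  have e1 : trans K' h ≫ K'.subschemeCover.f U = K'.subschemeCover.f W := trans_fac K' h
  have e2 : trans K h ≫ K.subschemeCover.f U = K.subschemeCover.f W := trans_fac K h
  calc (glueDataObjHom hK W ≫ trans K h) ≫ K.subschemeCover.f U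
      = glueDataObjHom hK W ≫ K.subschemeCover.f W := by rw [Category.assoc, e2]
    _ = K'.subschemeCover.f W ≫ inclusion hK := (subSchemeCover_map_inclusion hK W).symm
    _ = (trans K' h ≫ K'.subschemeCover.f U) ≫ inclusion hK := by rw [e1]
    _ = trans K' h ≫ (K'.subschemeCover.f U ≫ inclusion hK) := Category.assoc _ _ _
    _ = trans K' h ≫ (glueDataObjHom hK U ≫ K.subschemeCover.f U) := by
        rw [subSchemeCover_map_inclusion hK U]
    _ = (trans K' h ≫ glueDataObjHom hK U) ≫ K.subschemeCover.f U := (Category.assoc _ _ _).symm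

set_option backward.isDefEq.respectTransparency false in
/-- Gluing morphisms out of a closed subscheme from morphisms on the standard affine pieces that
are compatible with the transition maps. -/
theorem exists_glue (K : S.IdealSheafData) {T : Scheme.{u}}
    (γ : ∀ U : S.affineOpens, K.subschemeCover.openCover.X U ⟶ T)
    (htrans : ∀ {W U : S.affineOpens} (hWU : W ≤ U), trans K hWU ≫ γ U = γ W) :
    ∃ Γ : K.subscheme ⟶ T, ∀ U : S.affineOpens, K.subschemeCover.f U ≫ Γ = γ U := by
  have hcompat : ∀ U V : S.affineOpens,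
      pullback.fst (K.subschemeCover.openCover.f U) (K.subschemeCover.openCover.f V) ≫
        γ U = pullback.snd (K.subschemeCover.openCover.f U)
          (K.subschemeCover.openCover.f V) ≫ γ V := by
    intro U V
    refine hom_ext_of_forall_openImmersion _ _ fun x => ?_
    change (pullback (K.subschemeCover.f U) (K.subschemeCover.f V) : Scheme.{u}) at x
    let p : K.subscheme := (pullback.fst (K.subschemeCover.f U) (K.subschemeCover.f V) ≫
      K.subschemeCover.f U) x
    have hpU : K.subschemeι p ∈ U.1 := by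
      have h0 : p ∈ (K.subschemeCover.f U).opensRange :=
        ⟨pullback.fst (K.subschemeCover.f U) (K.subschemeCover.f V) x, rfl⟩
      have e := K.opensRange_subschemeCover_map U
      rw [e] at h0
      exact h0
    have hpV : K.subschemeι p ∈ V.1 := by
      have h0 : p ∈ (K.subschemeCover.f V).opensRange :=
        ⟨pullback.snd (K.subschemeCover.f U) (K.subschemeCover.f V) x, by
          change (pullback.snd (K.subschemeCover.f U) (K.subschemeCover.f V) ≫
            K.subschemeCover.f V) x = _
          rw [← pullback.condition]⟩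
      have e := K.opensRange_subschemeCover_map V
      rw [e] at h0
      exact h0
    obtain ⟨_, ⟨W, hW : IsAffineOpen W, rfl⟩, hpW, hWUV⟩ :=
      S.isBasis_affineOpens.exists_subset_of_mem_open
        (show K.subschemeι p ∈ ((U.1 ⊓ V.1 : S.Opens) : Set S) from ⟨hpU, hpV⟩)
        (U.1 ⊓ V.1).isOpen
    let W' : S.affineOpens := ⟨W, hW⟩
    have hWU : W' ≤ U := fun y hy => (hWUV hy).1
    have hWV : W' ≤ V := fun y hy => (hWUV hy).2
    have e1 : trans K hWU ≫ K.subschemeCover.f U = K.subschemeCover.f W' := trans_fac K hWU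
    have e2 : trans K hWV ≫ K.subschemeCover.f V = K.subschemeCover.f W' := trans_fac K hWV
    let j : K.subschemeCover.openCover.X W' ⟶
        pullback (K.subschemeCover.f U) (K.subschemeCover.f V) :=
      pullback.lift (trans K hWU) (trans K hWV) (e1.trans e2.symm)
    have hj1 : j ≫ pullback.fst (K.subschemeCover.f U) (K.subschemeCover.f V) = trans K hWU :=
      pullback.lift_fst _ _ _
    have hj2 : j ≫ pullback.snd (K.subschemeCover.f U) (K.subschemeCover.f V) = trans K hWV :=
      pullback.lift_snd _ _ _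
    have hjo : IsOpenImmersion j := by
      have : IsOpenImmersion (j ≫ pullback.fst (K.subschemeCover.f U) (K.subschemeCover.f V)) := by
        rw [hj1]; infer_instance
      exact IsOpenImmersion.of_comp j (pullback.fst (K.subschemeCover.f U) (K.subschemeCover.f V))
    refine ⟨_, j, hjo, ?_, ?_⟩
    · have hpW' : p ∈ (K.subschemeCover.f W').opensRange := by
        have e := K.opensRange_subschemeCover_map W'
        rw [e]; exact hpW
      obtain ⟨w, hw⟩ := hpW'
      refine ⟨w, ?_⟩
      have hinj : Function.Injective (pullback.fst (K.subschemeCover.f U) (K.subschemeCover.f V) ≫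
          K.subschemeCover.f U) :=
        (Scheme.Hom.isOpenEmbedding (pullback.fst (K.subschemeCover.f U) (K.subschemeCover.f V) ≫
          K.subschemeCover.f U)).injective
      apply hinj
      change (j ≫ pullback.fst (K.subschemeCover.f U) (K.subschemeCover.f V) ≫
        K.subschemeCover.f U) w = p
      have e3 : j ≫ pullback.fst (K.subschemeCover.f U) (K.subschemeCover.f V) ≫
          K.subschemeCover.f U = K.subschemeCover.f W' := by
        rw [← Category.assoc, hj1, e1]
      rw [e3]
      exact hw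
    · calc j ≫ pullback.fst (K.subschemeCover.f U) (K.subschemeCover.f V) ≫ γ U
          = (j ≫ pullback.fst (K.subschemeCover.f U) (K.subschemeCover.f V)) ≫ γ U :=
            (Category.assoc _ _ _).symm
        _ = trans K hWU ≫ γ U := by rw [hj1]
        _ = γ W' := htrans hWU
        _ = trans K hWV ≫ γ V := (htrans hWV).symm
        _ = (j ≫ pullback.snd (K.subschemeCover.f U) (K.subschemeCover.f V)) ≫ γ V := by rw [hj2]
        _ = j ≫ pullback.snd (K.subschemeCover.f U) (K.subschemeCover.f V) ≫ γ V :=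
            Category.assoc _ _ _
  exact ⟨K.subschemeCover.openCover.glueMorphisms γ hcompat,
    fun U => K.subschemeCover.openCover.ι_glueMorphisms γ hcompat U⟩

set_option backward.isDefEq.respectTransparency false in
/-- Existence of morphisms out of the scheme-theoretic union. -/
theorem exists_desc {T : Scheme.{u}} (fX : I.subscheme ⟶ T) (fY : J.subscheme ⟶ T)
    (h : inclusion (le_sup_left : I ≤ I ⊔ J) ≫ fX = inclusion (le_sup_right : J ≤ I ⊔ J) ≫ fY) :
    ∃ g : (I ⊓ J).subscheme ⟶ T, inclusion (inf_le_left : I ⊓ J ≤ I) ≫ g = fX ∧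
      inclusion (inf_le_right : I ⊓ J ≤ J) ≫ g = fY := by
  -- local pieces
  have hloc : ∀ U : S.affineOpens, ∃ γ : (I ⊓ J).subschemeCover.openCover.X U ⟶ T,
      glueDataObjHom (inf_le_right : I ⊓ J ≤ J) U ≫ γ = J.subschemeCover.f U ≫ fY ∧
      glueDataObjHom (inf_le_left : I ⊓ J ≤ I) U ≫ γ = I.subschemeCover.f U ≫ fX := by
    intro U
    refine (fibSq_quotient (I.ideal U) (J.ideal U)).exists_desc
      (J.subschemeCover.f U ≫ fY) (I.subschemeCover.f U ≫ fX) ?_
    exact (glueDataObjHom_comp_cover (le_sup_right : J ≤ I ⊔ J) U fY).trans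
      ((congrArg ((I ⊔ J).subschemeCover.f U ≫ ·) h.symm).trans
        (glueDataObjHom_comp_cover (le_sup_left : I ≤ I ⊔ J) U fX).symm)
  choose γ hγY hγX using hloc
  -- compatibility with transition maps
  have htrans : ∀ {W U : S.affineOpens} (hWU : W ≤ U), trans (I ⊓ J) hWU ≫ γ U = γ W := by
    intro W U hWU
    refine (fibSq_quotient (I.ideal W) (J.ideal W)).hom_ext _ _ ?_ ?_
    · change glueDataObjHom (inf_le_left : I ⊓ J ≤ I) W ≫ trans (I ⊓ J) hWU ≫ γ U =
        glueDataObjHom (inf_le_left : I ⊓ J ≤ I) W ≫ γ W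
      calc glueDataObjHom (inf_le_left : I ⊓ J ≤ I) W ≫ trans (I ⊓ J) hWU ≫ γ U
          = (glueDataObjHom (inf_le_left : I ⊓ J ≤ I) W ≫ trans (I ⊓ J) hWU) ≫ γ U :=
            (Category.assoc _ _ _).symm
        _ = (trans I hWU ≫ glueDataObjHom (inf_le_left : I ⊓ J ≤ I) U) ≫ γ U := by
            rw [glueDataObjHom_trans]
        _ = trans I hWU ≫ (glueDataObjHom (inf_le_left : I ⊓ J ≤ I) U ≫ γ U) :=
            Category.assoc _ _ _
        _ = trans I hWU ≫ (I.subschemeCover.f U ≫ fX) := by rw [hγX]
        _ = (trans I hWU ≫ I.subschemeCover.f U) ≫ fX := (Category.assoc _ _ _).symm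
        _ = I.subschemeCover.f W ≫ fX := by rw [trans_fac I hWU]
        _ = glueDataObjHom (inf_le_left : I ⊓ J ≤ I) W ≫ γ W := (hγX W).symm
    · change glueDataObjHom (inf_le_right : I ⊓ J ≤ J) W ≫ trans (I ⊓ J) hWU ≫ γ U =
        glueDataObjHom (inf_le_right : I ⊓ J ≤ J) W ≫ γ W
      calc glueDataObjHom (inf_le_right : I ⊓ J ≤ J) W ≫ trans (I ⊓ J) hWU ≫ γ U
          = (glueDataObjHom (inf_le_right : I ⊓ J ≤ J) W ≫ trans (I ⊓ J) hWU) ≫ γ U :=
            (Category.assoc _ _ _).symm
        _ = (trans J hWU ≫ glueDataObjHom (inf_le_right : I ⊓ J ≤ J) U) ≫ γ U := by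
            rw [glueDataObjHom_trans]
        _ = trans J hWU ≫ (glueDataObjHom (inf_le_right : I ⊓ J ≤ J) U ≫ γ U) :=
            Category.assoc _ _ _
        _ = trans J hWU ≫ (J.subschemeCover.f U ≫ fY) := by rw [hγY]
        _ = (trans J hWU ≫ J.subschemeCover.f U) ≫ fY := (Category.assoc _ _ _).symm
        _ = J.subschemeCover.f W ≫ fY := by rw [trans_fac J hWU]
        _ = glueDataObjHom (inf_le_right : I ⊓ J ≤ J) W ≫ γ W := (hγY W).symm
  obtain ⟨Γ, hΓ⟩ := exists_glue (I ⊓ J) γ htrans
  refine ⟨Γ, ?_, ?_⟩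
  · refine I.subschemeCover.openCover.hom_ext _ _ fun (U : S.affineOpens) => ?_
    change I.subschemeCover.f U ≫ inclusion (inf_le_left : I ⊓ J ≤ I) ≫ Γ = I.subschemeCover.f U ≫ fX
    rw [← glueDataObjHom_comp_cover, hΓ, hγX]
  · refine J.subschemeCover.openCover.hom_ext _ _ fun (U : S.affineOpens) => ?_
    change J.subschemeCover.f U ≫ inclusion (inf_le_right : I ⊓ J ≤ J) ≫ Γ = J.subschemeCover.f U ≫ fY
    rw [← glueDataObjHom_comp_cover, hΓ, hγY]

end Groth.Agent.Lib.Helper58.UnionPushout
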