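/-
Helper library (helper58): gluing morphisms out of a scheme along a family of open immersions which
is closed under local refinement (no pullback bookkeeping needed).
-/
import Mathlib
import Groth.Agent.Lib.Helper58.UnionPushout

set_option autoImplicit false
universe u

open AlgebraicGeometry CategoryTheory Limits

namespace Groth.Agent.Lib.Helper58.GlueOpenImm

open Groth.Agent.Lib.Helper58.UnionPushout

/-- Gluing morphisms along a family of open immersions closed under local refinement. -/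
theorem exists_glue {X T : Scheme.{u}} {ι : Type u} (W : ι → Scheme.{u}) (e : ∀ k, W k ⟶ X)
    [∀ k, IsOpenImmersion (e k)] (hcov : ∀ x : X, ∃ k, x ∈ Set.range (e k)) (γ : ∀ k, W k ⟶ T)
    (H : ∀ (k l : ι) (x : X), x ∈ Set.range (e k) → x ∈ Set.range (e l) →
      ∃ (m : ι) (t₁ : W m ⟶ W k) (t₂ : W m ⟶ W l), t₁ ≫ e k = e m ∧ t₂ ≫ e l = e m ∧
        x ∈ Set.range (e m) ∧ t₁ ≫ γ k = γ m ∧ t₂ ≫ γ l = γ m) :
    ∃ Γ : X ⟶ T, ∀ k, e k ≫ Γ = γ k := by
  let 𝒰 : X.OpenCover := {
    I₀ := ι, X := W, f := e,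
    mem₀ := by
      rw [Scheme.presieve₀_mem_precoverage_iff]
      exact ⟨fun x => hcov x, inferInstance⟩ }
  have hcompat : ∀ k l : ι, pullback.fst (e k) (e l) ≫ γ k = pullback.snd (e k) (e l) ≫ γ l := by
    intro k l
    refine hom_ext_of_forall_openImmersion _ _ fun x => ?_
    let p : X := (pullback.fst (e k) (e l) ≫ e k) x
    have hpk : p ∈ Set.range (e k) := ⟨pullback.fst (e k) (e l) x, rfl⟩
    have hpl : p ∈ Set.range (e l) := ⟨pullback.snd (e k) (e l) x, by
      change (pullback.snd (e k) (e l) ≫ e l) x = _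
      rw [← pullback.condition]⟩
    obtain ⟨m, t₁, t₂, h1, h2, ⟨w, hw⟩, h4, h5⟩ := H k l p hpk hpl
    let jm : W m ⟶ pullback (e k) (e l) := pullback.lift t₁ t₂ (h1.trans h2.symm)
    have hj1 : jm ≫ pullback.fst (e k) (e l) = t₁ := pullback.lift_fst _ _ _
    have hj2 : jm ≫ pullback.snd (e k) (e l) = t₂ := pullback.lift_snd _ _ _
    have e3 : jm ≫ pullback.fst (e k) (e l) ≫ e k = e m := by
      rw [← Category.assoc, hj1, h1]
    have hjo : IsOpenImmersion jm := by
      have : IsOpenImmersion (jm ≫ pullback.fst (e k) (e l) ≫ e k) := by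
        rw [e3]; infer_instance
      exact IsOpenImmersion.of_comp jm (pullback.fst (e k) (e l) ≫ e k)
    refine ⟨_, jm, hjo, ⟨w, ?_⟩, ?_⟩
    · have hinj : Function.Injective (pullback.fst (e k) (e l) ≫ e k) :=
        (Scheme.Hom.isOpenEmbedding (pullback.fst (e k) (e l) ≫ e k)).injective
      apply hinj
      change (jm ≫ pullback.fst (e k) (e l) ≫ e k) w = p
      rw [e3]
      exact hw
    · rw [← Category.assoc, hj1, h4, ← Category.assoc, hj2, h5]
  exact ⟨𝒰.glueMorphisms γ hcompat, fun k => 𝒰.ι_glueMorphisms γ hcompat k⟩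

end Groth.Agent.Lib.Helper58.GlueOpenImm
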