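/-
Helper library (helper58): the pushout of two closed immersions, constructed by locally directed
gluing of the affine charts; the two maps into it and its universal property.
-/
import Mathlib
import Groth.Agent.Lib.Helper58.ClPushoutOpen
import Groth.Agent.Lib.Helper58.GlueOpenImm

set_option autoImplicit false
universe u

open AlgebraicGeometry CategoryTheory Limits

namespace Groth.Agent.Lib.Helper58.ClPushout

open Groth.Agent.Lib.Helper61 Groth.Agent.Lib.Helper58.UnionPushout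

variable {X Y Z : Scheme.{u}} (i : Z ⟶ X) (j : Z ⟶ Y) [IsClosedImmersion i] [IsClosedImmersion j]

open GoodPair in
instance isLocallyDirected_F : ((F i j) ⋙ Scheme.forget).IsLocallyDirected := by
  constructor
  intro k₁ k₂ l f₁ f₂ ξ₁ ξ₂ e
  change (F i j).map f₁ ξ₁ = (F i j).map f₂ ξ₂ at e
  change ∃ (m : GoodPair i j) (g₁ : m ⟶ k₁) (g₂ : m ⟶ k₂) (ξ : (F i j).obj m),
    (F i j).map g₁ ξ = ξ₁ ∧ (F i j).map g₂ ξ = ξ₂
  rcases k₁.exists_ax_or_by ξ₁ with ⟨x, hx, rfl⟩ | ⟨y, hy, rfl⟩ <;>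
    rcases k₂.exists_ax_or_by ξ₂ with ⟨x', hx', rfl⟩ | ⟨y', hy', rfl⟩
  · rw [map_ax, map_ax] at e
    have := l.ax_injective e
    subst this
    obtain ⟨m, h1, h2, hm⟩ := exists_goodPair_le_le_of_mem_X k₁ k₂ x hx hx'
    exact ⟨m, homOfLE h1, homOfLE h2, m.ax x hm, map_ax _ _ _, map_ax _ _ _⟩
  · rw [map_ax, map_by] at e
    obtain ⟨z, rfl, rfl⟩ := l.exists_of_ax_eq_by e
    have hx' : i z ∈ k₂.U := by
      have : z ∈ j ⁻¹ᵁ k₂.V := hy'
      rw [← k₂.h] at this
      exact this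
    obtain ⟨m, h1, h2, hm⟩ := exists_goodPair_le_le_of_mem_X k₁ k₂ (i z) hx hx'
    refine ⟨m, homOfLE h1, homOfLE h2, m.ax (i z) hm, map_ax _ _ _, ?_⟩
    rw [map_ax]
    exact k₂.ax_eq_by z hx'
  · rw [map_by, map_ax] at e
    obtain ⟨z, rfl, rfl⟩ := l.exists_of_ax_eq_by e.symm
    have hx : i z ∈ k₁.U := by
      have : z ∈ j ⁻¹ᵁ k₁.V := hy
      rw [← k₁.h] at this
      exact this
    obtain ⟨m, h1, h2, hm⟩ := exists_goodPair_le_le_of_mem_X k₁ k₂ (i z) hx hx'
    refine ⟨m, homOfLE h1, homOfLE h2, m.ax (i z) hm, ?_, map_ax _ _ _⟩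
    rw [map_ax]
    exact k₁.ax_eq_by z hx
  · rw [map_by, map_by] at e
    have := l.by_injective e
    subst this
    obtain ⟨m, h1, h2, hm⟩ := exists_goodPair_le_le_of_mem_Y k₁ k₂ y hy hy'
    exact ⟨m, homOfLE h1, homOfLE h2, m.by' y hm, map_by _ _ _, map_by _ _ _⟩

/-- The pushout of the two closed immersions. -/
noncomputable def P : Scheme.{u} := colimit (F i j)

/-- The affine charts of the pushout. -/
noncomputable def chart (k : GoodPair i j) : (F i j).obj k ⟶ P i j := colimit.ι (F i j) k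

instance (k : GoodPair i j) : IsOpenImmersion (chart i j k) :=
  inferInstanceAs (IsOpenImmersion (colimit.ι (F i j) k))

@[reassoc]
theorem map_chart {k l : GoodPair i j} (h : k ⟶ l) : (F i j).map h ≫ chart i j l = chart i j k :=
  colimit.w (F i j) h

theorem exists_chart_eq (ξ : P i j) : ∃ (k : GoodPair i j) (ξ' : (F i j).obj k), chart i j k ξ' = ξ :=
  Scheme.IsLocallyDirected.ι_jointly_surjective (F i j) ξ

theorem chart_eq_chart_iff {k l : GoodPair i j} {ξ : (F i j).obj k} {ξ' : (F i j).obj l} :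
    chart i j k ξ = chart i j l ξ' ↔ ∃ (m : GoodPair i j) (f : m ⟶ k) (g : m ⟶ l) (ζ : (F i j).obj m),
      (F i j).map f ζ = ξ ∧ (F i j).map g ζ = ξ' :=
  Scheme.IsLocallyDirected.ι_eq_ι_iff (F i j)

theorem mem_range_fromSpec_X (x : X) : ∃ k : GoodPair i j, x ∈ Set.range k.hU.fromSpec := by
  obtain ⟨k, hk, -, -⟩ := exists_goodPair_of_mem_X (i := i) (j := j) ⊤ ⊤ rfl x trivial
  exact ⟨k, by rw [k.hU.range_fromSpec]; exact hk⟩

theorem mem_range_fromSpec_Y (y : Y) : ∃ k : GoodPair i j, y ∈ Set.range k.hV.fromSpec := by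
  obtain ⟨k, hk, -, -⟩ := exists_goodPair_of_mem_Y (i := i) (j := j) ⊤ ⊤ rfl y trivial
  exact ⟨k, by rw [k.hV.range_fromSpec]; exact hk⟩

theorem exists_a : ∃ a : X ⟶ P i j, ∀ k : GoodPair i j, k.hU.fromSpec ≫ a = k.aS ≫ chart i j k := by
  refine GlueOpenImm.exists_glue (fun k : GoodPair i j => Spec Γ(X, k.U))
    (fun k => k.hU.fromSpec) (mem_range_fromSpec_X i j) (fun k => k.aS ≫ chart i j k) ?_
  intro k l x hxk hxl
  rw [k.hU.range_fromSpec] at hxk
  rw [l.hU.range_fromSpec] at hxl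
  obtain ⟨m, h1, h2, hm⟩ := exists_goodPair_le_le_of_mem_X k l x hxk hxl
  refine ⟨m, Spec.map (X.presheaf.map (homOfLE h1.1).op), Spec.map (X.presheaf.map (homOfLE h2.1).op),
    k.hU.map_fromSpec m.hU _, l.hU.map_fromSpec m.hU _, ?_, ?_, ?_⟩
  · rw [m.hU.range_fromSpec]; exact hm
  · rw [← Category.assoc, GoodPair.aS_naturality (homOfLE h1), Category.assoc, map_chart]
  · rw [← Category.assoc, GoodPair.aS_naturality (homOfLE h2), Category.assoc, map_chart]

theorem exists_b : ∃ b : Y ⟶ P i j, ∀ k : GoodPair i j, k.hV.fromSpec ≫ b = k.bS ≫ chart i j k := by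
  refine GlueOpenImm.exists_glue (fun k : GoodPair i j => Spec Γ(Y, k.V))
    (fun k => k.hV.fromSpec) (mem_range_fromSpec_Y i j) (fun k => k.bS ≫ chart i j k) ?_
  intro k l y hyk hyl
  rw [k.hV.range_fromSpec] at hyk
  rw [l.hV.range_fromSpec] at hyl
  obtain ⟨m, h1, h2, hm⟩ := exists_goodPair_le_le_of_mem_Y k l y hyk hyl
  refine ⟨m, Spec.map (Y.presheaf.map (homOfLE h1.2).op), Spec.map (Y.presheaf.map (homOfLE h2.2).op),
    k.hV.map_fromSpec m.hV _, l.hV.map_fromSpec m.hV _, ?_, ?_, ?_⟩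
  · rw [m.hV.range_fromSpec]; exact hm
  · rw [← Category.assoc, GoodPair.bS_naturality (homOfLE h1), Category.assoc, map_chart]
  · rw [← Category.assoc, GoodPair.bS_naturality (homOfLE h2), Category.assoc, map_chart]

/-- The map `X ⟶ P`. -/
noncomputable def a : X ⟶ P i j := (exists_a i j).choose

/-- The map `Y ⟶ P`. -/
noncomputable def b : Y ⟶ P i j := (exists_b i j).choose

@[reassoc]
theorem fromSpec_a (k : GoodPair i j) : k.hU.fromSpec ≫ a i j = k.aS ≫ chart i j k :=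
  (exists_a i j).choose_spec k

@[reassoc]
theorem fromSpec_b (k : GoodPair i j) : k.hV.fromSpec ≫ b i j = k.bS ≫ chart i j k :=
  (exists_b i j).choose_spec k

/-- Morphisms out of `X` are determined on the affine opens of the good pairs. -/
theorem hom_ext_X {T : Scheme.{u}} (f g : X ⟶ T)
    (h : ∀ k : GoodPair i j, k.hU.fromSpec ≫ f = k.hU.fromSpec ≫ g) : f = g := by
  refine hom_ext_of_forall_openImmersion f g fun x => ?_
  obtain ⟨k, hk⟩ := mem_range_fromSpec_X i j x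
  exact ⟨_, k.hU.fromSpec, inferInstance, hk, h k⟩

theorem hom_ext_Y {T : Scheme.{u}} (f g : Y ⟶ T)
    (h : ∀ k : GoodPair i j, k.hV.fromSpec ≫ f = k.hV.fromSpec ≫ g) : f = g := by
  refine hom_ext_of_forall_openImmersion f g fun y => ?_
  obtain ⟨k, hk⟩ := mem_range_fromSpec_Y i j y
  exact ⟨_, k.hV.fromSpec, inferInstance, hk, h k⟩

theorem hom_ext_Z {T : Scheme.{u}} (f g : Z ⟶ T)
    (h : ∀ k : GoodPair i j, k.W_isAffineOpen.fromSpec ≫ f = k.W_isAffineOpen.fromSpec ≫ g) :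
    f = g := by
  refine hom_ext_of_forall_openImmersion f g fun z => ?_
  obtain ⟨k, hk⟩ := mem_range_fromSpec_X i j (i z)
  rw [k.hU.range_fromSpec] at hk
  refine ⟨_, k.W_isAffineOpen.fromSpec, inferInstance, ?_, h k⟩
  rw [k.W_isAffineOpen.range_fromSpec]
  exact hk

@[reassoc]
theorem fromSpec_W_i (k : GoodPair i j) :
    k.W_isAffineOpen.fromSpec ≫ i = Spec.map (CommRingCat.ofHom k.q) ≫ k.hU.fromSpec :=
  (IsAffineOpen.SpecMap_appLE_fromSpec i k.hU k.W_isAffineOpen le_rfl).symm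

@[reassoc]
theorem fromSpec_W_j (k : GoodPair i j) :
    k.W_isAffineOpen.fromSpec ≫ j = Spec.map (CommRingCat.ofHom k.p) ≫ k.hV.fromSpec :=
  (IsAffineOpen.SpecMap_appLE_fromSpec j k.hV k.W_isAffineOpen k.h.le).symm

theorem comm : i ≫ a i j = j ≫ b i j := by
  refine hom_ext_Z i j _ _ fun k => ?_
  rw [fromSpec_W_i_assoc, fromSpec_W_j_assoc, fromSpec_a, fromSpec_b, ← Category.assoc,
    ← Category.assoc, GoodPair.zS_comm]

/-- Uniqueness of morphisms out of the pushout. -/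
theorem hom_ext_P {T : Scheme.{u}} (g g' : P i j ⟶ T) (h1 : a i j ≫ g = a i j ≫ g')
    (h2 : b i j ≫ g = b i j ≫ g') : g = g' := by
  refine colimit.hom_ext fun k => ?_
  change chart i j k ≫ g = chart i j k ≫ g'
  refine k.fibSq.hom_ext _ _ ?_ ?_
  · change k.aS ≫ chart i j k ≫ g = k.aS ≫ chart i j k ≫ g'
    rw [← fromSpec_a_assoc, ← fromSpec_a_assoc, h1]
  · change k.bS ≫ chart i j k ≫ g = k.bS ≫ chart i j k ≫ g'
    rw [← fromSpec_b_assoc, ← fromSpec_b_assoc, h2]

/-- Existence of morphisms out of the pushout. -/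
theorem exists_desc_P {T : Scheme.{u}} (fX : X ⟶ T) (fY : Y ⟶ T) (h : i ≫ fX = j ≫ fY) :
    ∃ g : P i j ⟶ T, a i j ≫ g = fX ∧ b i j ≫ g = fY := by
  have hloc : ∀ k : GoodPair i j, ∃ γ : (F i j).obj k ⟶ T,
      k.bS ≫ γ = k.hV.fromSpec ≫ fY ∧ k.aS ≫ γ = k.hU.fromSpec ≫ fX := by
    intro k
    refine k.fibSq.exists_desc (k.hV.fromSpec ≫ fY) (k.hU.fromSpec ≫ fX) ?_
    rw [← fromSpec_W_j_assoc, ← fromSpec_W_i_assoc, h]
  choose γ hγY hγX using hloc
  have hnat : ∀ {k l : GoodPair i j} (f : k ⟶ l), (F i j).map f ≫ γ l = γ k := by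
    intro k l f
    refine k.fibSq.hom_ext _ _ ?_ ?_
    · change k.aS ≫ (F i j).map f ≫ γ l = k.aS ≫ γ k
      rw [← Category.assoc, ← GoodPair.aS_naturality, Category.assoc, hγX, hγX,
        IsAffineOpen.map_fromSpec_assoc]
    · change k.bS ≫ (F i j).map f ≫ γ l = k.bS ≫ γ k
      rw [← Category.assoc, ← GoodPair.bS_naturality, Category.assoc, hγY, hγY,
        IsAffineOpen.map_fromSpec_assoc]
  let c : Cocone (F i j) :=
    { pt := T
      ι := { app := γ
             naturality := fun k l f => (hnat f).trans (Category.comp_id _).symm } }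
  refine ⟨colimit.desc (F i j) c, ?_, ?_⟩
  · refine hom_ext_X i j _ _ fun k => ?_
    rw [fromSpec_a_assoc]
    change k.aS ≫ colimit.ι (F i j) k ≫ colimit.desc (F i j) c = _
    rw [colimit.ι_desc]
    exact hγX k
  · refine hom_ext_Y i j _ _ fun k => ?_
    rw [fromSpec_b_assoc]
    change k.bS ≫ colimit.ι (F i j) k ≫ colimit.desc (F i j) c = _
    rw [colimit.ι_desc]
    exact hγY k

/-- The square is a pushout. -/
theorem isPushout : IsPushout i j (a i j) (b i j) := by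
  refine IsPushout.of_isColimit' ⟨comm i j⟩ ?_
  refine PushoutCocone.IsColimit.mk _
    (fun t => (exists_desc_P i j t.inl t.inr t.condition).choose)
    (fun t => (exists_desc_P i j t.inl t.inr t.condition).choose_spec.1)
    (fun t => (exists_desc_P i j t.inl t.inr t.condition).choose_spec.2)
    (fun t m h1 h2 => ?_)
  refine hom_ext_P i j _ _ ?_ ?_
  · exact h1.trans (exists_desc_P i j t.inl t.inr t.condition).choose_spec.1.symm
  · exact h2.trans (exists_desc_P i j t.inl t.inr t.condition).choose_spec.2.symm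

end Groth.Agent.Lib.Helper58.ClPushout
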