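/-
Helper library (helper58): properties of the pushout of two closed immersions: the two maps are
closed immersions, and the square is cartesian.
-/
import Mathlib
import Groth.Agent.Lib.Helper58.ClPushoutGlue

set_option autoImplicit false
universe u

open AlgebraicGeometry CategoryTheory Limits

namespace Groth.Agent.Lib.Helper58.ClPushout

open Groth.Agent.Lib.Helper61 Groth.Agent.Lib.Helper58.UnionPushout

variable {X Y Z : Scheme.{u}} (i : Z ⟶ X) (j : Z ⟶ Y) [IsClosedImmersion i] [IsClosedImmersion j]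

theorem a_apply (k : GoodPair i j) (x : X) (hx : x ∈ k.U) :
    a i j x = chart i j k (k.ax x hx) := by
  have h : (k.hU.fromSpec ≫ a i j) (k.hU.primeIdealOf ⟨x, hx⟩) =
      (k.aS ≫ chart i j k) (k.hU.primeIdealOf ⟨x, hx⟩) := by rw [fromSpec_a]
  rw [Scheme.Hom.comp_apply, Scheme.Hom.comp_apply, k.hU.fromSpec_primeIdealOf] at h
  exact h

theorem b_apply (k : GoodPair i j) (y : Y) (hy : y ∈ k.V) :
    b i j y = chart i j k (k.by' y hy) := by
  have h : (k.hV.fromSpec ≫ b i j) (k.hV.primeIdealOf ⟨y, hy⟩) =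
      (k.bS ≫ chart i j k) (k.hV.primeIdealOf ⟨y, hy⟩) := by rw [fromSpec_b]
  rw [Scheme.Hom.comp_apply, Scheme.Hom.comp_apply, k.hV.fromSpec_primeIdealOf] at h
  exact h

theorem a_mem_range_chart_iff (k : GoodPair i j) (x : X) :
    a i j x ∈ Set.range (chart i j k) ↔ x ∈ k.U := by
  constructor
  · rintro ⟨ξ, hξ⟩
    obtain ⟨k₁, hx₁, -, -⟩ := exists_goodPair_of_mem_X (i := i) (j := j) ⊤ ⊤ rfl x trivial
    rw [a_apply i j k₁ x hx₁] at hξ
    obtain ⟨m, f, g, ζ, h1, h2⟩ := (chart_eq_chart_iff i j).1 hξ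
    rcases m.exists_ax_or_by ζ with ⟨x', hx', rfl⟩ | ⟨y', hy', rfl⟩
    · rw [GoodPair.map_ax] at h2
      have := k₁.ax_injective h2
      subst this
      exact f.le.1 hx'
    · rw [GoodPair.map_by] at h2
      obtain ⟨z, rfl, rfl⟩ := k₁.exists_of_ax_eq_by h2.symm
      have : z ∈ j ⁻¹ᵁ m.V := hy'
      rw [← m.h] at this
      exact f.le.1 this
  · intro hx
    exact ⟨_, (a_apply i j k x hx).symm⟩

theorem b_mem_range_chart_iff (k : GoodPair i j) (y : Y) :
    b i j y ∈ Set.range (chart i j k) ↔ y ∈ k.V := by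
  constructor
  · rintro ⟨ξ, hξ⟩
    obtain ⟨k₁, hy₁, -, -⟩ := exists_goodPair_of_mem_Y (i := i) (j := j) ⊤ ⊤ rfl y trivial
    rw [b_apply i j k₁ y hy₁] at hξ
    obtain ⟨m, f, g, ζ, h1, h2⟩ := (chart_eq_chart_iff i j).1 hξ
    rcases m.exists_ax_or_by ζ with ⟨x', hx', rfl⟩ | ⟨y', hy', rfl⟩
    · rw [GoodPair.map_ax] at h2
      obtain ⟨z, rfl, rfl⟩ := k₁.exists_of_ax_eq_by h2
      have : z ∈ i ⁻¹ᵁ m.U := hx'
      rw [m.h] at this
      exact f.le.2 this
    · rw [GoodPair.map_by] at h2
      have := k₁.by_injective h2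
      subst this
      exact f.le.2 hy'
  · intro hy
    exact ⟨_, (b_apply i j k y hy).symm⟩

theorem a_preimage_opensRange_chart (k : GoodPair i j) :
    (a i j) ⁻¹ᵁ (chart i j k).opensRange = k.hU.fromSpec.opensRange := by
  rw [k.hU.opensRange_fromSpec]
  ext x
  exact a_mem_range_chart_iff i j k x

theorem b_preimage_opensRange_chart (k : GoodPair i j) :
    (b i j) ⁻¹ᵁ (chart i j k).opensRange = k.hV.fromSpec.opensRange := by
  rw [k.hV.opensRange_fromSpec]
  ext y
  exact b_mem_range_chart_iff i j k y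

theorem isPullback_a (k : GoodPair i j) :
    IsPullback k.aS k.hU.fromSpec (chart i j k) (a i j) :=
  IsOpenImmersion.isPullback _ _ _ _ (fromSpec_a i j k) (a_preimage_opensRange_chart i j k)

theorem isPullback_b (k : GoodPair i j) :
    IsPullback k.bS k.hV.fromSpec (chart i j k) (b i j) :=
  IsOpenImmersion.isPullback _ _ _ _ (fromSpec_b i j k) (b_preimage_opensRange_chart i j k)

/-- The affine charts form an open cover of the pushout. -/
noncomputable def chartCover : (P i j).OpenCover where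
  I₀ := GoodPair i j
  X k := (F i j).obj k
  f k := chart i j k
  mem₀ := by
    rw [Scheme.presieve₀_mem_precoverage_iff]
    exact ⟨fun ξ => (exists_chart_eq i j ξ), inferInstance⟩

instance isClosedImmersion_a : IsClosedImmersion (a i j) := by
  refine IsZariskiLocalAtTarget.of_openCover (P := @IsClosedImmersion) (chartCover i j) ?_
  intro k
  change IsClosedImmersion (pullback.snd (a i j) (chart i j k))
  rw [← (isPullback_a i j k).flip.isoPullback_inv_snd]
  infer_instance

instance isClosedImmersion_b : IsClosedImmersion (b i j) := by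
  refine IsZariskiLocalAtTarget.of_openCover (P := @IsClosedImmersion) (chartCover i j) ?_
  intro k
  change IsClosedImmersion (pullback.snd (b i j) (chart i j k))
  rw [← (isPullback_b i j k).flip.isoPullback_inv_snd]
  infer_instance

end Groth.Agent.Lib.Helper58.ClPushout
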