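/-
Helper library (helper58): the pushout square of two closed immersions is cartesian.
-/
import Mathlib
import Groth.Agent.Lib.Helper58.ClPushoutProps

set_option autoImplicit false
universe u

open AlgebraicGeometry CategoryTheory Limits

namespace Groth.Agent.Lib.Helper58.ClPushout

open Groth.Agent.Lib.Helper61 Groth.Agent.Lib.Helper58.UnionPushout

variable {X Y Z : Scheme.{u}} (i : Z ⟶ X) (j : Z ⟶ Y) [IsClosedImmersion i] [IsClosedImmersion j]

section

variable {T : Scheme.{u}} (g : T ⟶ X) (h : T ⟶ Y) (w : g ≫ a i j = h ≫ b i j)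

include w in
theorem preimage_eq_of_comm (m : GoodPair i j) : g ⁻¹ᵁ m.U = h ⁻¹ᵁ m.V := by
  ext t
  change g t ∈ m.U ↔ h t ∈ m.V
  rw [← a_mem_range_chart_iff i j m, ← b_mem_range_chart_iff i j m, ← Scheme.Hom.comp_apply,
    ← Scheme.Hom.comp_apply, w]

include w in
theorem appLE_fst_eq_appLE_snd (m : GoodPair i j) (W' : T.Opens) (hW' : IsAffineOpen W')
    (e : W' ≤ g ⁻¹ᵁ m.U) (e' : W' ≤ h ⁻¹ᵁ m.V) (c : m.C) :
    g.appLE m.U W' e (FP.fst m.q m.p c) = h.appLE m.V W' e' (FP.snd m.q m.p c) := by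
  have h1 : Spec.map (g.appLE m.U W' e) ≫ m.aS ≫ chart i j m =
      Spec.map (h.appLE m.V W' e') ≫ m.bS ≫ chart i j m := by
    rw [← fromSpec_a, ← fromSpec_b, ← Category.assoc, ← Category.assoc,
      IsAffineOpen.SpecMap_appLE_fromSpec g m.hU hW' e,
      IsAffineOpen.SpecMap_appLE_fromSpec h m.hV hW' e', Category.assoc, Category.assoc, w]
  rw [← Category.assoc, ← Category.assoc, cancel_mono] at h1
  have h2 : Spec.map (CommRingCat.ofHom (FP.fst m.q m.p) ≫ g.appLE m.U W' e) =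
      Spec.map (CommRingCat.ofHom (FP.snd m.q m.p) ≫ h.appLE m.V W' e') := by
    rw [Spec.map_comp, Spec.map_comp]
    exact h1
  have h3 := Spec.map_injective h2
  exact congrArg (fun φ => φ.hom c) h3

include w in
theorem app_eq_zero_of_comm (U : X.Opens) (r : Γ(X, U)) (hr : i.app U r = 0) : g.app U r = 0 := by
  -- an open of `Y` with the same trace on `Z`
  obtain ⟨V₀s, hV₀s, hV₀e⟩ := (Scheme.Hom.isClosedEmbedding j).isInducing.isOpen_iff.1
    (i ⁻¹ᵁ U).isOpen
  let V₀ : Y.Opens := ⟨V₀s, hV₀s⟩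
  have h₀ : i ⁻¹ᵁ U = j ⁻¹ᵁ V₀ := by
    ext z
    exact (Set.ext_iff.1 hV₀e z).symm
  -- local statement
  have key : ∀ t : T, t ∈ g ⁻¹ᵁ U → ∃ W' : T.Opens, t ∈ W' ∧ ∃ hle : W' ≤ g ⁻¹ᵁ U,
      T.presheaf.map (homOfLE hle).op (g.app U r) = T.presheaf.map (homOfLE hle).op 0 := by
    intro t ht
    obtain ⟨m, hm1, hm2, hm3⟩ := exists_goodPair_of_mem_X (i := i) (j := j) U V₀ h₀ (g t) ht
    obtain ⟨_, ⟨W', hW' : IsAffineOpen W', rfl⟩, htW', hW'le⟩ :=
      T.isBasis_affineOpens.exists_subset_of_mem_open (show t ∈ g ⁻¹ᵁ m.U from hm1)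
        (g ⁻¹ᵁ m.U).isOpen
    have e : W' ≤ g ⁻¹ᵁ m.U := hW'le
    have e' : W' ≤ h ⁻¹ᵁ m.V := preimage_eq_of_comm i j g h w m ▸ e
    have hle : W' ≤ g ⁻¹ᵁ U := e.trans (fun _ hx => hm2 hx)
    refine ⟨W', htW', hle, ?_⟩
    rw [map_zero]
    -- the element of the chart ring
    have hq : m.q (X.presheaf.map (homOfLE hm2).op r) = m.p 0 := by
      rw [map_zero]
      unfold GoodPair.q
      rw [← CommRingCat.comp_apply, Scheme.Hom.map_appLE, Scheme.Hom.appLE, CommRingCat.comp_apply,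
        hr, map_zero]
    have h1 := appLE_fst_eq_appLE_snd i j g h w m W' hW' e e' ⟨(X.presheaf.map (homOfLE hm2).op r, 0), hq⟩
    change g.appLE m.U W' e (X.presheaf.map (homOfLE hm2).op r) = h.appLE m.V W' e' 0 at h1
    rw [map_zero, ← CommRingCat.comp_apply, Scheme.Hom.map_appLE, Scheme.Hom.appLE,
      CommRingCat.comp_apply] at h1
    exact h1
  choose W' hW'mem hW'le hW'eq using key
  refine TopCat.Sheaf.eq_of_locally_eq' T.sheaf (fun t : (g ⁻¹ᵁ U : T.Opens) => W' t.1 t.2) (g ⁻¹ᵁ U)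
    (fun t => homOfLE (hW'le t.1 t.2)) ?_ _ _ (fun t => hW'eq t.1 t.2)
  intro t ht
  exact TopologicalSpace.Opens.mem_iSup.mpr ⟨⟨t, ht⟩, hW'mem t ht⟩

include w in
theorem ker_le_of_comm : i.ker ≤ g.ker := by
  refine Scheme.IdealSheafData.le_ofIdeals_iff.2 fun U r hr => ?_
  have hr' : r ∈ RingHom.ker (i.app U.1).hom := Scheme.Hom.ideal_ker_le i U hr
  exact app_eq_zero_of_comm i j g h w U.1 r hr'

end

/-- The pushout square is cartesian. -/
theorem isPullback : IsPullback i j (a i j) (b i j) := by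
  refine IsPullback.of_isLimit' ⟨comm i j⟩ ?_
  refine PullbackCone.IsLimit.mk _
    (fun t => IsClosedImmersion.lift i t.fst (ker_le_of_comm i j t.fst t.snd t.condition))
    (fun t => IsClosedImmersion.lift_fac _ _ _)
    (fun t => ?_)
    (fun t m h1 _ => ?_)
  · rw [← cancel_mono (b i j), Category.assoc, ← comm, IsClosedImmersion.lift_fac_assoc]
    exact t.condition
  · rw [← cancel_mono i, IsClosedImmersion.lift_fac]
    exact h1

end Groth.Agent.Lib.Helper58.ClPushout
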