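/-
Helper library (helper58): finite sets of points in affine opens: shrinking to basic opens with
prescribed trace on a closed subscheme; finite subsets of the pushout of two closed immersions lie
in an affine chart.
-/
import Mathlib
import Groth.Agent.Lib.Helper58.ClPushoutPB
import Groth.Agent.Lib.Helper58.PrimeAvoidCoset

set_option autoImplicit false
universe u

open AlgebraicGeometry CategoryTheory Limits

namespace Groth.Agent.Lib.Helper58.ClPushout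

open Groth.Agent.Lib.Helper61 Groth.Agent.Lib.Helper58.UnionPushout
open Groth.Agent.Lib.Helper58.PrimeAvoidCoset

theorem mem_basicOpen_iff_notMem_primeIdealOf {T : Scheme.{u}} {U : T.Opens} (hU : IsAffineOpen U)
    (f : Γ(T, U)) (x : T) (hx : x ∈ U) :
    x ∈ T.basicOpen f ↔ f ∉ (hU.primeIdealOf ⟨x, hx⟩).asIdeal := by
  have h1 : hU.primeIdealOf ⟨x, hx⟩ ∈ PrimeSpectrum.basicOpen f ↔
      f ∉ (hU.primeIdealOf ⟨x, hx⟩).asIdeal := Iff.rfl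
  rw [← h1, ← hU.fromSpec_preimage_basicOpen]
  change _ ↔ hU.fromSpec (hU.primeIdealOf ⟨x, hx⟩) ∈ T.basicOpen _
  rw [hU.fromSpec_primeIdealOf]

/-- Prime avoidance on an affine open: a finite set of points of `W ∩ O` lies in a basic open of
`W` contained in `O`. -/
theorem exists_basicOpen_le_of_finite {Y : Scheme.{u}} {W : Y.Opens} (hW : IsAffineOpen W)
    (O : Y.Opens) (F : Set Y) (hF : F.Finite) (hFW : F ⊆ W) (hFO : F ⊆ O) :
    ∃ s : Γ(Y, W), F ⊆ Y.basicOpen s ∧ Y.basicOpen s ≤ O := by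
  let t : Set (PrimeSpectrum Γ(Y, W)) := hW.fromSpec ⁻¹' ((O : Set Y)ᶜ)
  have ht : IsClosed t := (O.isOpen.isClosed_compl).preimage hW.fromSpec.continuous
  let I : Ideal Γ(Y, W) := PrimeSpectrum.vanishingIdeal t
  have hI : PrimeSpectrum.zeroLocus (I : Set Γ(Y, W)) = t := by
    rw [PrimeSpectrum.zeroLocus_vanishingIdeal_eq_closure, ht.closure_eq]
  let S : Set (Ideal Γ(Y, W)) :=
    (fun x : W => (hW.primeIdealOf x).asIdeal) '' {x : W | x.1 ∈ F}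
  have hSfin : S.Finite := by
    refine Set.Finite.image _ ?_
    exact hF.preimage (Set.injOn_of_injective Subtype.val_injective)
  have hS : ∀ p ∈ S, p.IsPrime ∧ ¬ I ≤ p := by
    rintro _ ⟨x, hx, rfl⟩
    refine ⟨(hW.primeIdealOf x).isPrime, fun hle => ?_⟩
    have : hW.primeIdealOf x ∈ PrimeSpectrum.zeroLocus (I : Set Γ(Y, W)) := hle
    rw [hI] at this
    have h2 : hW.fromSpec (hW.primeIdealOf x) ∈ ((O : Set Y)ᶜ) := this
    rw [hW.fromSpec_primeIdealOf] at h2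
    exact h2 (hFO hx)
  obtain ⟨s, hsI, hs⟩ := exists_mem_notMem_of_finite I S hSfin hS
  refine ⟨s, fun y hy => ?_, fun y hy => ?_⟩
  · rw [SetLike.mem_coe, mem_basicOpen_iff_notMem_primeIdealOf hW s y (hFW hy)]
    exact hs _ ⟨⟨y, hFW hy⟩, hy, rfl⟩
  · have hyW : y ∈ W := Y.basicOpen_le s hy
    rw [mem_basicOpen_iff_notMem_primeIdealOf hW s y hyW] at hy
    by_contra hyO
    apply hy
    have h1 : hW.primeIdealOf ⟨y, hyW⟩ ∈ t := by
      change hW.fromSpec (hW.primeIdealOf ⟨y, hyW⟩) ∈ ((O : Set Y)ᶜ)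
      rw [hW.fromSpec_primeIdealOf]
      exact hyO
    rw [← hI] at h1
    exact h1 hsI

/-- Lifting a section of a closed subscheme over an affine open so that the basic open of the
lift contains a given finite set of points. -/
theorem exists_lift_basicOpen {T Y : Scheme.{u}} (θ : Y ⟶ T) [IsClosedImmersion θ] (U : T.Opens)
    (hU : IsAffineOpen U) (E : Set T) (hE : E.Finite) (hEU : E ⊆ U) (s : Γ(Y, θ ⁻¹ᵁ U))
    (hs : θ ⁻¹' E ⊆ Y.basicOpen s) :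
    ∃ f : Γ(T, U), θ.app U f = s ∧ E ⊆ T.basicOpen f := by
  obtain ⟨f₀, hf₀⟩ := θ.app_surjective U hU s
  let K : Ideal Γ(T, U) := RingHom.ker (θ.app U).hom
  let S : Set (Ideal Γ(T, U)) :=
    (fun x : U => (hU.primeIdealOf x).asIdeal) '' {x : U | x.1 ∈ E ∧ x.1 ∉ Set.range θ}
  have hSfin : S.Finite := by
    refine Set.Finite.image _ ?_
    refine Set.Finite.subset (hE.preimage (Set.injOn_of_injective Subtype.val_injective)) ?_
    intro x hx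
    exact hx.1
  have hW : IsAffineOpen (θ ⁻¹ᵁ U) := hU.preimage θ
  have hS : ∀ p ∈ S, p.IsPrime ∧ ¬ K ≤ p := by
    rintro _ ⟨x, ⟨hxE, hxθ⟩, rfl⟩
    refine ⟨(hU.primeIdealOf x).isPrime, fun hle => hxθ ?_⟩
    have h1 : hU.primeIdealOf x ∈ PrimeSpectrum.zeroLocus (K : Set Γ(T, U)) := hle
    have hsurj : Function.Surjective (θ.app U).hom := θ.app_surjective U hU
    rw [← range_comap_of_surjective _ _ hsurj] at h1
    obtain ⟨w, hw⟩ := h1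
    have hw' : Spec.map (θ.appLE U (θ ⁻¹ᵁ U) le_rfl) w = hU.primeIdealOf x := by
      rw [Scheme.Hom.appLE_eq_app]
      exact hw
    have h2 := congrArg hU.fromSpec hw'
    rw [hU.fromSpec_primeIdealOf, ← Scheme.Hom.comp_apply,
      IsAffineOpen.SpecMap_appLE_fromSpec θ hU hW] at h2
    exact ⟨_, h2⟩
  obtain ⟨κ, hκK, hκ⟩ := exists_add_notMem_of_finite K S hSfin hS f₀
  have hfs : θ.app U (f₀ + κ) = s := by
    rw [map_add, hf₀]
    have : θ.app U κ = 0 := hκK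
    rw [this, add_zero]
  refine ⟨f₀ + κ, hfs, fun x hx => ?_⟩
  by_cases hxθ : x ∈ Set.range θ
  · obtain ⟨z, rfl⟩ := hxθ
    have h1 : z ∈ Y.basicOpen s := hs hx
    rw [← hfs, ← Scheme.preimage_basicOpen] at h1
    exact h1
  · rw [SetLike.mem_coe, mem_basicOpen_iff_notMem_primeIdealOf hU _ x (hEU hx)]
    exact hκ _ ⟨⟨x, hEU hx⟩, ⟨hx, hxθ⟩, rfl⟩

variable {X Y Z : Scheme.{u}} {i : Z ⟶ X} {j : Z ⟶ Y} [IsClosedImmersion i] [IsClosedImmersion j]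

/-- Finite sets of points of `X` and `Y` with the same trace on `Z`, each contained in an affine
open, are contained in a good pair. -/
theorem exists_goodPair_of_finite (E₁ : Set X) (E₂ : Set Y) (hE₁ : E₁.Finite) (hE₂ : E₂.Finite)
    (hE : i ⁻¹' E₁ = j ⁻¹' E₂) (U₁ : X.Opens) (hU₁ : IsAffineOpen U₁) (h₁ : E₁ ⊆ U₁)
    (U₂ : Y.Opens) (hU₂ : IsAffineOpen U₂) (h₂ : E₂ ⊆ U₂) :
    ∃ k : GoodPair i j, E₁ ⊆ k.U ∧ E₂ ⊆ k.V := by
  have hW₁ : IsAffineOpen (i ⁻¹ᵁ U₁) := hU₁.preimage i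
  have hW₂ : IsAffineOpen (j ⁻¹ᵁ U₂) := hU₂.preimage j
  have hFfin : (i ⁻¹' E₁).Finite :=
    hE₁.preimage (Set.injOn_of_injective (Scheme.Hom.isClosedEmbedding i).injective)
  have hFW₁ : i ⁻¹' E₁ ⊆ (i ⁻¹ᵁ U₁ : Z.Opens) := fun z hz => h₁ hz
  have hFW₂ : i ⁻¹' E₁ ⊆ (j ⁻¹ᵁ U₂ : Z.Opens) := fun z hz => by
    rw [hE] at hz
    exact h₂ hz
  -- first shrink `U₁`
  obtain ⟨s₁, hs₁F, hs₁W₂⟩ := exists_basicOpen_le_of_finite hW₁ (j ⁻¹ᵁ U₂) _ hFfin hFW₁ hFW₂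
  obtain ⟨f₁, hf₁, hf₁E⟩ := exists_lift_basicOpen i U₁ hU₁ E₁ hE₁ h₁ s₁ hs₁F
  have hU₁' : IsAffineOpen (X.basicOpen f₁) := hU₁.basicOpen f₁
  have eU₁' : i ⁻¹ᵁ (X.basicOpen f₁) = Z.basicOpen s₁ := by
    rw [Scheme.preimage_basicOpen i f₁, hf₁]
  -- then shrink `U₂`
  obtain ⟨s₂, hs₂F, hs₂W₁⟩ := exists_basicOpen_le_of_finite hW₂ (Z.basicOpen s₁) _ hFfin hFW₂ hs₁F
  obtain ⟨f₂, hf₂, hf₂E⟩ := exists_lift_basicOpen j U₂ hU₂ E₂ hE₂ h₂ s₂ (hE ▸ hs₂F)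
  have hU₂' : IsAffineOpen (Y.basicOpen f₂) := hU₂.basicOpen f₂
  have eU₂' : j ⁻¹ᵁ (Y.basicOpen f₂) = Z.basicOpen s₂ := by
    rw [Scheme.preimage_basicOpen j f₂, hf₂]
  -- finally shrink `U₁'`
  have hle : i ⁻¹ᵁ (X.basicOpen f₁) ≤ j ⁻¹ᵁ U₂ := eU₁' ▸ hs₁W₂
  have hs₃ : i ⁻¹' E₁ ⊆ Z.basicOpen (Z.presheaf.map (homOfLE hle).op s₂) := by
    intro z hz
    rw [Scheme.basicOpen_res]
    exact ⟨hf₁E hz, hs₂F hz⟩
  obtain ⟨f₃, hf₃, hf₃E⟩ := exists_lift_basicOpen i (X.basicOpen f₁) hU₁' E₁ hE₁ hf₁E _ hs₃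
  have hU₃ : IsAffineOpen (X.basicOpen f₃) := hU₁'.basicOpen f₃
  have eU₃ : i ⁻¹ᵁ (X.basicOpen f₃) = j ⁻¹ᵁ (Y.basicOpen f₂) := by
    rw [Scheme.preimage_basicOpen i f₃, hf₃, Scheme.basicOpen_res, eU₂', eU₁']
    exact inf_eq_right.mpr hs₂W₁
  exact ⟨⟨X.basicOpen f₃, Y.basicOpen f₂, hU₃, hU₂', eU₃⟩, hf₃E, hf₂E⟩

variable (i j)

/-- Every point of the pushout comes from `X` or from `Y`. -/
theorem exists_a_or_b (ξ : P i j) : (∃ x : X, a i j x = ξ) ∨ (∃ y : Y, b i j y = ξ) := by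
  obtain ⟨k, ξ', rfl⟩ := exists_chart_eq i j ξ
  rcases k.exists_ax_or_by ξ' with ⟨x, hx, rfl⟩ | ⟨y, hy, rfl⟩
  · exact Or.inl ⟨x, a_apply i j k x hx⟩
  · exact Or.inr ⟨y, b_apply i j k y hy⟩

/-- A finite set of points of the pushout whose preimages in `X` and `Y` lie in affine opens lies
in an affine chart. -/
theorem exists_chart_of_finite (E : Set (P i j)) (hE : E.Finite)
    (h₁ : ∃ U₁ : X.Opens, IsAffineOpen U₁ ∧ (a i j) ⁻¹' E ⊆ (U₁ : Set X))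
    (h₂ : ∃ U₂ : Y.Opens, IsAffineOpen U₂ ∧ (b i j) ⁻¹' E ⊆ (U₂ : Set Y)) :
    ∃ k : GoodPair i j, E ⊆ Set.range (chart i j k) := by
  obtain ⟨U₁, hU₁, h₁⟩ := h₁
  obtain ⟨U₂, hU₂, h₂⟩ := h₂
  have hE₁ : ((a i j) ⁻¹' E).Finite :=
    hE.preimage (Set.injOn_of_injective (Scheme.Hom.isClosedEmbedding (a i j)).injective)
  have hE₂ : ((b i j) ⁻¹' E).Finite :=
    hE.preimage (Set.injOn_of_injective (Scheme.Hom.isClosedEmbedding (b i j)).injective)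
  have hEE : i ⁻¹' ((a i j) ⁻¹' E) = j ⁻¹' ((b i j) ⁻¹' E) := by
    ext z
    change a i j (i z) ∈ E ↔ b i j (j z) ∈ E
    rw [← Scheme.Hom.comp_apply, ← Scheme.Hom.comp_apply, comm]
  obtain ⟨k, hk1, hk2⟩ := exists_goodPair_of_finite (i := i) (j := j) _ _ hE₁ hE₂ hEE U₁ hU₁ h₁
    U₂ hU₂ h₂
  refine ⟨k, fun ξ hξ => ?_⟩
  rcases exists_a_or_b i j ξ with ⟨x, rfl⟩ | ⟨y, rfl⟩
  · exact (a_mem_range_chart_iff i j k x).2 (hk1 hξ)
  · exact (b_mem_range_chart_iff i j k y).2 (hk2 hξ)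

end Groth.Agent.Lib.Helper58.ClPushout
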