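/-
Helper library (helper58): flat base change of Milnor squares of surjections.
-/
import Mathlib
import Groth.Agent.Lib.Helper61.FibSq5

set_option autoImplicit false
universe u

open CategoryTheory Limits TensorProduct

namespace Groth.Agent.Lib.Helper58.FibSqFlat

open Groth.Agent.Lib.Helper61

section Flat

variable {C D : Type*} [CommRing C] [CommRing D] [Algebra C D]

theorem tmul_one_eq_zero_of_mem_map (I : Ideal C) (x : D) (hx : x ∈ I.map (algebraMap C D)) :
    x ⊗ₜ[C] (1 : C ⧸ I) = 0 := by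
  unfold Ideal.map at hx
  induction hx using Submodule.span_induction with
  | mem x h =>
    obtain ⟨c, hc, rfl⟩ := h
    rw [Algebra.algebraMap_eq_smul_one, TensorProduct.smul_tmul]
    have : c • (1 : C ⧸ I) = 0 := by
      rw [Algebra.smul_def, mul_one]
      exact Ideal.Quotient.eq_zero_iff_mem.2 hc
    rw [this, TensorProduct.tmul_zero]
  | zero => rw [TensorProduct.zero_tmul]
  | add x y _ _ hx hy => rw [TensorProduct.add_tmul, hx, hy, add_zero]
  | smul a x _ hx =>
    rw [← TensorProduct.smul_tmul', hx, smul_zero]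

theorem map_inf_map_eq_bot_of_flat [Module.Flat C D] (I J : Ideal C) (h : I ⊓ J = ⊥) :
    I.map (algebraMap C D) ⊓ J.map (algebraMap C D) = ⊥ := by
  rw [eq_bot_iff]
  rintro x ⟨hxI, hxJ⟩
  let φ : C →ₗ[C] (C ⧸ I) × (C ⧸ J) :=
    (Ideal.Quotient.mkₐ C I).toLinearMap.prod (Ideal.Quotient.mkₐ C J).toLinearMap
  have hφ : Function.Injective φ := by
    rw [← LinearMap.ker_eq_bot, eq_bot_iff]
    intro c hc
    have hc' : φ c = 0 := hc
    have h1 : (Ideal.Quotient.mk I c, Ideal.Quotient.mk J c) = 0 := hc'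
    have h2 : c ∈ I ⊓ J :=
      ⟨Ideal.Quotient.eq_zero_iff_mem.1 (congrArg Prod.fst h1),
        Ideal.Quotient.eq_zero_iff_mem.1 (congrArg Prod.snd h1)⟩
    rw [h] at h2
    exact h2
  have hinj := Module.Flat.lTensor_preserves_injective_linearMap (M := D) φ hφ
  have h0 : (φ.lTensor D) (x ⊗ₜ 1) = 0 := by
    rw [LinearMap.lTensor_tmul]
    have e0 : φ 1 = LinearMap.inl C (C ⧸ I) (C ⧸ J) 1 + LinearMap.inr C (C ⧸ I) (C ⧸ J) 1 := by
      simp [φ]
    rw [e0, TensorProduct.tmul_add]
    have e1 : x ⊗ₜ[C] (LinearMap.inl C (C ⧸ I) (C ⧸ J) 1) =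
        (LinearMap.inl C (C ⧸ I) (C ⧸ J)).lTensor D (x ⊗ₜ 1) := rfl
    have e2 : x ⊗ₜ[C] (LinearMap.inr C (C ⧸ I) (C ⧸ J) 1) =
        (LinearMap.inr C (C ⧸ I) (C ⧸ J)).lTensor D (x ⊗ₜ 1) := rfl
    rw [e1, e2, tmul_one_eq_zero_of_mem_map I x hxI, tmul_one_eq_zero_of_mem_map J x hxJ,
      map_zero, map_zero, add_zero]
  have h1 : x ⊗ₜ[C] (1 : C) = 0 := hinj (by rw [h0, map_zero])
  have h2 := congrArg (TensorProduct.rid C D) h1
  simpa using h2

end Flat

section Pushout

variable {R A B X : CommRingCat.{u}} {f : R ⟶ A} {g : R ⟶ B} {a : A ⟶ X} {b : B ⟶ X}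

theorem surjective_of_isPushout (H : IsPushout f g a b) (hf : Function.Surjective f) :
    Function.Surjective b := by
  have h1 := CommRingCat.closure_range_union_range_eq_top_of_isPushout H
  have h2 : Set.range a ⊆ Set.range b := by
    rintro _ ⟨x, rfl⟩
    obtain ⟨r, rfl⟩ := hf x
    refine ⟨g r, ?_⟩
    rw [← CommRingCat.comp_apply, ← CommRingCat.comp_apply, H.w]
  rw [Set.union_eq_self_of_subset_left h2] at h1
  have h3 : Subring.closure (Set.range b) = b.hom.range := by
    rw [← RingHom.coe_range, Subring.closure_eq]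
  intro x
  have : x ∈ b.hom.range := by
    rw [← h3, h1]
    trivial
  exact this

theorem ker_of_isPushout (H : IsPushout f g a b) (hf : Function.Surjective f) :
    RingHom.ker b.hom = (RingHom.ker f.hom).map g.hom := by
  apply le_antisymm
  · let K : Ideal B := (RingHom.ker f.hom).map g.hom
    let v : B ⟶ CommRingCat.of (B ⧸ K) := CommRingCat.ofHom (Ideal.Quotient.mk K)
    have hK : RingHom.ker f.hom ≤ RingHom.ker ((Ideal.Quotient.mk K).comp g.hom) := by
      intro r hr
      rw [RingHom.mem_ker, RingHom.comp_apply, Ideal.Quotient.eq_zero_iff_mem]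
      exact Ideal.mem_map_of_mem _ hr
    let u : A ⟶ CommRingCat.of (B ⧸ K) :=
      CommRingCat.ofHom (RingHom.liftOfSurjective f.hom hf ⟨(Ideal.Quotient.mk K).comp g.hom, hK⟩)
    have huv : f ≫ u = g ≫ v := by
      ext r
      change (RingHom.liftOfSurjective f.hom hf ⟨(Ideal.Quotient.mk K).comp g.hom, hK⟩) (f.hom r) =
        (Ideal.Quotient.mk K) (g.hom r)
      rw [RingHom.liftOfRightInverse_comp_apply]
      rfl
    intro x hx
    have h1 : b ≫ H.desc u v huv = v := H.inr_desc u v huv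
    have h2 : v x = 0 := by
      rw [← h1, CommRingCat.comp_apply]
      have : b x = 0 := hx
      rw [this, map_zero]
    exact Ideal.Quotient.eq_zero_iff_mem.1 h2
  · rw [Ideal.map_le_iff_le_comap]
    intro r hr
    change b (g r) = 0
    rw [← CommRingCat.comp_apply, ← H.w, CommRingCat.comp_apply]
    have : f r = 0 := hr
    rw [this, map_zero]

end Pushout

/-- Flat base change of a Milnor square of surjections. -/
theorem fibSq_of_isPushout_flat
    {C B A' A D BD AD' AD : CommRingCat.{u}}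
    {f : C ⟶ B} {s : C ⟶ A'} {q : B ⟶ A} {p : A' ⟶ A} (h : FibSq f.hom s.hom q.hom p.hom)
    (hq : Function.Surjective q)
    {d : C ⟶ D} (hd : d.hom.Flat)
    {fD : D ⟶ BD} {sD : D ⟶ AD'} {qD : BD ⟶ AD} {pD : AD' ⟶ AD}
    {bB : B ⟶ BD} {bA' : A' ⟶ AD'} {bA : A ⟶ AD}
    (hB : IsPushout f d bB fD) (hA' : IsPushout s d bA' sD)
    (hA : IsPushout (f ≫ q) d bA (fD ≫ qD))
    (hcomm : fD ≫ qD = sD ≫ pD) : FibSq fD.hom sD.hom qD.hom pD.hom := by
  have hf : Function.Surjective f := h.f_surjective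
  have hs : Function.Surjective s := by
    intro a'
    obtain ⟨b, hb⟩ := hq (p a')
    obtain ⟨c, -, hc⟩ := h.lift b a' hb
    exact ⟨c, hc⟩
  have hfq : Function.Surjective (f ≫ q) := by
    intro x
    obtain ⟨b, rfl⟩ := hq x
    obtain ⟨c, rfl⟩ := hf b
    exact ⟨c, rfl⟩
  have hIJ : RingHom.ker f.hom ⊓ RingHom.ker s.hom = ⊥ := by
    rw [eq_bot_iff]
    rintro c ⟨h1, h2⟩
    have h1' : f.hom c = 0 := h1
    have h2' : s.hom c = 0 := h2
    exact h.inj c 0 (by rw [h1', map_zero]) (by rw [h2', map_zero])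
  have hker : RingHom.ker (f ≫ q).hom = RingHom.ker f.hom ⊔ RingHom.ker s.hom := by
    apply le_antisymm
    · intro c hc
      have hc' : q.hom (f.hom c) = 0 := hc
      obtain ⟨c', h1, h2⟩ := h.lift (f.hom c) 0 (by rw [hc', map_zero])
      have : c = (c - c') + c' := by ring
      rw [this]
      refine Submodule.add_mem_sup ?_ h2
      change f.hom (c - c') = 0
      rw [map_sub, h1, sub_self]
    · rw [sup_le_iff]
      constructor
      · intro c hc
        have hc' : f.hom c = 0 := hc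
        change q.hom (f.hom c) = 0
        rw [hc', map_zero]
      · intro c hc
        have hc' : s.hom c = 0 := hc
        change q.hom (f.hom c) = 0
        rw [h.comm, hc', map_zero]
  have hfD : Function.Surjective fD := surjective_of_isPushout hB hf
  have hsD : Function.Surjective sD := surjective_of_isPushout hA' hs
  have hrD : Function.Surjective (fD ≫ qD) := surjective_of_isPushout hA hfq
  have kfD : RingHom.ker fD.hom = (RingHom.ker f.hom).map d.hom := ker_of_isPushout hB hf
  have ksD : RingHom.ker sD.hom = (RingHom.ker s.hom).map d.hom := ker_of_isPushout hA' hs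
  have krD : RingHom.ker (fD ≫ qD).hom = (RingHom.ker f.hom).map d.hom ⊔
      (RingHom.ker s.hom).map d.hom := by
    rw [ker_of_isPushout hA hfq, hker, Ideal.map_sup]
  have hflat : (RingHom.ker f.hom).map d.hom ⊓ (RingHom.ker s.hom).map d.hom = ⊥ := by
    letI := d.hom.toAlgebra
    haveI : Module.Flat C D := hd
    exact map_inf_map_eq_bot_of_flat (C := C) (D := D) _ _ hIJ
  have hc : ∀ c, qD.hom (fD.hom c) = pD.hom (sD.hom c) := fun c =>
    congrArg (fun φ => φ.hom c) hcomm
  refine ⟨hc, ?_, ?_, ?_⟩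
  · intro x
    obtain ⟨c, hc'⟩ := hrD x
    refine ⟨sD.hom c, ?_⟩
    rw [← hc]
    exact hc'
  · intro β α' hβα
    obtain ⟨c₁, rfl⟩ := hfD β
    obtain ⟨c₂, rfl⟩ := hsD α'
    have h1 : c₁ - c₂ ∈ RingHom.ker (fD ≫ qD).hom := by
      change qD.hom (fD.hom (c₁ - c₂)) = 0
      rw [map_sub, map_sub, hc c₂]
      exact sub_eq_zero.2 hβα
    rw [krD, Submodule.mem_sup] at h1
    obtain ⟨x, hx, y, hy, hxy⟩ := h1
    rw [← kfD] at hx
    rw [← ksD] at hy
    have hx' : fD.hom x = 0 := hx
    have hy' : sD.hom y = 0 := hy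
    refine ⟨c₁ - x, ?_, ?_⟩
    · change fD.hom (c₁ - x) = fD.hom c₁
      rw [map_sub, hx', sub_zero]
    · have : c₁ - x = c₂ + y := by linear_combination (-1 : D) * hxy
      change sD.hom (c₁ - x) = sD.hom c₂
      rw [this, map_add, hy', add_zero]
  · intro c c' h1 h2
    have hmem : c - c' ∈ (RingHom.ker f.hom).map d.hom ⊓ (RingHom.ker s.hom).map d.hom := by
      rw [← kfD, ← ksD]
      constructor
      · change fD.hom (c - c') = 0
        rw [map_sub]
        exact sub_eq_zero.2 h1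
      · change sD.hom (c - c') = 0
        rw [map_sub]
        exact sub_eq_zero.2 h2
    rw [hflat] at hmem
    exact sub_eq_zero.1 hmem

end Groth.Agent.Lib.Helper58.FibSqFlat
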