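/-
Helper library (helper58): a commutative square of schemes which is, over a basis of affine opens
of the target, a Milnor square of rings, is a pushout square.
-/
import Mathlib
import Groth.Agent.Lib.Helper58.GlueOpenImm

set_option autoImplicit false
universe u

open AlgebraicGeometry CategoryTheory Limits

namespace Groth.Agent.Lib.Helper58.LocalPushout

open Groth.Agent.Lib.Helper61 Groth.Agent.Lib.Helper58.UnionPushout

variable {X Y Z Q : Scheme.{u}} {i : Z ⟶ X} {j : Z ⟶ Y} {a : X ⟶ Q} {b : Y ⟶ Q}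

theorem preimage_le (w : i ≫ a = j ≫ b) (O : Q.Opens) : i ⁻¹ᵁ a ⁻¹ᵁ O ≤ j ⁻¹ᵁ b ⁻¹ᵁ O := by
  intro z hz
  change b (j z) ∈ O
  rw [← Scheme.Hom.comp_apply, ← w]
  exact hz

variable [IsAffineHom a] [IsAffineHom b] [IsAffineHom i]

/-- The local Milnor square condition over an affine open `O` of `Q`. -/
def LocFib (w : i ≫ a = j ≫ b) (O : Q.Opens) : Prop :=
  FibSq (a.appLE O (a ⁻¹ᵁ O) le_rfl).hom (b.appLE O (b ⁻¹ᵁ O) le_rfl).hom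
    (i.appLE (a ⁻¹ᵁ O) (i ⁻¹ᵁ a ⁻¹ᵁ O) le_rfl).hom
    (j.appLE (b ⁻¹ᵁ O) (i ⁻¹ᵁ a ⁻¹ᵁ O) (preimage_le w O)).hom

section

variable (w : i ≫ a = j ≫ b) (𝓑 : Set Q.Opens) (haff : ∀ O ∈ 𝓑, IsAffineOpen O)
  (hcov : ∀ q : Q, ∃ O ∈ 𝓑, q ∈ O)
  (hinf : ∀ O₁ ∈ 𝓑, ∀ O₂ ∈ 𝓑, ∀ q : Q, q ∈ O₁ → q ∈ O₂ → ∃ O₃ ∈ 𝓑, q ∈ O₃ ∧ O₃ ≤ O₁ ∧ O₃ ≤ O₂)
  (hfib : ∀ O ∈ 𝓑, LocFib w O)

include haff hcov hfib in
theorem hom_ext_Q {T : Scheme.{u}} (g g' : Q ⟶ T) (h1 : a ≫ g = a ≫ g') (h2 : b ≫ g = b ≫ g') :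
    g = g' := by
  refine hom_ext_of_forall_openImmersion g g' fun q => ?_
  obtain ⟨O, hO𝓑, hqO⟩ := hcov q
  have hO := haff O hO𝓑
  refine ⟨_, hO.fromSpec, inferInstance, by rw [hO.range_fromSpec]; exact hqO, ?_⟩
  refine (hfib O hO𝓑).hom_ext _ _ ?_ ?_
  · change Spec.map (a.appLE O (a ⁻¹ᵁ O) le_rfl) ≫ hO.fromSpec ≫ g =
      Spec.map (a.appLE O (a ⁻¹ᵁ O) le_rfl) ≫ hO.fromSpec ≫ g'
    rw [← Category.assoc, ← Category.assoc,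
      IsAffineOpen.SpecMap_appLE_fromSpec a hO (hO.preimage a) le_rfl, Category.assoc,
      Category.assoc, h1]
  · change Spec.map (b.appLE O (b ⁻¹ᵁ O) le_rfl) ≫ hO.fromSpec ≫ g =
      Spec.map (b.appLE O (b ⁻¹ᵁ O) le_rfl) ≫ hO.fromSpec ≫ g'
    rw [← Category.assoc, ← Category.assoc,
      IsAffineOpen.SpecMap_appLE_fromSpec b hO (hO.preimage b) le_rfl, Category.assoc,
      Category.assoc, h2]

include haff hcov hinf hfib in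
theorem exists_desc_Q {T : Scheme.{u}} (fX : X ⟶ T) (fY : Y ⟶ T) (h : i ≫ fX = j ≫ fY) :
    ∃ g : Q ⟶ T, a ≫ g = fX ∧ b ≫ g = fY := by
  have hloc : ∀ O : 𝓑, ∃ γ : Spec Γ(Q, O.1) ⟶ T,
      Spec.map (b.appLE O.1 (b ⁻¹ᵁ O.1) le_rfl) ≫ γ =
        ((haff O.1 O.2).preimage b).fromSpec ≫ fY ∧
      Spec.map (a.appLE O.1 (a ⁻¹ᵁ O.1) le_rfl) ≫ γ =
        ((haff O.1 O.2).preimage a).fromSpec ≫ fX := by
    intro O
    have hO := haff O.1 O.2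
    have hUX := hO.preimage a
    have hUY := hO.preimage b
    have hUZ := hUX.preimage i
    refine (hfib O.1 O.2).exists_desc (hUY.fromSpec ≫ fY) (hUX.fromSpec ≫ fX) ?_
    change Spec.map (j.appLE (b ⁻¹ᵁ O.1) (i ⁻¹ᵁ a ⁻¹ᵁ O.1) (preimage_le w O.1)) ≫ hUY.fromSpec ≫ fY =
      Spec.map (i.appLE (a ⁻¹ᵁ O.1) (i ⁻¹ᵁ a ⁻¹ᵁ O.1) le_rfl) ≫ hUX.fromSpec ≫ fX
    rw [← Category.assoc, ← Category.assoc,
      IsAffineOpen.SpecMap_appLE_fromSpec j hUY hUZ (preimage_le w O.1),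
      IsAffineOpen.SpecMap_appLE_fromSpec i hUX hUZ le_rfl, Category.assoc, Category.assoc, h]
  choose γ hγY hγX using hloc
  -- compatibility with restriction
  have hres : ∀ (O₁ O₃ : 𝓑) (h31 : O₃.1 ≤ O₁.1),
      Spec.map (Q.presheaf.map (homOfLE h31).op) ≫ γ O₁ = γ O₃ := by
    intro O₁ O₃ h31
    have hO₁ := haff O₁.1 O₁.2
    have hO₃ := haff O₃.1 O₃.2
    have hXle : a ⁻¹ᵁ O₃.1 ≤ a ⁻¹ᵁ O₁.1 := fun x hx => h31 hx
    have hYle : b ⁻¹ᵁ O₃.1 ≤ b ⁻¹ᵁ O₁.1 := fun x hx => h31 hx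
    refine (hfib O₃.1 O₃.2).hom_ext _ _ ?_ ?_
    · change Spec.map (a.appLE O₃.1 (a ⁻¹ᵁ O₃.1) le_rfl) ≫
        Spec.map (Q.presheaf.map (homOfLE h31).op) ≫ γ O₁ =
        Spec.map (a.appLE O₃.1 (a ⁻¹ᵁ O₃.1) le_rfl) ≫ γ O₃
      rw [hγX, ← Category.assoc, ← Spec.map_comp, Scheme.Hom.map_appLE,
        ← Scheme.Hom.appLE_map a (le_rfl : a ⁻¹ᵁ O₁.1 ≤ a ⁻¹ᵁ O₁.1) (homOfLE hXle).op,
        Spec.map_comp, Category.assoc, hγX, ← Category.assoc, IsAffineOpen.map_fromSpec]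
    · change Spec.map (b.appLE O₃.1 (b ⁻¹ᵁ O₃.1) le_rfl) ≫
        Spec.map (Q.presheaf.map (homOfLE h31).op) ≫ γ O₁ =
        Spec.map (b.appLE O₃.1 (b ⁻¹ᵁ O₃.1) le_rfl) ≫ γ O₃
      rw [hγY, ← Category.assoc, ← Spec.map_comp, Scheme.Hom.map_appLE,
        ← Scheme.Hom.appLE_map b (le_rfl : b ⁻¹ᵁ O₁.1 ≤ b ⁻¹ᵁ O₁.1) (homOfLE hYle).op,
        Spec.map_comp, Category.assoc, hγY, ← Category.assoc, IsAffineOpen.map_fromSpec]
  obtain ⟨Γ, hΓ⟩ := GlueOpenImm.exists_glue (fun O : 𝓑 => Spec Γ(Q, O.1))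
    (fun O => (haff O.1 O.2).fromSpec) (fun q => by
      obtain ⟨O, hO𝓑, hqO⟩ := hcov q
      exact ⟨⟨O, hO𝓑⟩, by rw [(haff O hO𝓑).range_fromSpec]; exact hqO⟩) γ (by
      intro O₁ O₂ q hq1 hq2
      rw [(haff O₁.1 O₁.2).range_fromSpec] at hq1
      rw [(haff O₂.1 O₂.2).range_fromSpec] at hq2
      obtain ⟨O₃, hO₃𝓑, hq3, h31, h32⟩ := hinf O₁.1 O₁.2 O₂.1 O₂.2 q hq1 hq2
      refine ⟨⟨O₃, hO₃𝓑⟩, Spec.map (Q.presheaf.map (homOfLE h31).op),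
        Spec.map (Q.presheaf.map (homOfLE h32).op),
        (haff O₁.1 O₁.2).map_fromSpec (haff O₃ hO₃𝓑) _,
        (haff O₂.1 O₂.2).map_fromSpec (haff O₃ hO₃𝓑) _, ?_, hres O₁ ⟨O₃, hO₃𝓑⟩ h31,
        hres O₂ ⟨O₃, hO₃𝓑⟩ h32⟩
      rw [(haff O₃ hO₃𝓑).range_fromSpec]
      exact hq3)
  refine ⟨Γ, ?_, ?_⟩
  · refine hom_ext_of_forall_openImmersion _ _ fun x => ?_
    obtain ⟨O, hO𝓑, hqO⟩ := hcov (a x)
    have hO := haff O hO𝓑
    refine ⟨_, (hO.preimage a).fromSpec, inferInstance, by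
      rw [(hO.preimage a).range_fromSpec]; exact hqO, ?_⟩
    rw [← Category.assoc, ← IsAffineOpen.SpecMap_appLE_fromSpec a hO (hO.preimage a) le_rfl,
      Category.assoc]
    have := hΓ ⟨O, hO𝓑⟩
    rw [this]
    exact hγX ⟨O, hO𝓑⟩
  · refine hom_ext_of_forall_openImmersion _ _ fun y => ?_
    obtain ⟨O, hO𝓑, hqO⟩ := hcov (b y)
    have hO := haff O hO𝓑
    refine ⟨_, (hO.preimage b).fromSpec, inferInstance, by
      rw [(hO.preimage b).range_fromSpec]; exact hqO, ?_⟩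
    rw [← Category.assoc, ← IsAffineOpen.SpecMap_appLE_fromSpec b hO (hO.preimage b) le_rfl,
      Category.assoc]
    have := hΓ ⟨O, hO𝓑⟩
    rw [this]
    exact hγY ⟨O, hO𝓑⟩

include haff hcov hinf hfib in
/-- A square which is a Milnor square over a basis of affine opens of the target is a pushout. -/
theorem isPushout_of_locFib : IsPushout i j a b := by
  refine IsPushout.of_isColimit' ⟨w⟩ ?_
  refine PushoutCocone.IsColimit.mk _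
    (fun t => (exists_desc_Q w 𝓑 haff hcov hinf hfib t.inl t.inr t.condition).choose)
    (fun t => (exists_desc_Q w 𝓑 haff hcov hinf hfib t.inl t.inr t.condition).choose_spec.1)
    (fun t => (exists_desc_Q w 𝓑 haff hcov hinf hfib t.inl t.inr t.condition).choose_spec.2)
    (fun t m h1 h2 => ?_)
  refine hom_ext_Q w 𝓑 haff hcov hfib _ _ ?_ ?_
  · exact h1.trans (exists_desc_Q w 𝓑 haff hcov hinf hfib t.inl t.inr
      t.condition).choose_spec.1.symm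
  · exact h2.trans (exists_desc_Q w 𝓑 haff hcov hinf hfib t.inl t.inr
      t.condition).choose_spec.2.symm

end

end Groth.Agent.Lib.Helper58.LocalPushout
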