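/-
Helper library (helper58): the pushout of two closed immersions commutes with flat base change.
-/
import Mathlib
import Groth.Agent.Lib.Helper58.ClPushoutPB
import Groth.Agent.Lib.Helper58.FibSqFlat
import Groth.Agent.Lib.Helper58.LocalPushout

set_option autoImplicit false
universe u

open AlgebraicGeometry CategoryTheory Limits

namespace Groth.Agent.Lib.Helper58.ClPushout

open Groth.Agent.Lib.Helper61 Groth.Agent.Lib.Helper58.UnionPushout
open Groth.Agent.Lib.Helper58.FibSqFlat Groth.Agent.Lib.Helper58.LocalPushout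

variable {X Y Z : Scheme.{u}} (i : Z ⟶ X) (j : Z ⟶ Y) [IsClosedImmersion i] [IsClosedImmersion j]

/-- The chart as an open of the pushout. -/
noncomputable def chartOpen (k : GoodPair i j) : (P i j).Opens := (chart i j k).opensRange

instance (k : GoodPair i j) : IsAffine ((F i j).obj k) := inferInstanceAs (IsAffine (Spec _))

theorem isAffineOpen_chartOpen (k : GoodPair i j) : IsAffineOpen (chartOpen i j k) :=
  isAffineOpen_opensRange (chart i j k)

theorem U_le (k : GoodPair i j) : k.U ≤ (a i j) ⁻¹ᵁ chartOpen i j k :=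
  fun x hx => (a_mem_range_chart_iff i j k x).2 hx

theorem V_le (k : GoodPair i j) : k.V ≤ (b i j) ⁻¹ᵁ chartOpen i j k :=
  fun y hy => (b_mem_range_chart_iff i j k y).2 hy

theorem mem_U_of_a_mem (k : GoodPair i j) {x : X} (hx : a i j x ∈ chartOpen i j k) : x ∈ k.U :=
  (a_mem_range_chart_iff i j k x).1 hx

theorem mem_V_of_b_mem (k : GoodPair i j) {y : Y} (hy : b i j y ∈ chartOpen i j k) : y ∈ k.V :=
  (b_mem_range_chart_iff i j k y).1 hy

theorem exists_mem_chartOpen (ξ : P i j) : ∃ k : GoodPair i j, ξ ∈ chartOpen i j k := by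
  obtain ⟨k, ξ', rfl⟩ := exists_chart_eq i j ξ
  exact ⟨k, ξ', rfl⟩

/-- Transport of a Milnor square along a bijection of the corner ring. -/
theorem _root_.Groth.Agent.Lib.Helper61.FibSq.comp_bijective {C C' B A' A : Type*} [CommRing C]
    [CommRing C'] [CommRing B] [CommRing A'] [CommRing A] {f : C →+* B} {s : C →+* A'}
    {q : B →+* A} {p : A' →+* A} (h : FibSq f s q p) (φ : C' →+* C)
    (hφ : Function.Bijective φ) : FibSq (f.comp φ) (s.comp φ) q p := by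
  refine ⟨fun c => h.comm (φ c), h.surj, fun b a' hba => ?_, fun c c' h1 h2 => ?_⟩
  · obtain ⟨c, hc1, hc2⟩ := h.lift b a' hba
    obtain ⟨c', rfl⟩ := hφ.2 c
    exact ⟨c', hc1, hc2⟩
  · exact hφ.1 (h.inj _ _ h1 h2)

/-- The sections of the pushout over a chart form a Milnor square. -/
theorem fibSq_chart (k : GoodPair i j) :
    FibSq ((a i j).appLE (chartOpen i j k) k.U (U_le i j k)).hom
      ((b i j).appLE (chartOpen i j k) k.V (V_le i j k)).hom k.q k.p := by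
  have hO := isAffineOpen_chartOpen i j k
  let c : Spec (CommRingCat.of k.C) ⟶ P i j := chart i j k
  haveI : IsOpenImmersion c := inferInstanceAs (IsOpenImmersion (chart i j k))
  have hrange : Set.range c = Set.range hO.fromSpec := by
    rw [hO.range_fromSpec]
    rfl
  let ε : Spec (CommRingCat.of k.C) ≅ Spec Γ(P i j, chartOpen i j k) :=
    IsOpenImmersion.isoOfRangeEq c hO.fromSpec hrange
  have hε : ε.hom ≫ hO.fromSpec = c := IsOpenImmersion.isoOfRangeEq_hom_fac _ _ _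
  let φ : Γ(P i j, chartOpen i j k) ⟶ CommRingCat.of k.C := Spec.preimage ε.hom
  let ψ : CommRingCat.of k.C ⟶ Γ(P i j, chartOpen i j k) := Spec.preimage ε.inv
  have hφ : Spec.map φ = ε.hom := Spec.map_preimage _
  have hψ : Spec.map ψ = ε.inv := Spec.map_preimage _
  have h1 : φ ≫ ψ = 𝟙 _ := by
    apply Spec.map_injective
    rw [Spec.map_comp, hφ, hψ, ε.inv_hom_id, Spec.map_id]
  have h2 : ψ ≫ φ = 𝟙 _ := by
    apply Spec.map_injective
    rw [Spec.map_comp, hφ, hψ, ε.hom_inv_id, Spec.map_id]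
  have hbij : Function.Bijective φ.hom := by
    refine ⟨fun x y hxy => ?_, fun y => ⟨ψ.hom y, ?_⟩⟩
    · have := congrArg ψ.hom hxy
      have e : ∀ z, ψ.hom (φ.hom z) = z := fun z => congrArg (fun θ => θ.hom z) h1
      rwa [e, e] at this
    · exact congrArg (fun θ => θ.hom y) h2
  have fa : k.hU.fromSpec ≫ a i j = Spec.map (CommRingCat.ofHom (FP.fst k.q k.p)) ≫ c :=
    fromSpec_a i j k
  have fb : k.hV.fromSpec ≫ b i j = Spec.map (CommRingCat.ofHom (FP.snd k.q k.p)) ≫ c :=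
    fromSpec_b i j k
  have ea : (a i j).appLE (chartOpen i j k) k.U (U_le i j k) =
      φ ≫ CommRingCat.ofHom (FP.fst k.q k.p) := by
    apply Spec.map_injective
    rw [← cancel_mono hO.fromSpec, IsAffineOpen.SpecMap_appLE_fromSpec (a i j) hO k.hU,
      Spec.map_comp, hφ, Category.assoc, hε]
    exact fa
  have eb : (b i j).appLE (chartOpen i j k) k.V (V_le i j k) =
      φ ≫ CommRingCat.ofHom (FP.snd k.q k.p) := by
    apply Spec.map_injective
    rw [← cancel_mono hO.fromSpec, IsAffineOpen.SpecMap_appLE_fromSpec (b i j) hO k.hV,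
      Spec.map_comp, hφ, Category.assoc, hε]
    exact fb
  rw [ea, eb]
  exact k.fibSq.comp_bijective φ.hom hbij

section BaseChange

variable {Q X' Y' Z' : Scheme.{u}} (π : Q ⟶ P i j) [Flat π]
  (πX : X' ⟶ X) (a' : X' ⟶ Q) (hX : IsPullback πX a' (a i j) π)
  (πY : Y' ⟶ Y) (b' : Y' ⟶ Q) (hY : IsPullback πY b' (b i j) π)
  (πZ : Z' ⟶ Z) (i' : Z' ⟶ X') (hZ : IsPullback πZ i' i πX)
  (j' : Z' ⟶ Y') (w' : i' ≫ a' = j' ≫ b')

include hX hY hZ w' in
/-- The pushout of two closed immersions commutes with flat base change. -/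
theorem isPushout_of_flat : IsPushout i' j' a' b' := by
  haveI : IsClosedImmersion a' := MorphismProperty.of_isPullback hX inferInstance
  haveI : IsClosedImmersion b' := MorphismProperty.of_isPullback hY inferInstance
  haveI : IsClosedImmersion i' := MorphismProperty.of_isPullback hZ inferInstance
  have hZQ : IsPullback πZ (i' ≫ a') (i ≫ a i j) π := hZ.paste_vert hX
  let 𝓑 : Set Q.Opens := {O | IsAffineOpen O ∧ ∃ k : GoodPair i j, O ≤ π ⁻¹ᵁ chartOpen i j k}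
  refine isPushout_of_locFib w' 𝓑 (fun O hO => hO.1) ?_ ?_ ?_
  · intro q
    obtain ⟨k, hk⟩ := exists_mem_chartOpen i j (π q)
    obtain ⟨_, ⟨O, hO : IsAffineOpen O, rfl⟩, hqO, hOle⟩ :=
      Q.isBasis_affineOpens.exists_subset_of_mem_open (show q ∈ π ⁻¹ᵁ chartOpen i j k from hk)
        (π ⁻¹ᵁ chartOpen i j k).isOpen
    exact ⟨O, ⟨hO, k, hOle⟩, hqO⟩
  · intro O₁ hO₁ O₂ hO₂ q hq1 hq2
    obtain ⟨_, ⟨O, hO : IsAffineOpen O, rfl⟩, hqO, hOle⟩ :=
      Q.isBasis_affineOpens.exists_subset_of_mem_open (show q ∈ O₁ ⊓ O₂ from ⟨hq1, hq2⟩)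
        (O₁ ⊓ O₂).isOpen
    obtain ⟨k, hk⟩ := hO₁.2
    have h1 : O ≤ O₁ := fun x hx => (hOle hx).1
    have h2 : O ≤ O₂ := fun x hx => (hOle hx).2
    exact ⟨O, ⟨hO, k, h1.trans hk⟩, hqO, h1, h2⟩
  · rintro O ⟨hO, k, hle⟩
    have hOk := isAffineOpen_chartOpen i j k
    -- inclusions of opens
    have eX : a' ⁻¹ᵁ O ≤ πX ⁻¹ᵁ k.U := by
      intro x hx
      apply mem_U_of_a_mem i j k
      change (πX ≫ a i j) x ∈ _
      rw [hX.w]
      exact hle hx
    have eY : b' ⁻¹ᵁ O ≤ πY ⁻¹ᵁ k.V := by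
      intro y hy
      apply mem_V_of_b_mem i j k
      change (πY ≫ b i j) y ∈ _
      rw [hY.w]
      exact hle hy
    have eZ : i' ⁻¹ᵁ a' ⁻¹ᵁ O ≤ πZ ⁻¹ᵁ k.W := by
      intro z hz
      change i (πZ z) ∈ k.U
      have : (πZ ≫ i) z = (i' ≫ πX) z := by rw [hZ.w]
      change (πZ ≫ i) z ∈ k.U
      rw [this]
      exact eX hz
    have hUYX : a' ⁻¹ᵁ O = πX ⁻¹ᵁ k.U ⊓ a' ⁻¹ᵁ O := (inf_eq_right.2 eX).symm
    have hUYY : b' ⁻¹ᵁ O = πY ⁻¹ᵁ k.V ⊓ b' ⁻¹ᵁ O := (inf_eq_right.2 eY).symm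
    have hUYZ : i' ⁻¹ᵁ a' ⁻¹ᵁ O = πZ ⁻¹ᵁ k.W ⊓ (i' ≫ a') ⁻¹ᵁ O := (inf_eq_right.2 eZ).symm
    have hkW : k.W ≤ (i ≫ a i j) ⁻¹ᵁ chartOpen i j k := fun z hz => U_le i j k hz
    -- the three pushout squares of rings
    have pB := (isIso_pushoutSection_iff hX hle (U_le i j k) hUYX).1
      (isIso_pushoutSection_of_isAffineOpen hX hle (U_le i j k) hUYX hOk hO k.hU)
    have pA' := (isIso_pushoutSection_iff hY hle (V_le i j k) hUYY).1
      (isIso_pushoutSection_of_isAffineOpen hY hle (V_le i j k) hUYY hOk hO k.hV)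
    have pA := (isIso_pushoutSection_iff hZQ hle hkW hUYZ).1
      (isIso_pushoutSection_of_isAffineOpen hZQ hle hkW hUYZ hOk hO k.W_isAffineOpen)
    have hd : (π.appLE (chartOpen i j k) O hle).hom.Flat :=
      HasRingHomProperty.appLE (P := @Flat) π inferInstance ⟨_, hOk⟩ ⟨O, hO⟩ hle
    have e1 : (i ≫ a i j).appLE (chartOpen i j k) k.W hkW =
        (a i j).appLE (chartOpen i j k) k.U (U_le i j k) ≫ i.appLE k.U k.W le_rfl := by
      rw [Scheme.Hom.appLE_comp_appLE]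
    have e2 : (i' ≫ a').appLE O (i' ⁻¹ᵁ a' ⁻¹ᵁ O) le_rfl =
        a'.appLE O (a' ⁻¹ᵁ O) le_rfl ≫ i'.appLE (a' ⁻¹ᵁ O) (i' ⁻¹ᵁ a' ⁻¹ᵁ O) le_rfl := by
      rw [Scheme.Hom.appLE_comp_appLE]
    have e3 : a'.appLE O (a' ⁻¹ᵁ O) le_rfl ≫ i'.appLE (a' ⁻¹ᵁ O) (i' ⁻¹ᵁ a' ⁻¹ᵁ O) le_rfl =
        b'.appLE O (b' ⁻¹ᵁ O) le_rfl ≫
          j'.appLE (b' ⁻¹ᵁ O) (i' ⁻¹ᵁ a' ⁻¹ᵁ O) (preimage_le w' O) := by
      rw [Scheme.Hom.appLE_comp_appLE, Scheme.Hom.appLE_comp_appLE]
      congr 1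
    rw [e1] at pA
    have pA2 : IsPushout ((a i j).appLE (chartOpen i j k) k.U (U_le i j k) ≫ i.appLE k.U k.W le_rfl)
        (π.appLE (chartOpen i j k) O hle) (πZ.appLE k.W (i' ⁻¹ᵁ a' ⁻¹ᵁ O) eZ)
        (a'.appLE O (a' ⁻¹ᵁ O) le_rfl ≫ i'.appLE (a' ⁻¹ᵁ O) (i' ⁻¹ᵁ a' ⁻¹ᵁ O) le_rfl) := by
      rw [← e2]
      exact pA
    exact fibSq_of_isPushout_flat (fibSq_chart i j k) k.q_surjective hd pB pA' pA2 e3

end BaseChange

end Groth.Agent.Lib.Helper58.ClPushout
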