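/-
Helper library (helper58): flat base change of an arbitrary pushout of two closed immersions, and
the version in over categories.
-/
import Mathlib
import Groth.Agent.Lib.Helper58.ClPushoutFlat

set_option autoImplicit false
universe u

open AlgebraicGeometry CategoryTheory Limits

namespace Groth.Agent.Lib.Helper58.ClPushout

variable {X Y Z : Scheme.{u}} (i : Z ⟶ X) (j : Z ⟶ Y) [IsClosedImmersion i] [IsClosedImmersion j]

/-- Flat base change for an arbitrary pushout of two closed immersions. -/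
theorem isPushout_of_flat' {X₀ : Scheme.{u}} (φ₁ : X ⟶ X₀) (φ₂ : Y ⟶ X₀)
    (hP : IsPushout i j φ₁ φ₂) {Q X' Y' Z' : Scheme.{u}} (π : Q ⟶ X₀) [Flat π]
    (πX : X' ⟶ X) (a' : X' ⟶ Q) (hX : IsPullback πX a' φ₁ π)
    (πY : Y' ⟶ Y) (b' : Y' ⟶ Q) (hY : IsPullback πY b' φ₂ π)
    (πZ : Z' ⟶ Z) (i' : Z' ⟶ X') (hZ : IsPullback πZ i' i πX)
    (j' : Z' ⟶ Y') (w' : i' ≫ a' = j' ≫ b') : IsPushout i' j' a' b' := by
  let e : X₀ ≅ P i j := hP.isoIsPushout _ _ (isPushout i j)
  have he₁ : φ₁ ≫ e.hom = a i j := hP.inl_isoIsPushout_hom _ _ _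
  have he₂ : φ₂ ≫ e.hom = b i j := hP.inr_isoIsPushout_hom _ _ _
  have hX' : IsPullback πX a' (a i j) (π ≫ e.hom) :=
    hX.of_iso (Iso.refl _) (Iso.refl _) (Iso.refl _) e (by simp) (by simp) (by simpa using he₁)
      (by simp)
  have hY' : IsPullback πY b' (b i j) (π ≫ e.hom) :=
    hY.of_iso (Iso.refl _) (Iso.refl _) (Iso.refl _) e (by simp) (by simp) (by simpa using he₂)
      (by simp)
  exact isPushout_of_flat i j (π ≫ e.hom) πX a' hX' πY b' hY' πZ i' hZ j' w'

/-- The forgetful functor from an over category preserves a pushout of closed immersions. -/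
theorem isPushout_left_of_over {S : Scheme.{u}}
    {Y X₁ X₂ X : Over S} (θ₁ : Y ⟶ X₁) (θ₂ : Y ⟶ X₂) [IsClosedImmersion θ₁.left]
    [IsClosedImmersion θ₂.left]
    (φ₁ : X₁ ⟶ X) (φ₂ : X₂ ⟶ X) (hX : IsPushout θ₁ θ₂ φ₁ φ₂) :
    IsPushout θ₁.left θ₂.left φ₁.left φ₂.left := by
  haveI : HasColimit (span θ₁.left θ₂.left) := (isPushout θ₁.left θ₂.left).hasPushout
  haveI : HasColimit (span ((Over.forget S).map θ₁) ((Over.forget S).map θ₂)) :=
    inferInstanceAs (HasColimit (span θ₁.left θ₂.left))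
  haveI : HasColimit (span θ₁ θ₂ ⋙ Over.forget S) :=
    hasColimit_of_iso (spanCompIso (Over.forget S) θ₁ θ₂)
  exact hX.map (Over.forget S)

theorem isPushout_over_of_left {S : Scheme.{u}}
    {Y X₁ X₂ X : Over S} (θ₁ : Y ⟶ X₁) (θ₂ : Y ⟶ X₂)
    (φ₁ : X₁ ⟶ X) (φ₂ : X₂ ⟶ X) (w : θ₁ ≫ φ₁ = θ₂ ≫ φ₂)
    (h : IsPushout θ₁.left θ₂.left φ₁.left φ₂.left) : IsPushout θ₁ θ₂ φ₁ φ₂ :=
  IsPushout.of_map (Over.forget S) w h

/-- The base change squares of `Over.pullback`. -/
theorem isPullback_overPullback_map {S S' : Scheme.{u}} (g : S' ⟶ S) {A B : Over S} (φ : A ⟶ B) :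
    IsPullback (pullback.fst A.hom g) ((Over.pullback g).map φ).left φ.left
      (pullback.fst B.hom g) := by
  have hbig : IsPullback (((Over.pullback g).map φ).left ≫ pullback.snd B.hom g)
      (pullback.fst A.hom g) g (φ.left ≫ B.hom) := by
    have e1 : ((Over.pullback g).map φ).left ≫ pullback.snd B.hom g = pullback.snd A.hom g :=
      Over.w ((Over.pullback g).map φ)
    have e2 : φ.left ≫ B.hom = A.hom := Over.w φ
    rw [e1, e2]
    exact (IsPullback.of_hasPullback A.hom g).flip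
  have hcomm : ((Over.pullback g).map φ).left ≫ pullback.fst B.hom g =
      pullback.fst A.hom g ≫ φ.left := by
    simp only [Over.pullback, Over.homMk_left]
    exact pullback.lift_fst _ _ _
  exact (IsPullback.of_right hbig hcomm (IsPullback.of_hasPullback B.hom g).flip).flip

/-- Pinching along a closed subscheme commutes with flat base change (over categories). -/
theorem isPushout_overPullback {S S' : Scheme.{u}} (g : S' ⟶ S) [Flat g]
    {Y X₁ X₂ X : Over S} (θ₁ : Y ⟶ X₁) (θ₂ : Y ⟶ X₂) [IsClosedImmersion θ₁.left]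
    [IsClosedImmersion θ₂.left]
    (φ₁ : X₁ ⟶ X) (φ₂ : X₂ ⟶ X) (hX : IsPushout θ₁ θ₂ φ₁ φ₂) :
    IsPushout ((Over.pullback g).map θ₁) ((Over.pullback g).map θ₂)
      ((Over.pullback g).map φ₁) ((Over.pullback g).map φ₂) := by
  have hl := isPushout_left_of_over θ₁ θ₂ φ₁ φ₂ hX
  have w : (Over.pullback g).map θ₁ ≫ (Over.pullback g).map φ₁ =
      (Over.pullback g).map θ₂ ≫ (Over.pullback g).map φ₂ := by
    rw [← Functor.map_comp, ← Functor.map_comp, hX.w]
  refine isPushout_over_of_left _ _ _ _ w ?_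
  have wl := congrArg (fun f => f.left) w
  exact isPushout_of_flat' θ₁.left θ₂.left φ₁.left φ₂.left hl (pullback.fst X.hom g)
    (pullback.fst X₁.hom g) ((Over.pullback g).map φ₁).left (isPullback_overPullback_map g φ₁)
    (pullback.fst X₂.hom g) ((Over.pullback g).map φ₂).left (isPullback_overPullback_map g φ₂)
    (pullback.fst Y.hom g) ((Over.pullback g).map θ₁).left (isPullback_overPullback_map g θ₁)
    ((Over.pullback g).map θ₂).left wl

end Groth.Agent.Lib.Helper58.ClPushout
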