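import Mathlib
import Groth.Agent.S4795
import Groth.Agent.Lib.Helper23.IsoDescent
import Groth.Agent.Lib.Helper23.LfpOfColim

set_option autoImplicit false
universe u
open CategoryTheory AlgebraicGeometry Limits
open Groth.Agent.Lib.Helper23

namespace Groth.Agent.Lib.Helper58.Combine

theorem combine_aux {I : Type u} [SmallCategory I] [IsCofiltered I]
    (D : I ⥤ Scheme.{u}) (c : Cone D) (hc : IsLimit c)
    [∀ (i j : I) (f : i ⟶ j), IsAffineHom (D.map f)] (i₀ : I)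
    [CompactSpace (D.obj i₀)] [QuasiSeparatedSpace (D.obj i₀)]
    (P Q : MorphismProperty Scheme.{u}) [P.IsStableUnderBaseChange] [Q.IsStableUnderBaseChange]
    {X X₁ S₁ X₂ S₂ : Scheme.{u}} (f : X ⟶ c.pt)
    (f₁ : X₁ ⟶ S₁) (β₁ : D.obj i₀ ⟶ S₁) (g₁' : X ⟶ X₁)
    (h₁ : IsPullback g₁' f f₁ (c.π.app i₀ ≫ β₁))
    (f₂ : X₂ ⟶ S₂) (β₂ : D.obj i₀ ⟶ S₂) (g₂' : X ⟶ X₂)
    (h₂ : IsPullback g₂' f f₂ (c.π.app i₀ ≫ β₂))
    [LocallyOfFinitePresentation f₁] [QuasiCompact f₁] [QuasiSeparated f₁]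
    [LocallyOfFinitePresentation f₂] [QuasiCompact f₂] [QuasiSeparated f₂]
    (hP : P f₁) (hQ : Q f₂) :
    ∃ (j : I) (φ : j ⟶ i₀) (Xj : Scheme.{u}) (aj : Xj ⟶ D.obj j) (sX : X ⟶ Xj) (pX : Xj ⟶ X₁),
      IsPullback sX f aj (c.π.app j) ∧ IsPullback pX aj f₁ (D.map φ ≫ β₁) ∧ P aj ∧ Q aj := by
  have a1 : LocallyOfFinitePresentation (pullback.snd f₁ β₁) :=
    MorphismProperty.pullback_snd _ _ inferInstance
  have a2 : QuasiCompact (pullback.snd f₁ β₁) := MorphismProperty.pullback_snd _ _ inferInstance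
  have a3 : QuasiSeparated (pullback.snd f₁ β₁) := MorphismProperty.pullback_snd _ _ inferInstance
  have b1 : LocallyOfFinitePresentation (pullback.snd f₂ β₂) :=
    MorphismProperty.pullback_snd _ _ inferInstance
  have b2 : QuasiCompact (pullback.snd f₂ β₂) := MorphismProperty.pullback_snd _ _ inferInstance
  have b3 : QuasiSeparated (pullback.snd f₂ β₂) := MorphismProperty.pullback_snd _ _ inferInstance
  obtain ⟨qX, -, -, hX⟩ := exists_isPullback_of_comp h₁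
    (IsPullback.of_hasPullback f₁ β₁) (c.π.app i₀) rfl
  obtain ⟨qY, -, -, hY⟩ := exists_isPullback_of_comp h₂
    (IsPullback.of_hasPullback f₂ β₂) (c.π.app i₀) rfl
  obtain ⟨j, φ, Xj, Yj, aj, bj, pX, pY, hXj, hYj, e', he'⟩ :=
    (Groth.Agent.S4795.result D c hc i₀
      (pullback.snd f₁ β₁) (pullback.snd f₂ β₂) f f qX qY hX hY).mp ⟨Iso.refl X, by simp⟩
  have hXj' : IsPullback (pX ≫ pullback.fst f₁ β₁) aj f₁ (D.map φ ≫ β₁) :=
    hXj.paste_horiz (IsPullback.of_hasPullback f₁ β₁)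
  have hYj' : IsPullback (pY ≫ pullback.fst f₂ β₂) bj f₂ (D.map φ ≫ β₂) :=
    hYj.paste_horiz (IsPullback.of_hasPullback f₂ β₂)
  obtain ⟨sX, -, -, hXS⟩ := exists_isPullback_of_comp hX hXj (c.π.app j) (c.w φ)
  refine ⟨j, φ, Xj, aj, sX, pX ≫ pullback.fst f₁ β₁, hXS, hXj', ?_, ?_⟩
  · exact P.of_isPullback hXj' hP
  · have hb : Q bj := Q.of_isPullback hYj' hQ
    rw [← he']
    exact (Q.cancel_left_of_respectsIso e'.hom bj).mpr hb

theorem isLocallyNoetherian_of_finiteType_int {S : Scheme.{u}} [IsAffine S]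
    (hS : Algebra.FiniteType ℤ Γ(S, ⊤)) : IsLocallyNoetherian S := by
  have : IsNoetherianRing Γ(S, ⊤) := Algebra.FiniteType.isNoetherianRing ℤ _
  exact isLocallyNoetherian_of_affine_cover
    (S := fun _ : Unit ↦ ⟨⊤, isAffineOpen_top S⟩) (by simp) (fun _ => this)

theorem combine_affine (P Q : MorphismProperty Scheme.{u}) [P.IsStableUnderBaseChange]
    [Q.IsStableUnderBaseChange]
    {X S : Scheme.{u}} (f : X ⟶ S) [IsAffine X] [IsAffine S]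
    {X₁ S₁ X₂ S₂ : Scheme.{u}} [IsAffine X₁] [IsAffine S₁] [IsAffine X₂] [IsAffine S₂]
    (f₁ : X₁ ⟶ S₁) (g₁ : S ⟶ S₁) (g₁' : X ⟶ X₁) (h₁ : IsPullback g₁' f f₁ g₁)
    (f₂ : X₂ ⟶ S₂) (g₂ : S ⟶ S₂) (g₂' : X ⟶ X₂) (h₂ : IsPullback g₂' f f₂ g₂)
    (hS₁ : Algebra.FiniteType ℤ Γ(S₁, ⊤)) (hS₂ : Algebra.FiniteType ℤ Γ(S₂, ⊤))
    [LocallyOfFiniteType f₁] [LocallyOfFiniteType f₂] (hP : P f₁) (hQ : Q f₂) :
    ∃ (X₀ S₀ : Scheme.{u}) (f₀ : X₀ ⟶ S₀) (g : S ⟶ S₀) (g' : X ⟶ X₀), IsAffine X₀ ∧ IsAffine S₀ ∧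
      IsPullback g' f f₀ g ∧
      Algebra.FiniteType ℤ Γ(S₀, ⊤) ∧ LocallyOfFiniteType f₀ ∧ P f₀ ∧ Q f₀ := by
  classical
  have hN₁ : IsLocallyNoetherian S₁ := isLocallyNoetherian_of_finiteType_int hS₁
  have hN₂ : IsLocallyNoetherian S₂ := isLocallyNoetherian_of_finiteType_int hS₂
  -- the base ring `B = Γ(S₁) ⊗ Γ(S₂)` and `R = Γ(S)` as a `B`-algebra
  let φ₁ : Γ(S₁, ⊤) →ₐ[ℤ] Γ(S, ⊤) := (g₁.appTop.hom).toIntAlgHom
  let φ₂ : Γ(S₂, ⊤) →ₐ[ℤ] Γ(S, ⊤) := (g₂.appTop.hom).toIntAlgHom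
  let ψ : TensorProduct ℤ Γ(S₁, ⊤) Γ(S₂, ⊤) →ₐ[ℤ] Γ(S, ⊤) :=
    Algebra.TensorProduct.lift φ₁ φ₂ (fun _ _ => Commute.all _ _)
  letI : Algebra (TensorProduct ℤ Γ(S₁, ⊤) Γ(S₂, ⊤)) Γ(S, ⊤) := ψ.toRingHom.toAlgebra
  let B := TensorProduct ℤ Γ(S₁, ⊤) Γ(S₂, ⊤)
  let R := Γ(S, ⊤)
  let F : Finset R ⥤ Under (CommRingCat.of B) := fgDiagram B R
  let cc : Cocone F := fgCocone B R
  have hcc : IsColimit cc := isColimitFgCocone
  let D := specDiagram F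
  let c₀ : Cone D := specCone F cc
  let c : Cone D := c₀.extend S.isoSpec.hom
  have hc : IsLimit c := IsLimit.extendIso _ (isLimitSpecCone F hcc)
  let i₀ : (Finset R)ᵒᵖ := Opposite.op ∅
  let β₀ : D.obj i₀ ⟶ Spec (CommRingCat.of B) := Spec.map (F.obj i₀.unop).hom
  have hβc : c₀.π.app i₀ ≫ β₀ = Spec.map (CommRingCat.ofHom (algebraMap B R)) := by
    have hw : (F.obj i₀.unop).hom ≫ (cc.ι.app i₀.unop).right = cc.pt.hom :=
      Under.w (cc.ι.app i₀.unop)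
    change Spec.map (cc.ι.app i₀.unop).right ≫ Spec.map (F.obj i₀.unop).hom = _
    rw [← Spec.map_comp, hw]
    rfl
  have hcπ : c.π.app i₀ = S.isoSpec.hom ≫ c₀.π.app i₀ := rfl
  let β₁ : D.obj i₀ ⟶ S₁ := β₀ ≫ Spec.map (CommRingCat.ofHom
      (Algebra.TensorProduct.includeLeftRingHom : Γ(S₁, ⊤) →+* B)) ≫ S₁.isoSpec.inv
  let β₂ : D.obj i₀ ⟶ S₂ := β₀ ≫ Spec.map (CommRingCat.ofHom
      ((Algebra.TensorProduct.includeRight : Γ(S₂, ⊤) →ₐ[ℤ] B).toRingHom)) ≫ S₂.isoSpec.inv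
  have hβ₁ : c.π.app i₀ ≫ β₁ = g₁ := by
    have e2 : (algebraMap B R).comp
        (Algebra.TensorProduct.includeLeftRingHom : Γ(S₁, ⊤) →+* B) = g₁.appTop.hom := by
      ext x
      change ψ (x ⊗ₜ 1) = _
      simp [ψ, φ₁]
    have key : ∀ (p : Spec Γ(S, ⊤) ⟶ D.obj i₀),
        p ≫ β₀ = Spec.map (CommRingCat.ofHom (algebraMap B R)) → (S.isoSpec.hom ≫ p) ≫ β₁ = g₁ := by
      intro p hp
      simp only [β₁]
      rw [Category.assoc, reassoc_of% hp, ← Spec.map_comp_assoc, ← CommRingCat.ofHom_comp, e2,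
        CommRingCat.ofHom_hom, Scheme.isoSpec_inv_naturality, Iso.hom_inv_id_assoc]
    exact key (c₀.π.app i₀) hβc
  have hβ₂ : c.π.app i₀ ≫ β₂ = g₂ := by
    have e2 : (algebraMap B R).comp
        ((Algebra.TensorProduct.includeRight : Γ(S₂, ⊤) →ₐ[ℤ] B).toRingHom) = g₂.appTop.hom := by
      ext x
      change ψ (1 ⊗ₜ x) = _
      simp [ψ, φ₂]
    have key : ∀ (p : Spec Γ(S, ⊤) ⟶ D.obj i₀),
        p ≫ β₀ = Spec.map (CommRingCat.ofHom (algebraMap B R)) → (S.isoSpec.hom ≫ p) ≫ β₂ = g₂ := by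
      intro p hp
      simp only [β₂]
      rw [Category.assoc, reassoc_of% hp, ← Spec.map_comp_assoc, ← CommRingCat.ofHom_comp, e2,
        CommRingCat.ofHom_hom, Scheme.isoSpec_inv_naturality, Iso.hom_inv_id_assoc]
    exact key (c₀.π.app i₀) hβc
  have h₁' : IsPullback g₁' (show X ⟶ c.pt from f) f₁ (c.π.app i₀ ≫ β₁) := by rw [hβ₁]; exact h₁
  have h₂' : IsPullback g₂' (show X ⟶ c.pt from f) f₂ (c.π.app i₀ ≫ β₂) := by rw [hβ₂]; exact h₂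
  have hinst : ∀ (i j : (Finset R)ᵒᵖ) (a : i ⟶ j), IsAffineHom (D.map a) :=
    fun i j a => inferInstance
  obtain ⟨j, φ, Xj, aj, sX, pX, hXS, hXj, hPaj, hQaj⟩ :=
    combine_aux D c hc i₀ P Q (show X ⟶ c.pt from f) f₁ β₁ g₁' h₁' f₂ β₂ g₂' h₂' hP hQ
  have hXjaff : IsAffine Xj := IsAffine.of_isIso hXj.isoPullback.hom
  refine ⟨Xj, D.obj j, aj, c.π.app j, sX, hXjaff, inferInstance, hXS, ?_,
    MorphismProperty.of_isPullback (P := @LocallyOfFiniteType) hXj inferInstance, hPaj, hQaj⟩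
  -- finite type over ℤ
  let A : Subalgebra B R := Algebra.adjoin B ((j.unop : Finset R) : Set R)
  have hAB : Algebra.FiniteType B A := (Subalgebra.fg_iff_finiteType A).mp ⟨j.unop, rfl⟩
  have hB : Algebra.FiniteType ℤ B := by
    have h1 : Algebra.FiniteType Γ(S₁, ⊤) B := Algebra.FiniteType.baseChange _
    exact Algebra.FiniteType.trans hS₁ h1
  letI : CommRing A := inferInstance
  have hA : Algebra.FiniteType ℤ A := Algebra.FiniteType.trans hB hAB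
  let e : A ≃+* Γ(D.obj j, ⊤) :=
    (Scheme.ΓSpecIso (CommRingCat.of A)).commRingCatIsoToRingEquiv.symm
  exact Algebra.FiniteType.equiv hA e.toIntAlgEquiv

end Groth.Agent.Lib.Helper58.Combine
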