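import Mathlib

/-!
# Ring maps out of an adic completion which kill a power of the ideal
-/

set_option autoImplicit false
universe u v

namespace Groth.Agent.Lib.Helper58.ComplExt

variable {O : Type u} [CommRing O] (I : Ideal O) {A : Type v} [CommRing A]

/-- the extension to the completion of a ring map killing a power of the ideal -/
noncomputable def extend (f : O →+* A) (N : ℕ) (hf : ∀ a ∈ I ^ N, f a = 0) :
    AdicCompletion I O →+* A :=
  (Ideal.Quotient.lift (I ^ N) f hf).comp (AdicCompletion.evalₐ I N).toRingHom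

theorem extend_of (f : O →+* A) (N : ℕ) (hf : ∀ a ∈ I ^ N, f a = 0) (o : O) :
    extend I f N hf (AdicCompletion.of I O o) = f o := by
  change Ideal.Quotient.lift (I ^ N) f hf (AdicCompletion.evalₐ I N (AdicCompletion.of I O o)) = f o
  rw [AdicCompletion.evalₐ_of, Ideal.Quotient.lift_mk]

theorem extend_algebraMap (f : O →+* A) (N : ℕ) (hf : ∀ a ∈ I ^ N, f a = 0) (o : O) :
    extend I f N hf (algebraMap O (AdicCompletion I O) o) = f o :=
  extend_of I f N hf o

/-- ring maps out of the completion are determined by their restriction to the ring, provided the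
restriction kills a power of the ideal -/
theorem ringHom_ext (hI : I.FG) (φ₁ φ₂ : AdicCompletion I O →+* A) (N : ℕ)
    (h : ∀ o, φ₁ (AdicCompletion.of I O o) = φ₂ (AdicCompletion.of I O o))
    (hk : ∀ a ∈ I ^ N, φ₁ (AdicCompletion.of I O a) = 0) : φ₁ = φ₂ := by
  have hker : ∀ (φ : AdicCompletion I O →+* A), (∀ a ∈ I ^ N, φ (AdicCompletion.of I O a) = 0) →
      ∀ d ∈ (I ^ N • ⊤ : Submodule O (AdicCompletion I O)), φ d = 0 := by
    intro φ hφ d hd
    refine Submodule.smul_induction_on hd ?_ ?_
    · intro a ha r _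
      have h1 : a • r = AdicCompletion.of I O a * r := by
        rw [Algebra.smul_def]
        rfl
      rw [h1, map_mul, hφ a ha, zero_mul]
    · intro x y hx hy
      rw [map_add, hx, hy, add_zero]
  have hk2 : ∀ a ∈ I ^ N, φ₂ (AdicCompletion.of I O a) = 0 := fun a ha => by rw [← h, hk a ha]
  apply RingHom.ext
  intro r
  obtain ⟨o, ho⟩ := Ideal.Quotient.mk_surjective (AdicCompletion.evalₐ I N r)
  have hd : r - AdicCompletion.of I O o ∈ (I ^ N • ⊤ : Submodule O (AdicCompletion I O)) := by
    rw [AdicCompletion.pow_smul_top_eq_ker_eval hI, LinearMap.mem_ker,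
      ← AdicCompletion.factor_evalₐ_eq_eval I _ (by simp), map_sub, AdicCompletion.evalₐ_of, ← ho,
      sub_self, map_zero]
  have e1 := hker φ₁ hk _ hd
  have e2 := hker φ₂ hk2 _ hd
  rw [map_sub, sub_eq_zero] at e1 e2
  rw [e1, e2, h]

end Groth.Agent.Lib.Helper58.ComplExt
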