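/-
Helper library (helper58): bridge between explicit cubes of commutative rings (a Milnor square
`D' = D ×_C C'` lying over a Milnor square `B' = B ×_A A'`, with `C = D ⊗_B A = C' ⊗_{A'} A`) and the
type class based results of helper76 (S6900, MilnorGlueRing, RelMilnor).
-/
import Mathlib
import Groth.Agent.Lib.Helper61.FibSq1
import Groth.Agent.S6900
import Groth.Agent.H76.MilnorGlueRing
import Groth.Agent.H76.RelMilnor

set_option autoImplicit false
universe u

open CategoryTheory Limits TensorProduct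

namespace Groth.Agent.Lib.Helper58.CubeBridge

open Groth.Agent.Lib.Helper61

/-- A cube of commutative rings: two Milnor squares, the second over the first, whose `A`-corner
is the base change of the `B`-corner and of the `A'`-corner. -/
structure Cube {B' B A' A D' D C' C : CommRingCat.{u}}
    (fB : B' ⟶ B) (sB : B' ⟶ A') (qB : B ⟶ A) (pB : A' ⟶ A)
    (fD : D' ⟶ D) (sD : D' ⟶ C') (qD : D ⟶ C) (pD : C' ⟶ C)
    (φ' : B' ⟶ D') (φB : B ⟶ D) (φA' : A' ⟶ C') (φA : A ⟶ C) : Prop where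
  hB : FibSq fB.hom sB.hom qB.hom pB.hom
  hD : FibSq fD.hom sD.hom qD.hom pD.hom
  c1 : φ' ≫ fD = fB ≫ φB
  c2 : φ' ≫ sD = sB ≫ φA'
  c3 : φB ≫ qD = qB ≫ φA
  c4 : φA' ≫ pD = pB ≫ φA
  po1 : IsPushout qB φB φA qD
  po2 : IsPushout pB φA' φA pD

variable {B' B A' A D' D C' C : CommRingCat.{u}}
  {fB : B' ⟶ B} {sB : B' ⟶ A'} {qB : B ⟶ A} {pB : A' ⟶ A}
  {fD : D' ⟶ D} {sD : D' ⟶ C'} {qD : D ⟶ C} {pD : C' ⟶ C}
  {φ' : B' ⟶ D'} {φB : B ⟶ D} {φA' : A' ⟶ C'} {φA : A ⟶ C}

theorem isFibreSquare_of_fibSq {B' B A' A : Type u} [CommRing B'] [CommRing B] [CommRing A']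
    [CommRing A] [Algebra B' B] [Algebra B' A'] [Algebra B A] [Algebra A' A] [Algebra B' A]
    [IsScalarTower B' B A] [IsScalarTower B' A' A]
    (h : FibSq (algebraMap B' B) (algebraMap B' A') (algebraMap B A) (algebraMap A' A)) :
    EtMil.IsFibreSquare B' B A' A := by
  refine ⟨h.surj, fun b a' hba => ?_⟩
  obtain ⟨c, hc1, hc2⟩ := h.lift b a' hba
  exact ⟨c, ⟨hc1, hc2⟩, fun c' hc' => h.inj _ _ (hc'.1.trans hc1.symm) (hc'.2.trans hc2.symm)⟩

/-- All consequences of a cube at once. -/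
theorem Cube.all (H : Cube fB sB qB pB fD sD qD pD φ' φB φA' φA) :
    ((φ'.hom.FiniteType ↔ φB.hom.FiniteType ∧ φA'.hom.FiniteType) ∧
      (φ'.hom.Flat ↔ φB.hom.Flat ∧ φA'.hom.Flat) ∧
      (φ'.hom.Flat ∧ φ'.hom.FinitePresentation ↔
        (φB.hom.Flat ∧ φB.hom.FinitePresentation) ∧
          (φA'.hom.Flat ∧ φA'.hom.FinitePresentation)) ∧
      (φ'.hom.Smooth ↔ φB.hom.Smooth ∧ φA'.hom.Smooth) ∧
      (φ'.hom.Etale ↔ φB.hom.Etale ∧ φA'.hom.Etale)) ∧
    IsPushout fB φ' φB fD ∧ IsPushout sB φ' φA' sD ∧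
    (φB.hom.Finite → φA'.hom.Finite → φ'.hom.Finite) := by
  obtain ⟨hB, hD, c1, c2, c3, c4, po1, po2⟩ := H
  letI : Algebra B' B := fB.hom.toAlgebra
  letI : Algebra B' A' := sB.hom.toAlgebra
  letI : Algebra B A := qB.hom.toAlgebra
  letI : Algebra A' A := pB.hom.toAlgebra
  letI : Algebra B' A := (fB ≫ qB).hom.toAlgebra
  haveI : IsScalarTower B' B A := .of_algebraMap_eq (fun _ => rfl)
  haveI : IsScalarTower B' A' A := .of_algebraMap_eq (fun x => hB.comm x)
  letI : Algebra D' D := fD.hom.toAlgebra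
  letI : Algebra D' C' := sD.hom.toAlgebra
  letI : Algebra D C := qD.hom.toAlgebra
  letI : Algebra C' C := pD.hom.toAlgebra
  letI : Algebra D' C := (fD ≫ qD).hom.toAlgebra
  haveI : IsScalarTower D' D C := .of_algebraMap_eq (fun _ => rfl)
  haveI : IsScalarTower D' C' C := .of_algebraMap_eq (fun x => hD.comm x)
  letI : Algebra B' D' := φ'.hom.toAlgebra
  letI : Algebra B D := φB.hom.toAlgebra
  letI : Algebra A' C' := φA'.hom.toAlgebra
  letI : Algebra A C := φA.hom.toAlgebra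
  letI : Algebra B' D := (fB ≫ φB).hom.toAlgebra
  haveI : IsScalarTower B' B D := .of_algebraMap_eq (fun _ => rfl)
  haveI : IsScalarTower B' D' D :=
    .of_algebraMap_eq (fun x => (congrArg (fun θ => θ.hom x) c1).symm)
  letI : Algebra B' C' := (sB ≫ φA').hom.toAlgebra
  haveI : IsScalarTower B' A' C' := .of_algebraMap_eq (fun _ => rfl)
  haveI : IsScalarTower B' D' C' :=
    .of_algebraMap_eq (fun x => (congrArg (fun θ => θ.hom x) c2).symm)
  letI : Algebra B C := (qB ≫ φA).hom.toAlgebra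
  haveI : IsScalarTower B A C := .of_algebraMap_eq (fun _ => rfl)
  haveI : IsScalarTower B D C :=
    .of_algebraMap_eq (fun x => (congrArg (fun θ => θ.hom x) c3).symm)
  letI : Algebra A' C := (pB ≫ φA).hom.toAlgebra
  haveI : IsScalarTower A' A C := .of_algebraMap_eq (fun _ => rfl)
  haveI : IsScalarTower A' C' C :=
    .of_algebraMap_eq (fun x => (congrArg (fun θ => θ.hom x) c4).symm)
  letI : Algebra B' C := (fB ≫ qB ≫ φA).hom.toAlgebra
  haveI : IsScalarTower B' A C := .of_algebraMap_eq (fun _ => rfl)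
  have c3' : ∀ x, qD.hom (φB.hom x) = φA.hom (qB.hom x) := fun x => congrArg (fun θ => θ.hom x) c3
  have c1' : ∀ x, fD.hom (φ'.hom x) = φB.hom (fB.hom x) := fun x => congrArg (fun θ => θ.hom x) c1
  haveI : IsScalarTower B' D C := .of_algebraMap_eq (fun x => (c3' (fB.hom x)).symm)
  haveI : IsScalarTower B' D' C := .of_algebraMap_eq (fun x => by
    change φA.hom (qB.hom (fB.hom x)) = qD.hom (fD.hom (φ'.hom x))
    rw [c1', c3'])
  have hsq : EtMil.IsFibreSquare B' B A' A := isFibreSquare_of_fibSq hB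
  have hsq' : EtMil.IsFibreSquare D' D C' C := isFibreSquare_of_fibSq hD
  haveI : Algebra.IsPushout B D A C :=
    (CommRingCat.isPushout_iff_isPushout (R := B) (R' := D) (S := A) (S' := C)).1 po1.flip
  haveI : Algebra.IsPushout A' C' A C :=
    (CommRingCat.isPushout_iff_isPushout (R := A') (R' := C') (S := A) (S' := C)).1 po2.flip
  haveI hl : Algebra.IsPushout B' B D' D :=
    Groth.Agent.H76.MilnorGlueRing.isPushout_left (A' := A') (A := A) (C' := C') (C := C) hsq hsq'
  haveI hr : Algebra.IsPushout B' A' D' C' :=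
    Groth.Agent.H76.MilnorGlueRing.isPushout_right (B := B) (A := A) (D := D) (C := C) hsq hsq'
  refine ⟨Groth.Agent.S6900.result B' B A' A hsq D' D C' C hsq', ?_, ?_, ?_⟩
  · exact (CommRingCat.isPushout_iff_isPushout (R := B') (R' := B) (S := D') (S' := D)).2 hl
  · exact (CommRingCat.isPushout_iff_isPushout (R := B') (R' := A') (S := D') (S' := C')).2 hr
  · intro h1 h2
    haveI : Module.Finite B D := h1
    haveI : Module.Finite A' C' := h2
    haveI : Module.Finite B (B ⊗[B'] D') :=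
      Module.Finite.equiv (Algebra.IsPushout.equiv B' B D' D).symm.toLinearEquiv
    haveI : Module.Finite A' (A' ⊗[B'] D') :=
      Module.Finite.equiv (Algebra.IsPushout.equiv B' A' D' C').symm.toLinearEquiv
    exact Groth.Agent.H76.RelMilnor.finite_of_finite_baseChange (A := A) (D' := B') (D := B)
      (C' := A') hsq D'

end Groth.Agent.Lib.Helper58.CubeBridge
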