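import Mathlib
import Groth.Prelude.Def_SGA3x
import Groth.Agent.Lib.Helper58.TwoCover

/-!
# A diagonalisable group over a nonempty base which is finite has a finite character group
-/

set_option autoImplicit false

universe u

open CategoryTheory CategoryTheory.Limits AlgebraicGeometry MorphismProperty TensorProduct

namespace Groth.Agent.Lib.Helper58.DSFinite

open Groth.Agent.Lib.Helper58

lemma diag_hom (R : Type u) [CommRing R] (M : Type) [AddCommGroup M] :
    (Red.diag R M).hom =
      Spec.map (CommRingCat.ofHom (algebraMap R (MonoidAlgebra R (Multiplicative M)))) := by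
  change (Spec (CommRingCat.of (MonoidAlgebra R (Multiplicative M))) ↘
    Spec (CommRingCat.of R)) = _
  rw [specOverSpec_over]

/-- over a nontrivial ring `K`, if `Spec K ×_{Spec R₀} Spec R₀[M]` is finite over `Spec K` then `M`
is finite. -/
lemma finite_of_field {R₀ K : Type u} [CommRing R₀] [CommRing K] [Nontrivial K] [Algebra R₀ K]
    (M : Type) [AddCommGroup M]
    (h : IsFinite (pullback.snd
      (Spec.map (CommRingCat.ofHom (algebraMap R₀ (MonoidAlgebra R₀ (Multiplicative M)))))
      (Spec.map (CommRingCat.ofHom (algebraMap R₀ K))))) : Finite M := by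
  have h2 : IsFinite (pullback.fst
      (Spec.map (CommRingCat.ofHom (algebraMap R₀ K)))
      (Spec.map (CommRingCat.ofHom (algebraMap R₀ (MonoidAlgebra R₀ (Multiplicative M)))))) := by
    rw [← pullbackSymmetry_hom_comp_snd]
    infer_instance
  have h3 : IsFinite (Spec.map (CommRingCat.ofHom (R := K)
      (S := K ⊗[R₀] MonoidAlgebra R₀ (Multiplicative M))
      Algebra.TensorProduct.includeLeftRingHom)) := by
    rw [← pullbackSpecIso_inv_fst]
    infer_instance
  rw [IsFinite.SpecMap_iff] at h3
  have h4 : Module.Finite K (K ⊗[R₀] MonoidAlgebra R₀ (Multiplicative M)) :=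
    RingHom.finite_algebraMap.mp h3
  have h5 : Module.Finite K (MonoidAlgebra K (Multiplicative M)) :=
    Module.Finite.equiv (MonoidAlgebra.scalarTensorEquiv R₀ K).toLinearEquiv
  have h6 : Finite (Multiplicative M) :=
    Module.Finite.finite_basis (MonoidAlgebra.basis (Multiplicative M) K)
  exact h6

theorem finite_of_isFinite_DS {U : Scheme.{u}} [Nonempty U] (M : Type) [AddCommGroup M]
    (hfin : IsFinite (Red.DS U M).hom) : Finite M := by
  let x : U := Classical.arbitrary U
  have h0 : IsFinite (pullback.snd (Red.diag (ULift.{u} ℤ) M).hom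
      (Limits.IsTerminal.from specULiftZIsTerminal U)) := hfin
  have h1 : IsFinite (pullback.snd (Red.diag (ULift.{u} ℤ) M).hom
      (U.fromSpecResidueField x ≫ Limits.IsTerminal.from specULiftZIsTerminal U)) :=
    TwoCover.snd_comp @IsFinite _ _ _ h0
  letI : Algebra (ULift.{u} ℤ) (U.residueField x) :=
    (Spec.preimage (U.fromSpecResidueField x ≫
      Limits.IsTerminal.from specULiftZIsTerminal U)).hom.toAlgebra
  have hoz : U.fromSpecResidueField x ≫ Limits.IsTerminal.from specULiftZIsTerminal U =
      Spec.map (CommRingCat.ofHom (algebraMap (ULift.{u} ℤ) (U.residueField x))) :=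
    (Spec.map_preimage _).symm
  rw [hoz, diag_hom] at h1
  exact finite_of_field M h1

end Groth.Agent.Lib.Helper58.DSFinite
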