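import Mathlib

/-!
# The ideal of coefficients of an ideal of a group algebra
-/

set_option autoImplicit false

universe u

namespace Groth.Agent.Lib.Helper58.EF1

open MonoidAlgebra

variable {k k' : Type u} [CommRing k] [CommRing k'] {P : Type} [CommMonoid P]

/-- the ideal generated by the coefficients of the elements of `K`. -/
def coeffIdeal (K : Ideal (MonoidAlgebra k P)) : Ideal k :=
  Ideal.span {c | ∃ f ∈ K, ∃ m : P, f.coeff m = c}

lemma coeff_mem_coeffIdeal {K : Ideal (MonoidAlgebra k P)} {f : MonoidAlgebra k P} (hf : f ∈ K)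
    (m : P) : f.coeff m ∈ coeffIdeal K :=
  Ideal.subset_span ⟨f, hf, m, rfl⟩

lemma mapRingHom_eq_zero_iff (g : k →+* k') (f : MonoidAlgebra k P) :
    mapRingHom P g f = 0 ↔ ∀ m, g (f.coeff m) = 0 := by
  constructor
  · intro h m
    have := congrArg (fun q => q.coeff m) h
    simpa [coeff_mapRingHom] using this
  · intro h
    ext m
    simpa [coeff_mapRingHom] using h m

theorem le_ker_mapRingHom_iff (g : k →+* k') (K : Ideal (MonoidAlgebra k P)) :
    K ≤ RingHom.ker (mapRingHom P g) ↔ coeffIdeal K ≤ RingHom.ker g := by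
  constructor
  · intro h
    refine Ideal.span_le.mpr ?_
    rintro c ⟨f, hf, m, rfl⟩
    have h1 := h hf
    rw [RingHom.mem_ker, mapRingHom_eq_zero_iff] at h1
    exact h1 m
  · intro h f hf
    rw [RingHom.mem_ker, mapRingHom_eq_zero_iff]
    intro m
    exact h (coeff_mem_coeffIdeal hf m)

theorem coeffIdeal_fg {K : Ideal (MonoidAlgebra k P)} (hK : K.FG) : (coeffIdeal K).FG := by
  classical
  obtain ⟨F, rfl⟩ := hK
  let G : Set k := {c | ∃ f ∈ F, ∃ m ∈ f.coeff.support, f.coeff m = c}
  have hGfin : G.Finite := by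
    have : G = ⋃ f ∈ F, (fun m => f.coeff m) '' (f.coeff.support : Set P) := by
      ext c
      simp only [G, Set.mem_ofPred_eq, Set.mem_iUnion, Set.mem_image, Finset.mem_coe, exists_prop]
    rw [this]
    exact Set.Finite.biUnion F.finite_toSet (fun f _ => (Finset.finite_toSet _).image _)
  have h1 : Ideal.span G ≤ coeffIdeal (Ideal.span (F : Set (MonoidAlgebra k P))) := by
    refine Ideal.span_le.mpr ?_
    rintro c ⟨f, hf, m, -, rfl⟩
    exact coeff_mem_coeffIdeal (Ideal.subset_span hf) m
  have h2 : coeffIdeal (Ideal.span (F : Set (MonoidAlgebra k P))) ≤ Ideal.span G := by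
    have h3 : Ideal.span (F : Set (MonoidAlgebra k P)) ≤
        RingHom.ker (mapRingHom P (Ideal.Quotient.mk (Ideal.span G))) := by
      refine Ideal.span_le.mpr ?_
      intro f hf
      rw [SetLike.mem_coe, RingHom.mem_ker, mapRingHom_eq_zero_iff]
      intro m
      rw [Ideal.Quotient.eq_zero_iff_mem]
      by_cases hm : m ∈ f.coeff.support
      · exact Ideal.subset_span ⟨f, hf, m, hm, rfl⟩
      · rw [Finsupp.notMem_support_iff.mp hm]
        exact Ideal.zero_mem _
    have h4 := (le_ker_mapRingHom_iff _ _).mp h3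
    rwa [Ideal.mk_ker] at h4
  rw [le_antisymm h2 h1]
  exact ⟨hGfin.toFinset, by rw [Set.Finite.coe_toFinset]⟩

end Groth.Agent.Lib.Helper58.EF1
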