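import Mathlib

/-!
# A coaction of a group algebra which is trivial modulo a nilpotent ideal generated by invariants
is trivial (pure algebra)
-/

set_option autoImplicit false

namespace Groth.Agent.Lib.Helper58.TrivAct1

open MonoidAlgebra

variable {A : Type*} [CommRing A] {P : Type*} [CommMonoid P]

/-- Let `ρ : A → A[P]` be a ring homomorphism whose components `ρ_m` are idempotent for `m ≠ 1`,
with `∑ ρ_m = id`, which fixes a set `𝒥` generating a nilpotent ideal `I`, and with `ρ_m f ∈ I`
for `m ≠ 1`. Then `ρ f = single 1 f`. -/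
theorem coaction_trivial (ρ : A →+* MonoidAlgebra A P)
    (h1 : ∀ (f : A) (m : P), m ≠ 1 → (ρ ((ρ f).coeff m)).coeff m = (ρ f).coeff m)
    (h2 : ∀ f : A, (ρ f).coeff.sum (fun _ c => c) = f)
    (𝒥 : Set A) (h3 : ∀ j ∈ 𝒥, ρ j = single 1 j) (hnil : IsNilpotent (Ideal.span 𝒥))
    (h4 : ∀ (f : A) (m : P), m ≠ 1 → (ρ f).coeff m ∈ Ideal.span 𝒥) (f : A) :
    ρ f = single 1 f := by
  classical
  set I := Ideal.span 𝒥 with hI
  -- invariants act as scalars
  have hinv : ∀ j ∈ 𝒥, ∀ (b : A) (m : P), (ρ (j * b)).coeff m = j * (ρ b).coeff m := by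
    intro j hj b m
    rw [map_mul, h3 j hj, coeff_single_one_mul]
  -- `ρ_m (I^n) ⊆ I^(n+1)`
  have hstep : ∀ (m : P), m ≠ 1 → ∀ (n : ℕ) (h : A), h ∈ I ^ n → (ρ h).coeff m ∈ I ^ (n + 1) := by
    intro m hm n
    induction n with
    | zero =>
      intro h _
      rw [zero_add, pow_one]
      exact h4 h m hm
    | succ n ih =>
      intro h hh
      rw [pow_succ'] at hh
      refine Submodule.mul_induction_on hh ?_ ?_
      · intro a ha b hb
        -- induction on `a ∈ span 𝒥`, generalising `b`
        have key : ∀ a ∈ I, ∀ b ∈ I ^ n, (ρ (a * b)).coeff m ∈ I ^ (n + 1 + 1) := by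
          intro a ha
          refine Submodule.span_induction (p := fun a _ => ∀ b ∈ I ^ n,
            (ρ (a * b)).coeff m ∈ I ^ (n + 1 + 1)) ?_ ?_ ?_ ?_ ha
          · intro j hj b hb
            rw [hinv j hj b m, pow_succ' I (n + 1)]
            exact Ideal.mul_mem_mul (Ideal.subset_span hj) (ih b hb)
          · intro b _
            rw [zero_mul, map_zero]
            exact Ideal.zero_mem _
          · intro a₁ a₂ _ _ ih₁ ih₂ b hb
            rw [add_mul, map_add, coeff_add, Finsupp.add_apply]
            exact Ideal.add_mem _ (ih₁ b hb) (ih₂ b hb)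
          · intro c a' _ ih' b hb
            have e : c • a' * b = a' * (c * b) := by rw [smul_eq_mul]; ring
            rw [e]
            exact ih' (c * b) (Ideal.mul_mem_left _ c hb)
        exact key a ha b hb
      · intro x y hx hy
        rw [map_add, coeff_add, Finsupp.add_apply]
        exact Ideal.add_mem _ hx hy
  -- `ρ_m f ∈ I^n` for all `n ≥ 1`
  have hall : ∀ (m : P), m ≠ 1 → ∀ (n : ℕ) (g : A), (ρ g).coeff m ∈ I ^ (n + 1) := by
    intro m hm n
    induction n with
    | zero =>
      intro g
      rw [zero_add, pow_one]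
      exact h4 g m hm
    | succ n ih =>
      intro g
      rw [← h1 g m hm]
      exact hstep m hm (n + 1) _ (ih g)
  obtain ⟨N, hN⟩ := hnil
  have hzero : ∀ (m : P), m ≠ 1 → ∀ g : A, (ρ g).coeff m = 0 := by
    intro m hm g
    have h := hall m hm N g
    rw [pow_succ, hN] at h
    have h' : (0 : Ideal A) * I = ⊥ := by rw [Ideal.zero_eq_bot, Ideal.bot_mul]
    rw [h'] at h
    exact h
  -- conclusion
  have hsupp : ρ f = single 1 ((ρ f).coeff 1) := by
    ext m
    rw [coeff_single, Finsupp.single_apply]
    split_ifs with hm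
    · rw [hm]
    · exact hzero m (Ne.symm hm) f
  have hf1 : (ρ f).coeff 1 = f := by
    have h := h2 f
    rw [hsupp, coeff_single, Finsupp.sum_single_index rfl] at h
    rw [hsupp, coeff_single, Finsupp.single_eq_same]
    exact h
  rw [hsupp, hf1]

end Groth.Agent.Lib.Helper58.TrivAct1
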