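import Mathlib
import Groth.Prelude.Def_SGA3x
import Groth.Prelude.Def_AlgGrp
import Groth.Agent.Lib.Helper58.DiagTest
import Groth.Agent.Lib.Helper58.TrivAct1

/-!
# Actions of locally diagonalisable groups which are trivial modulo a nilpotent ideal: local part
-/

set_option autoImplicit false

universe u

open CategoryTheory CategoryTheory.Limits AlgebraicGeometry MonoidalCategory
  CartesianMonoidalCategory MonObj GrpObj

namespace Groth.Agent.Lib.Helper58.TrivAct2

open Groth.Agent.Lib.Helper43 Groth.Agent.Lib.Helper58.DiagPts Groth.Agent.Lib.Helper58.DiagTest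
open Groth.Agent.Lib.Helper58

section actionPoints

variable {S : Scheme.{u}} {G X : Over S} [GrpObj G]

theorem act_one (a : AlgGrp.Action G X) {T : Over S} (x : T ⟶ X) :
    lift (1 : T ⟶ G) x ≫ a.act = x := by
  have h : lift (1 : T ⟶ G) x = lift (toUnit T) x ≫ (η[G] ▷ X) := by
    apply CartesianMonoidalCategory.hom_ext
    · simp [Hom.one_def]
    · simp
  rw [h, Category.assoc, a.one_act]
  simp

theorem act_mul (a : AlgGrp.Action G X) {T : Over S} (g h : T ⟶ G) (x : T ⟶ X) :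
    lift (g * h) x ≫ a.act = lift g (lift h x ≫ a.act) ≫ a.act := by
  have h1 : lift (g * h) x = lift (lift g h) x ≫ (μ[G] ▷ X) := by
    apply CartesianMonoidalCategory.hom_ext
    · simp [Hom.mul_def]
    · simp
  have h2 : lift (lift g h) x ≫ (α_ G G X).hom ≫ (G ◁ a.act) = lift g (lift h x ≫ a.act) := by
    apply CartesianMonoidalCategory.hom_ext
    · simp
    · simp
  rw [h1, Category.assoc, a.mul_act, ← h2]
  simp only [Category.assoc]

end actionPoints

section lemmaF

set_option backward.isDefEq.respectTransparency false in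
/-- a morphism from an affine scheme into an affine open which kills the ideal of a closed
subscheme factors through the closed subscheme. -/
theorem exists_lift_closedImmersion {S S₀ : Scheme.{u}} (i₀ : S₀ ⟶ S) [IsClosedImmersion i₀]
    (W : S.affineOpens) {B : Type u} [CommRing B] (φ : Γ(S, W) →+* B)
    (hφ : i₀.ker.ideal W ≤ RingHom.ker φ) :
    ∃ p : Spec (CommRingCat.of B) ⟶ S₀,
      p ≫ i₀ = Spec.map (CommRingCat.ofHom φ) ≫ W.2.fromSpec := by
  let φ' : Γ(S, W) ⧸ i₀.ker.ideal W →+* B := Ideal.Quotient.lift (i₀.ker.ideal W) φ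
    (fun a ha => hφ ha)
  have hφ' : φ'.comp (Ideal.Quotient.mk (i₀.ker.ideal W)) = φ := Ideal.Quotient.lift_comp_mk _ _ _
  refine ⟨Spec.map (CommRingCat.ofHom φ') ≫ i₀.ker.subschemeCover.f W ≫ inv i₀.toImage, ?_⟩
  have h1 : inv i₀.toImage ≫ i₀ = i₀.ker.subschemeι := by
    rw [IsIso.inv_comp_eq]
    exact (Scheme.Hom.toImage_imageι i₀).symm
  rw [Category.assoc, Category.assoc, h1, Scheme.IdealSheafData.subschemeCover_map_subschemeι,
    Scheme.IdealSheafData.glueDataObjι_ι, ← Category.assoc, ← Spec.map_comp,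
    ← CommRingCat.ofHom_comp, hφ']

end lemmaF

section algebra

open MonoidAlgebra

variable {A : Type*} [CommRing A] {P : Type*} [CommMonoid P]

lemma single_mem_nilradical {a : A} (ha : IsNilpotent a) (m : P) :
    (single m a : MonoidAlgebra A P) ∈ nilradical (MonoidAlgebra A P) := by
  obtain ⟨n, hn⟩ := ha
  rw [mem_nilradical]
  exact ⟨n, by rw [single_pow, hn, single_zero]⟩

lemma ker_mapRingHom_le_nilradical (I : Ideal A) (hI : I ≤ nilradical A) :
    RingHom.ker (mapRingHom P (Ideal.Quotient.mk I)) ≤ nilradical (MonoidAlgebra A P) := by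
  intro f hf
  rw [RingHom.mem_ker] at hf
  have hc : ∀ m, f.coeff m ∈ I := by
    intro m
    have h := congrArg (fun g => g.coeff m) hf
    simp only [coeff_mapRingHom, coeff_zero, Finsupp.zero_apply] at h
    exact Ideal.Quotient.eq_zero_iff_mem.mp h
  rw [← sum_coeff_single f]
  exact Ideal.sum_mem _ (fun m _ => single_mem_nilradical (hI (hc m)) m)

lemma mapRingHom_mk_surjective (I : Ideal A) :
    Function.Surjective (mapRingHom P (Ideal.Quotient.mk I)) := by
  intro g
  induction g using MonoidAlgebra.induction_linear with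
  | zero => exact ⟨0, map_zero _⟩
  | add x y hx hy =>
    obtain ⟨x', rfl⟩ := hx
    obtain ⟨y', rfl⟩ := hy
    exact ⟨x' + y', map_add _ _ _⟩
  | single m r =>
    obtain ⟨r', rfl⟩ := Ideal.Quotient.mk_surjective r
    exact ⟨single m r', mapRingHom_single _ _ _⟩

lemma comap_mapRingHom_mk_surjective (I : Ideal A) (hI : I ≤ nilradical A) :
    Function.Surjective (PrimeSpectrum.comap (mapRingHom P (Ideal.Quotient.mk I))) := by
  have H : ∀ x : MonoidAlgebra (A ⧸ I) P, ∃ n > 0,
      x ^ n ∈ (mapRingHom P (Ideal.Quotient.mk I)).range := by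
    intro x
    refine ⟨1, Nat.one_pos, ?_⟩
    rw [pow_one]
    exact mapRingHom_mk_surjective I x
  exact (PrimeSpectrum.isHomeomorph_comap (mapRingHom P (Ideal.Quotient.mk I)) H
    (ker_mapRingHom_le_nilradical I hI)).surjective

lemma le_nilradical_of_isNilpotent (I : Ideal A) (hI : IsNilpotent I) : I ≤ nilradical A := by
  obtain ⟨n, hn⟩ := hI
  intro x hx
  rw [mem_nilradical]
  refine ⟨n, ?_⟩
  have h : x ^ n ∈ I ^ n := Ideal.pow_mem_pow hx n
  rw [hn] at h
  exact h

lemma isNilpotent_map {B : Type*} [CommRing B] (c : B →+* A) (J : Ideal B) (hJ : IsNilpotent J) :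
    IsNilpotent (Ideal.map c J) := by
  obtain ⟨n, hn⟩ := hJ
  refine ⟨n, ?_⟩
  rw [← Ideal.map_pow, hn, Ideal.zero_eq_bot, Ideal.map_bot]
  rfl

end algebra

section coassocAlg

open MonoidAlgebra

variable {k : Type*} [CommRing k] {P Q : Type*} [CommMonoid P] [CommMonoid Q] (ι₁ ι₂ : P →* Q)
  (hinj : ∀ a b m n, ι₁ a * ι₂ b = ι₁ m * ι₂ n → a = m ∧ b = n) (ρ : k →+* MonoidAlgebra k P)

/-- the iterated coaction -/
noncomputable def Φ : MonoidAlgebra k P →+* MonoidAlgebra k Q :=
  MonoidAlgebra.liftNCRingHom ((mapDomainRingHom k ι₂).comp ρ) ((of k Q).comp ι₁)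
    (fun _ _ => Commute.all _ _)

lemma Φ_single (m : P) (r : k) :
    Φ ι₁ ι₂ ρ (single m r) = mapDomainRingHom k ι₂ (ρ r) * single (ι₁ m) 1 := by
  simp [Φ]

include hinj in
lemma coeff_Φ (g : MonoidAlgebra k P) (m n : P) :
    (Φ ι₁ ι₂ ρ g).coeff (ι₁ m * ι₂ n) = (ρ (g.coeff m)).coeff n := by
  classical
  induction g using MonoidAlgebra.induction_linear with
  | zero => simp
  | add g1 g2 h1 h2 =>
    rw [map_add, coeff_add, Finsupp.add_apply, h1, h2, coeff_add, Finsupp.add_apply, map_add,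
      coeff_add, Finsupp.add_apply]
  | single a r =>
    have h : single (ι₁ a) (1 : k) = mapDomainRingHom k ι₁ (single a 1) := by
      rw [mapDomainRingHom_apply, mapDomain_single]
    rw [Φ_single, mul_comm, h,
      Groth.Agent.Lib.Helper62.DSCartierAlg.coeff_mul_indep ι₁ ι₂ hinj, coeff_single, coeff_single,
      Finsupp.single_apply, Finsupp.single_apply]
    split_ifs with h
    · rw [_root_.one_mul]
    · rw [zero_mul, map_zero, coeff_zero, Finsupp.zero_apply]

open Classical in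
include hinj in
lemma coassoc_of_eq (h : ∀ f, mapDomainRingHom k (ι₁ * ι₂) (ρ f) = Φ ι₁ ι₂ ρ (ρ f)) (f : k)
    (m n : P) : (ρ ((ρ f).coeff m)).coeff n = if m = n then (ρ f).coeff m else 0 := by
  rw [← coeff_Φ ι₁ ι₂ hinj, ← h,
    Groth.Agent.Lib.Helper62.DSCartierAlg.coeff_diag_indep ι₁ ι₂ hinj]

end coassocAlg

section helpers

variable {S U : Scheme.{u}} (G : Over S) [GrpObj G] (u : U ⟶ S) {M : Type} [AddCommGroup M]
  (e : Grp.mk (Red.bc u G) ≅ Grp.mk (Red.DS U M))

lemma κ_congr' {X : Over S} (x x' : X.left ⟶ U)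
    (hx : x ≫ u = X.hom) (hx' : x' ≫ u = X.hom) (h : x = x') (a : X ⟶ G) :
    κ G u e x hx a = κ G u e x' hx' a := by
  subst h
  rfl

lemma κ_one {X : Over S} (x : X.left ⟶ U) (hx : x ≫ u = X.hom) :
    κ G u e x hx (1 : X ⟶ G) = 1 := by
  have h := κ_mul G u e x hx 1 1
  rw [_root_.mul_one] at h
  refine MonoidHom.ext (fun m => ?_)
  have hm := DFunLike.congr_fun h m
  rw [MonoidHom.mul_apply] at hm
  have hu : IsUnit (κ G u e x hx 1 m) := (Group.isUnit m).map (κ G u e x hx 1)
  rw [MonoidHom.one_apply]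
  exact hu.mul_eq_left.mp hm.symm

variable {k : Type u} [CommRing k] (t : Spec (CommRingCat.of k) ⟶ S)

lemma ev_one {X : Over S} (τ : X ⟶ T t) (f : kM k M) :
    ev t τ (1 : Multiplicative M →* Γ(X.left, ⊤)) f =
      ptFnHom τ.left (f.coeff.sum (fun _ c => c)) := by
  induction f using MonoidAlgebra.induction_linear with
  | zero => simp
  | add x y hx hy =>
    rw [map_add, hx, hy, MonoidAlgebra.coeff_add, Finsupp.sum_add_index' (by simp) (by simp),
      map_add]
  | single m r =>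
    rw [ev_single, MonoidHom.one_apply, _root_.mul_one, MonoidAlgebra.coeff_single,
      Finsupp.sum_single_index rfl]

end helpers

section loc

variable {S S₀ : Scheme.{u}} (i₀ : S₀ ⟶ S) [IsClosedImmersion i₀]
  (G X : Over S) [GrpObj G] (a : AlgGrp.Action G X)
  (h0 : ∀ (Y : Over S) (_ : Y ⟶ Over.mk i₀) (g : Y ⟶ G) (x : Y ⟶ X), lift g x ≫ a.act = x)
  {U : Scheme.{u}} (u : U ⟶ S) {M : Type} [AddCommGroup M]
  (e : Grp.mk (Red.bc u G) ≅ Grp.mk (Red.DS U M))
  (W : S.affineOpens) (hW : IsNilpotent (i₀.ker.ideal W))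
  {A : Type u} [CommRing A] (c : Γ(S, W) →+* A)
  (vA : Spec (CommRingCat.of A) ⟶ pullback X.hom u) [IsOpenImmersion vA]
  (hvA : vA ≫ pullback.fst X.hom u ≫ X.hom = Spec.map (CommRingCat.ofHom c) ≫ W.2.fromSpec)

/-- the structure map of the chart. -/
noncomputable abbrev tA : Spec (CommRingCat.of A) ⟶ S := Spec.map (CommRingCat.ofHom c) ≫ W.2.fromSpec

/-- the map of the chart to the trivialising scheme. -/
noncomputable abbrev tUA : Spec (CommRingCat.of A) ⟶ U := vA ≫ pullback.snd X.hom u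

include hvA in
lemma htUA : tUA X u vA ≫ u = tA W c := by
  rw [Category.assoc, ← pullback.condition]
  exact hvA

/-- the universal point of the chart. -/
noncomputable def xA : T (tA W c) ⟶ X :=
  Over.homMk (vA ≫ pullback.fst X.hom u) (by rw [Category.assoc]; exact hvA)

lemma lift_eq {Y' : Over S} (v : Y' ⟶ T (tA W c)) (g' : Y' ⟶ G) :
    lift g' v = gOf (tA W c) v (κ G u e (v.left ≫ tUA X u vA)
        (hxX u (tA W c) (tUA X u vA) (htUA X u W c vA hvA) v) g') ≫
      lift (aD G u e (tA W c) (tUA X u vA) (htUA X u W c vA hvA)) (τD (tA W c) M) := by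
  rw [comp_lift, gOf_τD, gOf_aD]

/-- the universal point of `G` acting on the universal point of the chart. -/
noncomputable def zA : D (tA W c) M ⟶ X :=
  lift (aD G u e (tA W c) (tUA X u vA) (htUA X u W c vA hvA)) (τD (tA W c) M ≫ xA X u W c vA hvA) ≫
    a.act

lemma act_eq {Y' : Over S} (v : Y' ⟶ T (tA W c)) (g' : Y' ⟶ G) :
    lift g' (v ≫ xA X u W c vA hvA) ≫ a.act =
      gOf (tA W c) v (κ G u e (v.left ≫ tUA X u vA)
        (hxX u (tA W c) (tUA X u vA) (htUA X u W c vA hvA) v) g') ≫ zA G X a u e W c vA hvA := by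
  have h : lift g' (v ≫ xA X u W c vA hvA) = lift g' v ≫ (G ◁ xA X u W c vA hvA) := by
    rw [lift_whiskerLeft]
  rw [h, lift_eq G X u e W c vA hvA v g', Category.assoc, Category.assoc]
  congr 1
  unfold zA
  rw [← Category.assoc, lift_whiskerLeft]


/-- the ideal of the chart defining the closed subscheme. -/
abbrev IA : Ideal A := Ideal.map c (i₀.ker.ideal W)

/-- reduction of the group algebra modulo the ideal. -/
noncomputable abbrev βA : kM A M →+* MonoidAlgebra (A ⧸ IA i₀ W c) (Multiplicative M) :=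
  MonoidAlgebra.mapRingHom (Multiplicative M) (Ideal.Quotient.mk (IA i₀ W c))

include hW in
lemma specMap_βA_surjective (M : Type) [AddCommGroup M] :
    Function.Surjective (Spec.map (CommRingCat.ofHom (βA i₀ (M := M) W c))).base := by
  have h := comap_mapRingHom_mk_surjective (P := Multiplicative M) (IA i₀ W c)
    (le_nilradical_of_isNilpotent _ (isNilpotent_map c _ hW))
  exact h

include h0 in
lemma r₀_zA :
    (Over.homMk (Spec.map (CommRingCat.ofHom (βA i₀ (M := M) W c))) rfl :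
      Over.mk (Spec.map (CommRingCat.ofHom (βA i₀ (M := M) W c)) ≫ (D (tA W c) M).hom) ⟶
        D (tA W c) M) ≫ zA G X a u e W c vA hvA =
    (Over.homMk (Spec.map (CommRingCat.ofHom (βA i₀ (M := M) W c))) rfl :
      Over.mk (Spec.map (CommRingCat.ofHom (βA i₀ (M := M) W c)) ≫ (D (tA W c) M).hom) ⟶
        D (tA W c) M) ≫ τD (tA W c) M ≫ xA X u W c vA hvA := by
  obtain ⟨p, hp⟩ := exists_lift_closedImmersion i₀ W
    ((βA i₀ (M := M) W c).comp ((algebraMap A (kM A M)).comp c)) (by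
      intro j hj
      rw [RingHom.mem_ker, RingHom.comp_apply, RingHom.comp_apply, MonoidAlgebra.coe_algebraMap]
      simp only [Function.comp_apply, Algebra.algebraMap_self, RingHom.id_apply]
      rw [MonoidAlgebra.mapRingHom_single,
        Ideal.Quotient.eq_zero_iff_mem.mpr (Ideal.mem_map_of_mem c hj), MonoidAlgebra.single_zero])
  have hp' : p ≫ i₀ = Spec.map (CommRingCat.ofHom (βA i₀ (M := M) W c)) ≫ (D (tA W c) M).hom := by
    rw [hp]
    change _ = Spec.map _ ≫ Spec.map _ ≫ Spec.map _ ≫ _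
    rw [← Spec.map_comp_assoc, ← Spec.map_comp_assoc]
    rfl
  have h := h0 (Over.mk (Spec.map (CommRingCat.ofHom (βA i₀ (M := M) W c)) ≫ (D (tA W c) M).hom))
    (Over.homMk p hp')
    ((Over.homMk (Spec.map (CommRingCat.ofHom (βA i₀ (M := M) W c))) rfl :
      Over.mk (Spec.map (CommRingCat.ofHom (βA i₀ (M := M) W c)) ≫ (D (tA W c) M).hom) ⟶
        D (tA W c) M) ≫ aD G u e (tA W c) (tUA X u vA) (htUA X u W c vA hvA))
    ((Over.homMk (Spec.map (CommRingCat.ofHom (βA i₀ (M := M) W c))) rfl :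
      Over.mk (Spec.map (CommRingCat.ofHom (βA i₀ (M := M) W c)) ≫ (D (tA W c) M).hom) ⟶
        D (tA W c) M) ≫ τD (tA W c) M ≫ xA X u W c vA hvA)
  rw [← h]
  unfold zA
  rw [← Category.assoc, comp_lift]


include h0 hW in
theorem exists_zhat :
    ∃ zh : D (tA W c) M ⟶ T (tA W c),
      zh ≫ xA X u W c vA hvA = zA G X a u e W c vA hvA ∧
      zh.left ≫ tUA X u vA = π A M ≫ tUA X u vA ∧
      Spec.map (CommRingCat.ofHom (βA i₀ (M := M) W c)) ≫ zh.left =
        Spec.map (CommRingCat.ofHom (βA i₀ (M := M) W c)) ≫ π A M := by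
  obtain ⟨b₀, hb₀⟩ : ∃ b₀, b₀ = Spec.map (CommRingCat.ofHom (βA i₀ (M := M) W c)) := ⟨_, rfl⟩
  have hz1 : (zA G X a u e W c vA hvA).left ≫ X.hom = (π A M ≫ tUA X u vA) ≫ u := by
    rw [Over.w (zA G X a u e W c vA hvA), Category.assoc, htUA X u W c vA hvA]
    rfl
  obtain ⟨z', hz'⟩ : ∃ z', z' = pullback.lift (zA G X a u e W c vA hvA).left (π A M ≫ tUA X u vA) hz1 :=
    ⟨_, rfl⟩
  have hz'1 : z' ≫ pullback.fst X.hom u = (zA G X a u e W c vA hvA).left := by
    rw [hz', pullback.lift_fst]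
  have hz'2 : z' ≫ pullback.snd X.hom u = π A M ≫ tUA X u vA := by
    rw [hz', pullback.lift_snd]
  have hr := congrArg (fun f => f.left) (r₀_zA i₀ G X a h0 u e W c vA hvA)
  simp only [Over.comp_left, Over.homMk_left] at hr
  rw [← hb₀] at hr
  have hb : b₀ ≫ z' = b₀ ≫ π A M ≫ vA := by
    apply pullback.hom_ext
    · rw [Category.assoc, hz'1, hr]
      simp only [xA, τD, Over.homMk_left, Category.assoc]
    · rw [Category.assoc, hz'2]
      simp only [Category.assoc]
  have hrange : Set.range z'.base ⊆ Set.range vA.base := by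
    rintro _ ⟨q, rfl⟩
    obtain ⟨q₀, rfl⟩ := specMap_βA_surjective i₀ W hW c M q
    rw [← hb₀]
    refine ⟨(b₀ ≫ π A M).base q₀, ?_⟩
    have h := congrArg (fun f => f.base q₀) hb
    simp only [Scheme.Hom.comp_base, TopCat.hom_comp, ContinuousMap.comp_apply] at h ⊢
    exact h.symm
  obtain ⟨ζ, hζ⟩ : ∃ ζ, ζ = IsOpenImmersion.lift vA z' hrange := ⟨_, rfl⟩
  have hζ' : ζ ≫ vA = z' := by rw [hζ, IsOpenImmersion.lift_fac]
  have hζS : ζ ≫ tA W c = (D (tA W c) M).hom := by
    calc ζ ≫ tA W c = ζ ≫ vA ≫ pullback.fst X.hom u ≫ X.hom := by rw [hvA]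
      _ = (z' ≫ pullback.fst X.hom u) ≫ X.hom := by rw [← hζ']; simp only [Category.assoc]
      _ = (D (tA W c) M).hom := by rw [hz'1]; exact Over.w (zA G X a u e W c vA hvA)
  refine ⟨Over.homMk ζ hζS, ?_, ?_, ?_⟩
  · apply Over.OverMorphism.ext
    simp only [Over.comp_left, Over.homMk_left, xA]
    rw [← Category.assoc, hζ', hz'1]
  · change ζ ≫ _ = _
    rw [← Category.assoc, hζ', hz'2]
  · change _ ≫ ζ = _
    rw [← hb₀, ← cancel_mono vA, Category.assoc, hζ', hb, Category.assoc]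


lemma xA_inj {Y' : Over S} (v₁ v₂ : Y' ⟶ T (tA W c))
    (h1 : v₁ ≫ xA X u W c vA hvA = v₂ ≫ xA X u W c vA hvA)
    (h2 : v₁.left ≫ tUA X u vA = v₂.left ≫ tUA X u vA) : v₁ = v₂ := by
  apply Over.OverMorphism.ext
  rw [← cancel_mono vA]
  apply pullback.hom_ext
  · have h := congrArg (fun f => f.left) h1
    simp only [Over.comp_left, xA, Over.homMk_left] at h
    simpa only [Category.assoc] using h
  · simpa only [Category.assoc] using h2

variable (zh : D (tA W c) M ⟶ T (tA W c))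
  (hzh : zh ≫ xA X u W c vA hvA = zA G X a u e W c vA hvA)
  (hzhU : zh.left ≫ tUA X u vA = π A M ≫ tUA X u vA)

/-- the coaction attached to the chart. -/
noncomputable def ρA : A →+* kM A M :=
  (Spec.preimage (R := CommRingCat.of A) (S := CommRingCat.of (kM A M)) zh.left).hom

lemma zh_left : zh.left = Spec.map (CommRingCat.ofHom (ρA W c zh)) :=
  (Spec.map_preimage (R := CommRingCat.of A) (S := CommRingCat.of (kM A M)) zh.left).symm

lemma ptFn_gOf_zh {Y' : Over S} (v : Y' ⟶ T (tA W c)) (α : Multiplicative M →* Γ(Y'.left, ⊤))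
    (f : A) :
    ptFn (gOf (tA W c) v α ≫ zh).left f = ev (tA W c) v α (ρA W c zh f) := by
  rw [Over.comp_left, zh_left W c zh, ptFn_specMap]
  exact gOf_appTop (tA W c) v α _

include hzh in
lemma act_eq' {Y' : Over S} (v : Y' ⟶ T (tA W c)) (g' : Y' ⟶ G) :
    lift g' (v ≫ xA X u W c vA hvA) ≫ a.act =
      (gOf (tA W c) v (κ G u e (v.left ≫ tUA X u vA)
        (hxX u (tA W c) (tUA X u vA) (htUA X u W c vA hvA) v) g') ≫ zh) ≫ xA X u W c vA hvA := by
  rw [act_eq G X a u e W c vA hvA v g', Category.assoc, hzh]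

include hzhU in
lemma gOf_zh_tUA {Y' : Over S} (v : Y' ⟶ T (tA W c)) (α : Multiplicative M →* Γ(Y'.left, ⊤)) :
    (gOf (tA W c) v α ≫ zh).left ≫ tUA X u vA = v.left ≫ tUA X u vA := by
  rw [Over.comp_left, Category.assoc, hzhU, ← Category.assoc, gOf_left_π]

include hzh hzhU in
/-- counit axiom -/
theorem ρA_counit (f : A) : (ρA W c zh f).coeff.sum (fun _ c => c) = f := by
  have h1 := act_eq' G X a u e W c vA hvA zh hzh (𝟙 (T (tA W c))) 1
  rw [act_one, κ_one] at h1
  have h2 := xA_inj X u W c vA hvA _ _ h1.symm (gOf_zh_tUA X u W c vA zh hzhU _ _)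
  have h3 := congrArg (fun v => ptFn (Over.Hom.left v) f) h2
  beta_reduce at h3
  rw [ptFn_gOf_zh, ev_one, ptFnHom_apply] at h3
  have hinj : Function.Injective (ptFn (Over.Hom.left (𝟙 (T (tA W c)))) (A := A)) := by
    intro x y hxy
    simp only [Over.id_left, ptFn, Scheme.Hom.id_appTop] at hxy
    have h4 : ∀ z : A, (Scheme.ΓSpecIso (CommRingCat.of A)).hom.hom
        ((Scheme.ΓSpecIso (CommRingCat.of A)).inv.hom z) = z := fun z =>
      Iso.inv_hom_id_apply (C := CommRingCat) (Scheme.ΓSpecIso (CommRingCat.of A)) z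
    rw [← h4 x, ← h4 y]
    exact congrArg _ hxy
  exact hinj h3


local notation "κ[" v "]" => κ G u e (Over.Hom.left v ≫ tUA X u vA)
  (hxX u (tA W c) (tUA X u vA) (htUA X u W c vA hvA) v)

include hzh hzhU in
lemma act_act {Y' : Over S} (v : Y' ⟶ T (tA W c)) (g₁ g₂ : Y' ⟶ G) :
    gOf (tA W c) v (κ[v] g₁ * κ[v] g₂) ≫ zh =
      gOf (tA W c) (gOf (tA W c) v (κ[v] g₂) ≫ zh) (κ[v] g₁) ≫ zh := by
  have h := act_mul a g₁ g₂ (v ≫ xA X u W c vA hvA)
  rw [act_eq' G X a u e W c vA hvA zh hzh v (g₁ * g₂), act_eq' G X a u e W c vA hvA zh hzh v g₂,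
    act_eq' G X a u e W c vA hvA zh hzh (gOf (tA W c) v (κ[v] g₂) ≫ zh) g₁, κ_mul] at h
  have hU := gOf_zh_tUA X u W c vA zh hzhU v (κ[v] g₂)
  rw [κ_congr' G u e _ _ _ (hxX u (tA W c) (tUA X u vA) (htUA X u W c vA hvA) v) hU g₁] at h
  refine xA_inj X u W c vA hvA _ _ h ?_
  rw [gOf_zh_tUA X u W c vA zh hzhU, gOf_zh_tUA X u W c vA zh hzhU, gOf_zh_tUA X u W c vA zh hzhU]


lemma ev_gOf_zh {M' : Type} [AddCommGroup M'] (j j' : Multiplicative M →* Multiplicative M')
    (g : kM A M) :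
    ev (tA W c) (gOf (tA W c) (τD (tA W c) M') ((χuniv A M').comp j') ≫ zh)
        ((χuniv A M').comp j) g =
      (Scheme.ΓSpecIso (CommRingCat.of (kM A M'))).inv.hom (Φ j j' (ρA W c zh) g) := by
  have h : ev (tA W c) (gOf (tA W c) (τD (tA W c) M') ((χuniv A M').comp j') ≫ zh)
        ((χuniv A M').comp j) =
      ((Scheme.ΓSpecIso (CommRingCat.of (kM A M'))).inv.hom).comp (Φ j j' (ρA W c zh)) := by
    apply MonoidAlgebra.ringHom_ext
    · intro r
      rw [ev_single, map_one, _root_.mul_one, RingHom.comp_apply, Φ_single, map_one,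
        ptFnHom_apply, ptFn_gOf_zh, ev_χuniv_comp]
      congr 1
      rw [← MonoidAlgebra.one_def, _root_.mul_one]
    · intro m
      rw [ev_single, map_one, _root_.one_mul, RingHom.comp_apply, Φ_single, map_one, map_one,
        _root_.one_mul]
      rfl
  rw [h]
  rfl

include hzh hzhU in
open Classical in
/-- coassociativity axiom -/
theorem ρA_coassoc (f : A) (m n : Multiplicative M) :
    (ρA W c zh ((ρA W c zh f).coeff m)).coeff n =
      if m = n then (ρA W c zh f).coeff m else 0 := by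
  refine coassoc_of_eq (j₁ M) (j₂ M) j_indep (ρA W c zh) (fun f => ?_) f m n
  have h := act_act G X a u e W c vA hvA zh hzh hzhU (τD (tA W c) (M × M))
    (aJ G u e (tA W c) (tUA X u vA) (htUA X u W c vA hvA) (j₁ M))
    (aJ G u e (tA W c) (tUA X u vA) (htUA X u W c vA hvA) (j₂ M))
  have h1 : κ[τD (tA W c) (M × M)] (aJ G u e (tA W c) (tUA X u vA) (htUA X u W c vA hvA) (j₁ M)) =
      (χuniv A (M × M)).comp (j₁ M) := κ_aJ G u e (tA W c) (tUA X u vA) (htUA X u W c vA hvA) (j₁ M)
  have h2 : κ[τD (tA W c) (M × M)] (aJ G u e (tA W c) (tUA X u vA) (htUA X u W c vA hvA) (j₂ M)) =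
      (χuniv A (M × M)).comp (j₂ M) := κ_aJ G u e (tA W c) (tUA X u vA) (htUA X u W c vA hvA) (j₂ M)
  rw [h1, h2] at h
  have h3 := congrArg (fun v => ptFn (Over.Hom.left v) f) h
  beta_reduce at h3
  rw [ptFn_gOf_zh, ptFn_gOf_zh, ← MonoidHom.comp_mul, ev_χuniv_comp, ev_gOf_zh] at h3
  have hinj : Function.Injective
      (Scheme.ΓSpecIso (CommRingCat.of (kM A (M × M)))).inv.hom := by
    intro a b hab
    have h1 : ∀ c : kM A (M × M), (Scheme.ΓSpecIso (CommRingCat.of (kM A (M × M)))).hom.hom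
        ((Scheme.ΓSpecIso (CommRingCat.of (kM A (M × M)))).inv.hom c) = c := by
      intro c
      exact Iso.inv_hom_id_apply (C := CommRingCat)
        (Scheme.ΓSpecIso (CommRingCat.of (kM A (M × M)))) c
    rw [← h1 a, ← h1 b, hab]
  exact hinj h3


/-- the coaction is linear over the base -/
lemma ρA_c (w : Γ(S, W)) : ρA W c zh (c w) = MonoidAlgebra.single 1 (c w) := by
  have h := Over.w zh
  change zh.left ≫ Spec.map (CommRingCat.ofHom c) ≫ W.2.fromSpec =
    π A M ≫ Spec.map (CommRingCat.ofHom c) ≫ W.2.fromSpec at h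
  rw [← Category.assoc, ← Category.assoc, cancel_mono, zh_left W c zh, ← Spec.map_comp,
    ← Spec.map_comp] at h
  have h' := Spec.map_injective h
  have h2 := congrArg (fun φ => φ.hom w) h'
  simp only [CommRingCat.hom_comp, CommRingCat.hom_ofHom, RingHom.comp_apply] at h2
  rw [h2, MonoidAlgebra.coe_algebraMap]
  simp only [Function.comp_apply, Algebra.algebraMap_self, RingHom.id_apply]

/-- the coaction is trivial modulo the ideal -/
lemma ρA_mem (hzhb : Spec.map (CommRingCat.ofHom (βA i₀ (M := M) W c)) ≫ zh.left =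
      Spec.map (CommRingCat.ofHom (βA i₀ (M := M) W c)) ≫ π A M) (f : A)
    (m : Multiplicative M) (hm : m ≠ 1) : (ρA W c zh f).coeff m ∈ IA i₀ W c := by
  rw [zh_left W c zh, ← Spec.map_comp, ← Spec.map_comp] at hzhb
  have h' := Spec.map_injective hzhb
  have h2 := congrArg (fun φ => (φ.hom f).coeff m) h'
  simp only [CommRingCat.hom_comp, CommRingCat.hom_ofHom, RingHom.comp_apply,
    MonoidAlgebra.coeff_mapRingHom] at h2
  rw [MonoidAlgebra.coe_algebraMap] at h2
  simp only [Function.comp_apply, Algebra.algebraMap_self, RingHom.id_apply,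
    MonoidAlgebra.coeff_single] at h2
  rw [Finsupp.single_eq_of_ne hm, map_zero] at h2
  exact Ideal.Quotient.eq_zero_iff_mem.mp h2

include h0 hW e in
/-- the action is trivial on points factoring through the chart. -/
theorem act_trivial_chart {Y' : Over S} (v : Y' ⟶ T (tA W c)) (g' : Y' ⟶ G) :
    lift g' (v ≫ xA X u W c vA hvA) ≫ a.act = v ≫ xA X u W c vA hvA := by
  classical
  obtain ⟨zh, hzh, hzhU, hzhb⟩ := exists_zhat i₀ G X a h0 u e W hW c vA hvA
  have hspan : Ideal.span (c '' (i₀.ker.ideal W : Set Γ(S, W))) = IA i₀ W c := rfl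
  have hH1 : ∀ (f : A) (m : Multiplicative M), m ≠ 1 →
      (ρA W c zh ((ρA W c zh f).coeff m)).coeff m = (ρA W c zh f).coeff m := by
    intro f m _
    rw [ρA_coassoc G X a u e W c vA hvA zh hzh hzhU f m m, if_pos rfl]
  have hH3 : ∀ j ∈ c '' (i₀.ker.ideal W : Set Γ(S, W)),
      ρA W c zh j = MonoidAlgebra.single 1 j := by
    rintro _ ⟨w, _, rfl⟩
    exact ρA_c W c zh w
  have hH4 : ∀ (f : A) (m : Multiplicative M), m ≠ 1 →
      (ρA W c zh f).coeff m ∈ Ideal.span (c '' (i₀.ker.ideal W : Set Γ(S, W))) := by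
    intro f m hm
    rw [hspan]
    exact ρA_mem i₀ W c zh hzhb f m hm
  have hnil : IsNilpotent (Ideal.span (c '' (i₀.ker.ideal W : Set Γ(S, W)))) := by
    rw [hspan]
    exact isNilpotent_map c _ hW
  have hρ : ∀ f, ρA W c zh f = MonoidAlgebra.single 1 f :=
    TrivAct1.coaction_trivial (P := Multiplicative M) (ρA W c zh) hH1
      (ρA_counit G X a u e W c vA hvA zh hzh hzhU)
      (c '' (i₀.ker.ideal W : Set Γ(S, W))) hH3 hnil hH4
  have hzh' : zh = τD (tA W c) M := by
    apply Over.OverMorphism.ext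
    rw [zh_left W c zh]
    change _ = Spec.map (CommRingCat.ofHom (algebraMap A (kM A M)))
    congr 2
    ext f
    rw [hρ f, MonoidAlgebra.coe_algebraMap]
    simp only [Function.comp_apply, Algebra.algebraMap_self, RingHom.id_apply]
  rw [act_eq' G X a u e W c vA hvA zh hzh v g', hzh', gOf_τD]

end loc

end Groth.Agent.Lib.Helper58.TrivAct2
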