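import Mathlib
import Groth.Prelude.Def_SGA3x
import Groth.Agent.Lib.Helper58.DiagTest
import Groth.Agent.Lib.Helper58.TrivAct2
import Groth.Agent.Lib.Helper58.CD2
import Groth.Agent.Lib.Helper58.CD3
import Groth.Agent.Lib.Helper58.EF1

/-!
# Closed conditions on families of points of a locally diagonalisable group: local model
-/

set_option autoImplicit false

universe u

open CategoryTheory CategoryTheory.Limits AlgebraicGeometry MonoidalCategory
  CartesianMonoidalCategory MonObj GrpObj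

namespace Groth.Agent.Lib.Helper58.EF2

open Groth.Agent.Lib.Helper43 Groth.Agent.Lib.Helper58.DiagPts Groth.Agent.Lib.Helper58.DiagTest
open Groth.Agent.Lib.Helper58.CD2 Groth.Agent.Lib.Helper58.CD3 Groth.Agent.Lib.Helper58.EF1

variable {S U : Scheme.{u}} (H X : Over S) [GrpObj H] (u : U ⟶ S) {M : Type} [AddCommGroup M]
  (e : Grp.mk (Red.bc u H) ≅ Grp.mk (Red.DS U M))
  {Wo : Over S} (w : Wo ⟶ H ⊗ X)

/-- the condition that a point of `H ⊗ X` lies in the closed subscheme `w`. -/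
def Qw (Y : Over S) (m : Y ⟶ H ⊗ X) : Prop := ∃ l₀ : Y.left ⟶ Wo.left, l₀ ≫ w.left = m.left

lemma qw_iff (Y : Over S) (m : Y ⟶ H ⊗ X) : Qw H X w Y m ↔ ∃ l : Y ⟶ Wo, l ≫ w = m := by
  constructor
  · rintro ⟨l₀, hl₀⟩
    refine ⟨Over.homMk l₀ ?_, ?_⟩
    · rw [← Over.w w, ← Category.assoc, hl₀, Over.w m]
    · apply Over.OverMorphism.ext
      exact hl₀
  · rintro ⟨l, rfl⟩
    exact ⟨l.left, rfl⟩

variable {k : Type u} [CommRing k] (t : Spec (CommRingCat.of k) ⟶ S)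
  (tU : Spec (CommRingCat.of k) ⟶ U) (htU : tU ≫ u = t) (x₀ : T t ⟶ X)

/-- the universal point of `H ⊗ X` over the test scheme. -/
noncomputable def Ψ : D t M ⟶ H ⊗ X := lift (aD H u e t tU htU) (τD t M ≫ x₀)

lemma lift_eq {Y : Over S} (τ : Y ⟶ T t) (h : Y ⟶ H) :
    lift h (τ ≫ x₀) =
      gOf t τ (κ H u e (τ.left ≫ tU) (hxX u t tU htU τ) h) ≫ Ψ H X u e t tU htU x₀ := by
  rw [Ψ, comp_lift, gOf_aD, ← Category.assoc, gOf_τD]

section ev

variable {Y : Over S} (τ : Y ⟶ T t) (α : Multiplicative M →* Γ(Y.left, ⊤))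

lemma ev_eq_comp :
    ev t τ α = (MonoidAlgebra.liftNCRingHom (RingHom.id Γ(Y.left, ⊤)) α
      (fun _ _ => Commute.all _ _)).comp
      (MonoidAlgebra.mapRingHom (Multiplicative M) (ptFnHom τ.left)) := by
  apply MonoidAlgebra.ringHom_ext
  · intro c
    simp [ev, MonoidAlgebra.mapRingHom_single]
  · intro m
    simp [ev, MonoidAlgebra.mapRingHom_single]

lemma ptFnHom_gOf : ptFnHom (gOf t τ α).left = ev t τ α :=
  RingHom.ext (fun f => gOf_appTop t τ α f)

end ev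

/-- the ideal of the group algebra cutting out the pull back of `w` to the test scheme. -/
theorem exists_ideal [IsClosedImmersion w.left] (W : MorphismProperty Scheme.{u})
    [W.RespectsIso] [W.IsStableUnderBaseChange] (hW : W w.left) :
    ∃ K : Ideal (kM k M), W (Spec.map (CommRingCat.ofHom (Ideal.Quotient.mk K))) ∧
      ∀ {Y : Scheme.{u}} (q : Y ⟶ Spec (CommRingCat.of (kM k M))),
        (∃ l₀ : Y ⟶ Wo.left, l₀ ≫ w.left = q ≫ (Ψ H X u e t tU htU x₀).left) ↔
          K ≤ RingHom.ker (ptFnHom q) := by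
  let j₀ : pullback w.left (Ψ H X u e t tU htU x₀).left ⟶ Spec (CommRingCat.of (kM k M)) :=
    pullback.snd _ _
  haveI : IsClosedImmersion j₀ := inferInstance
  obtain ⟨K, e₀, he₀⟩ := IsClosedImmersion.Spec_iff.mp (inferInstance : IsClosedImmersion j₀)
  refine ⟨K, ?_, fun {Y} q => ?_⟩
  · have h1 : W j₀ := W.pullback_snd _ _ hW
    rw [he₀, W.cancel_left_of_respectsIso] at h1
    exact h1
  · rw [← factor_iff]
    constructor
    · rintro ⟨l₀, hl₀⟩
      refine ⟨pullback.lift l₀ q hl₀ ≫ e₀.hom, ?_⟩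
      change (pullback.lift l₀ q hl₀ ≫ e₀.hom) ≫
        Spec.map (CommRingCat.ofHom (Ideal.Quotient.mk K)) = q
      rw [Category.assoc, ← he₀]
      exact pullback.lift_snd _ _ _
    · rintro ⟨z, hz⟩
      have hz' : z ≫ Spec.map (CommRingCat.ofHom (Ideal.Quotient.mk K)) = q := hz
      refine ⟨z ≫ e₀.inv ≫ pullback.fst _ _, ?_⟩
      have h2 : e₀.inv ≫ j₀ = Spec.map (CommRingCat.ofHom (Ideal.Quotient.mk K)) := by
        rw [Iso.inv_comp_eq, he₀]
      rw [Category.assoc, Category.assoc, pullback.condition, ← hz']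
      change z ≫ e₀.inv ≫ j₀ ≫ _ = _
      rw [← Category.assoc e₀.inv, h2, Category.assoc]

variable (K : Ideal (kM k M))
  (hK : ∀ {Y : Scheme.{u}} (q : Y ⟶ Spec (CommRingCat.of (kM k M))),
    (∃ l₀ : Y ⟶ Wo.left, l₀ ≫ w.left = q ≫ (Ψ H X u e t tU htU x₀).left) ↔
      K ≤ RingHom.ker (ptFnHom q))

include hK in
/-- sufficiency of the vanishing of the coefficients. -/
theorem qw_of_le {Y : Over S} (v : Y ⟶ T t) (hv : coeffIdeal K ≤ RingHom.ker (ptFnHom v.left))
    (Y' : Over S) (y : Y' ⟶ Y) (h : Y' ⟶ H) : Qw H X w Y' (lift h ((y ≫ v) ≫ x₀)) := by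
  rw [lift_eq H X u e t tU htU x₀ (y ≫ v) h]
  change ∃ l₀ : Y'.left ⟶ Wo.left, l₀ ≫ w.left = _ ≫ (Ψ H X u e t tU htU x₀).left
  rw [hK, ptFnHom_gOf, ev_eq_comp]
  intro f hf
  rw [RingHom.mem_ker, RingHom.comp_apply]
  have h1 : coeffIdeal K ≤ RingHom.ker (ptFnHom (y ≫ v).left) := by
    intro c hc
    have h2 := hv hc
    rw [RingHom.mem_ker, ptFnHom_apply] at h2 ⊢
    rw [Over.comp_left, ptFn_comp, h2, map_zero]
  have h3 := (le_ker_mapRingHom_iff _ K).mpr h1 hf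
  rw [RingHom.mem_ker] at h3
  rw [h3, map_zero]


section nec

variable {k' : Type u} [CommRing k'] (g : k →+* k')

/-- the morphism of test schemes attached to a ring map. -/
noncomputable def vg : T (Spec.map (CommRingCat.ofHom g) ≫ t) ⟶ T t :=
  Over.homMk (Spec.map (CommRingCat.ofHom g)) rfl

lemma ev_univ :
    ev t (τD (Spec.map (CommRingCat.ofHom g) ≫ t) M ≫ vg t g) (χuniv k' M) =
      ((Scheme.ΓSpecIso (CommRingCat.of (kM k' M))).inv.hom).comp
        (MonoidAlgebra.mapRingHom (Multiplicative M) g) := by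
  apply MonoidAlgebra.ringHom_ext
  · intro c
    rw [ev_single, map_one, _root_.mul_one, RingHom.comp_apply, MonoidAlgebra.mapRingHom_single,
      ptFnHom_apply]
    change ptFn (π k' M ≫ Spec.map (CommRingCat.ofHom g)) c = _
    rw [ptFn_specMap, ptFn_specMap']
    rfl
  · intro m
    rw [ev_single, map_one, _root_.one_mul, RingHom.comp_apply, MonoidAlgebra.mapRingHom_single,
      map_one, χuniv_apply]

include hK in
/-- necessity of the vanishing of the coefficients. -/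
theorem le_of_qw
    (hq : ∀ (Y' : Over S) (y : Y' ⟶ T (Spec.map (CommRingCat.ofHom g) ≫ t)) (h : Y' ⟶ H),
      Qw H X w Y' (lift h ((y ≫ vg t g) ≫ x₀))) :
    coeffIdeal K ≤ RingHom.ker g := by
  obtain ⟨t₁, ht₁⟩ : ∃ t₁, t₁ = Spec.map (CommRingCat.ofHom g) ≫ t := ⟨_, rfl⟩
  have htU₁ : (Spec.map (CommRingCat.ofHom g) ≫ tU) ≫ u = Spec.map (CommRingCat.ofHom g) ≫ t := by
    rw [Category.assoc, htU]
  have h1 := hq (D (Spec.map (CommRingCat.ofHom g) ≫ t) M)
    (τD (Spec.map (CommRingCat.ofHom g) ≫ t) M)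
    (aD H u e (Spec.map (CommRingCat.ofHom g) ≫ t) (Spec.map (CommRingCat.ofHom g) ≫ tU) htU₁)
  rw [lift_eq H X u e t tU htU x₀] at h1
  have hκ : κ H u e ((τD (Spec.map (CommRingCat.ofHom g) ≫ t) M ≫ vg t g).left ≫ tU)
      (hxX u t tU htU (τD (Spec.map (CommRingCat.ofHom g) ≫ t) M ≫ vg t g))
      (aD H u e (Spec.map (CommRingCat.ofHom g) ≫ t) (Spec.map (CommRingCat.ofHom g) ≫ tU) htU₁) =
      χuniv k' M := by
    rw [← κ_aD H u e (Spec.map (CommRingCat.ofHom g) ≫ t) (Spec.map (CommRingCat.ofHom g) ≫ tU)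
      htU₁]
    apply TrivAct2.κ_congr'
    change (π k' M ≫ Spec.map (CommRingCat.ofHom g)) ≫ tU = _
    rw [Category.assoc]
  rw [hκ] at h1
  change ∃ l₀ : _ ⟶ Wo.left, l₀ ≫ w.left = _ ≫ (Ψ H X u e t tU htU x₀).left at h1
  rw [hK, ptFnHom_gOf, ev_univ] at h1
  rw [← le_ker_mapRingHom_iff]
  intro f hf
  have h2 := h1 hf
  rw [RingHom.mem_ker, RingHom.comp_apply] at h2
  rw [RingHom.mem_ker]
  apply ΓSpecIso_inv_injective
  rw [map_zero]
  exact h2

end nec

end Groth.Agent.Lib.Helper58.EF2
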