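import Mathlib
import Groth.Prelude.Def_SGA3x
import Groth.Agent.Lib.Helper58.DiagTest
import Groth.Agent.Lib.Helper58.CD2
import Groth.Agent.Lib.Helper58.CD3
import Groth.Agent.Lib.Helper58.EF1
import Groth.Agent.Lib.Helper58.EF2

/-!
# Closed conditions on families of points of a locally diagonalisable group: the predicate
-/

set_option autoImplicit false

universe u

open CategoryTheory CategoryTheory.Limits AlgebraicGeometry MonoidalCategory
  CartesianMonoidalCategory MonObj GrpObj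

namespace Groth.Agent.Lib.Helper58.EF3

open Groth.Agent.Lib.Helper43 Groth.Agent.Lib.Helper58.DiagPts Groth.Agent.Lib.Helper58.DiagTest
open Groth.Agent.Lib.Helper58.CD2 Groth.Agent.Lib.Helper58.CD3 Groth.Agent.Lib.Helper58.EF1
open Groth.Agent.Lib.Helper58.EF2

variable {S : Scheme.{u}} (H X : Over S) [GrpObj H] {Wo : Over S} (w : Wo ⟶ H ⊗ X)

/-- the predicate on morphisms into `X.left`: all points of `H` paired with the point land in `w`. -/
def Pabs : Pred X.left := fun T' t' =>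
  ∀ (Y' : Over S) (y : Y'.left ⟶ T') (hy : (y ≫ t') ≫ X.hom = Y'.hom) (h : Y' ⟶ H),
    Qw H X w Y' (lift h (Over.homMk (y ≫ t') hy))

variable {H X}

lemma lift_restrict {Y' Y'' : Over S} (p : Y'' ⟶ Y') (h : Y' ⟶ H) (x : Y' ⟶ X) (x'' : Y'' ⟶ X)
    (hx : x''.left = p.left ≫ x.left) : lift (p ≫ h) x'' = p ≫ lift h x := by
  rw [comp_lift]
  congr 1
  apply Over.OverMorphism.ext
  exact hx

theorem isLocalPred_pabs [IsClosedImmersion w.left] : IsLocalPred (Pabs H X w) where
  comp {T' T''} b t' hp := by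
    intro Y' y hy h
    have hy' : ((y ≫ b) ≫ t') ≫ X.hom = Y'.hom := by
      rw [← hy]; simp only [Category.assoc]
    have h1 := hp Y' (y ≫ b) hy' h
    have h2 : (Over.homMk (y ≫ b ≫ t') hy : Y' ⟶ X) = Over.homMk ((y ≫ b) ≫ t') hy' := by
      apply Over.OverMorphism.ext
      simp only [Over.homMk_left, Category.assoc]
    rw [h2]
    exact h1
  zar {T'} t' hloc := by
    intro Y' y hy h
    apply exists_lift_of_local
    intro p
    obtain ⟨O, hxO, hO⟩ := hloc (y p)
    refine ⟨y ⁻¹ᵁ O, hxO, ?_⟩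
    let Y'' : Over S := Over.mk ((y ⁻¹ᵁ O).ι ≫ Y'.hom)
    let j : Y'' ⟶ Y' := Over.homMk (y ⁻¹ᵁ O).ι rfl
    have hy'' : ((y ∣_ O) ≫ O.ι ≫ t') ≫ X.hom = Y''.hom := by
      change _ = (y ⁻¹ᵁ O).ι ≫ Y'.hom
      rw [← hy, ← Category.assoc (y ∣_ O), morphismRestrict_ι]
      simp only [Category.assoc]
    obtain ⟨l₀, hl₀⟩ := hO Y'' (y ∣_ O) hy'' (j ≫ h)
    refine ⟨l₀, ?_⟩
    rw [hl₀, lift_restrict j h (Over.homMk (y ≫ t') hy)]
    · rfl
    · change (y ∣_ O) ≫ O.ι ≫ t' = (y ⁻¹ᵁ O).ι ≫ y ≫ t'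
      rw [← Category.assoc, morphismRestrict_ι, Category.assoc]
  flat {T' T''} b _ _ _ t' hp := by
    intro Y' y hy h
    apply exists_lift_of_flat (pullback.fst y b)
    let Y'' : Over S := Over.mk (pullback.fst y b ≫ Y'.hom)
    let j : Y'' ⟶ Y' := Over.homMk (pullback.fst y b) rfl
    have hy'' : (pullback.snd y b ≫ b ≫ t') ≫ X.hom = Y''.hom := by
      change _ = pullback.fst y b ≫ Y'.hom
      rw [← hy, ← Category.assoc (pullback.snd y b), ← pullback.condition]
      simp only [Category.assoc]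
    obtain ⟨l₀, hl₀⟩ := hp Y'' (pullback.snd y b) hy'' (j ≫ h)
    refine ⟨l₀, ?_⟩
    rw [hl₀, lift_restrict j h (Over.homMk (y ≫ t') hy)]
    · rfl
    · change pullback.snd y b ≫ b ≫ t' = pullback.fst y b ≫ y ≫ t'
      rw [← Category.assoc, ← pullback.condition, Category.assoc]

section chart

variable {U : Scheme.{u}} (u : U ⟶ S) {M : Type} [AddCommGroup M]
  (e : Grp.mk (Red.bc u H) ≅ Grp.mk (Red.DS U M))
  {k : Type u} [CommRing k] (t : Spec (CommRingCat.of k) ⟶ S)
  (tU : Spec (CommRingCat.of k) ⟶ U) (htU : tU ≫ u = t) (x₀ : T t ⟶ X)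

include e htU in
/-- representability on an affine chart over which the group is diagonalisable. -/
theorem rep_chart [IsClosedImmersion w.left] (W : MorphismProperty Scheme.{u})
    [W.RespectsIso] [W.IsStableUnderBaseChange] (hW : W w.left)
    (hWloc : ∀ (K : Ideal (kM k M)), W (Spec.map (CommRingCat.ofHom (Ideal.Quotient.mk K))) →
      W (Spec.map (CommRingCat.ofHom (Ideal.Quotient.mk (coeffIdeal K))))) :
    ∃ (Z : Scheme.{u}) (i : Z ⟶ Spec (CommRingCat.of k)), Rep ((Pabs H X w).pull x₀.left) W i := by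
  obtain ⟨K, hWK, hK⟩ := exists_ideal H X u e w t tU htU x₀ W hW
  refine ⟨_, Spec.map (CommRingCat.ofHom (Ideal.Quotient.mk (coeffIdeal K))), ?_⟩
  haveI : IsClosedImmersion (Spec.map (CommRingCat.ofHom (Ideal.Quotient.mk (coeffIdeal K)))) :=
    IsClosedImmersion.spec_of_surjective _ Ideal.Quotient.mk_surjective
  refine rep_of_affine ((isLocalPred_pabs w).pull x₀.left) _ (hWloc K hWK) ?_
  intro T' _ t''
  rw [factor_iff]
  constructor
  · intro hp
    -- reduce to `T' = Spec k'`
    have hp' : (Pabs H X w) (Spec.map (CommRingCat.ofHom (ptFnHom t'')) ≫ x₀.left) := by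
      have h1 := (isLocalPred_pabs w).comp T'.isoSpec.inv (t'' ≫ x₀.left) hp
      have h2 : T'.isoSpec.inv ≫ t'' = Spec.map (CommRingCat.ofHom (ptFnHom t'')) := by
        conv_lhs => rw [eq_toSpecΓ_comp t'']
        rw [← Category.assoc]
        have : T'.isoSpec.inv ≫ T'.toSpecΓ = 𝟙 _ := T'.isoSpec.inv_hom_id
        rw [this, Category.id_comp]
      rw [← Category.assoc, h2] at h1
      exact h1
    refine le_of_qw H X u e w t tU htU x₀ K hK (ptFnHom t'') ?_
    intro Y' y h
    have hy : (y.left ≫ Spec.map (CommRingCat.ofHom (ptFnHom t'')) ≫ x₀.left) ≫ X.hom = Y'.hom := by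
      have h3 := Over.w y
      have h4 := Over.w x₀
      simp only [Category.assoc]
      change y.left ≫ Spec.map _ ≫ x₀.left ≫ X.hom = Y'.hom
      rw [h4]
      exact h3
    have h5 := hp' Y' y.left hy h
    have h6 : (Over.homMk (y.left ≫ Spec.map (CommRingCat.ofHom (ptFnHom t'')) ≫ x₀.left) hy :
        Y' ⟶ X) = (y ≫ vg t (ptFnHom t'')) ≫ x₀ := by
      apply Over.OverMorphism.ext
      simp only [Over.homMk_left, Over.comp_left, vg, Category.assoc]
    rw [h6] at h5
    exact h5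
  · intro hv Y' y hy h
    let Y : Over S := Over.mk (t'' ≫ t)
    let v : Y ⟶ T t := Over.homMk t'' rfl
    have hyO : y ≫ Y.hom = Y'.hom := by
      change y ≫ t'' ≫ t = Y'.hom
      have h4 : x₀.left ≫ X.hom = t := Over.w x₀
      rw [← hy]
      simp only [Category.assoc]
      exact congrArg (fun q => y ≫ t'' ≫ q) h4.symm
    let yO : Y' ⟶ Y := Over.homMk y hyO
    have h1 := qw_of_le H X u e w t tU htU x₀ K hK v hv Y' yO h
    have h2 : (yO ≫ v) ≫ x₀ = Over.homMk (y ≫ t'' ≫ x₀.left) hy := by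
      apply Over.OverMorphism.ext
      simp only [Over.homMk_left, Over.comp_left, yO, v, Category.assoc]
    rw [h2] at h1
    exact h1

end chart

end Groth.Agent.Lib.Helper58.EF3
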