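import Mathlib
import Groth.Prelude.Def_SGA3x
import Groth.Agent.Lib.Helper58.CD2
import Groth.Agent.Lib.Helper58.CD3
import Groth.Agent.Lib.Helper58.CD5
import Groth.Agent.Lib.Helper58.EF1
import Groth.Agent.Lib.Helper58.EF2
import Groth.Agent.Lib.Helper58.EF3

/-!
# Closed conditions on families of points of a group of multiplicative type (SGA3 VIII 6.4)
-/

set_option autoImplicit false

universe u

open CategoryTheory CategoryTheory.Limits AlgebraicGeometry MonoidalCategory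
  CartesianMonoidalCategory MonObj GrpObj

namespace Groth.Agent.Lib.Helper58.EF4

open Groth.Agent.Lib.Helper43 Groth.Agent.Lib.Helper58.DiagPts Groth.Agent.Lib.Helper58.DiagTest
open Groth.Agent.Lib.Helper58.CD2 Groth.Agent.Lib.Helper58.CD3 Groth.Agent.Lib.Helper58.EF1
open Groth.Agent.Lib.Helper58.EF2 Groth.Agent.Lib.Helper58.EF3 Groth.Agent.Lib.Helper58.CD5

lemma isAffine_pullback_of_range {S A B : Scheme.{u}} [IsAffine A] [IsAffine B] (a : A ⟶ S)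
    (b : B ⟶ S) (Sa : S.Opens) (hSa : IsAffineOpen Sa) (ha : Set.range a.base ⊆ Sa)
    (hb : Set.range b.base ⊆ Sa) : IsAffine (pullback a b) := by
  haveI : IsAffine Sa.toScheme := hSa
  let a' : A ⟶ Sa.toScheme := IsOpenImmersion.lift Sa.ι a (by rwa [Scheme.Opens.range_ι])
  have ha' : a' ≫ Sa.ι = a := IsOpenImmersion.lift_fac _ _ _
  let b' : B ⟶ Sa.toScheme := IsOpenImmersion.lift Sa.ι b (by rwa [Scheme.Opens.range_ι])
  have hb' : b' ≫ Sa.ι = b := IsOpenImmersion.lift_fac _ _ _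
  have hlim := pullbackIsPullbackOfCompMono a' b' Sa.ι
  let e₁ : pullback a b ≅ pullback (a' ≫ Sa.ι) (b' ≫ Sa.ι) := pullback.congrHom ha'.symm hb'.symm
  let e₂ : pullback (a' ≫ Sa.ι) (b' ≫ Sa.ι) ≅ pullback a' b' :=
    (limit.isLimit _).conePointUniqueUpToIso hlim
  exact IsAffine.of_isIso (e₁ ≪≫ e₂).hom

variable {S : Scheme.{u}} (H X : Over S) [GrpObj H] {Wo : Over S} (w : Wo ⟶ H ⊗ X)

/-- **SGA3 VIII 6.4 for groups of multiplicative type.**  A closed condition on pairs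
(point of `H`, point of `X`) defines, by quantifying over all points of `H`, a closed subscheme
of `X`. -/
theorem closed_of_multType (hH : SGA3x.IsMultTypeFT H) [IsClosedImmersion w.left]
    (W : MorphismProperty Scheme.{u}) [W.RespectsIso] [W.IsStableUnderBaseChange]
    [IsZariskiLocalAtTarget W] [W.DescendsAlong (@Surjective ⊓ @Flat ⊓ @QuasiCompact)]
    (hW : W w.left)
    (hWloc : ∀ (M : Type) [AddCommGroup M] (k : Type u) [CommRing k] (K : Ideal (kM k M)),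
      W (Spec.map (CommRingCat.ofHom (Ideal.Quotient.mk K))) →
      W (Spec.map (CommRingCat.ofHom (Ideal.Quotient.mk (coeffIdeal K))))) :
    ∃ (Z : Scheme.{u}) (i : Z ⟶ X.left), Rep (Pabs H X w) W i := by
  obtain ⟨S', f, hflat, hsurj, hqc, hloc⟩ := hH
  apply rep_of_fpqc (isLocalPred_pabs w) W
  intro x
  obtain ⟨Sa, hSa, hxSa⟩ : ∃ Sa : S.Opens, IsAffineOpen Sa ∧ X.hom x ∈ Sa := by
    obtain ⟨_, ⟨Sa, hSa, rfl⟩, hxSa, -⟩ :=
      S.isBasis_affineOpens.exists_subset_of_mem_open (Set.mem_univ (X.hom x)) isOpen_univ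
    exact ⟨Sa, hSa, hxSa⟩
  obtain ⟨O, hO, hxO, hOle⟩ : ∃ O : X.left.Opens, IsAffineOpen O ∧ x ∈ O ∧ O ≤ X.hom ⁻¹ᵁ Sa := by
    obtain ⟨_, ⟨O, hO, rfl⟩, hxO, hOle⟩ :=
      X.left.isBasis_affineOpens.exists_subset_of_mem_open
        (show x ∈ ((X.hom ⁻¹ᵁ Sa : X.left.Opens) : Set X.left) from hxSa) (X.hom ⁻¹ᵁ Sa).isOpen
    exact ⟨O, hO, hxO, hOle⟩
  obtain ⟨Wq, hWqc, himg⟩ := hqc Sa hSa
  choose Uo hUo Mo instMo hfg eo using hloc
  have hA : ∀ s' : Wq, ∃ A : S'.Opens, IsAffineOpen A ∧ s'.1 ∈ A ∧ A ≤ Uo s'.1 ⊓ Wq := by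
    intro s'
    obtain ⟨_, ⟨A, hA, rfl⟩, hsA, hAle⟩ :=
      S'.isBasis_affineOpens.exists_subset_of_mem_open
        (show s'.1 ∈ ((Uo s'.1 ⊓ Wq : S'.Opens) : Set S') from ⟨hUo s'.1, s'.2⟩)
        (Uo s'.1 ⊓ Wq).isOpen
    exact ⟨A, hA, hsA, hAle⟩
  choose A hAaff hsA hAle using hA
  obtain ⟨F, hF⟩ : ∃ F : Finset Wq, (Wq : Set S') ⊆ ⋃ s' ∈ F, (A s' : Set S') :=
    hWqc.elim_finite_subcover (fun s' : Wq => (A s' : Set S')) (fun s' => (A s').isOpen)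
      (fun p hp => Set.mem_iUnion.mpr ⟨⟨p, hp⟩, hsA _⟩)
  haveI : IsAffine O.toScheme := hO
  let a : O.toScheme ⟶ S := O.ι ≫ X.hom
  let b : ∀ k : ↥F, (A k.1).toScheme ⟶ S := fun k => (A k.1).ι ≫ f
  haveI : ∀ k : ↥F, IsAffine (A k.1).toScheme := fun k => hAaff k.1
  have hrangea : Set.range a.base ⊆ Sa := by
    rintro _ ⟨y, rfl⟩
    exact hOle y.2
  have hrangeb : ∀ k : ↥F, Set.range (b k).base ⊆ Sa := by
    rintro k _ ⟨y, rfl⟩
    have h1 : (A k.1).ι y ∈ (Wq : Set S') := (hAle k.1 y.2).2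
    have h2 : f ((A k.1).ι y) ∈ f.base '' (Wq : Set S') := ⟨_, h1, rfl⟩
    rw [himg] at h2
    exact h2
  haveI hVaff : ∀ k : ↥F, IsAffine (pullback a (b k)) := fun k =>
    isAffine_pullback_of_range a (b k) Sa hSa hrangea (hrangeb k)
  refine ⟨O, hxO, hO, ↥F, inferInstance, fun k => pullback a (b k), hVaff,
    fun k => pullback.fst a (b k), fun k => inferInstance, ?_, ?_⟩
  · -- joint surjectivity
    intro y
    have h1 : a y ∈ (Sa : Set S) := hrangea ⟨y, rfl⟩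
    rw [← himg] at h1
    obtain ⟨s', hs', hfs'⟩ := h1
    obtain ⟨k, hk⟩ : ∃ k : ↥F, s' ∈ A k.1 := by
      have h2 := hF hs'
      simp only [Set.mem_iUnion] at h2
      obtain ⟨k, hkF, hk⟩ := h2
      exact ⟨⟨k, hkF⟩, hk⟩
    have h3 : a y = (b k) ⟨s', hk⟩ := by
      rw [← hfs']
      rfl
    obtain ⟨z, hz, -⟩ := Scheme.Pullback.exists_preimage_pullback (f := a) (g := b k) y
      (⟨s', hk⟩ : (A k.1).toScheme) h3
    exact ⟨k, z, hz⟩
  · -- representability on the charts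
    intro k
    let Vk := pullback a (b k)
    let u : (Uo k.1.1).toScheme ⟶ S := (Uo k.1.1).ι ≫ f
    let t : Spec (CommRingCat.of Γ(Vk, ⊤)) ⟶ S := Vk.isoSpec.inv ≫ pullback.fst a (b k) ≫ O.ι ≫ X.hom
    let tU : Spec (CommRingCat.of Γ(Vk, ⊤)) ⟶ (Uo k.1.1).toScheme :=
      Vk.isoSpec.inv ≫ pullback.snd a (b k) ≫ S'.homOfLE ((hAle k.1).trans inf_le_left)
    have htU : tU ≫ u = t := by
      change (Vk.isoSpec.inv ≫ pullback.snd a (b k) ≫ S'.homOfLE _) ≫ (Uo k.1.1).ι ≫ f =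
        Vk.isoSpec.inv ≫ pullback.fst a (b k) ≫ O.ι ≫ X.hom
      simp only [Category.assoc, Scheme.homOfLE_ι_assoc]
      congr 1
      exact pullback.condition.symm
    let x₀ : T t ⟶ X := Over.homMk (Vk.isoSpec.inv ≫ pullback.fst a (b k) ≫ O.ι) (by
      simp only [Category.assoc]; rfl)
    obtain ⟨Z, i, hi⟩ := rep_chart w u (eo k.1.1).some t tU htU x₀ W hW (hWloc (Mo k.1.1) _)
    refine ⟨Z, i ≫ Vk.isoSpec.inv, Rep.of_iso Vk.isoSpec.symm (Rep.congr ?_ hi)⟩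
    intro T' t'
    change (Pabs H X w) (t' ≫ Vk.isoSpec.inv ≫ pullback.fst a (b k) ≫ O.ι) ↔
      (Pabs H X w) ((t' ≫ Vk.isoSpec.inv) ≫ pullback.fst a (b k) ≫ O.ι)
    rw [Category.assoc]

end Groth.Agent.Lib.Helper58.EF4
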