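import Mathlib
import Groth.Prelude.Def_SGA3x
import Groth.Agent.Lib.Helper21.OfComp
import Groth.Agent.Lib.Helper58.EF4

/-!
# Closed conditions on families of points of a group of multiplicative type: `Over S` forms
-/

set_option autoImplicit false

universe u

open CategoryTheory CategoryTheory.Limits AlgebraicGeometry MonoidalCategory
  CartesianMonoidalCategory MonObj GrpObj

namespace Groth.Agent.Lib.Helper58.EF5

open Groth.Agent.Lib.Helper58.DiagTest
open Groth.Agent.Lib.Helper58.CD2 Groth.Agent.Lib.Helper58.CD3 Groth.Agent.Lib.Helper58.EF1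
open Groth.Agent.Lib.Helper58.EF2 Groth.Agent.Lib.Helper58.EF3 Groth.Agent.Lib.Helper58.EF4

/-- the coefficient ideal construction preserves closed immersions of finite presentation. -/
theorem lfp_coeffIdeal (M : Type) [AddCommGroup M] (k : Type u) [CommRing k] (K : Ideal (kM k M))
    (h : LocallyOfFinitePresentation (Spec.map (CommRingCat.ofHom (Ideal.Quotient.mk K)))) :
    LocallyOfFinitePresentation
      (Spec.map (CommRingCat.ofHom (Ideal.Quotient.mk (coeffIdeal K)))) := by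
  rw [LocallyOfFinitePresentation.SpecMap_iff] at h ⊢
  have hK : K.FG := by
    have h1 : (Ideal.Quotient.mk K).FinitePresentation := h
    letI : Algebra (kM k M) (kM k M ⧸ K) := (Ideal.Quotient.mk K).toAlgebra
    haveI : Algebra.FinitePresentation (kM k M) (kM k M ⧸ K) := h1
    have h2 := Algebra.FinitePresentation.ker_fG_of_surjective
      (Algebra.ofId (kM k M) (kM k M ⧸ K)) Ideal.Quotient.mk_surjective
    have h3 : RingHom.ker (Algebra.ofId (kM k M) (kM k M ⧸ K)).toRingHom = K := by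
      ext x
      rw [RingHom.mem_ker]
      change Ideal.Quotient.mk K x = 0 ↔ _
      exact Ideal.Quotient.eq_zero_iff_mem
    rwa [h3] at h2
  have hI := coeffIdeal_fg hK
  refine RingHom.FinitePresentation.of_surjective _ Ideal.Quotient.mk_surjective ?_
  change (RingHom.ker (Ideal.Quotient.mk (coeffIdeal K))).FG
  rwa [Ideal.mk_ker]

variable {S : Scheme.{u}} (H X : Over S) [GrpObj H]

/-- `Over S` form of `closed_of_multType`. -/
theorem exists_closed_over (hH : SGA3x.IsMultTypeFT H) {Wo : Over S} (w : Wo ⟶ H ⊗ X)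
    [IsClosedImmersion w.left]
    (W : MorphismProperty Scheme.{u}) [W.RespectsIso] [W.IsStableUnderBaseChange]
    [IsZariskiLocalAtTarget W] [W.DescendsAlong (@Surjective ⊓ @Flat ⊓ @QuasiCompact)]
    (hW : W w.left)
    (hWloc : ∀ (M : Type) [AddCommGroup M] (k : Type u) [CommRing k] (K : Ideal (kM k M)),
      W (Spec.map (CommRingCat.ofHom (Ideal.Quotient.mk K))) →
      W (Spec.map (CommRingCat.ofHom (Ideal.Quotient.mk (coeffIdeal K))))) :
    ∃ (C : Over S) (c : C ⟶ X), IsClosedImmersion c.left ∧ W c.left ∧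
      ∀ (Y : Over S) (g : Y ⟶ X), (∃ z : Y ⟶ C, z ≫ c = g) ↔
        ∀ (Y' : Over S) (y : Y' ⟶ Y) (h : Y' ⟶ H), ∃ l : Y' ⟶ Wo, l ≫ w = lift h (y ≫ g) := by
  obtain ⟨Z, i₀, hclosed, hWi, hrep⟩ := closed_of_multType H X w hH W hW hWloc
  refine ⟨Over.mk (i₀ ≫ X.hom), Over.homMk i₀ rfl, hclosed, hWi, fun Y g => ?_⟩
  have h1 : (∃ z : Y ⟶ Over.mk (i₀ ≫ X.hom), z ≫ (Over.homMk i₀ rfl : Over.mk (i₀ ≫ X.hom) ⟶ X) = g) ↔
      ∃ z₀ : Y.left ⟶ Z, z₀ ≫ i₀ = g.left := by
    constructor
    · rintro ⟨z, rfl⟩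
      exact ⟨z.left, rfl⟩
    · rintro ⟨z₀, hz₀⟩
      refine ⟨Over.homMk z₀ ?_, ?_⟩
      · change z₀ ≫ i₀ ≫ X.hom = Y.hom
        rw [← Category.assoc, hz₀, Over.w g]
      · apply Over.OverMorphism.ext
        exact hz₀
  rw [h1, ← hrep]
  constructor
  · intro hp Y' y h
    have hy : (y.left ≫ g.left) ≫ X.hom = Y'.hom := by
      rw [Category.assoc, Over.w g, Over.w y]
    have h2 := hp Y' y.left hy h
    rw [qw_iff] at h2
    have h3 : (Over.homMk (y.left ≫ g.left) hy : Y' ⟶ X) = y ≫ g := by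
      apply Over.OverMorphism.ext
      rfl
    rwa [h3] at h2
  · intro hq Y' y hy h
    rw [qw_iff]
    have hyY : y ≫ Y.hom = Y'.hom := by
      rw [← hy, Category.assoc, Over.w g]
    have h2 := hq Y' (Over.homMk y hyY) h
    have h3 : (Over.homMk y hyY : Y' ⟶ Y) ≫ g = Over.homMk (y ≫ g.left) hy := by
      apply Over.OverMorphism.ext
      rfl
    rwa [h3] at h2

/-- version with a closed subscheme of a target `G₂` and a morphism `φ : H ⊗ X ⟶ G₂`. -/
theorem exists_closed_of_target (hH : SGA3x.IsMultTypeFT H) {G₂ Y₂ : Over S} (φ : H ⊗ X ⟶ G₂)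
    (y₂ : Y₂ ⟶ G₂) [IsClosedImmersion y₂.left]
    (W : MorphismProperty Scheme.{u}) [W.RespectsIso] [W.IsStableUnderBaseChange]
    [IsZariskiLocalAtTarget W] [W.DescendsAlong (@Surjective ⊓ @Flat ⊓ @QuasiCompact)]
    (hW : W y₂.left)
    (hWloc : ∀ (M : Type) [AddCommGroup M] (k : Type u) [CommRing k] (K : Ideal (kM k M)),
      W (Spec.map (CommRingCat.ofHom (Ideal.Quotient.mk K))) →
      W (Spec.map (CommRingCat.ofHom (Ideal.Quotient.mk (coeffIdeal K))))) :
    ∃ (C : Over S) (c : C ⟶ X), IsClosedImmersion c.left ∧ W c.left ∧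
      ∀ (Y : Over S) (g : Y ⟶ X), (∃ z : Y ⟶ C, z ≫ c = g) ↔
        ∀ (Y' : Over S) (y : Y' ⟶ Y) (h : Y' ⟶ H),
          ∃ a : Y' ⟶ Y₂, a ≫ y₂ = lift h (y ≫ g) ≫ φ := by
  let Wo : Over S := Over.mk (pullback.snd y₂.left φ.left ≫ (H ⊗ X).hom)
  let w : Wo ⟶ H ⊗ X := Over.homMk (pullback.snd y₂.left φ.left) rfl
  haveI : IsClosedImmersion w.left := by
    change IsClosedImmersion (pullback.snd y₂.left φ.left)
    infer_instance
  have hWw : W w.left := W.pullback_snd _ _ hW
  obtain ⟨C, c, hc, hWc, hrep⟩ := exists_closed_over H X hH w W hWw hWloc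
  refine ⟨C, c, hc, hWc, fun Y g => ?_⟩
  rw [hrep]
  refine forall_congr' (fun Y' => forall_congr' (fun y => forall_congr' (fun h => ?_)))
  constructor
  · rintro ⟨l, hl⟩
    refine ⟨Over.homMk (l.left ≫ pullback.fst y₂.left φ.left) ?_, ?_⟩
    · rw [Category.assoc, ← Over.w y₂, ← Category.assoc _ y₂.left, pullback.condition,
        Category.assoc, Over.w φ]
      exact Over.w l
    · apply Over.OverMorphism.ext
      change (l.left ≫ pullback.fst y₂.left φ.left) ≫ y₂.left = (lift h (y ≫ g)).left ≫ φ.left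
      rw [← hl, Category.assoc, pullback.condition]
      rfl
  · rintro ⟨a, ha⟩
    have ha' : a.left ≫ y₂.left = (lift h (y ≫ g)).left ≫ φ.left := congrArg (fun q => q.left) ha
    refine ⟨Over.homMk (pullback.lift a.left (lift h (y ≫ g)).left ha') ?_, ?_⟩
    · change pullback.lift _ _ _ ≫ pullback.snd y₂.left φ.left ≫ (H ⊗ X).hom = Y'.hom
      rw [← Category.assoc, pullback.lift_snd]
      exact Over.w _
    · apply Over.OverMorphism.ext
      exact pullback.lift_snd _ _ _

end Groth.Agent.Lib.Helper58.EF5
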