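import Groth.Agent.Lib.Helper58.SmoothAmbient

/-!
# Formally smooth / étale ambient coefficient rings (helper58)

For a Noetherian `Λ`-algebra `Q` with a surjection `θ : Q →ₐ[Λ] k`, the completion of `Q` at
`ker θ` is a coefficient ring `ambientOf θ hθ : CRing Λ k`.  If `Q` is formally smooth over `Λ` its
functor is smooth (`isSmoothFunctor_ambientOf`); if `Q` is formally unramified then it has only one
tangent vector (`subsingleton_homSet_dual`).
-/

set_option autoImplicit false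
universe u v
open CategoryTheory

namespace Groth.Agent.Lib.Helper58.EtAmb

open ArtFun IsLocalRing Groth.Agent.Lib.Helper58.SmAmb

section Ambient

variable {Λ : Type u} {k : Type u} [CommRing Λ] [Field k] [Algebra Λ k]
  {Q : Type u} [CommRing Q] [Algebra Λ Q] (θ : Q →ₐ[Λ] k) (hθ : Function.Surjective θ)

/-- the kernel of `θ` -/
abbrev I : Ideal Q := RingHom.ker θ

include hθ in
theorem I_isMaximal : (I θ).IsMaximal := RingHom.ker_isMaximal_of_surjective _ hθ

/-- the completion of `Q` at `I` -/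
abbrev P : Type u := AdicCompletion (I θ) Q

/-- the augmentation of the completion -/
noncomputable def resP : P θ →ₐ[Λ] k := AdicCompletion.kerProj hθ

theorem resP_algebraMap (q : Q) : resP θ hθ (algebraMap Q (P θ) q) = θ q := rfl

theorem resP_surjective : Function.Surjective (resP θ hθ) :=
  AdicCompletion.kerProj_surjective _

variable [IsNoetherianRing Q]

theorem I_fg : (I θ).FG := IsNoetherian.noetherian _

/-- the extended ideal -/
noncomputable abbrev J : Ideal (P θ) := (I θ).map (algebraMap Q (P θ))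

include hθ in
theorem J_isMaximal : (J θ).IsMaximal :=
  haveI := I_isMaximal θ hθ
  AdicCompletion.isMaximal_map_of_le (I θ) (I θ) le_rfl (I_fg θ)

instance J_complete : IsAdicComplete (J θ) (P θ) :=
  AdicCompletion.isAdicComplete_self (I θ) (I_fg θ)

include hθ in
theorem P_isLocalRing : IsLocalRing (P θ) :=
  haveI := J_isMaximal θ hθ
  isLocalRing_of_isAdicComplete_maximal (J θ)

instance P_isNoetherianRing : IsNoetherianRing (P θ) :=
  Groth.Agent.S0543.result Q (I θ)

/-- the ambient coefficient ring attached to `θ` -/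
noncomputable def ambientOf : CRing Λ k :=
  { carrier := P θ
    isLocalRing := P_isLocalRing θ hθ
    res := resP θ hθ
    res_surjective := resP_surjective θ hθ
    isAdicComplete := by
      haveI := P_isLocalRing θ hθ
      have : maximalIdeal (P θ) = J θ := (IsLocalRing.eq_maximalIdeal (J_isMaximal θ hθ)).symm
      rw [this]
      infer_instance }

end Ambient

section Smooth

variable {Λ : Type u} {k : Type u} [CommRing Λ] [Field k] [Algebra Λ k]
  {Q : Type u} [CommRing Q] [Algebra Λ Q] (θ : Q →ₐ[Λ] k) (hθ : Function.Surjective θ)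

instance : IsScalarTower Λ Q (P θ) := IsScalarTower.of_algebraMap_eq (fun _ => rfl)

/-- the canonical map from `Q` to its completion, as a `Λ`-algebra map -/
noncomputable def ι : Q →ₐ[Λ] P θ := IsScalarTower.toAlgHom Λ Q (P θ)

theorem ι_apply (q : Q) : ι θ q = algebraMap Q (P θ) q := rfl

theorem art_pow_eq_bot' (A : Art Λ k) : ∃ N : ℕ, maximalIdeal A ^ N = ⊥ := by
  obtain ⟨N, hN⟩ := (isArtinianRing_iff_isNilpotent_maximalIdeal A).1 inferInstance
  exact ⟨N, hN⟩

/-- an augmentation-compatible map out of `P` sends `J` into the maximal ideal -/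
theorem map_J_le (A : Art Λ k) (χ : P θ →ₐ[Λ] A) (hχ : A.res.comp χ = resP θ hθ) :
    J θ ≤ (maximalIdeal A).comap (χ : P θ →+* A) := by
  rw [Ideal.map_le_iff_le_comap]
  intro q hq
  rw [Ideal.mem_comap, Ideal.mem_comap, Art.mem_maximalIdeal_iff]
  have h1 : A.res (χ (algebraMap Q (P θ) q)) = resP θ hθ (algebraMap Q (P θ) q) :=
    congrArg (fun t : P θ →ₐ[Λ] k => t (algebraMap Q (P θ) q)) hχ
  change A.res (χ (algebraMap Q (P θ) q)) = 0
  rw [h1, resP_algebraMap]
  exact hq

theorem map_pow_le_ker (A : Art Λ k) (χ : P θ →ₐ[Λ] A) (hχ : A.res.comp χ = resP θ hθ)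
    (M : ℕ) (hM : maximalIdeal A ^ M = ⊥) :
    (I θ ^ M).map (algebraMap Q (P θ)) ≤ RingHom.ker (χ : P θ →+* A) := by
  rw [Ideal.map_pow]
  calc J θ ^ M ≤ ((maximalIdeal A).comap (χ : P θ →+* A)) ^ M :=
        Ideal.pow_right_mono (map_J_le θ hθ A χ hχ) M
    _ ≤ (maximalIdeal A ^ M).comap (χ : P θ →+* A) := Ideal.le_comap_pow _ M
    _ = RingHom.ker (χ : P θ →+* A) := by rw [hM]; rfl

variable [IsNoetherianRing Q]

/-- augmentation-compatible maps out of `P` into an object of `Art Λ k` agreeing on `Q` are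
equal -/
theorem algHom_ext_of_ι (A : Art Λ k) (χ χ' : P θ →ₐ[Λ] A) (hχ : A.res.comp χ = resP θ hθ)
    (hχ' : A.res.comp χ' = resP θ hθ) (h : ∀ q : Q, χ (ι θ q) = χ' (ι θ q)) : χ = χ' := by
  obtain ⟨M, hM⟩ := art_pow_eq_bot' A
  have := ringHom_ext_of_kills (I θ) (I_fg θ) (χ : P θ →+* A) (χ' : P θ →+* A) M
    (map_pow_le_ker θ hθ A χ hχ M hM) (map_pow_le_ker θ hθ A χ' hχ' M hM) h
  exact AlgHom.ext (fun x => RingHom.congr_fun this x)

/-- extension of a map `Q → B` compatible with `θ` to the completion -/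
theorem exists_extend (B : Art Λ k) (ψ₀ : Q →ₐ[Λ] B) (hres₀ : ∀ q, B.res (ψ₀ q) = θ q) :
    ∃ ψ : P θ →ₐ[Λ] B, B.res.comp ψ = resP θ hθ ∧ ∀ q, ψ (ι θ q) = ψ₀ q := by
  obtain ⟨N, hN⟩ := art_pow_eq_bot' B
  have hI : I θ ≤ (maximalIdeal B).comap (ψ₀ : Q →+* B) := by
    intro q hq
    rw [Ideal.mem_comap, Art.mem_maximalIdeal_iff]
    change B.res (ψ₀ q) = 0
    rw [hres₀]
    exact hq
  have hkill : ∀ a ∈ I θ ^ N, ψ₀ a = 0 := by
    intro a ha
    have h1 : I θ ^ N ≤ (maximalIdeal B ^ N).comap (ψ₀ : Q →+* B) :=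
      (Ideal.pow_right_mono hI N).trans (Ideal.le_comap_pow _ N)
    have := h1 ha
    rwa [hN] at this
  let ψ₁ : (Q ⧸ I θ ^ N) →ₐ[Λ] B := Ideal.Quotient.liftₐ (I θ ^ N) ψ₀ hkill
  let ψ : P θ →ₐ[Λ] B := ψ₁.comp ((AdicCompletion.evalₐ (I θ) N).restrictScalars Λ)
  have hψι : ∀ q, ψ (ι θ q) = ψ₀ q := by
    intro q
    change ψ₁ (AdicCompletion.evalₐ (I θ) N (AdicCompletion.of _ _ q)) = ψ₀ q
    rw [AdicCompletion.evalₐ_of]
    rfl
  refine ⟨ψ, ?_, hψι⟩
  have hJ1 : J θ ≤ RingHom.ker ((B.res.comp ψ : P θ →ₐ[Λ] k) : P θ →+* k) := by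
    rw [Ideal.map_le_iff_le_comap]
    intro q hq
    rw [Ideal.mem_comap, RingHom.mem_ker]
    change B.res (ψ (ι θ q)) = 0
    rw [hψι, hres₀]
    exact hq
  have hJ2 : J θ ≤ RingHom.ker ((resP θ hθ : P θ →ₐ[Λ] k) : P θ →+* k) := by
    rw [Ideal.map_le_iff_le_comap]
    intro q hq
    rw [Ideal.mem_comap, RingHom.mem_ker]
    change resP θ hθ (algebraMap _ _ q) = 0
    rw [resP_algebraMap]
    exact hq
  have := ringHom_ext_of_kills (I θ) (I_fg θ)
    ((B.res.comp ψ : P θ →ₐ[Λ] k) : P θ →+* k) ((resP θ hθ : P θ →ₐ[Λ] k) : P θ →+* k) 1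
    (by rw [pow_one]; exact hJ1) (by rw [pow_one]; exact hJ2)
    (fun q => by
      change B.res (ψ (ι θ q)) = resP θ hθ (algebraMap _ _ q)
      rw [hψι, hres₀, resP_algebraMap])
  exact AlgHom.ext (fun x => RingHom.congr_fun this x)

theorem isNilpotent_ker {B A : Art Λ k} (μ : B ⟶ A) :
    IsNilpotent (RingHom.ker (μ.toAlgHom : B →+* A)) := by
  obtain ⟨N, hN⟩ := art_pow_eq_bot' B
  refine ⟨N, ?_⟩
  rw [Ideal.zero_eq_bot, ← le_bot_iff, ← hN]
  refine Ideal.pow_right_mono ?_ N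
  intro x hx
  rw [Art.mem_maximalIdeal_iff, ← Art.res_app μ x]
  have : μ x = 0 := hx
  rw [this, map_zero]

/-- the functor of the ambient ring of a formally smooth `Q` is smooth -/
theorem isSmoothFunctor_ambientOf [Algebra.FormallySmooth Λ Q] :
    IsSmoothFunctor (hR (ambientOf θ hθ).carrier (ambientOf θ hθ).res) := by
  intro B A μ hμ φ
  change HomSet (P θ) (resP θ hθ) A at φ
  let φ₀ : Q →ₐ[Λ] A := φ.1.comp (ι θ)
  let ψ₀ : Q →ₐ[Λ] B :=
    Algebra.FormallySmooth.liftOfSurjective φ₀ μ.toAlgHom hμ (isNilpotent_ker μ)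
  have hμψ₀ : μ.toAlgHom.comp ψ₀ = φ₀ :=
    Algebra.FormallySmooth.comp_liftOfSurjective φ₀ μ.toAlgHom hμ (isNilpotent_ker μ)
  have hres₀ : ∀ q, B.res (ψ₀ q) = θ q := by
    intro q
    have h1 : B.res (ψ₀ q) = A.res (μ (ψ₀ q)) := (Art.res_app μ (ψ₀ q)).symm
    have h2 : μ (ψ₀ q) = φ₀ q := AlgHom.congr_fun hμψ₀ q
    have h3 : A.res (φ.1 (ι θ q)) = resP θ hθ (ι θ q) :=
      congrArg (fun t : P θ →ₐ[Λ] k => t (ι θ q)) φ.2
    rw [h1, h2]
    exact h3
  obtain ⟨ψ, hψres, hψι⟩ := exists_extend θ hθ B ψ₀ hres₀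
  refine ⟨(⟨ψ, hψres⟩ : HomSet (P θ) (resP θ hθ) B), ?_⟩
  apply Subtype.ext
  change μ.toAlgHom.comp ψ = φ.1
  apply algHom_ext_of_ι θ hθ A
  · rw [← AlgHom.comp_assoc, μ.res_comp, hψres]
  · exact φ.2
  · intro q
    rw [AlgHom.comp_apply, hψι]
    exact AlgHom.congr_fun hμψ₀ q

/-- the ambient ring of a formally unramified `Q` has a single tangent vector -/
theorem subsingleton_homSet_dual [Algebra.FormallyUnramified Λ Q] :
    Subsingleton (HomSet (ambientOf θ hθ).carrier (ambientOf θ hθ).res (Art.dual Λ k)) := by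
  refine ⟨fun a b => ?_⟩
  change HomSet (P θ) (resP θ hθ) (Art.dual Λ k) at a b
  apply Subtype.ext
  apply algHom_ext_of_ι θ hθ (Art.dual Λ k) a.1 b.1 a.2 b.2
  have key : a.1.comp (ι θ) = b.1.comp (ι θ) := by
    apply Algebra.FormallyUnramified.lift_unique' (Art.dual Λ k).res
      (isNilpotent_ker (Art.toBase (Art.dual Λ k)))
    rw [← AlgHom.comp_assoc, ← AlgHom.comp_assoc, a.2, b.2]
  exact fun q => AlgHom.congr_fun key q

end Smooth

section Exists

variable {Λ : Type u} {k : Type u} [CommRing Λ] [Field k] [Algebra Λ k]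

theorem formallyUnramified_of_subsingleton_derivation (hk : Subsingleton (Derivation Λ k k)) :
    Algebra.FormallyUnramified Λ k := by
  constructor
  refine ⟨fun x y => ?_⟩
  rw [← sub_eq_zero]
  rw [← Module.forall_dual_apply_eq_zero_iff k]
  intro f
  have h1 : (KaehlerDifferential.linearMapEquivDerivation Λ k) f = 0 := Subsingleton.elim _ _
  have h2 : f = 0 := by
    have := congrArg (KaehlerDifferential.linearMapEquivDerivation Λ k).symm h1
    rwa [LinearEquiv.symm_apply_apply, map_zero] at this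
  rw [h2]
  rfl

variable [Module.Finite Λ k]

/-- if `k` has no nonzero `Λ`-derivations, it is a quotient of a standard étale `Λ`-algebra -/
theorem exists_standardEtale_surjection (hk : Subsingleton (Derivation Λ k k)) :
    ∃ (Pr : StandardEtalePair Λ) (θ : Pr.Ring →ₐ[Λ] k), Function.Surjective θ := by
  haveI := formallyUnramified_of_subsingleton_derivation hk
  haveI : (⊥ : Ideal k).IsPrime := Ideal.isPrime_bot
  obtain ⟨f, hf, Pr, φ, hφ⟩ :=
    Algebra.IsUnramifiedAt.exists_hasStandardEtaleSurjectionOn (R := Λ) (⊥ : Ideal k)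
  have hfu : IsUnit f := isUnit_iff_ne_zero.2 (by simpa using hf)
  let e : k ≃ₐ[k] Localization.Away f :=
    IsLocalization.atUnits k (Submonoid.powers f) (S := Localization.Away f) (by
      rintro _ ⟨n, rfl⟩
      exact hfu.pow n)
  refine ⟨Pr, (e.symm.toAlgHom.restrictScalars Λ).comp φ, ?_⟩
  exact e.symm.surjective.comp hφ

end Exists


end Groth.Agent.Lib.Helper58.EtAmb
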