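import Mathlib
import Groth.Prelude.Def_Exal2

/-!
# Basic tools for `Exal.Ext` (helper58)

* `proj_incl`, `incl_mul_incl`, `exists_eq_add_incl`
* `equivOfHom`: the five lemma (a morphism of extensions is an equivalence)
* `ofSection`: a section gives a morphism from the trivial extension; two trivial extensions are equivalent
* `diff Y Y'`: the Baer difference of two extensions, and `nonempty_equiv_of_section`:
  if the Baer difference is trivial the two extensions are equivalent
* `baseHom`: an equivalence of the pullbacks to `B₀` gives an algebra map `B₀ → (diff Y Y').E`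
-/

set_option autoImplicit false
universe u v w

namespace Groth.Agent.Lib.Helper58.ExalB

open Exal

attribute [local instance] Exal.opModule Exal.isCentralScalar_opModule

section Basic

variable {A : Type u} {B L : Type v} [CommRing A] [CommRing B] [Algebra A B] [AddCommGroup L]
  [Module B L]

theorem proj_incl (X : Ext A B L) (z : L) : X.proj (X.incl z) = 0 :=
  (X.isExtension.exact _).2 ⟨z, rfl⟩

theorem incl_mul_incl (X : Ext A B L) (z z' : L) : X.incl z * X.incl z' = 0 := by
  rw [X.isExtension.mul_incl, proj_incl, zero_smul, map_zero]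

theorem exists_eq_add_incl (X : Ext A B L) {x y : X.E} (h : X.proj x = X.proj y) :
    ∃ z : L, x = y + X.incl z := by
  have h0 : X.proj (x - y) = 0 := by rw [map_sub, h, sub_self]
  obtain ⟨z, hz⟩ := (X.isExtension.exact _).1 h0
  exact ⟨z, by rw [hz]; ring⟩

theorem exists_incl_of_proj_eq_zero (X : Ext A B L) {x : X.E} (h : X.proj x = 0) :
    ∃ z : L, X.incl z = x :=
  (X.isExtension.exact _).1 h

theorem incl_eq_zero_iff (X : Ext A B L) (z : L) : X.incl z = 0 ↔ z = 0 := by
  constructor
  · intro h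
    exact X.isExtension.incl_injective (h.trans (map_zero X.incl).symm)
  · rintro rfl
    exact map_zero _

theorem mul_incl' (X : Ext A B L) (x : X.E) (z : L) : X.incl z * x = X.incl (X.proj x • z) := by
  rw [mul_comm, X.isExtension.mul_incl]

/-- the five lemma: a morphism of extensions is an equivalence -/
theorem bijective_of_hom (X Y : Ext A B L) (φ : X.E →ₐ[A] Y.E)
    (hp : ∀ x, Y.proj (φ x) = X.proj x) (hi : ∀ z, φ (X.incl z) = Y.incl z) :
    Function.Bijective φ := by
  constructor
  · rw [injective_iff_map_eq_zero]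
    intro x hx
    have h0 : X.proj x = 0 := by rw [← hp, hx, map_zero]
    obtain ⟨z, rfl⟩ := exists_incl_of_proj_eq_zero X h0
    rw [hi, incl_eq_zero_iff] at hx
    rw [hx, map_zero]
  · intro y
    obtain ⟨x, hx⟩ := X.isExtension.proj_surjective (Y.proj y)
    obtain ⟨z, hz⟩ := exists_eq_add_incl Y (x := y) (y := φ x) (by rw [hp, hx])
    exact ⟨x + X.incl z, by rw [map_add, hi, ← hz]⟩

/-- the five lemma: a morphism of extensions is an equivalence -/
noncomputable def equivOfHom (X Y : Ext A B L) (φ : X.E →ₐ[A] Y.E)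
    (hp : ∀ x, Y.proj (φ x) = X.proj x) (hi : ∀ z, φ (X.incl z) = Y.incl z) : X.Equiv Y where
  toAlgEquiv := AlgEquiv.ofBijective φ (bijective_of_hom X Y φ hp hi)
  proj_apply := hp
  apply_incl := hi

theorem isTrivial_of_equiv {X Y : Ext A B L} (e : X.Equiv Y) (h : X.IsTrivial) : Y.IsTrivial := by
  obtain ⟨s, hs⟩ := h
  refine ⟨(e.toAlgEquiv : X.E →ₐ[A] Y.E).comp s, fun b => ?_⟩
  change Y.proj (e.toAlgEquiv (s b)) = b
  rw [e.proj_apply, hs]

theorem trivial_isTrivial : (Ext.trivial A B L).IsTrivial := by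
  refine ⟨{ toFun := fun b => (TrivSqZeroExt.inl b : TrivSqZeroExt B L)
            map_one' := TrivSqZeroExt.inl_one L
            map_mul' := fun x y => TrivSqZeroExt.inl_mul L x y
            map_zero' := TrivSqZeroExt.inl_zero L
            map_add' := fun x y => TrivSqZeroExt.inl_add L x y
            commutes' := fun a => rfl }, fun b => rfl⟩

/-- first coordinate on the trivial extension -/
def fstT (x : (Ext.trivial A B L).E) : B := TrivSqZeroExt.fst (show TrivSqZeroExt B L from x)

/-- second coordinate on the trivial extension -/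
def sndT (x : (Ext.trivial A B L).E) : L := TrivSqZeroExt.snd (show TrivSqZeroExt B L from x)

/-- element of the trivial extension with given coordinates -/
def mkT (b : B) (z : L) : (Ext.trivial A B L).E :=
  (show TrivSqZeroExt B L from TrivSqZeroExt.inl b + TrivSqZeroExt.inr z)

theorem fstT_mkT (b : B) (z : L) : fstT (mkT (A := A) b z) = b := by
  change TrivSqZeroExt.fst (TrivSqZeroExt.inl b + TrivSqZeroExt.inr z : TrivSqZeroExt B L) = b
  simp

theorem sndT_mkT (b : B) (z : L) : sndT (mkT (A := A) b z) = z := by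
  change TrivSqZeroExt.snd (TrivSqZeroExt.inl b + TrivSqZeroExt.inr z : TrivSqZeroExt B L) = z
  simp

theorem extT {x y : (Ext.trivial A B L).E} (h1 : fstT x = fstT y) (h2 : sndT x = sndT y) : x = y :=
  TrivSqZeroExt.ext (x := (show TrivSqZeroExt B L from x)) (y := (show TrivSqZeroExt B L from y)) h1 h2

theorem fstT_one : fstT (1 : (Ext.trivial A B L).E) = 1 := rfl
theorem sndT_one : sndT (1 : (Ext.trivial A B L).E) = 0 := rfl
theorem fstT_zero : fstT (0 : (Ext.trivial A B L).E) = 0 := rfl
theorem sndT_zero : sndT (0 : (Ext.trivial A B L).E) = 0 := rfl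
theorem fstT_add (x y : (Ext.trivial A B L).E) : fstT (x + y) = fstT x + fstT y := rfl
theorem sndT_add (x y : (Ext.trivial A B L).E) : sndT (x + y) = sndT x + sndT y := rfl
theorem fstT_mul (x y : (Ext.trivial A B L).E) : fstT (x * y) = fstT x * fstT y := rfl
theorem sndT_mul (x y : (Ext.trivial A B L).E) :
    sndT (x * y) = fstT x • sndT y + fstT y • sndT x := rfl
theorem fstT_algebraMap (a : A) : fstT (algebraMap A (Ext.trivial A B L).E a) = algebraMap A B a := rfl
theorem sndT_algebraMap (a : A) : sndT (algebraMap A (Ext.trivial A B L).E a) = 0 := rfl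
theorem proj_trivial (x : (Ext.trivial A B L).E) : (Ext.trivial A B L).proj x = fstT x := rfl
theorem fstT_incl (z : L) : fstT ((Ext.trivial A B L).incl z) = 0 := rfl
theorem sndT_incl (z : L) : sndT ((Ext.trivial A B L).incl z) = z := rfl

/-- a section of an extension gives a morphism from the trivial extension -/
noncomputable def ofSection (X : Ext A B L) (s : B →ₐ[A] X.E) (hs : ∀ b, X.proj (s b) = b) :
    (Ext.trivial A B L).E →ₐ[A] X.E where
  toFun x := s (fstT x) + X.incl (sndT x)
  map_one' := by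
    rw [fstT_one, sndT_one, map_one, map_zero, add_zero]
  map_mul' x y := by
    rw [fstT_mul, sndT_mul, map_mul, map_add]
    have h1 : s (fstT x) * X.incl (sndT y) = X.incl (fstT x • sndT y) := by
      rw [X.isExtension.mul_incl, hs]
    have h2 : X.incl (sndT x) * s (fstT y) = X.incl (fstT y • sndT x) := by
      rw [mul_incl', hs]
    have h3 := incl_mul_incl X (sndT x) (sndT y)
    rw [add_mul, mul_add, mul_add, h1, h2, h3]
    abel
  map_zero' := by
    rw [fstT_zero, sndT_zero, map_zero, map_zero, add_zero]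
  map_add' x y := by
    rw [fstT_add, sndT_add, map_add, map_add]
    abel
  commutes' a := by
    rw [fstT_algebraMap, sndT_algebraMap, map_zero, add_zero, s.commutes]

theorem ofSection_apply (X : Ext A B L) (s : B →ₐ[A] X.E) (hs : ∀ b, X.proj (s b) = b)
    (x : (Ext.trivial A B L).E) : ofSection X s hs x = s (fstT x) + X.incl (sndT x) := rfl

theorem nonempty_trivial_equiv_of_isTrivial (X : Ext A B L) (h : X.IsTrivial) :
    Nonempty ((Ext.trivial A B L).Equiv X) := by
  obtain ⟨s, hs⟩ := h
  refine ⟨equivOfHom _ X (ofSection X s hs) (fun x => ?_) (fun z => ?_)⟩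
  · rw [ofSection_apply, map_add, hs, proj_incl, add_zero, proj_trivial]
  · rw [ofSection_apply, fstT_incl, sndT_incl, map_zero, zero_add]

theorem nonempty_equiv_of_isTrivial (X Y : Ext A B L) (hX : X.IsTrivial) (hY : Y.IsTrivial) :
    Nonempty (X.Equiv Y) := by
  obtain ⟨e⟩ := nonempty_trivial_equiv_of_isTrivial X hX
  obtain ⟨f⟩ := nonempty_trivial_equiv_of_isTrivial Y hY
  exact ⟨e.symm.trans f⟩

end Basic

section Diff

variable {A : Type u} {B L : Type v} [CommRing A] [CommRing B] [Algebra A B] [AddCommGroup L]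
  [Module B L] (Y Y' : Ext A B L)

/-- the fibre product of the two middle rings over `B` -/
def fp : Subalgebra A (Y.E × Y'.E) :=
  AlgHom.equalizer (Y.proj.comp (AlgHom.fst A Y.E Y'.E)) (Y'.proj.comp (AlgHom.snd A Y.E Y'.E))

theorem mem_fp (x : Y.E × Y'.E) : x ∈ fp Y Y' ↔ Y.proj x.1 = Y'.proj x.2 := Iff.rfl

theorem fp_prop (x : fp Y Y') : Y.proj x.1.1 = Y'.proj x.1.2 := x.2

/-- the diagonal copy of `L` in the fibre product -/
def diagIdeal : Ideal (fp Y Y') where
  carrier := {x | ∃ z : L, x.1.1 = Y.incl z ∧ x.1.2 = Y'.incl z}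
  add_mem' := by
    rintro a b ⟨z, hz1, hz2⟩ ⟨w, hw1, hw2⟩
    refine ⟨z + w, ?_, ?_⟩
    · rw [Subalgebra.coe_add, Prod.fst_add, hz1, hw1, map_add]
    · rw [Subalgebra.coe_add, Prod.snd_add, hz2, hw2, map_add]
  zero_mem' := ⟨0, by rw [map_zero]; rfl, by rw [map_zero]; rfl⟩
  smul_mem' := by
    rintro c x ⟨z, hz1, hz2⟩
    refine ⟨Y.proj c.1.1 • z, ?_, ?_⟩
    · rw [smul_eq_mul, Subalgebra.coe_mul, Prod.fst_mul, hz1, Y.isExtension.mul_incl]
    · rw [smul_eq_mul, Subalgebra.coe_mul, Prod.snd_mul, hz2, Y'.isExtension.mul_incl, fp_prop]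

theorem mem_diagIdeal (x : fp Y Y') :
    x ∈ diagIdeal Y Y' ↔ ∃ z : L, x.1.1 = Y.incl z ∧ x.1.2 = Y'.incl z := Iff.rfl

/-- the carrier of the Baer difference -/
abbrev DiffCarrier : Type v := fp Y Y' ⧸ diagIdeal Y Y'

/-- the projection of the Baer difference -/
noncomputable def diffProj : DiffCarrier Y Y' →ₐ[A] B :=
  Ideal.Quotient.liftₐ (diagIdeal Y Y') ((Y.proj.comp (AlgHom.fst A Y.E Y'.E)).comp (fp Y Y').val)
    (by
      rintro a ⟨z, hz1, _⟩
      change Y.proj a.1.1 = 0
      rw [hz1, proj_incl])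

theorem diffProj_mk (x : fp Y Y') :
    diffProj Y Y' (Ideal.Quotient.mk (diagIdeal Y Y') x) = Y.proj x.1.1 := rfl

/-- the element `(incl z, 0)` of the fibre product -/
def inclFst (z : L) : fp Y Y' :=
  ⟨(Y.incl z, 0), by rw [mem_fp]; change Y.proj (Y.incl z) = Y'.proj 0; rw [proj_incl, map_zero]⟩

/-- the inclusion of the Baer difference -/
noncomputable def diffIncl : L →+ DiffCarrier Y Y' where
  toFun z := Ideal.Quotient.mk (diagIdeal Y Y') (inclFst Y Y' z)
  map_zero' := by
    have : inclFst Y Y' 0 = 0 := by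
      apply Subtype.ext
      change ((Y.incl 0, 0) : Y.E × Y'.E) = 0
      rw [map_zero]; rfl
    rw [this, map_zero]
  map_add' z w := by
    have : inclFst Y Y' (z + w) = inclFst Y Y' z + inclFst Y Y' w := by
      apply Subtype.ext
      change ((Y.incl (z + w), 0) : Y.E × Y'.E) = (Y.incl z, 0) + (Y.incl w, 0)
      rw [map_add, Prod.mk_add_mk, add_zero]
    rw [this, map_add]

theorem diffIncl_apply (z : L) :
    diffIncl Y Y' z = Ideal.Quotient.mk (diagIdeal Y Y') (inclFst Y Y' z) := rfl

/-- the Baer difference of two extensions -/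
noncomputable def diff : Ext A B L where
  E := DiffCarrier Y Y'
  proj := diffProj Y Y'
  incl := diffIncl Y Y'
  isExtension :=
    { proj_surjective := fun b => by
        obtain ⟨e, he⟩ := Y.isExtension.proj_surjective b
        obtain ⟨e', he'⟩ := Y'.isExtension.proj_surjective b
        exact ⟨Ideal.Quotient.mk _ ⟨(e, e'), by rw [mem_fp]; change Y.proj e = Y'.proj e'; rw [he, he']⟩,
          he⟩
      incl_injective := by
        rw [injective_iff_map_eq_zero]
        intro z hz
        rw [diffIncl_apply, Ideal.Quotient.eq_zero_iff_mem, mem_diagIdeal] at hz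
        obtain ⟨w, hw1, hw2⟩ := hz
        have hw0 : w = 0 := by
          have : Y'.incl w = 0 := hw2.symm
          exact (incl_eq_zero_iff Y' w).1 this
        have : Y.incl z = Y.incl w := hw1
        rw [hw0, map_zero] at this
        exact (incl_eq_zero_iff Y z).1 this
      exact := fun x => by
        obtain ⟨x, rfl⟩ := Ideal.Quotient.mk_surjective x
        rw [diffProj_mk]
        constructor
        · intro h
          obtain ⟨z, hz⟩ := exists_incl_of_proj_eq_zero Y h
          have h' : Y'.proj x.1.2 = 0 := by rw [← fp_prop, h]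
          obtain ⟨z', hz'⟩ := exists_incl_of_proj_eq_zero Y' h'
          refine ⟨z - z', ?_⟩
          change Ideal.Quotient.mk _ (inclFst Y Y' (z - z')) = _
          rw [Ideal.Quotient.eq, mem_diagIdeal]
          refine ⟨-z', ?_, ?_⟩
          · change Y.incl (z - z') - x.1.1 = Y.incl (-z')
            rw [← hz, map_sub, map_neg]; ring
          · change (0 : Y'.E) - x.1.2 = Y'.incl (-z')
            rw [← hz', map_neg, zero_sub]
        · rintro ⟨z, hz⟩
          change Ideal.Quotient.mk _ (inclFst Y Y' z) = _ at hz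
          rw [Ideal.Quotient.eq, mem_diagIdeal] at hz
          obtain ⟨w, hw1, _⟩ := hz
          have hw1' : Y.incl z - x.1.1 = Y.incl w := hw1
          have : x.1.1 = Y.incl (z - w) := by rw [map_sub, ← hw1']; ring
          rw [this, proj_incl]
      mul_incl := fun x z => by
        obtain ⟨x, rfl⟩ := Ideal.Quotient.mk_surjective x
        change Ideal.Quotient.mk _ x * Ideal.Quotient.mk _ (inclFst Y Y' z) =
          Ideal.Quotient.mk _ (inclFst Y Y' (Y.proj x.1.1 • z))
        rw [← map_mul]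
        congr 1
        apply Subtype.ext
        change ((x.1.1 * Y.incl z, x.1.2 * 0) : Y.E × Y'.E) = (Y.incl (Y.proj x.1.1 • z), 0)
        rw [Y.isExtension.mul_incl, mul_zero] }

theorem diff_proj_mk (x : fp Y Y') :
    (diff Y Y').proj (Ideal.Quotient.mk (diagIdeal Y Y') x) = Y.proj x.1.1 := rfl

/-- the quotient map onto the middle ring of the Baer difference -/
noncomputable def diffMk : fp Y Y' →ₐ[A] (diff Y Y').E := Ideal.Quotient.mkₐ A (diagIdeal Y Y')

theorem diffMk_eq_zero_iff (x : fp Y Y') : diffMk Y Y' x = 0 ↔ x ∈ diagIdeal Y Y' :=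
  Ideal.Quotient.eq_zero_iff_mem

theorem diffMk_surjective : Function.Surjective (diffMk Y Y') := Ideal.Quotient.mk_surjective

theorem diff_proj_diffMk (x : fp Y Y') : (diff Y Y').proj (diffMk Y Y' x) = Y.proj x.1.1 := rfl

theorem diff_incl_eq (z : L) : (diff Y Y').incl z = diffMk Y Y' (inclFst Y Y' z) := rfl

/-- the element `(incl z, incl' z)` of the fibre product -/
def diagElt (z : L) : fp Y Y' :=
  ⟨(Y.incl z, Y'.incl z), by
    rw [mem_fp]; change Y.proj (Y.incl z) = Y'.proj (Y'.incl z); rw [proj_incl, proj_incl]⟩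

theorem diagElt_mem (z : L) : diagElt Y Y' z ∈ diagIdeal Y Y' := ⟨z, rfl, rfl⟩

section Section

variable (σ : B →ₐ[A] (diff Y Y').E) (hσ : ∀ b, (diff Y Y').proj (σ b) = b)

/-- the graph of the isomorphism determined by a section of the Baer difference -/
noncomputable def graph : Subalgebra A (fp Y Y') :=
  AlgHom.equalizer (Ideal.Quotient.mkₐ A (diagIdeal Y Y'))
    (σ.comp ((Y.proj.comp (AlgHom.fst A Y.E Y'.E)).comp (fp Y Y').val))

theorem mem_graph (x : fp Y Y') :
    x ∈ graph Y Y' σ ↔ Ideal.Quotient.mk (diagIdeal Y Y') x = σ (Y.proj x.1.1) := Iff.rfl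

/-- first projection from the graph -/
noncomputable def graphFst : graph Y Y' σ →ₐ[A] Y.E :=
  ((AlgHom.fst A Y.E Y'.E).comp (fp Y Y').val).comp (graph Y Y' σ).val

/-- second projection from the graph -/
noncomputable def graphSnd : graph Y Y' σ →ₐ[A] Y'.E :=
  ((AlgHom.snd A Y.E Y'.E).comp (fp Y Y').val).comp (graph Y Y' σ).val

theorem graphFst_apply (g : graph Y Y' σ) : graphFst Y Y' σ g = g.1.1.1 := rfl
theorem graphSnd_apply (g : graph Y Y' σ) : graphSnd Y Y' σ g = g.1.1.2 := rfl

theorem graphFst_injective : Function.Injective (graphFst Y Y' σ) := by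
  intro g g' h
  rw [graphFst_apply, graphFst_apply] at h
  have h1 : Ideal.Quotient.mk (diagIdeal Y Y') g.1 = Ideal.Quotient.mk (diagIdeal Y Y') g'.1 := by
    rw [(mem_graph Y Y' σ g.1).1 g.2, (mem_graph Y Y' σ g'.1).1 g'.2, h]
  rw [Ideal.Quotient.eq, mem_diagIdeal] at h1
  obtain ⟨w, hw1, hw2⟩ := h1
  have hw1' : g.1.1.1 - g'.1.1.1 = Y.incl w := hw1
  have hw2' : g.1.1.2 - g'.1.1.2 = Y'.incl w := hw2
  rw [h, sub_self] at hw1'
  have hw0 : w = 0 := (incl_eq_zero_iff Y w).1 hw1'.symm
  rw [hw0, map_zero, sub_eq_zero] at hw2'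
  apply Subtype.ext
  apply Subtype.ext
  exact Prod.ext h hw2'

include hσ in
theorem graphFst_surjective : Function.Surjective (graphFst Y Y' σ) := by
  intro e
  obtain ⟨x₁, hx₁⟩ := Ideal.Quotient.mk_surjective (σ (Y.proj e))
  have h1 : Y.proj x₁.1.1 = Y.proj e := by
    rw [← diff_proj_mk, hx₁, hσ]
  obtain ⟨z, hz⟩ := exists_eq_add_incl Y h1.symm
  refine ⟨⟨x₁ + diagElt Y Y' z, ?_⟩, ?_⟩
  · rw [mem_graph, map_add, Ideal.Quotient.eq_zero_iff_mem.2 (diagElt_mem Y Y' z), add_zero, hx₁]
    congr 2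
  · exact hz.symm

/-- the algebra isomorphism from the graph to `Y.E` -/
noncomputable def graphEquiv : graph Y Y' σ ≃ₐ[A] Y.E :=
  AlgEquiv.ofBijective (graphFst Y Y' σ) ⟨graphFst_injective Y Y' σ, graphFst_surjective Y Y' σ hσ⟩

include σ hσ in
/-- if the Baer difference has a section, the two extensions are equivalent -/
theorem nonempty_equiv_of_section : Nonempty (Y.Equiv Y') := by
  let φ : Y.E →ₐ[A] Y'.E :=
    (graphSnd Y Y' σ).comp ((graphEquiv Y Y' σ hσ).symm : Y.E →ₐ[A] graph Y Y' σ)
  refine ⟨equivOfHom Y Y' φ (fun e => ?_) (fun z => ?_)⟩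
  · obtain ⟨g, rfl⟩ := (graphEquiv Y Y' σ hσ).surjective e
    change Y'.proj (graphSnd Y Y' σ ((graphEquiv Y Y' σ hσ).symm (graphEquiv Y Y' σ hσ g))) =
      Y.proj (graphFst Y Y' σ g)
    rw [AlgEquiv.symm_apply_apply, graphSnd_apply, graphFst_apply, fp_prop]
  · have hmem : diagElt Y Y' z ∈ graph Y Y' σ := by
      rw [mem_graph, Ideal.Quotient.eq_zero_iff_mem.2 (diagElt_mem Y Y' z)]
      change 0 = σ (Y.proj (Y.incl z))
      rw [proj_incl, map_zero]
    have h1 : graphEquiv Y Y' σ hσ ⟨diagElt Y Y' z, hmem⟩ = Y.incl z := rfl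
    change graphSnd Y Y' σ ((graphEquiv Y Y' σ hσ).symm (Y.incl z)) = Y'.incl z
    rw [← h1, AlgEquiv.symm_apply_apply]
    rfl

end Section

end Diff

section Base

theorem exists_algHom_of_surjective {A : Type u} {E₀ B₀ D : Type v} [CommRing A] [CommRing E₀]
    [CommRing B₀] [CommRing D] [Algebra A E₀] [Algebra A B₀] [Algebra A D]
    (p : E₀ →ₐ[A] B₀) (hp : Function.Surjective p) (g : E₀ →ₐ[A] D)
    (hker : ∀ x, p x = 0 → g x = 0) : ∃ ι : B₀ →ₐ[A] D, ∀ x, ι (p x) = g x := by
  refine ⟨(Ideal.Quotient.liftₐ (RingHom.ker p) g (fun a ha => hker a ha)).comp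
    ((Ideal.quotientKerAlgEquivOfSurjective hp).symm : B₀ →ₐ[A] _), fun x => ?_⟩
  have h1 : (Ideal.quotientKerAlgEquivOfSurjective hp).symm (p x) = Ideal.Quotient.mk _ x := by
    rw [AlgEquiv.symm_apply_eq]
    rfl
  rw [AlgHom.comp_apply, AlgEquiv.coe_toAlgHom, h1]
  rfl

variable {A : Type u} {B L : Type v} [CommRing A] [CommRing B] [Algebra A B] [AddCommGroup L]
  [Module B L]
variable (B₀ : Type v) [CommRing B₀] [Algebra A B₀] [Algebra B₀ B] [IsScalarTower A B₀ B]
  [Module B₀ L] [IsScalarTower B₀ B L]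
variable (Y Y' : Ext A B L)

theorem pullback_prop (x : (Y.pullback B₀).E) : Y.proj x.1.1 = algebraMap B₀ B x.1.2 := x.2

theorem pullback_proj_apply (x : (Y.pullback B₀).E) : (Y.pullback B₀).proj x = x.1.2 := rfl

theorem pullback_incl_fst (z : L) : ((Y.pullback B₀).incl z).1.1 = Y.incl z := rfl

theorem pullback_incl_snd (z : L) : ((Y.pullback B₀).incl z).1.2 = 0 := rfl

/-- an equivalence of the pullbacks to `B₀` gives an algebra map from `B₀` to the Baer difference
lifting the structure map `B₀ → B` -/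
theorem exists_baseHom (θ : (Y.pullback B₀).Equiv (Y'.pullback B₀)) :
    ∃ ι : B₀ →ₐ[A] (diff Y Y').E, ∀ b, (diff Y Y').proj (ι b) = algebraMap B₀ B b := by
  have hθ2 : ∀ x : (Y.pullback B₀).E, (θ.toAlgEquiv x).1.2 = x.1.2 := fun x => θ.proj_apply x
  let ψ₀ : (Y.pullback B₀).E →ₐ[A] (Y.E × Y'.E) :=
    AlgHom.prod ((AlgHom.fst A Y.E B₀).comp (Y.fiberProd B₀).val)
      (((AlgHom.fst A Y'.E B₀).comp (Y'.fiberProd B₀).val).comp
        (θ.toAlgEquiv : (Y.pullback B₀).E →ₐ[A] (Y'.pullback B₀).E))
  have hψ₀ : ∀ x, ψ₀ x = (x.1.1, (θ.toAlgEquiv x).1.1) := fun x => rfl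
  let ψ : (Y.pullback B₀).E →ₐ[A] fp Y Y' := AlgHom.codRestrict ψ₀ (fp Y Y') (fun x => by
    rw [mem_fp, hψ₀]
    change Y.proj x.1.1 = Y'.proj (θ.toAlgEquiv x).1.1
    rw [pullback_prop, pullback_prop, hθ2])
  have hψ1 : ∀ x, (ψ x).1.1 = x.1.1 := fun x => rfl
  have hψ2 : ∀ x, (ψ x).1.2 = (θ.toAlgEquiv x).1.1 := fun x => rfl
  let g : (Y.pullback B₀).E →ₐ[A] (diff Y Y').E := (diffMk Y Y').comp ψ
  have hg : ∀ x, g x = diffMk Y Y' (ψ x) := fun x => rfl
  obtain ⟨ι, hι⟩ := exists_algHom_of_surjective (Y.pullback B₀).proj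
    (Y.pullback B₀).isExtension.proj_surjective g (fun x hx => by
      obtain ⟨z, rfl⟩ := exists_incl_of_proj_eq_zero (Y.pullback B₀) hx
      rw [hg, diffMk_eq_zero_iff, mem_diagIdeal]
      refine ⟨z, ?_, ?_⟩
      · rw [hψ1, pullback_incl_fst]
      · rw [hψ2, θ.apply_incl, pullback_incl_fst])
  refine ⟨ι, fun b => ?_⟩
  obtain ⟨x, rfl⟩ := (Y.pullback B₀).isExtension.proj_surjective b
  rw [hι, hg, diff_proj_diffMk, hψ1, pullback_prop, pullback_proj_apply]

/-- an `A`-extension whose middle ring receives a lift of `B₀ → B` is a `B₀`-extension -/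
theorem exists_liftBase (X : Ext A B L) (ι : B₀ →ₐ[A] X.E)
    (hι : ∀ b, X.proj (ι b) = algebraMap B₀ B b) :
    ∃ (X' : Ext B₀ B L) (e : X'.E ≃+* X.E), (∀ x, X.proj (e x) = X'.proj x) ∧
      (∀ z, e (X'.incl z) = X.incl z) ∧ ∀ b, e (algebraMap B₀ X'.E b) = ι b := by
  letI algBX : Algebra B₀ X.E := ι.toRingHom.toAlgebra
  let X' : Ext B₀ B L :=
    { E := X.E
      commRing := inferInstance
      algebra := algBX
      proj := { X.proj.toRingHom with commutes' := hι }
      incl := X.incl
      isExtension := ⟨X.isExtension.proj_surjective, X.isExtension.incl_injective,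
        X.isExtension.exact, X.isExtension.mul_incl⟩ }
  exact ⟨X', RingEquiv.refl X.E, fun x => rfl, fun z => rfl, fun b => rfl⟩

/-- if every `B₀`-extension of `B` by `L` is trivial, then the pullback map from `A`-extensions
of `B` to `A`-extensions of `B₀` is injective on classes -/
theorem nonempty_equiv_of_pullback_equiv (h : ∀ X : Ext B₀ B L, X.IsTrivial)
    (θ : Nonempty ((Y.pullback B₀).Equiv (Y'.pullback B₀))) : Nonempty (Y.Equiv Y') := by
  obtain ⟨θ⟩ := θ
  obtain ⟨ι, hι⟩ := exists_baseHom B₀ Y Y' θ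
  obtain ⟨X', e, he1, he2, he3⟩ := exists_liftBase B₀ (diff Y Y') ι hι
  obtain ⟨s', hs'⟩ := h X'
  let σ : B →ₐ[A] (diff Y Y').E :=
    { toRingHom := (e : X'.E →+* (diff Y Y').E).comp (s' : B →+* X'.E)
      commutes' := fun a => by
        change e (s' (algebraMap A B a)) = _
        rw [IsScalarTower.algebraMap_apply A B₀ B, s'.commutes, he3, ι.commutes] }
  refine nonempty_equiv_of_section Y Y' σ (fun b => ?_)
  change (diff Y Y').proj (e (s' b)) = b
  rw [he1, hs']

end Base

section Converse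

variable {K : Type u} {Λ R L : Type v} [CommRing K] [CommRing Λ] [CommRing R] [Algebra K Λ]
  [Algebra Λ R] [Algebra K R] [IsScalarTower K Λ R] [AddCommGroup L] [Module R L] [Module Λ L]
  [IsScalarTower Λ R L] [Module K L] [IsScalarTower K R L]

/-- the pullback of an extension which comes from a `Λ`-extension is trivial -/
theorem pullback_restrictBase_isTrivial (X : Ext Λ R L) :
    ((X.restrictBase K).pullback Λ).IsTrivial := by
  let t : Λ →ₐ[K] (X.restrictBase K).E :=
    { toRingHom := algebraMap Λ X.E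
      commutes' := fun a => rfl }
  have ht : ∀ b, (X.restrictBase K).proj (t b) = algebraMap Λ R b := fun b => X.proj.commutes b
  exact ⟨AlgHom.codRestrict (AlgHom.prod t (AlgHom.id K Λ)) _ (fun b => ht b), fun b => rfl⟩

/-- the pullback of a trivial extension is trivial -/
theorem pullback_isTrivial_of_isTrivial (Y : Ext K R L) (h : Y.IsTrivial) :
    (Y.pullback Λ).IsTrivial := by
  obtain ⟨s, hs⟩ := h
  let t : Λ →ₐ[K] Y.E := s.comp (IsScalarTower.toAlgHom K Λ R)
  have ht : ∀ b, Y.proj (t b) = algebraMap Λ R b := fun b => hs _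
  exact ⟨AlgHom.codRestrict (AlgHom.prod t (AlgHom.id K Λ)) _ (fun b => ht b), fun b => rfl⟩

/-- two ring maps `Λ → E` lifting `Λ → R` differ by a derivation -/
theorem exists_derivation_of_lifts (X : Ext Λ R L) (β : Λ →+* X.E)
    (hβ : ∀ a, X.proj (β a) = algebraMap Λ R a)
    (hK : ∀ c : K, β (algebraMap K Λ c) = algebraMap Λ X.E (algebraMap K Λ c)) :
    ∃ D : Derivation K Λ L, ∀ a, algebraMap Λ X.E a = β a + X.incl (D a) := by
  have h0 : ∀ a, X.proj (algebraMap Λ X.E a - β a) = 0 := fun a => by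
    rw [map_sub, hβ, X.proj.commutes, sub_self]
  let D₀ : Λ → L := fun a => X.kerLift _ (h0 a)
  have hD₀ : ∀ a, X.incl (D₀ a) = algebraMap Λ X.E a - β a := fun a => X.incl_kerLift _ (h0 a)
  have hadd : ∀ a b, D₀ (a + b) = D₀ a + D₀ b := fun a b => by
    apply X.isExtension.incl_injective
    rw [map_add, hD₀, hD₀, hD₀, map_add, map_add]; ring
  have hmul : ∀ a b, D₀ (a * b) = a • D₀ b + b • D₀ a := fun a b => by
    apply X.isExtension.incl_injective
    have h1 : algebraMap Λ X.E a * X.incl (D₀ b) = X.incl (a • D₀ b) := by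
      rw [X.isExtension.mul_incl, X.proj.commutes, algebraMap_smul]
    have h2 : X.incl (D₀ a) * β b = X.incl (b • D₀ a) := by
      rw [mul_incl', hβ, algebraMap_smul]
    rw [map_add, ← h1, ← h2, hD₀, hD₀, hD₀, map_mul, map_mul]; ring
  have hsmul : ∀ (c : K) a, D₀ (c • a) = c • D₀ a := fun c a => by
    apply X.isExtension.incl_injective
    have h1 : algebraMap Λ X.E (algebraMap K Λ c) * X.incl (D₀ a) = X.incl (c • D₀ a) := by
      rw [X.isExtension.mul_incl, X.proj.commutes, ← IsScalarTower.algebraMap_apply K Λ R,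
        algebraMap_smul]
    rw [← h1, hD₀, hD₀, Algebra.smul_def, map_mul, map_mul, hK]; ring
  have hone : D₀ 1 = 0 := by
    apply X.isExtension.incl_injective
    rw [hD₀, map_one, map_one, sub_self, map_zero]
  let D : Derivation K Λ L :=
    { toFun := D₀
      map_add' := hadd
      map_smul' := hsmul
      map_one_eq_zero' := hone
      leibniz' := hmul }
  refine ⟨D, fun a => ?_⟩
  change _ = β a + X.incl (D₀ a)
  rw [hD₀]; ring

/-- modifying a section by a derivation -/
theorem exists_section_add_derivation (X : Ext Λ R L) (s : R →+* X.E) (hs : ∀ r, X.proj (s r) = r)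
    (D' : Derivation K R L) :
    ∃ s' : R →+* X.E, (∀ r, X.proj (s' r) = r) ∧ ∀ r, s' r = s r + X.incl (D' r) := by
  refine ⟨{ toFun := fun r => s r + X.incl (D' r)
            map_one' := by rw [map_one, D'.map_one_eq_zero, map_zero, add_zero]
            map_mul' := fun r r' => by
              have h1 : s r * X.incl (D' r') = X.incl (r • D' r') := by
                rw [X.isExtension.mul_incl, hs]
              have h2 : X.incl (D' r) * s r' = X.incl (r' • D' r) := by
                rw [mul_incl', hs]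
              have h3 := incl_mul_incl X (D' r) (D' r')
              rw [map_mul, D'.leibniz, map_add, add_mul, mul_add, mul_add, h1, h2, h3]
              abel
            map_zero' := by rw [map_zero, map_zero, map_zero, add_zero]
            map_add' := fun r r' => by rw [map_add, map_add, map_add]; abel },
    fun r => ?_, fun r => rfl⟩
  change X.proj (s r + X.incl (D' r)) = r
  rw [map_add, hs, proj_incl, add_zero]

/-- if derivations extend and the pullback map on classes of `K`-extensions is injective,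
then every `Λ`-extension is trivial -/
theorem isTrivial_of_derivation_and_pullback (X : Ext Λ R L)
    (ha : ∀ D : Derivation K Λ L, ∃ D' : Derivation K R L, ∀ a, D' (algebraMap Λ R a) = D a)
    (hb : ∀ Y Y' : Ext K R L, Nonempty ((Y.pullback Λ).Equiv (Y'.pullback Λ)) →
      Nonempty (Y.Equiv Y')) : X.IsTrivial := by
  have h1 : ((X.restrictBase K).pullback Λ).IsTrivial := pullback_restrictBase_isTrivial X
  have h2 : ((Ext.trivial K R L).pullback Λ).IsTrivial :=
    pullback_isTrivial_of_isTrivial _ trivial_isTrivial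
  obtain ⟨e⟩ := hb _ _ (nonempty_equiv_of_isTrivial _ _ h2 h1)
  obtain ⟨s, hs⟩ := isTrivial_of_equiv e trivial_isTrivial
  -- `s : R →ₐ[K] (X.restrictBase K).E`
  let s₀ : R →+* X.E := (s : R →+* (X.restrictBase K).E)
  have hs₀ : ∀ r, X.proj (s₀ r) = r := hs
  have hs₀K : ∀ c : K, s₀ (algebraMap K R c) = algebraMap Λ X.E (algebraMap K Λ c) :=
    fun c => s.commutes c
  obtain ⟨D, hD⟩ := exists_derivation_of_lifts (K := K) X (s₀.comp (algebraMap Λ R))
    (fun a => hs₀ _) (fun c => by
      rw [RingHom.comp_apply, ← IsScalarTower.algebraMap_apply K Λ R, hs₀K])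
  obtain ⟨D', hD'⟩ := ha D
  obtain ⟨s', hs'1, hs'2⟩ := exists_section_add_derivation X s₀ hs₀ D'
  refine ⟨{ toRingHom := s'
            commutes' := fun a => ?_ }, hs'1⟩
  change s' (algebraMap Λ R a) = _
  rw [hs'2, hD', hD a]
  rfl

end Converse

end Groth.Agent.Lib.Helper58.ExalB
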