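import Mathlib
import Groth.Prelude.Def_Exal2
import Groth.Agent.Lib.Helper58.ExalBasic

/-!
# Extensions of a local ring by a simple module (helper58)

For `X : Exal.Ext Λ R L` with `R` local and `L` a simple `R`-module:
the middle ring is local; it is Noetherian if `R` is; a power of its maximal ideal meets the kernel
trivially; it is complete if `R` is.
-/

set_option autoImplicit false
universe u v

namespace Groth.Agent.Lib.Helper58.ExalL

open Exal IsLocalRing Groth.Agent.Lib.Helper58.ExalB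

section Simple

variable {R L : Type v} [CommRing R] [IsLocalRing R] [AddCommGroup L] [Module R L]
  [IsSimpleModule R L]

theorem smul_eq_zero_of_mem {x : R} (hx : x ∈ maximalIdeal R) (z : L) : x • z = 0 := by
  have h1 : Module.annihilator R L = maximalIdeal R :=
    IsLocalRing.eq_maximalIdeal IsSimpleModule.annihilator_isMaximal
  rw [← h1, Module.mem_annihilator] at hx
  exact hx z

theorem exists_smul_eq {z : L} (hz : z ≠ 0) (w : L) : ∃ r : R, r • z = w :=
  IsSimpleModule.toSpanSingleton_surjective R hz w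

theorem exists_ne_zero (R L : Type v) [CommRing R] [AddCommGroup L] [Module R L]
    [IsSimpleModule R L] : ∃ z : L, z ≠ 0 := by
  haveI : Nontrivial L := IsSimpleModule.nontrivial R L
  exact exists_ne 0

end Simple

section Ext

variable {Λ : Type u} {R L : Type v} [CommRing Λ] [CommRing R] [Algebra Λ R] [IsLocalRing R]
  [AddCommGroup L] [Module R L] [IsSimpleModule R L] (X : Ext Λ R L)

theorem mul_eq_zero_of_proj (x y : X.E) (hx : X.proj x ∈ maximalIdeal R) (hy : X.proj y = 0) :
    x * y = 0 := by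
  obtain ⟨z, rfl⟩ := exists_incl_of_proj_eq_zero X hy
  rw [X.isExtension.mul_incl, smul_eq_zero_of_mem hx, map_zero]

theorem isUnit_iff (e : X.E) : IsUnit e ↔ IsUnit (X.proj e) := by
  constructor
  · intro h; exact h.map X.proj
  · intro h
    obtain ⟨r', hr'⟩ := h.exists_right_inv
    obtain ⟨e', rfl⟩ := X.isExtension.proj_surjective r'
    have hy : X.proj (e * e' - 1) = 0 := by rw [map_sub, map_mul, hr', map_one, sub_self]
    have hyy : (e * e' - 1) * (e * e' - 1) = 0 :=
      mul_eq_zero_of_proj X _ _ (by rw [hy]; exact zero_mem _) hy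
    refine IsUnit.of_mul_eq_one (e' * (1 - (e * e' - 1))) ?_
    have : e * (e' * (1 - (e * e' - 1))) = 1 - (e * e' - 1) * (e * e' - 1) := by ring
    rw [this, hyy, sub_zero]

theorem nontrivialE : Nontrivial X.E := X.isExtension.proj_surjective.nontrivial

theorem isLocalRingE : IsLocalRing X.E := by
  haveI := nontrivialE X
  refine IsLocalRing.of_nonunits_add ?_
  intro a b ha hb
  rw [mem_nonunits_iff, isUnit_iff] at ha hb ⊢
  rw [map_add]
  exact nonunits_add ha hb

theorem mem_maximalIdeal_iff [IsLocalRing X.E] (e : X.E) :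
    e ∈ maximalIdeal X.E ↔ X.proj e ∈ maximalIdeal R := by
  rw [mem_maximalIdeal, mem_maximalIdeal, mem_nonunits_iff, mem_nonunits_iff, isUnit_iff]

theorem incl_mem_maximalIdeal [IsLocalRing X.E] (z : L) : X.incl z ∈ maximalIdeal X.E := by
  rw [mem_maximalIdeal_iff, proj_incl]; exact zero_mem _

theorem map_maximalIdeal [IsLocalRing X.E] :
    (maximalIdeal X.E).map (X.proj : X.E →+* R) = maximalIdeal R := by
  apply le_antisymm
  · rw [Ideal.map_le_iff_le_comap]
    intro e he
    exact (mem_maximalIdeal_iff X e).1 he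
  · intro r hr
    obtain ⟨e, rfl⟩ := X.isExtension.proj_surjective r
    exact Ideal.mem_map_of_mem _ ((mem_maximalIdeal_iff X e).2 hr)

theorem map_maximalIdeal_pow [IsLocalRing X.E] (n : ℕ) :
    (maximalIdeal X.E ^ n).map (X.proj : X.E →+* R) = maximalIdeal R ^ n := by
  rw [Ideal.map_pow, map_maximalIdeal]

/-- any nonzero element of the kernel generates the kernel -/
theorem incl_mem_of_ne_zero (𝔞 : Ideal X.E) (x : X.E) (hx : x ∈ 𝔞) (hx0 : x ≠ 0)
    (hpx : X.proj x = 0) (w : L) : X.incl w ∈ 𝔞 := by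
  obtain ⟨z, rfl⟩ := exists_incl_of_proj_eq_zero X hpx
  have hz : z ≠ 0 := by
    rintro rfl
    exact hx0 (map_zero _)
  obtain ⟨r, hr⟩ := exists_smul_eq (R := R) hz w
  obtain ⟨e, rfl⟩ := X.isExtension.proj_surjective r
  rw [← hr, ← X.isExtension.mul_incl]
  exact 𝔞.mul_mem_left _ hx

theorem ker_proj_eq_span {z : L} (hz : z ≠ 0) :
    RingHom.ker (X.proj : X.E →+* R) = Ideal.span {X.incl z} := by
  apply le_antisymm
  · intro x hx
    have hx' : X.proj x = 0 := hx
    obtain ⟨w, rfl⟩ := exists_incl_of_proj_eq_zero X hx'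
    refine incl_mem_of_ne_zero X _ (X.incl z) (Ideal.subset_span (Set.mem_singleton _)) ?_ (proj_incl X z) w
    rwa [Ne, incl_eq_zero_iff]
  · rw [Ideal.span_le]
    rintro _ rfl
    exact proj_incl X z

theorem isNoetherianRingE [IsNoetherianRing R] : IsNoetherianRing X.E := by
  obtain ⟨z₀, hz₀⟩ := exists_ne_zero R L
  rw [isNoetherianRing_iff_ideal_fg]
  intro 𝔞
  refine Ideal.fg_of_fg_map_of_fg_inf_ker_of_surjective (f := (X.proj : X.E →+* R))
    (IsNoetherian.noetherian _) ?_ X.isExtension.proj_surjective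
  by_cases h : 𝔞 ⊓ RingHom.ker (X.proj : X.E →+* R) = ⊥
  · rw [h]; exact Submodule.fg_bot
  · obtain ⟨x, hx, hx0⟩ := Submodule.exists_mem_ne_zero_of_ne_bot h
    have h1 : X.incl z₀ ∈ 𝔞 := incl_mem_of_ne_zero X 𝔞 x hx.1 hx0 hx.2 z₀
    have h2 : 𝔞 ⊓ RingHom.ker (X.proj : X.E →+* R) = Ideal.span {X.incl z₀} := by
      rw [ker_proj_eq_span X hz₀, inf_eq_right, Ideal.span_le]
      rintro _ rfl
      exact h1
    rw [h2]
    exact ⟨{X.incl z₀}, by simp⟩

theorem exists_pow_inf_ker [IsNoetherianRing R] [IsLocalRing X.E] :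
    ∃ n : ℕ, ∀ x ∈ maximalIdeal X.E ^ n, X.proj x = 0 → x = 0 := by
  haveI := isNoetherianRingE X
  obtain ⟨z₀, hz₀⟩ := exists_ne_zero R L
  by_contra hcon
  push Not at hcon
  have h1 : X.incl z₀ ∈ ⨅ n : ℕ, maximalIdeal X.E ^ n := by
    rw [Ideal.mem_iInf]
    intro n
    obtain ⟨x, hx, hpx, hx0⟩ := hcon n
    exact incl_mem_of_ne_zero X _ x hx hx0 hpx z₀
  rw [Ideal.iInf_pow_eq_bot_of_isLocalRing _ (Ideal.IsMaximal.ne_top inferInstance)] at h1
  exact hz₀ ((incl_eq_zero_iff X z₀).1 h1)

end Ext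

section Complete

theorem map_mem_maximalIdeal_iff' {E B : Type*} [CommRing E] [CommRing B] [IsLocalRing E]
    [IsLocalRing B] (f : E →+* B) (hf : Function.Surjective f) (e : E) :
    f e ∈ maximalIdeal B ↔ e ∈ maximalIdeal E := by
  have : (Ideal.comap f (maximalIdeal B)).IsMaximal := Ideal.comap_isMaximal_of_surjective f hf
  have h := IsLocalRing.eq_maximalIdeal this
  rw [← h, Ideal.mem_comap]

theorem map_maximalIdeal_pow' {E B : Type*} [CommRing E] [CommRing B] [IsLocalRing E]
    [IsLocalRing B] (f : E →+* B) (hf : Function.Surjective f) (n : ℕ) :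
    (maximalIdeal E ^ n).map f = maximalIdeal B ^ n := by
  rw [Ideal.map_pow]
  congr 1
  apply le_antisymm
  · rw [Ideal.map_le_iff_le_comap]
    intro e he
    exact (map_mem_maximalIdeal_iff' f hf e).2 he
  · intro r hr
    obtain ⟨e, rfl⟩ := hf r
    exact Ideal.mem_map_of_mem _ ((map_mem_maximalIdeal_iff' f hf e).1 hr)

theorem isAdicComplete_of_surjective {E R : Type*} [CommRing E] [CommRing R] [IsLocalRing E]
    [IsNoetherianRing E] [IsLocalRing R] (π : E →+* R) (hπ : Function.Surjective π)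
    [IsAdicComplete (maximalIdeal R) R] (n : ℕ)
    (hn : ∀ x ∈ maximalIdeal E ^ n, π x = 0 → x = 0) : IsAdicComplete (maximalIdeal E) E := by
  refine { toIsHausdorff := inferInstance, toIsPrecomplete := ⟨fun f hf => ?_⟩ }
  have hf' : ∀ {m m' : ℕ}, m ≤ m' → f m - f m' ∈ maximalIdeal E ^ m := by
    intro m m' h
    have := SModEq.sub_mem.1 (hf h)
    rwa [smul_eq_mul, Ideal.mul_top] at this
  have hmap := map_maximalIdeal_pow' π hπ
  obtain ⟨r, hr⟩ := IsPrecomplete.prec (I := maximalIdeal R) inferInstance (f := fun m => π (f m))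
    (by
      intro m m' h
      rw [SModEq.sub_mem, smul_eq_mul, Ideal.mul_top, ← map_sub, ← hmap]
      exact Ideal.mem_map_of_mem _ (hf' h))
  obtain ⟨e₀, rfl⟩ := hπ r
  have h3 : ∀ m, ∃ a ∈ maximalIdeal E ^ m, π a = π (f m - e₀) := by
    intro m
    have h := SModEq.sub_mem.1 (hr m)
    rw [smul_eq_mul, Ideal.mul_top, ← map_sub, ← hmap] at h
    exact (Ideal.mem_map_iff_of_surjective π hπ).1 h
  choose a ha1 ha2 using h3
  have h4 : ∀ m, n ≤ m → f m - e₀ - a m = f n - e₀ - a n := by
    intro m hm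
    rw [← sub_eq_zero]
    apply hn
    · have e1 : f m - e₀ - a m - (f n - e₀ - a n) = a n - a m - (f n - f m) := by ring
      rw [e1]
      exact Ideal.sub_mem _ (Ideal.sub_mem _ (ha1 n) (Ideal.pow_le_pow_right hm (ha1 m))) (hf' hm)
    · rw [map_sub, map_sub π (f m - e₀) (a m), map_sub π (f n - e₀) (a n), ha2, ha2]; ring
  refine ⟨e₀ + (f n - e₀ - a n), fun m => ?_⟩
  rw [SModEq.sub_mem, smul_eq_mul, Ideal.mul_top]
  rcases le_total n m with hm | hm
  · have e1 : f m - (e₀ + (f n - e₀ - a n)) = a m := by rw [← h4 m hm]; ring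
    rw [e1]; exact ha1 m
  · have e1 : f m - (e₀ + (f n - e₀ - a n)) = f m - f n + a n := by ring
    rw [e1]
    exact Ideal.add_mem _ (hf' hm) (Ideal.pow_le_pow_right hm (ha1 n))

end Complete

section Ext2

variable {Λ : Type u} {R L : Type v} [CommRing Λ] [CommRing R] [Algebra Λ R] [IsLocalRing R]
  [AddCommGroup L] [Module R L] [IsSimpleModule R L] (X : Ext Λ R L)

theorem isAdicCompleteE [IsNoetherianRing R] [IsAdicComplete (maximalIdeal R) R] [IsLocalRing X.E] :
    IsAdicComplete (maximalIdeal X.E) X.E := by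
  haveI := isNoetherianRingE X
  obtain ⟨n, hn⟩ := exists_pow_inf_ker X
  exact isAdicComplete_of_surjective (X.proj : X.E →+* R) X.isExtension.proj_surjective n hn

end Ext2

end Groth.Agent.Lib.Helper58.ExalL
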