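import Mathlib
import Groth.Prelude.Def_Exal2
import Groth.Agent.S0543
import Groth.Agent.Lib.Helper58.ExalBasic
import Groth.Agent.Lib.Helper58.ExalLocal

/-!
# Extensions of a local Noetherian ring and of its completion (helper58)

For a Noetherian local ring `R` with completion `(Compl R)` and a simple `R`-module `L` with compatible
`(Compl R)`-module structure, pullback along `R → (Compl R)` is bijective on classes of extensions by `L`.
-/

set_option autoImplicit false
universe u v

namespace Groth.Agent.Lib.Helper58.ExalC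

open Exal IsLocalRing Groth.Agent.Lib.Helper58.ExalB Groth.Agent.Lib.Helper58.ExalL

section Completion

/-- the completion of a local ring -/
abbrev Compl (R : Type v) [CommRing R] [IsLocalRing R] : Type v :=
  AdicCompletion (maximalIdeal R) R

variable (R : Type v) [CommRing R] [IsLocalRing R] [IsNoetherianRing R]

instance isNoetherianRing_completion : IsNoetherianRing (Compl R) := Groth.Agent.S0543.result R _

variable {R}

theorem evalₐ_algebraMap (n : ℕ) (r : R) :
    AdicCompletion.evalₐ (maximalIdeal R) n (algebraMap R (Compl R) r) = Ideal.Quotient.mk _ r := by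
  rw [AdicCompletion.algebraMap_apply, Algebra.algebraMap_self, RingHom.id_apply,
    AdicCompletion.evalₐ_of]

theorem evalₐ_eq_zero_of_mem_pow {n : ℕ} {ρ : (Compl R)} (h : ρ ∈ maximalIdeal (Compl R) ^ n) :
    AdicCompletion.evalₐ (maximalIdeal R) n ρ = 0 := by
  rw [AdicCompletion.maximalIdeal_eq_map, ← Ideal.map_pow] at h
  have : (maximalIdeal R ^ n).map (algebraMap R (Compl R)) ≤
      RingHom.ker (AdicCompletion.evalₐ (maximalIdeal R) n).toRingHom := by
    rw [Ideal.map_le_iff_le_comap]
    intro a ha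
    rw [Ideal.mem_comap, RingHom.mem_ker]
    change AdicCompletion.evalₐ (maximalIdeal R) n (algebraMap R (Compl R) a) = 0
    rw [evalₐ_algebraMap, Ideal.Quotient.eq_zero_iff_mem]
    exact ha
  exact this h

theorem algebraMap_mem_pow_iff (n : ℕ) (r : R) :
    algebraMap R (Compl R) r ∈ maximalIdeal (Compl R) ^ n ↔ r ∈ maximalIdeal R ^ n := by
  constructor
  · intro h
    have := evalₐ_eq_zero_of_mem_pow h
    rwa [evalₐ_algebraMap, Ideal.Quotient.eq_zero_iff_mem] at this
  · intro h
    rw [AdicCompletion.maximalIdeal_eq_map, ← Ideal.map_pow]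
    exact Ideal.mem_map_of_mem _ h

theorem algebraMap_mem_maximalIdeal_iff (r : R) :
    algebraMap R (Compl R) r ∈ maximalIdeal (Compl R) ↔ r ∈ maximalIdeal R := by
  have := algebraMap_mem_pow_iff 1 r
  rwa [pow_one, pow_one] at this

theorem mem_maximalIdeal_of_evalₐ_eq_zero {n : ℕ} (hn : n ≠ 0) {ρ : (Compl R)}
    (h : AdicCompletion.evalₐ (maximalIdeal R) n ρ = 0) : ρ ∈ maximalIdeal (Compl R) := by
  by_contra hρ
  have hu : IsUnit ρ := by
    rwa [mem_maximalIdeal, mem_nonunits_iff, not_not] at hρ
  have h1 := hu.map (AdicCompletion.evalₐ (maximalIdeal R) n)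
  rw [h] at h1
  have hne : maximalIdeal R ^ n ≠ ⊤ := by
    intro htop
    have : maximalIdeal R ^ n ≤ maximalIdeal R := Ideal.pow_le_self hn
    rw [htop] at this
    exact (Ideal.IsMaximal.ne_top (inferInstance : (maximalIdeal R).IsMaximal)) (top_le_iff.1 this)
  haveI : Nontrivial (R ⧸ maximalIdeal R ^ n) := Ideal.Quotient.nontrivial_iff.2 hne
  exact not_isUnit_zero h1

/-- approximating elements of the completion -/
theorem exists_sub_mem_pow (n : ℕ) (ρ : (Compl R)) :
    ∃ r : R, AdicCompletion.evalₐ (maximalIdeal R) n ρ = Ideal.Quotient.mk _ r :=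
  (Ideal.Quotient.mk_surjective _).imp fun _ h => h.symm

section Simple

variable {L : Type v} [AddCommGroup L] [Module (Compl R) L] [Module R L] [IsScalarTower R (Compl R) L]
  [IsSimpleModule R L]

theorem isSimpleModule_completion : IsSimpleModule (Compl R) L := by
  haveI : Nontrivial L := IsSimpleModule.nontrivial R L
  rw [isSimpleModule_iff]
  refine ⟨fun N => ?_⟩
  rcases eq_bot_or_eq_top (N.restrictScalars R) with h | h
  · left
    rw [eq_bot_iff]
    intro x hx
    have : x ∈ N.restrictScalars R := hx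
    rw [h] at this
    exact this
  · right
    rw [eq_top_iff]
    intro x _
    have : x ∈ N.restrictScalars R := by rw [h]; trivial
    exact this

end Simple

end Completion

section Extend

variable {Λ : Type u} {R L : Type v} [CommRing Λ] [CommRing R] [Algebra Λ R] [IsLocalRing R]
  [IsNoetherianRing R] [AddCommGroup L] [Module (Compl R) L] [IsSimpleModule (Compl R) L]
  (X : Ext Λ (Compl R) L) (s₀ : R →ₐ[Λ] X.E)
  (hs₀ : ∀ r, X.proj (s₀ r) = algebraMap R (Compl R) r)

include hs₀ in
theorem le_comap_of_lift [IsLocalRing X.E] (n : ℕ) :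
    maximalIdeal R ^ n ≤ (maximalIdeal X.E ^ n).comap s₀ := by
  rw [← Ideal.map_le_iff_le_comap, Ideal.map_pow]
  refine Ideal.pow_right_mono ?_ n
  rw [Ideal.map_le_iff_le_comap]
  intro r hr
  rw [Ideal.mem_comap]
  change s₀ r ∈ _
  rw [mem_maximalIdeal_iff X, hs₀, algebraMap_mem_maximalIdeal_iff]
  exact hr

include hs₀ in
/-- an extension of the completion whose pullback to `R` is trivial is trivial -/
theorem isTrivial_of_lift : X.IsTrivial := by
  haveI := isLocalRingE X
  haveI := isAdicCompleteE X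
  have hmem := le_comap_of_lift X s₀ hs₀
  let f : (n : ℕ) → Compl R →ₐ[Λ] X.E ⧸ maximalIdeal X.E ^ n := fun n =>
    (Ideal.quotientMapₐ (maximalIdeal X.E ^ n) s₀ (hmem n)).comp
      ((AdicCompletion.evalₐ (maximalIdeal R) n).restrictScalars Λ)
  have hf_mk : ∀ (n : ℕ) (x : AdicCompletion.AdicCauchySequence (maximalIdeal R) R),
      f n (AdicCompletion.mk _ _ x) = Ideal.Quotient.mk _ (s₀ (x n)) := by
    intro n x
    change Ideal.quotientMapₐ (maximalIdeal X.E ^ n) s₀ (hmem n)
      (AdicCompletion.evalₐ (maximalIdeal R) n (AdicCompletion.mk _ _ x)) = _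
    rw [AdicCompletion.evalₐ_mk]
    rfl
  have compat : ∀ {m n : ℕ} (hle : m ≤ n),
      (Ideal.Quotient.factorₐ Λ (Ideal.pow_le_pow_right hle)).comp (f n) = f m := by
    intro m n hle
    ext ρ
    obtain ⟨x, rfl⟩ := AdicCompletion.mk_surjective _ _ ρ
    rw [AlgHom.comp_apply, hf_mk, hf_mk]
    change Ideal.Quotient.mk _ (s₀ (x n)) = Ideal.Quotient.mk _ (s₀ (x m))
    rw [Ideal.Quotient.eq, ← map_sub]
    refine hmem m ?_
    have h1 := SModEq.sub_mem.1 (x.2 hle)
    rw [smul_eq_mul, Ideal.mul_top] at h1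
    have : x n - x m = -(x m - x n) := by ring
    rw [this]
    exact Ideal.neg_mem_iff _ |>.2 h1
  refine ⟨IsAdicComplete.liftAlgHom (maximalIdeal X.E) f compat, fun ρ => ?_⟩
  apply AdicCompletion.ext_evalₐ
  intro n
  obtain ⟨x, rfl⟩ := AdicCompletion.mk_surjective _ _ ρ
  have h1 : Ideal.Quotient.mk (maximalIdeal X.E ^ n)
      (IsAdicComplete.liftAlgHom (maximalIdeal X.E) f compat (AdicCompletion.mk _ _ x)) =
      Ideal.Quotient.mk _ (s₀ (x n)) := by
    rw [IsAdicComplete.mk_liftAlgHom, hf_mk]
  rw [Ideal.Quotient.eq] at h1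
  have h2 : X.proj (IsAdicComplete.liftAlgHom (maximalIdeal X.E) f compat
      (AdicCompletion.mk _ _ x) - s₀ (x n)) ∈ maximalIdeal (Compl R) ^ n := by
    rw [← map_maximalIdeal_pow X n]
    exact Ideal.mem_map_of_mem _ h1
  have h3 := evalₐ_eq_zero_of_mem_pow h2
  rw [map_sub, map_sub, hs₀, evalₐ_algebraMap, sub_eq_zero] at h3
  rw [h3, AdicCompletion.evalₐ_mk]

end Extend

section Injective

variable {Λ : Type u} {R L : Type v} [CommRing Λ] [CommRing R] [Algebra Λ R] [IsLocalRing R]
  [IsNoetherianRing R] [AddCommGroup L] [Module (Compl R) L] [Module R L]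
  [IsScalarTower R (Compl R) L] [IsSimpleModule R L]

/-- pullback along `R → R̂` is injective on classes of extensions by a simple module -/
theorem nonempty_equiv_of_pullback_equiv (X X' : Ext Λ (Compl R) L)
    (θ : Nonempty ((X.pullback R).Equiv (X'.pullback R))) : Nonempty (X.Equiv X') := by
  haveI := isSimpleModule_completion (R := R) (L := L)
  obtain ⟨θ⟩ := θ
  obtain ⟨ι, hι⟩ := exists_baseHom R X X' θ
  obtain ⟨σ, hσ⟩ := isTrivial_of_lift (diff X X') ι hι
  exact nonempty_equiv_of_section X X' σ hσ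

end Injective

section Surjective

variable {Λ : Type u} {R L : Type v} [CommRing Λ] [CommRing R] [Algebra Λ R] [IsLocalRing R]
  [IsNoetherianRing R] [AddCommGroup L] [Module (Compl R) L] [Module R L]
  [IsScalarTower R (Compl R) L] [IsSimpleModule R L]
  (Y : Ext Λ R L) [IsLocalRing Y.E] (N : ℕ)

omit [IsNoetherianRing R] [Module (Compl R) L] [IsScalarTower R (Compl R) L] in
theorem proj_mem_pow {e : Y.E} (he : e ∈ maximalIdeal Y.E ^ N) : Y.proj e ∈ maximalIdeal R ^ N := by
  rw [← map_maximalIdeal_pow Y N]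
  exact Ideal.mem_map_of_mem _ he

omit [IsNoetherianRing R] [Module (Compl R) L] [IsScalarTower R (Compl R) L] in
theorem exists_of_proj_mem_pow {e : Y.E} (h : Y.proj e ∈ maximalIdeal R ^ N) :
    ∃ a ∈ maximalIdeal Y.E ^ N, Y.proj a = Y.proj e := by
  rw [← map_maximalIdeal_pow Y N] at h
  exact (Ideal.mem_map_iff_of_surjective _ Y.isExtension.proj_surjective).1 h

/-- the map `E ⧸ m_E ^ N → R ⧸ m_R ^ N` -/
noncomputable def projMod : Y.E ⧸ maximalIdeal Y.E ^ N →ₐ[Λ] R ⧸ maximalIdeal R ^ N :=
  Ideal.quotientMapₐ (maximalIdeal R ^ N) Y.proj (fun _ he => proj_mem_pow Y N he)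

omit [IsNoetherianRing R] [Module (Compl R) L] [IsScalarTower R (Compl R) L] in
theorem projMod_mk (e : Y.E) :
    projMod Y N (Ideal.Quotient.mk _ e) = Ideal.Quotient.mk _ (Y.proj e) := rfl

/-- the middle ring of the extension of the completion: `E ⧸ m_E ^ N ×_{R ⧸ m_R ^ N} R̂` -/
noncomputable def complCarrier : Subalgebra Λ ((Y.E ⧸ maximalIdeal Y.E ^ N) × Compl R) :=
  AlgHom.equalizer ((projMod Y N).comp (AlgHom.fst Λ _ _))
    (((AdicCompletion.evalₐ (maximalIdeal R) N).restrictScalars Λ).comp (AlgHom.snd Λ _ _))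

omit [Module (Compl R) L] [IsScalarTower R (Compl R) L] in
theorem mem_complCarrier (x : (Y.E ⧸ maximalIdeal Y.E ^ N) × Compl R) :
    x ∈ complCarrier Y N ↔ projMod Y N x.1 = AdicCompletion.evalₐ (maximalIdeal R) N x.2 :=
  Iff.rfl

omit [Module (Compl R) L] [IsScalarTower R (Compl R) L] in
theorem complCarrier_prop (x : complCarrier Y N) :
    projMod Y N x.1.1 = AdicCompletion.evalₐ (maximalIdeal R) N x.1.2 := x.2

/-- the element `(incl z, 0)` -/
noncomputable def complInclElt (z : L) : complCarrier Y N :=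
  ⟨(Ideal.Quotient.mk _ (Y.incl z), 0), by
    rw [mem_complCarrier]
    change projMod Y N (Ideal.Quotient.mk _ (Y.incl z)) =
      AdicCompletion.evalₐ (maximalIdeal R) N 0
    rw [projMod_mk, proj_incl, map_zero, map_zero]⟩

/-- the inclusion of `L` -/
noncomputable def complIncl : L →+ complCarrier Y N where
  toFun := complInclElt Y N
  map_zero' := by
    apply Subtype.ext
    change ((Ideal.Quotient.mk _ (Y.incl 0), 0) : (Y.E ⧸ maximalIdeal Y.E ^ N) × Compl R) = 0
    rw [map_zero, map_zero]; rfl
  map_add' z w := by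
    apply Subtype.ext
    change ((Ideal.Quotient.mk _ (Y.incl (z + w)), 0) : (Y.E ⧸ maximalIdeal Y.E ^ N) × Compl R) =
      (Ideal.Quotient.mk _ (Y.incl z), 0) + (Ideal.Quotient.mk _ (Y.incl w), 0)
    rw [map_add, map_add, Prod.mk_add_mk, add_zero]

omit [Module (Compl R) L] [IsScalarTower R (Compl R) L] in
theorem complIncl_fst (z : L) : (complIncl Y N z).1.1 = Ideal.Quotient.mk _ (Y.incl z) := rfl

omit [Module (Compl R) L] [IsScalarTower R (Compl R) L] in
theorem complIncl_snd (z : L) : (complIncl Y N z).1.2 = 0 := rfl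

/-- the extension of the completion attached to an extension of `R` -/
noncomputable def complExt (hN : N ≠ 0)
    (hker : ∀ x ∈ maximalIdeal Y.E ^ N, Y.proj x = 0 → x = 0) : Ext Λ (Compl R) L where
  E := complCarrier Y N
  proj := (AlgHom.snd Λ _ _).comp (complCarrier Y N).val
  incl := complIncl Y N
  isExtension :=
    { proj_surjective := fun ρ => by
        obtain ⟨r, hr⟩ := exists_sub_mem_pow N ρ
        obtain ⟨e, he⟩ := Y.isExtension.proj_surjective r
        refine ⟨⟨(Ideal.Quotient.mk _ e, ρ), ?_⟩, rfl⟩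
        rw [mem_complCarrier]
        change projMod Y N (Ideal.Quotient.mk _ e) = AdicCompletion.evalₐ (maximalIdeal R) N ρ
        rw [projMod_mk, he, hr]
      incl_injective := by
        rw [injective_iff_map_eq_zero]
        intro z hz
        have h1 : (complIncl Y N z).1.1 = 0 := by rw [hz]; rfl
        rw [complIncl_fst, Ideal.Quotient.eq_zero_iff_mem] at h1
        exact (incl_eq_zero_iff Y z).1 (hker _ h1 (proj_incl Y z))
      exact := fun x => by
        constructor
        · intro hx
          have hx2 : x.1.2 = 0 := hx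
          obtain ⟨e, he⟩ := Ideal.Quotient.mk_surjective x.1.1
          have h1 := complCarrier_prop Y N x
          rw [hx2, map_zero, ← he, projMod_mk, Ideal.Quotient.eq_zero_iff_mem] at h1
          obtain ⟨a, ha, hae⟩ := exists_of_proj_mem_pow Y N h1
          obtain ⟨z, hz⟩ := exists_eq_add_incl Y hae.symm
          refine ⟨z, ?_⟩
          apply Subtype.ext
          apply Prod.ext
          · change Ideal.Quotient.mk _ (Y.incl z) = x.1.1
            rw [← he, Ideal.Quotient.eq]
            have : Y.incl z - e = -a := by rw [hz]; ring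
            rw [this]
            exact Ideal.neg_mem_iff _ |>.2 ha
          · exact hx2.symm
        · rintro ⟨z, rfl⟩
          rfl
      mul_incl := fun x z => by
        obtain ⟨e, he⟩ := Ideal.Quotient.mk_surjective x.1.1
        haveI := isSimpleModule_completion (R := R) (L := L)
        have h1 := complCarrier_prop Y N x
        rw [← he, projMod_mk, ← evalₐ_algebraMap, ← sub_eq_zero, ← map_sub] at h1
        have h2 := mem_maximalIdeal_of_evalₐ_eq_zero hN h1
        have h3 : x.1.2 • z = Y.proj e • z := by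
          have := smul_eq_zero_of_mem h2 z
          rw [sub_smul, algebraMap_smul, sub_eq_zero] at this
          exact this.symm
        apply Subtype.ext
        apply Prod.ext
        · change x.1.1 * Ideal.Quotient.mk _ (Y.incl z) = Ideal.Quotient.mk _ (Y.incl (x.1.2 • z))
          rw [← he, ← map_mul, Y.isExtension.mul_incl, h3]
        · change x.1.2 * 0 = 0
          exact mul_zero _ }

omit [IsLocalRing Y.E] in
/-- pullback along `R → R̂` is surjective on classes of extensions by a simple module -/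
theorem exists_completion_ext :
    ∃ X : Ext Λ (Compl R) L, Nonempty ((X.pullback R).Equiv Y) := by
  haveI := isLocalRingE Y
  obtain ⟨n, hn⟩ := exists_pow_inf_ker Y
  have hker : ∀ x ∈ maximalIdeal Y.E ^ (n + 1), Y.proj x = 0 → x = 0 :=
    fun x hx => hn x (Ideal.pow_le_pow_right (Nat.le_succ n) hx)
  let X : Ext Λ (Compl R) L := complExt Y (n + 1) (Nat.succ_ne_zero n) hker
  let φ₁ : Y.E →ₐ[Λ] X.E :=
    AlgHom.codRestrict (AlgHom.prod (Ideal.Quotient.mkₐ Λ _)
      ((IsScalarTower.toAlgHom Λ R (Compl R)).comp Y.proj)) (complCarrier Y (n + 1))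
      (fun e => by
        rw [mem_complCarrier]
        change projMod Y (n + 1) (Ideal.Quotient.mk _ e) =
          AdicCompletion.evalₐ (maximalIdeal R) (n + 1) (algebraMap R (Compl R) (Y.proj e))
        rw [projMod_mk, evalₐ_algebraMap])
  let φ : Y.E →ₐ[Λ] (X.pullback R).E :=
    AlgHom.codRestrict (AlgHom.prod φ₁ Y.proj) (X.fiberProd R) (fun e => rfl)
  refine ⟨X, ⟨(equivOfHom Y (X.pullback R) φ (fun e => rfl) (fun z => ?_)).symm⟩⟩
  apply Subtype.ext
  apply Prod.ext
  · apply Subtype.ext
    apply Prod.ext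
    · rfl
    · change algebraMap R (Compl R) (Y.proj (Y.incl z)) = 0
      rw [proj_incl, map_zero]
  · change Y.proj (Y.incl z) = 0
    exact proj_incl Y z

end Surjective

end Groth.Agent.Lib.Helper58.ExalC
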