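import Mathlib
import Groth.Prelude.Def_Exal2
import Groth.Agent.Lib.Helper58.ExalBasic

/-!
# Extensions of a quotient `C ⧸ J` through lifts of `C → C ⧸ J` (helper58)

For `X : Exal.Ext A (C ⧸ J) L` and an algebra map `g : C → X.E` lifting the quotient map:
* `ofLift X g`: the surjection `C ⊕ L → X.E`, `(c, z) ↦ g c + incl z`;
* `nonempty_equiv_of_agree`: extensions whose lifts agree on `J` are equivalent;
* `exists_ext_of_linear`: every `C`-linear map `J → L` is the restriction of a lift.
-/

set_option autoImplicit false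
universe u v

namespace Groth.Agent.Lib.Helper58.ExalP

open Exal Groth.Agent.Lib.Helper58.ExalB

attribute [local instance] Exal.opModule Exal.isCentralScalar_opModule

variable {A : Type u} {C L : Type v} [CommRing A] [CommRing C] [Algebra A C] (J : Ideal C)
  [AddCommGroup L] [Module (C ⧸ J) L] [Module C L] [IsScalarTower C (C ⧸ J) L]

theorem mk_smul (c : C) (z : L) : (Ideal.Quotient.mk J c) • z = c • z := by
  rw [← Ideal.Quotient.algebraMap_eq J, algebraMap_smul]

theorem smul_eq_zero_of_mem {j : C} (hj : j ∈ J) (z : L) : j • z = 0 := by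
  rw [← mk_smul J, Ideal.Quotient.eq_zero_iff_mem.2 hj, zero_smul]

section Lift

variable {J} (X : Ext A (C ⧸ J) L) (g : C →ₐ[A] X.E) (hg : ∀ c, X.proj (g c) = Ideal.Quotient.mk J c)

/-- the map `C ⊕ L → X.E`, `(c, z) ↦ g c + incl z` -/
noncomputable def ofLift : (Ext.trivial A C L).E →ₐ[A] X.E where
  toFun x := g (fstT x) + X.incl (sndT x)
  map_one' := by
    rw [fstT_one, sndT_one, map_one, map_zero, add_zero]
  map_mul' x y := by
    rw [fstT_mul, sndT_mul, map_mul, map_add]
    have h1 : g (fstT x) * X.incl (sndT y) = X.incl (fstT x • sndT y) := by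
      rw [X.isExtension.mul_incl, hg, mk_smul]
    have h2 : X.incl (sndT x) * g (fstT y) = X.incl (fstT y • sndT x) := by
      rw [mul_incl', hg, mk_smul]
    have h3 := incl_mul_incl X (sndT x) (sndT y)
    rw [add_mul, mul_add, mul_add, h1, h2, h3]
    abel
  map_zero' := by
    rw [fstT_zero, sndT_zero, map_zero, map_zero, add_zero]
  map_add' x y := by
    rw [fstT_add, sndT_add, map_add, map_add]
    abel
  commutes' a := by
    rw [fstT_algebraMap, sndT_algebraMap, map_zero, add_zero, g.commutes]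

theorem ofLift_apply (x : (Ext.trivial A C L).E) :
    ofLift X g hg x = g (fstT x) + X.incl (sndT x) := rfl

theorem proj_ofLift (x : (Ext.trivial A C L).E) :
    X.proj (ofLift X g hg x) = Ideal.Quotient.mk J (fstT x) := by
  rw [ofLift_apply, map_add, hg, proj_incl, add_zero]

theorem ofLift_incl (z : L) : ofLift X g hg ((Ext.trivial A C L).incl z) = X.incl z := by
  rw [ofLift_apply, fstT_incl, sndT_incl, map_zero, zero_add]

theorem ofLift_surjective : Function.Surjective (ofLift X g hg) := by
  intro e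
  obtain ⟨c, hc⟩ := Ideal.Quotient.mk_surjective (X.proj e)
  obtain ⟨z, hz⟩ := exists_eq_add_incl X (x := e) (y := g c) (by rw [hg, hc])
  refine ⟨mkT c z, ?_⟩
  rw [ofLift_apply, fstT_mkT, sndT_mkT, ← hz]

end Lift

variable {J} in
/-- extensions whose lifts agree on `J` are equivalent -/
theorem nonempty_equiv_of_agree (X X' : Ext A (C ⧸ J) L) (g : C →ₐ[A] X.E) (g' : C →ₐ[A] X'.E)
    (hg : ∀ c, X.proj (g c) = Ideal.Quotient.mk J c)
    (hg' : ∀ c, X'.proj (g' c) = Ideal.Quotient.mk J c)
    (h : ∀ j ∈ J, ∃ z : L, X.incl z = g j ∧ X'.incl z = g' j) : Nonempty (X.Equiv X') := by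
  obtain ⟨φ, hφ⟩ := exists_algHom_of_surjective (ofLift X g hg) (ofLift_surjective X g hg)
    (ofLift X' g' hg') (fun x hx => by
      have hj : fstT x ∈ J := by
        rw [← Ideal.Quotient.eq_zero_iff_mem, ← proj_ofLift X g hg, hx, map_zero]
      obtain ⟨z, hz1, hz2⟩ := h _ hj
      rw [ofLift_apply, ← hz1, ← map_add, incl_eq_zero_iff] at hx
      rw [ofLift_apply, ← hz2, ← map_add, hx, map_zero])
  refine ⟨equivOfHom X X' φ (fun e => ?_) (fun z => ?_)⟩
  · obtain ⟨x, rfl⟩ := ofLift_surjective X g hg e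
    rw [hφ, proj_ofLift, proj_ofLift]
  · rw [← ofLift_incl X g hg, hφ, ofLift_incl]

section Linear

variable (A) (δ : J →ₗ[C] L)

/-- the ideal `{(j, -δ j)}` of `C ⊕ L` -/
def linIdeal : Ideal (Ext.trivial A C L).E where
  carrier := {x | ∃ j : J, fstT x = j ∧ sndT x = - δ j}
  add_mem' := by
    rintro x y ⟨j, hj1, hj2⟩ ⟨j', hj'1, hj'2⟩
    refine ⟨j + j', ?_, ?_⟩
    · rw [fstT_add, hj1, hj'1, Submodule.coe_add]
    · rw [sndT_add, hj2, hj'2, map_add, neg_add]
  zero_mem' := ⟨0, by rw [fstT_zero, Submodule.coe_zero], by rw [sndT_zero, map_zero, neg_zero]⟩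
  smul_mem' := by
    rintro t x ⟨j, hj1, hj2⟩
    refine ⟨fstT t • j, ?_, ?_⟩
    · rw [smul_eq_mul, fstT_mul, hj1, Submodule.coe_smul, smul_eq_mul]
    · rw [smul_eq_mul, sndT_mul, hj1, hj2, smul_eq_zero_of_mem J j.2, add_zero, map_smul, smul_neg]

theorem mem_linIdeal (x : (Ext.trivial A C L).E) :
    x ∈ linIdeal A J δ ↔ ∃ j : J, fstT x = j ∧ sndT x = - δ j := Iff.rfl

/-- the projection of the extension attached to `δ` -/
noncomputable def linProj : ((Ext.trivial A C L).E ⧸ linIdeal A J δ) →ₐ[A] (C ⧸ J) :=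
  Ideal.Quotient.liftₐ (linIdeal A J δ) ((Ideal.Quotient.mkₐ A J).comp (Ext.trivial A C L).proj)
    (by
      rintro x ⟨j, hj1, _⟩
      change Ideal.Quotient.mk J (fstT x) = 0
      rw [hj1, Ideal.Quotient.eq_zero_iff_mem]
      exact j.2)

theorem linProj_mk (x : (Ext.trivial A C L).E) :
    linProj A J δ (Ideal.Quotient.mk _ x) = Ideal.Quotient.mk J (fstT x) := rfl

/-- the extension attached to a linear map `δ : J → L`: the quotient of `C ⊕ L` by `{(j, -δ j)}` -/
noncomputable def extOfLinear : Ext A (C ⧸ J) L where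
  E := (Ext.trivial A C L).E ⧸ linIdeal A J δ
  proj := linProj A J δ
  incl := (Ideal.Quotient.mk (linIdeal A J δ) : _ →+* _).toAddMonoidHom.comp (Ext.trivial A C L).incl
  isExtension :=
    { proj_surjective := fun b => by
        obtain ⟨c, rfl⟩ := Ideal.Quotient.mk_surjective b
        exact ⟨Ideal.Quotient.mk _ (mkT c 0), by rw [linProj_mk, fstT_mkT]⟩
      incl_injective := by
        rw [injective_iff_map_eq_zero]
        intro z hz
        change Ideal.Quotient.mk _ ((Ext.trivial A C L).incl z) = 0 at hz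
        rw [Ideal.Quotient.eq_zero_iff_mem, mem_linIdeal] at hz
        obtain ⟨j, hj1, hj2⟩ := hz
        rw [fstT_incl] at hj1
        rw [sndT_incl] at hj2
        have hj0 : j = 0 := Subtype.ext hj1.symm
        rw [hj2, hj0, map_zero, neg_zero]
      exact := fun x => by
        obtain ⟨x, rfl⟩ := Ideal.Quotient.mk_surjective x
        rw [linProj_mk, Ideal.Quotient.eq_zero_iff_mem]
        constructor
        · intro hj
          refine ⟨sndT x + δ ⟨fstT x, hj⟩, ?_⟩
          change Ideal.Quotient.mk _ ((Ext.trivial A C L).incl _) = _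
          rw [eq_comm, Ideal.Quotient.eq, mem_linIdeal]
          refine ⟨⟨fstT x, hj⟩, ?_, ?_⟩
          · change fstT x - fstT ((Ext.trivial A C L).incl _) = fstT x
            rw [fstT_incl, sub_zero]
          · change sndT x - sndT ((Ext.trivial A C L).incl _) = _
            rw [sndT_incl]; abel
        · rintro ⟨z, hz⟩
          change Ideal.Quotient.mk _ ((Ext.trivial A C L).incl z) = _ at hz
          rw [Ideal.Quotient.eq, mem_linIdeal] at hz
          obtain ⟨j, hj1, _⟩ := hz
          have hj1' : fstT ((Ext.trivial A C L).incl z) - fstT x = j := hj1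
          rw [fstT_incl, zero_sub] at hj1'
          have : fstT x = -j := by rw [← hj1', neg_neg]
          rw [this]
          exact J.neg_mem j.2
      mul_incl := fun x z => by
        obtain ⟨x, rfl⟩ := Ideal.Quotient.mk_surjective x
        change Ideal.Quotient.mk _ x * Ideal.Quotient.mk _ ((Ext.trivial A C L).incl z) =
          Ideal.Quotient.mk _ ((Ext.trivial A C L).incl (linProj A J δ (Ideal.Quotient.mk _ x) • z))
        rw [← map_mul, linProj_mk, mk_smul, (Ext.trivial A C L).isExtension.mul_incl]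
        rfl }

/-- the canonical lift `C → (extOfLinear δ).E` -/
noncomputable def liftOfLinear : C →ₐ[A] (extOfLinear A J δ).E :=
  (Ideal.Quotient.mkₐ A (linIdeal A J δ)).comp
    ({ toFun := fun c => mkT c 0
       map_one' := by apply extT <;> simp [fstT_mkT, sndT_mkT, fstT_one, sndT_one]
       map_mul' := fun c c' => by
         apply extT
         · rw [fstT_mul, fstT_mkT, fstT_mkT, fstT_mkT]
         · rw [sndT_mul, sndT_mkT, sndT_mkT, sndT_mkT, smul_zero, smul_zero, add_zero]
       map_zero' := by apply extT <;> simp [fstT_mkT, sndT_mkT, fstT_zero, sndT_zero]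
       map_add' := fun c c' => by
         apply extT
         · rw [fstT_add, fstT_mkT, fstT_mkT, fstT_mkT]
         · rw [sndT_add, sndT_mkT, sndT_mkT, sndT_mkT, add_zero]
       commutes' := fun a => by
         apply extT
         · rw [fstT_mkT, fstT_algebraMap]
         · rw [sndT_mkT, sndT_algebraMap] } : C →ₐ[A] (Ext.trivial A C L).E)

theorem liftOfLinear_apply (c : C) :
    liftOfLinear A J δ c = Ideal.Quotient.mk (linIdeal A J δ) (mkT c 0) := rfl

theorem proj_liftOfLinear (c : C) :
    (extOfLinear A J δ).proj (liftOfLinear A J δ c) = Ideal.Quotient.mk J c := by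
  change linProj A J δ (Ideal.Quotient.mk _ (mkT c 0)) = _
  rw [linProj_mk, fstT_mkT]

theorem incl_eq_liftOfLinear (j : J) :
    (extOfLinear A J δ).incl (δ j) = liftOfLinear A J δ j := by
  change Ideal.Quotient.mk _ ((Ext.trivial A C L).incl (δ j)) = Ideal.Quotient.mk _ (mkT (j : C) 0)
  rw [eq_comm, Ideal.Quotient.eq, mem_linIdeal]
  refine ⟨j, ?_, ?_⟩
  · change fstT (mkT (j : C) 0) - fstT ((Ext.trivial A C L).incl (δ j)) = j
    rw [fstT_mkT, fstT_incl, sub_zero]
  · change sndT (mkT (j : C) (0 : L)) - sndT ((Ext.trivial A C L).incl (δ j)) = _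
    rw [sndT_mkT, sndT_incl, zero_sub]

/-- every linear map `J → L` is the restriction of a lift -/
theorem exists_ext_of_linear : ∃ (X : Ext A (C ⧸ J) L) (g : C →ₐ[A] X.E),
    (∀ c, X.proj (g c) = Ideal.Quotient.mk J c) ∧ ∀ j : J, X.incl (δ j) = g j :=
  ⟨extOfLinear A J δ, liftOfLinear A J δ, proj_liftOfLinear A J δ, incl_eq_liftOfLinear A J δ⟩

end Linear

end Groth.Agent.Lib.Helper58.ExalP
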