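import Mathlib
import Groth.Prelude.Def_Exal2
import Groth.Agent.Lib.Helper58.ExalBasic
import Groth.Agent.Lib.Helper58.ExalLocal
import Groth.Agent.Lib.Helper58.ExalCompl
import Groth.Agent.Lib.Helper58.PSComplete
import Groth.Agent.Lib.Helper90.PSSurj

/-!
# A uniform power of the maximal ideal for extensions by a simple module (helper58)

For a Noetherian local `Λ`-algebra `R` whose residue field is generated by `Λ`, there is `n` such
that every `Λ`-extension of `R` by a simple module `L` contains an ideal meeting the kernel trivially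
with image `m_R ^ (n + 1)`.
-/

set_option autoImplicit false
universe u v

namespace Groth.Agent.Lib.Helper58.ExalU

open Exal IsLocalRing Groth.Agent.Lib.Helper58.ExalB Groth.Agent.Lib.Helper58.ExalL
  Groth.Agent.Lib.Helper58.ExalC

section Presentation

variable {Λ : Type u} {S L P : Type v} [CommRing Λ] [CommRing S] [Algebra Λ S] [IsLocalRing S]
  [AddCommGroup L] [Module S L] [IsSimpleModule S L]
  [CommRing P] [Algebra Λ P] [IsNoetherianRing P] (π : P →ₐ[Λ] S) (hπ : Function.Surjective π)

include hπ in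
/-- if every extension of `S` admits a lift of the presentation `π : P → S`, a uniform power of the
maximal ideal works for all extensions -/
theorem exists_uniform_of_lifts
    (hlift : ∀ X : Ext Λ S L, ∃ u : P →ₐ[Λ] X.E, ∀ p, X.proj (u p) = π p) :
    ∃ n : ℕ, ∀ X : Ext Λ S L, ∃ I : Ideal X.E, (∀ x ∈ I, X.proj x = 0 → x = 0) ∧
      Ideal.map X.proj I = maximalIdeal S ^ (n + 1) := by
  set 𝔫 : Ideal P := (maximalIdeal S).comap π with h𝔫
  set J : Ideal P := RingHom.ker (π : P →+* S) with hJ
  obtain ⟨k, hk⟩ := Ideal.exists_pow_inf_eq_pow_smul 𝔫 (J : Submodule P P)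
  have hAR : 𝔫 ^ (k + 1) ⊓ J ≤ 𝔫 * J := by
    have h1 := hk (k + 1) (Nat.le_succ k)
    rw [Nat.add_sub_cancel_left, pow_one, smul_eq_mul, Ideal.mul_top] at h1
    have h1' : 𝔫 ^ (k + 1) ⊓ J = 𝔫 • (𝔫 ^ k • ⊤ ⊓ J) := h1
    rw [h1', smul_eq_mul]
    exact Ideal.mul_mono_right inf_le_right
  have hmapπ : ∀ m : ℕ, (𝔫 ^ m).map π = maximalIdeal S ^ m := fun m => by
    rw [Ideal.map_pow, h𝔫, Ideal.map_comap_of_surjective π hπ]
  have h𝔫mem : ∀ {q : P}, q ∈ 𝔫 ^ (k + 1) → π q ∈ maximalIdeal S := fun {q} hq => by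
    have : q ∈ 𝔫 := Ideal.pow_le_self (Nat.succ_ne_zero k) hq
    exact this
  refine ⟨k, fun X => ?_⟩
  obtain ⟨u, hu⟩ := hlift X
  refine ⟨Ideal.map u (𝔫 ^ (k + 1)), ?_, ?_⟩
  · -- every element of the ideal is `u q`
    have hA : ∀ x ∈ Ideal.map u (𝔫 ^ (k + 1)), ∃ q ∈ 𝔫 ^ (k + 1), x = u q := by
      intro x hx
      refine Submodule.span_induction (p := fun x _ => ∃ q ∈ 𝔫 ^ (k + 1), x = u q)
        ?_ ?_ ?_ ?_ hx
      · rintro _ ⟨q, hq, rfl⟩
        exact ⟨q, hq, rfl⟩
      · exact ⟨0, zero_mem _, (map_zero u).symm⟩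
      · rintro x y _ _ ⟨q, hq, rfl⟩ ⟨q', hq', rfl⟩
        exact ⟨q + q', add_mem hq hq', (map_add u q q').symm⟩
      · rintro e x _ ⟨q, hq, rfl⟩
        obtain ⟨p, hp⟩ := hπ (X.proj e)
        have h0 : X.proj (e - u p) = 0 := by rw [map_sub, hu, hp, sub_self]
        have h1 : u q * (e - u p) = 0 :=
          mul_eq_zero_of_proj X _ _ (by rw [hu]; exact h𝔫mem hq) h0
        refine ⟨p * q, Ideal.mul_mem_left _ _ hq, ?_⟩
        rw [smul_eq_mul, map_mul]
        have : e * u q = u p * u q + u q * (e - u p) := by ring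
        rw [this, h1, add_zero]
    intro x hx hpx
    obtain ⟨q, hq, rfl⟩ := hA x hx
    rw [hu] at hpx
    have hqJ : q ∈ 𝔫 * J := hAR ⟨hq, hpx⟩
    refine Submodule.mul_induction_on hqJ (fun a ha j hj => ?_) (fun x y hx hy => ?_)
    · rw [map_mul]
      exact mul_eq_zero_of_proj X _ _ (by rw [hu]; exact ha) (by rw [hu]; exact hj)
    · rw [map_add, hx, hy, add_zero]
  · apply le_antisymm
    · rw [Ideal.map_le_iff_le_comap]
      intro x hx
      rw [Ideal.mem_comap]
      refine Submodule.span_induction (p := fun x _ => X.proj x ∈ maximalIdeal S ^ (k + 1))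
        ?_ ?_ ?_ ?_ hx
      · rintro _ ⟨q, hq, rfl⟩
        change X.proj (u q) ∈ _
        rw [hu, ← hmapπ]
        exact Ideal.mem_map_of_mem _ hq
      · rw [map_zero]; exact zero_mem _
      · intro x y _ _ hx hy
        rw [map_add]; exact add_mem hx hy
      · intro e x _ hx
        rw [smul_eq_mul, map_mul]
        exact Ideal.mul_mem_left _ _ hx
    · intro s hs
      rw [← hmapπ] at hs
      obtain ⟨q, hq, rfl⟩ := (Ideal.mem_map_iff_of_surjective π hπ).1 hs
      rw [← hu]
      exact Ideal.mem_map_of_mem _ (Ideal.mem_map_of_mem _ hq)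

end Presentation

section PowerSeries

variable {Λ : Type u} {S L : Type v} [CommRing Λ] [CommRing S] [Algebra Λ S] [IsLocalRing S]
  [IsNoetherianRing S] [IsAdicComplete (maximalIdeal S) S]
  [AddCommGroup L] [Module S L] [IsSimpleModule S L]
  {d : ℕ} (π : MvPowerSeries (Fin d) Λ →ₐ[Λ] S) (hπ : ∀ i, π (MvPowerSeries.X i) ∈ maximalIdeal S)

include hπ in
/-- algebra maps from a power series ring lift along extensions of a complete local ring by a
simple module -/
theorem exists_lift_powerSeries (X : Ext Λ S L) :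
    ∃ u : MvPowerSeries (Fin d) Λ →ₐ[Λ] X.E, ∀ p, X.proj (u p) = π p := by
  haveI := isLocalRingE X
  haveI := isAdicCompleteE X
  choose e he using fun i : Fin d => X.isExtension.proj_surjective (π (MvPowerSeries.X i))
  have hem : ∀ i, e i ∈ maximalIdeal X.E := fun i => by
    rw [mem_maximalIdeal_iff X, he]
    exact hπ i
  refine ⟨PSComplete.evalComplete (R := Λ) (maximalIdeal X.E) e hem, fun p => ?_⟩
  have h1 := PSComplete.algHom_ext_of_X (maximalIdeal S)
    (X.proj.comp (PSComplete.evalComplete (R := Λ) (maximalIdeal X.E) e hem)) π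
    (fun i => by
      rw [AlgHom.comp_apply, PSComplete.evalComplete_X, he]
      exact hπ i)
    (fun i => by
      rw [AlgHom.comp_apply, PSComplete.evalComplete_X, he])
  exact AlgHom.congr_fun h1 p

end PowerSeries

section Transport

variable {Λ : Type u} {R L : Type v} [CommRing Λ] [CommRing R] [Algebra Λ R] [IsLocalRing R]
  [IsNoetherianRing R] [AddCommGroup L] [Module (ExalC.Compl R) L] [Module R L]
  [IsScalarTower R (ExalC.Compl R) L]

/-- transport of the ideal from an extension of the completion to its pullback -/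
theorem exists_ideal_of_completion (n : ℕ) (X : Ext Λ R L) (X' : Ext Λ (ExalC.Compl R) L)
    (e : (X'.pullback R).Equiv X) (I' : Ideal X'.E) (h1 : ∀ x ∈ I', X'.proj x = 0 → x = 0)
    (h2 : Ideal.map X'.proj I' = maximalIdeal (ExalC.Compl R) ^ n) :
    ∃ I : Ideal X.E, (∀ x ∈ I, X.proj x = 0 → x = 0) ∧
      Ideal.map X.proj I = maximalIdeal R ^ n := by
  let q : (X'.pullback R).E →+* X'.E := ((AlgHom.fst Λ X'.E R).comp (X'.fiberProd R).val).toRingHom
  let ψ : X.E →+* X'.E := q.comp (e.toAlgEquiv.symm : X.E →+* (X'.pullback R).E)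
  have hψ : ∀ x, ψ x = (e.toAlgEquiv.symm x).1.1 := fun x => rfl
  have hψproj : ∀ x, X'.proj (ψ x) = algebraMap R (ExalC.Compl R) (X.proj x) := fun x => by
    rw [hψ, pullback_prop, ← pullback_proj_apply, ← e.proj_apply, AlgEquiv.apply_symm_apply]
  have hψincl : ∀ z, ψ (X.incl z) = X'.incl z := fun z => by
    rw [hψ, ← e.apply_incl, AlgEquiv.symm_apply_apply, pullback_incl_fst]
  refine ⟨I'.comap ψ, ?_, ?_⟩
  · intro x hx hpx
    obtain ⟨z, rfl⟩ := exists_incl_of_proj_eq_zero X hpx
    rw [Ideal.mem_comap, hψincl] at hx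
    have := h1 _ hx (proj_incl X' z)
    rw [incl_eq_zero_iff] at this
    rw [this, map_zero]
  · apply le_antisymm
    · rw [Ideal.map_le_iff_le_comap]
      intro x hx
      rw [Ideal.mem_comap] at hx ⊢
      rw [← algebraMap_mem_pow_iff, ← hψproj, ← h2]
      exact Ideal.mem_map_of_mem _ hx
    · intro r hr
      rw [← algebraMap_mem_pow_iff, ← h2] at hr
      obtain ⟨e', he', he'r⟩ := (Ideal.mem_map_iff_of_surjective X'.proj
        X'.isExtension.proj_surjective).1 hr
      let y : (X'.pullback R).E := ⟨(e', r), he'r⟩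
      have hy : ψ (e.toAlgEquiv y) = e' := by
        rw [hψ, AlgEquiv.symm_apply_apply]
      have : X.proj (e.toAlgEquiv y) = r := by
        rw [e.proj_apply]; rfl
      rw [← this]
      refine Ideal.mem_map_of_mem _ ?_
      rw [Ideal.mem_comap, hy]
      exact he'

end Transport

section Final

variable {Λ : Type u} {R : Type u} [CommRing Λ] [CommRing R] [Algebra Λ R]
  [IsLocalRing R] [IsNoetherianRing R]

/-- the completion acts on the residue field -/
noncomputable def resModule : Module (ExalC.Compl R) (ResidueField R) :=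
  Module.compHom (ResidueField R)
    (show ExalC.Compl R →+* ResidueField R from
      (AdicCompletion.evalOneₐ (maximalIdeal R)).toRingHom)

theorem isScalarTower_resModule :
    @IsScalarTower R (ExalC.Compl R) (ResidueField R) _ (resModule (R := R)).toSMul _ := by
  letI := resModule (R := R)
  refine ⟨fun r ρ z => ?_⟩
  have h : ∀ (ρ : ExalC.Compl R) (z : ResidueField R),
      ρ • z = (show ResidueField R from AdicCompletion.evalOneₐ (maximalIdeal R) ρ) * z :=
    fun _ _ => rfl
  have h2 : (show ResidueField R from AdicCompletion.evalOneₐ (maximalIdeal R) (r • ρ)) =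
      r • (show ResidueField R from AdicCompletion.evalOneₐ (maximalIdeal R) ρ) :=
    map_smul (AdicCompletion.evalOneₐ (maximalIdeal R)) r ρ
  rw [h, h, h2, smul_mul_assoc]

theorem isSimpleModule_residueField : IsSimpleModule R (ResidueField R) :=
  isSimpleModule_iff_quot_maximal.2
    ⟨maximalIdeal R, inferInstance, ⟨LinearEquiv.refl R (R ⧸ maximalIdeal R)⟩⟩

variable [IsNoetherianRing Λ]

/-- Cohen structure theorem: the completion is a quotient of a power series ring over `Λ` -/
theorem exists_presentation (hres : ∀ r : R, ∃ a : Λ, r - algebraMap Λ R a ∈ maximalIdeal R) :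
    ∃ (d : ℕ) (π : MvPowerSeries (Fin d) Λ →ₐ[Λ] ExalC.Compl R), Function.Surjective π ∧
      ∀ i, π (MvPowerSeries.X i) ∈ maximalIdeal (ExalC.Compl R) := by
  obtain ⟨d, s, hs⟩ := Submodule.fg_iff_exists_fin_generating_family.1
    (IsNoetherian.noetherian (maximalIdeal R))
  let x : Fin d → ExalC.Compl R := fun i => algebraMap R (ExalC.Compl R) (s i)
  have hspan : Ideal.span (Set.range x) = maximalIdeal (ExalC.Compl R) := by
    rw [AdicCompletion.maximalIdeal_eq_map]
    have h1 : (Ideal.span (Set.range s)).map (algebraMap R (ExalC.Compl R)) =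
        Ideal.span (Set.range x) := by
      rw [Ideal.map_span, ← Set.range_comp]
      rfl
    have h2 : Ideal.span (Set.range s) = maximalIdeal R := hs
    rw [← h1, h2]
  have hsurj : Function.Surjective
      ((Ideal.Quotient.mk (maximalIdeal (ExalC.Compl R))).comp (algebraMap Λ (ExalC.Compl R))) := by
    intro y
    obtain ⟨ρ, rfl⟩ := Ideal.Quotient.mk_surjective y
    obtain ⟨r₀, hr₀⟩ := exists_sub_mem_pow 1 ρ
    obtain ⟨a, ha⟩ := hres r₀
    refine ⟨a, ?_⟩
    rw [RingHom.comp_apply, Ideal.Quotient.eq]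
    have h1 : ρ - algebraMap R (ExalC.Compl R) r₀ ∈ maximalIdeal (ExalC.Compl R) := by
      apply mem_maximalIdeal_of_evalₐ_eq_zero one_ne_zero
      rw [map_sub, evalₐ_algebraMap, hr₀, sub_self]
    have h2 : algebraMap R (ExalC.Compl R) (r₀ - algebraMap Λ R a) ∈
        maximalIdeal (ExalC.Compl R) := (algebraMap_mem_maximalIdeal_iff _).2 ha
    have h3 : algebraMap Λ (ExalC.Compl R) a - ρ =
        -((ρ - algebraMap R (ExalC.Compl R) r₀) +
          algebraMap R (ExalC.Compl R) (r₀ - algebraMap Λ R a)) := by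
      rw [map_sub, ← IsScalarTower.algebraMap_apply Λ R (ExalC.Compl R)]; ring
    rw [h3]
    exact Ideal.neg_mem_iff _ |>.2 (Ideal.add_mem _ h1 h2)
  obtain ⟨φ, hφ1, hφ2, _⟩ := Groth.Agent.Lib.Helper90.PSSurj.exists_surjective_eval (B := Λ)
    (maximalIdeal (ExalC.Compl R)) x hspan hsurj
  refine ⟨d, φ, hφ1, fun i => ?_⟩
  rw [hφ2, ← hspan]
  exact Ideal.subset_span ⟨i, rfl⟩

/-- a uniform power of the maximal ideal for all extensions by the residue field -/
theorem exists_uniform (hres : ∀ r : R, ∃ a : Λ, r - algebraMap Λ R a ∈ maximalIdeal R) :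
    ∃ n : ℕ, ∀ X : Ext Λ R (ResidueField R), ∃ I : Ideal X.E,
      (∀ x ∈ I, X.proj x = 0 → x = 0) ∧ Ideal.map X.proj I = maximalIdeal R ^ (n + 1) := by
  letI := resModule (R := R)
  haveI := isScalarTower_resModule (R := R)
  haveI := isSimpleModule_residueField (R := R)
  haveI := isSimpleModule_completion (R := R) (L := ResidueField R)
  obtain ⟨d, π, hπs, hπX⟩ := exists_presentation (Λ := Λ) hres
  obtain ⟨n, hn⟩ := exists_uniform_of_lifts (L := ResidueField R) π hπs
    (fun X => exists_lift_powerSeries π hπX X)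
  refine ⟨n, fun X => ?_⟩
  obtain ⟨X', ⟨e⟩⟩ := exists_completion_ext X
  obtain ⟨I', h1, h2⟩ := hn X'
  exact exists_ideal_of_completion (n + 1) X X' e I' h1 h2

end Final

end Groth.Agent.Lib.Helper58.ExalU
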