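import Mathlib
import Groth.Agent.H76.FlatModel

/-!
# Noetherian models of finitely presented modules over finitely presented algebras (helper58)

Non-flat variant of helper76's `H76.FlatModel` (the code is adapted from there, dropping all
flatness hypotheses/conclusions).
-/

set_option autoImplicit false
universe u

open TensorProduct Groth.Agent.H76.FlatKernel Groth.Agent.H76.FlatDescentLocal
  Groth.Agent.H76.FlatBaseChange Groth.Agent.H76.FlatLocusFP Groth.Agent.H76.FlatModel

namespace Groth.Agent.Lib.Helper58.FPModel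

attribute [local instance] MvPolynomial.algebraMvPolynomial

section Aux

variable {R₀ R S₀ S M : Type u} [CommRing R₀] [CommRing R] [CommRing S₀] [CommRing S]
  [Algebra R₀ R] [Algebra R S] [Algebra R₀ S] [IsScalarTower R₀ R S] {n r a b : ℕ}
  [Algebra (MvPolynomial (Fin n) R) S] [IsScalarTower R (MvPolynomial (Fin n) R) S]
  [Algebra R₀ S₀] [Algebra (MvPolynomial (Fin n) R₀) S₀]
  [IsScalarTower R₀ (MvPolynomial (Fin n) R₀) S₀]
  [AddCommGroup M] [Module S M] [Module (MvPolynomial (Fin n) R) M]
  [IsScalarTower (MvPolynomial (Fin n) R) S M]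

/-- Packaging: from a matrix model over `R₀[x]` to the model `(S₀, M₀)` (no flatness). -/
theorem exists_model_aux'
    (hsurj : Function.Surjective (algebraMap (MvPolynomial (Fin n) R) S))
    (hsurj₀ : Function.Surjective (algebraMap (MvPolynomial (Fin n) R₀) S₀))
    (f₀ : Fin r → MvPolynomial (Fin n) R₀)
    (hker : RingHom.ker (algebraMap (MvPolynomial (Fin n) R) S) =
      Ideal.span (Set.range fun k => MvPolynomial.map (algebraMap R₀ R) (f₀ k)))
    (hker₀ : RingHom.ker (algebraMap (MvPolynomial (Fin n) R₀) S₀) = Ideal.span (Set.range f₀))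
    (c₀ : Fin a → Fin b → MvPolynomial (Fin n) R₀)
    (hann : ∀ k l, f₀ k • (Pi.single l 1 : Fin b → MvPolynomial (Fin n) R₀) ∈
        Submodule.span (MvPolynomial (Fin n) R₀) (Set.range c₀))
    (e : M ≃ₗ[MvPolynomial (Fin n) R] ((Fin b → MvPolynomial (Fin n) R) ⧸
        Submodule.span (MvPolynomial (Fin n) R) (Set.range (cmap (algebraMap R₀ R) c₀)))) :
    ∃ (_ : Algebra S₀ S) (_ : IsScalarTower R₀ S₀ S) (M₀ : Type u) (_ : AddCommGroup M₀)
      (_ : Module S₀ M₀) (_ : Module R₀ M₀) (_ : IsScalarTower R₀ S₀ M₀) (_ : Module S₀ M)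
      (_ : IsScalarTower S₀ S M) (f : M₀ →ₗ[S₀] M),
      Module.Finite S₀ M₀ ∧ Algebra.IsPushout R₀ R S₀ S ∧
        IsBaseChange S f := by
  classical
  let ψ : MvPolynomial (Fin n) R₀ →+* S :=
    (algebraMap (MvPolynomial (Fin n) R) S).comp (MvPolynomial.map (algebraMap R₀ R))
  have hψ : RingHom.ker (algebraMap (MvPolynomial (Fin n) R₀) S₀) ≤ RingHom.ker ψ := by
    rw [hker₀, Ideal.span_le]
    rintro _ ⟨k, rfl⟩
    show algebraMap (MvPolynomial (Fin n) R) S
      (MvPolynomial.map (algebraMap R₀ R) (f₀ k)) = 0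
    rw [← RingHom.mem_ker, hker]
    exact Ideal.subset_span ⟨k, rfl⟩
  let φ : S₀ →+* S := RingHom.liftOfSurjective (algebraMap (MvPolynomial (Fin n) R₀) S₀) hsurj₀
    ⟨ψ, hψ⟩
  have hφ : ∀ p, φ (algebraMap (MvPolynomial (Fin n) R₀) S₀ p) = ψ p := fun p =>
    RingHom.liftOfSurjective_comp_apply _ hsurj₀ ⟨ψ, hψ⟩ p
  letI algS₀S : Algebra S₀ S := φ.toAlgebra
  letI algP₀S : Algebra (MvPolynomial (Fin n) R₀) S := ψ.toAlgebra
  haveI : IsScalarTower (MvPolynomial (Fin n) R₀) (MvPolynomial (Fin n) R) S :=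
    IsScalarTower.of_algebraMap_eq (fun x => rfl)
  haveI : IsScalarTower (MvPolynomial (Fin n) R₀) S₀ S :=
    IsScalarTower.of_algebraMap_eq (fun x => (hφ x).symm)
  have hC : ∀ x : R₀, ψ (MvPolynomial.C x) = algebraMap R₀ S x := by
    intro x
    simp only [ψ, RingHom.coe_comp, Function.comp_apply, MvPolynomial.map_C]
    rw [IsScalarTower.algebraMap_apply R₀ R S,
      IsScalarTower.algebraMap_apply R (MvPolynomial (Fin n) R) S]
    rfl
  haveI towR₀S₀S : IsScalarTower R₀ S₀ S := by
    refine IsScalarTower.of_algebraMap_eq (fun x => ?_)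
    rw [IsScalarTower.algebraMap_apply R₀ (MvPolynomial (Fin n) R₀) S₀]
    show _ = φ _
    rw [MvPolynomial.algebraMap_eq, hφ, hC]
  -- the module `M₀`
  have hk : ∀ p ∈ RingHom.ker (algebraMap (MvPolynomial (Fin n) R₀) S₀),
      ∀ x : (Fin b → MvPolynomial (Fin n) R₀) ⧸
        Submodule.span (MvPolynomial (Fin n) R₀) (Set.range c₀), p • x = 0 := by
    intro p hp x
    rw [hker₀] at hp
    induction hp using Submodule.span_induction with
    | mem p hp =>
      obtain ⟨k, rfl⟩ := hp
      obtain ⟨v, rfl⟩ := Submodule.Quotient.mk_surjective _ x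
      rw [← Submodule.Quotient.mk_smul, Submodule.Quotient.mk_eq_zero, pi_eq_sum_univ v,
        Finset.smul_sum]
      refine Submodule.sum_mem _ fun l _ => ?_
      rw [smul_comm]
      refine Submodule.smul_mem _ _ ?_
      convert hann k l using 2
      ext i
      simp [Pi.single_apply, eq_comm]
    | zero => exact zero_smul _ _
    | add p q _ _ hp hq => rw [add_smul, hp, hq, add_zero]
    | smul a p _ hp => rw [smul_eq_mul, mul_smul, hp, smul_zero]
  letI modS₀M₀ : Module S₀ ((Fin b → MvPolynomial (Fin n) R₀) ⧸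
        Submodule.span (MvPolynomial (Fin n) R₀) (Set.range c₀)) := moduleOfSurjective hsurj₀ hk
  haveI towP₀S₀M₀ : IsScalarTower (MvPolynomial (Fin n) R₀) S₀
      ((Fin b → MvPolynomial (Fin n) R₀) ⧸
        Submodule.span (MvPolynomial (Fin n) R₀) (Set.range c₀)) :=
    IsScalarTower.of_algebraMap_smul (fun p x => moduleOfSurjective_smul hsurj₀ hk p x)
  haveI towR₀S₀M₀ : IsScalarTower R₀ S₀
      ((Fin b → MvPolynomial (Fin n) R₀) ⧸
        Submodule.span (MvPolynomial (Fin n) R₀) (Set.range c₀)) := by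
    refine IsScalarTower.of_algebraMap_smul (fun x m => ?_)
    rw [IsScalarTower.algebraMap_apply R₀ (MvPolynomial (Fin n) R₀) S₀, algebraMap_smul,
      algebraMap_smul]
  -- module structures on `M`
  letI modS₀M : Module S₀ M := Module.compHom M (algebraMap S₀ S)
  haveI towS₀SM : IsScalarTower S₀ S M := IsScalarTower.of_algebraMap_smul (fun _ _ => rfl)
  letI modP₀M : Module (MvPolynomial (Fin n) R₀) M :=
    Module.compHom M (algebraMap (MvPolynomial (Fin n) R₀) (MvPolynomial (Fin n) R))
  haveI : IsScalarTower (MvPolynomial (Fin n) R₀) (MvPolynomial (Fin n) R) M :=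
    IsScalarTower.of_algebraMap_smul (fun _ _ => rfl)
  haveI : IsScalarTower (MvPolynomial (Fin n) R₀) S₀ M := by
    refine IsScalarTower.of_algebraMap_smul (fun p m => ?_)
    show φ (algebraMap (MvPolynomial (Fin n) R₀) S₀ p) • m =
      (MvPolynomial.map (algebraMap R₀ R) p) • m
    rw [hφ]
    exact algebraMap_smul S (MvPolynomial.map (algebraMap R₀ R) p) m
  -- the map
  let F₀ : ((Fin b → MvPolynomial (Fin n) R₀) ⧸
        Submodule.span (MvPolynomial (Fin n) R₀) (Set.range c₀)) →ₗ[MvPolynomial (Fin n) R₀] M :=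
    (e.symm.toLinearMap.restrictScalars (MvPolynomial (Fin n) R₀)).comp
      (cokerMap (P₂ := MvPolynomial (Fin n) R) c₀)
  have hF₀ : IsBaseChange (MvPolynomial (Fin n) R) F₀ :=
    (isBaseChange_cokerMap (P₂ := MvPolynomial (Fin n) R) c₀).comp (IsBaseChange.ofEquiv e.symm)
  let f : ((Fin b → MvPolynomial (Fin n) R₀) ⧸
        Submodule.span (MvPolynomial (Fin n) R₀) (Set.range c₀)) →ₗ[S₀] M :=
    F₀.extendScalarsOfSurjective hsurj₀
  refine ⟨algS₀S, towR₀S₀S, _, inferInstance, modS₀M₀, inferInstance, towR₀S₀M₀, modS₀M,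
    towS₀SM, f, ?_, ?_, ?_⟩
  · exact Module.Finite.of_restrictScalars_finite (MvPolynomial (Fin n) R₀) _ _
  · exact isPushout_quotient hsurj hsurj₀ f₀ hker hker₀ (fun p => hφ p)
  · exact isBaseChange_of_surjective hsurj f hF₀

end Aux

section Main

variable (R : Type u) [CommRing R] (S : Type u) [CommRing S] [Algebra R S]
  [Algebra.FinitePresentation R S] (M : Type u) [AddCommGroup M] [Module S M] [Module R M]
  [IsScalarTower R S M] [Module.FinitePresentation S M]

/-- Presentation data for `(R, S, M)` with a flat model over a stage. -/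
theorem exists_presentation_with_stage :
    ∃ (n r a b : ℕ) (π : MvPolynomial (Fin n) R →ₐ[R] S) (_ : Function.Surjective π)
      (s : Finset R) (f₀ : Fin r → MvPolynomial (Fin n) (Stg s))
      (c₀ : Fin a → Fin b → MvPolynomial (Fin n) (Stg s)),
      RingHom.ker π = Ideal.span
        (Set.range fun k => MvPolynomial.map (algebraMap (Stg s) R) (f₀ k)) ∧
      (∀ k l, f₀ k • (Pi.single l 1 : Fin b → MvPolynomial (Fin n) (Stg s)) ∈
        Submodule.span (MvPolynomial (Fin n) (Stg s)) (Set.range c₀)) ∧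
      letI : Module (MvPolynomial (Fin n) R) M := Module.compHom M π.toRingHom
      Nonempty (M ≃ₗ[MvPolynomial (Fin n) R] ((Fin b → MvPolynomial (Fin n) R) ⧸
        Submodule.span (MvPolynomial (Fin n) R)
          (Set.range (cmap (algebraMap (Stg s) R) c₀)))) := by
  classical
  obtain ⟨n, π, hπ, hker⟩ := Algebra.FinitePresentation.out (R := R) (A := S)
  letI algPS : Algebra (MvPolynomial (Fin n) R) S := π.toRingHom.toAlgebra
  haveI : IsScalarTower R (MvPolynomial (Fin n) R) S :=
    IsScalarTower.of_algebraMap_eq (fun r => (π.commutes r).symm)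
  letI modPM : Module (MvPolynomial (Fin n) R) M := Module.compHom M π.toRingHom
  haveI : IsScalarTower (MvPolynomial (Fin n) R) S M :=
    IsScalarTower.of_algebraMap_smul (fun _ _ => rfl)
  haveI : IsScalarTower R (MvPolynomial (Fin n) R) M := by
    constructor
    intro r p m
    show π (r • p) • m = r • (π p • m)
    rw [map_smul, smul_assoc]
  have hsurj : Function.Surjective (algebraMap (MvPolynomial (Fin n) R) S) := hπ
  haveI : Module.FinitePresentation (MvPolynomial (Fin n) R) S :=
    Module.finitePresentation_of_surjective (Algebra.linearMap (MvPolynomial (Fin n) R) S)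
      hsurj hker
  haveI : Module.FinitePresentation (MvPolynomial (Fin n) R) M :=
    Module.FinitePresentation.trans (MvPolynomial (Fin n) R) M S
  obtain ⟨b, K, e, hK⟩ := Module.FinitePresentation.exists_fin (MvPolynomial (Fin n) R) M
  obtain ⟨a, c, hc⟩ := Submodule.fg_iff_exists_fin_generating_family.mp hK
  subst hc
  obtain ⟨r, fJ, hfJ⟩ := Submodule.fg_iff_exists_fin_generating_family.mp hker
  have hann : ∀ k l, fJ k • (Pi.single l 1 : Fin b → MvPolynomial (Fin n) R) ∈
      Submodule.span (MvPolynomial (Fin n) R) (Set.range c) := by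
    intro k l
    rw [← Submodule.Quotient.mk_eq_zero, ← e.symm.map_eq_zero_iff, Submodule.Quotient.mk_smul,
      map_smul]
    show π (fJ k) • (e.symm (Submodule.Quotient.mk (Pi.single l 1)) : M) = 0
    have : fJ k ∈ RingHom.ker π := hfJ ▸ Submodule.subset_span ⟨k, rfl⟩
    rw [(RingHom.mem_ker).mp this, zero_smul]
  have hwit : ∀ k l, ∃ h : Fin a → MvPolynomial (Fin n) R,
      ∑ j, h j • c j = fJ k • (Pi.single l 1 : Fin b → MvPolynomial (Fin n) R) :=
    fun k l => (Submodule.mem_span_range_iff_exists_fun _).mp (hann k l)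
  choose h hh using hwit
  set s₀ : Finset R := (Finset.univ.biUnion fun k => (fJ k).coeffs) ∪
    Finset.univ.biUnion (fun k => Finset.univ.biUnion fun l =>
      Finset.univ.biUnion fun j => (h k l j).coeffs) with hs₀
  set s : Finset R := s₀ ∪ Finset.univ.biUnion (fun j => Finset.univ.biUnion fun i =>
    (c j i).coeffs) with hs
  have hss : s₀ ⊆ s := Finset.subset_union_left
  have hc₀ : ∀ j i, ∃ f : MvPolynomial (Fin n) (Stg s),
      MvPolynomial.map (algebraMap (Stg s) R) f = c j i := by
    intro j i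
    apply exists_map_eq
    intro x hx
    rw [hs]
    apply Finset.mem_union_right
    simp only [Finset.mem_biUnion, Finset.mem_univ, true_and]
    exact ⟨j, i, hx⟩
  choose c' hc'' using hc₀
  have hc' : c = cmap (algebraMap (Stg s) R) c' := by
    funext j i
    exact (hc'' j i).symm
  have hh' : ∀ k l, ∑ j, h k l j • cmap (algebraMap (Stg s) R) c' j =
      fJ k • (Pi.single l 1 : Fin b → MvPolynomial (Fin n) R) := by
    intro k l
    rw [← hc']
    exact hh k l
  rw [hc'] at e
  have hinj : Function.Injective (algebraMap (Stg s) R) := algebraMap_stg_injective s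
  have hf₀ : ∀ k, ∃ f : MvPolynomial (Fin n) (Stg s),
      MvPolynomial.map (algebraMap (Stg s) R) f = fJ k := by
    intro k
    apply exists_map_eq
    intro x hx
    apply hss
    rw [hs₀]
    apply Finset.mem_union_left
    simp only [Finset.mem_biUnion, Finset.mem_univ, true_and]
    exact ⟨k, hx⟩
  have hh₀ : ∀ k l j, ∃ f : MvPolynomial (Fin n) (Stg s),
      MvPolynomial.map (algebraMap (Stg s) R) f = h k l j := by
    intro k l j
    apply exists_map_eq
    intro x hx
    apply hss
    rw [hs₀]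
    apply Finset.mem_union_right
    simp only [Finset.mem_biUnion, Finset.mem_univ, true_and]
    exact ⟨k, l, j, hx⟩
  choose f₀ hf₀ using hf₀
  choose h₀ hh₀ using hh₀
  refine ⟨n, r, a, b, π, hπ, s, f₀, c', ?_, ?_, ⟨e⟩⟩
  · change RingHom.ker π.toRingHom = _
    rw [← hfJ]
    congr 2
    ext k : 1
    exact (hf₀ k).symm
  · intro k l
    have hsum : ∑ j, h₀ k l j • c' j =
        f₀ k • (Pi.single l 1 : Fin b → MvPolynomial (Fin n) (Stg s)) := by
      apply vmap_injective (algebraMap (Stg s) R) hinj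
      rw [vmap_smul, hf₀]
      have h1 : vmap (algebraMap (Stg s) R) (∑ j, h₀ k l j • c' j) =
          ∑ j, h k l j • cmap (algebraMap (Stg s) R) c' j := by
        ext i : 1
        simp only [vmap_apply, Finset.sum_apply, Pi.smul_apply, smul_eq_mul, map_sum, map_mul,
          hh₀, cmap_apply]
      have h2 : vmap (algebraMap (Stg s) R)
          (Pi.single l 1 : Fin b → MvPolynomial (Fin n) (Stg s)) = Pi.single l 1 := by
        ext i : 1
        by_cases hil : i = l
        · subst hil; simp
        · simp [Pi.single_eq_of_ne hil]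
      rw [h1, h2]
      exact hh' k l
    rw [← hsum]
    exact Submodule.sum_mem _ fun j _ =>
      Submodule.smul_mem _ _ (Submodule.subset_span ⟨j, rfl⟩)

/-- **Noetherian approximation of a finitely presented module over a finitely presented algebra**. -/
theorem exists_fp_model :
    ∃ (R₀ : Type u) (_ : CommRing R₀) (_ : Algebra R₀ R) (S₀ : Type u) (_ : CommRing S₀)
      (_ : Algebra R₀ S₀) (_ : Algebra S₀ S) (_ : Algebra R₀ S) (_ : IsScalarTower R₀ R S)
      (_ : IsScalarTower R₀ S₀ S) (M₀ : Type u) (_ : AddCommGroup M₀) (_ : Module S₀ M₀)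
      (_ : Module R₀ M₀) (_ : IsScalarTower R₀ S₀ M₀) (_ : Module S₀ M) (_ : IsScalarTower S₀ S M)
      (f : M₀ →ₗ[S₀] M),
      Algebra.FiniteType ℤ R₀ ∧ Algebra.FiniteType R₀ S₀ ∧ Module.Finite S₀ M₀ ∧
        Algebra.IsPushout R₀ R S₀ S ∧ IsBaseChange S f := by
  classical
  obtain ⟨n, r, a, b, π, hπ, s, f₀, c₀, hker, hann, ⟨e⟩⟩ :=
    exists_presentation_with_stage R S M
  letI algPS : Algebra (MvPolynomial (Fin n) R) S := π.toRingHom.toAlgebra
  haveI : IsScalarTower R (MvPolynomial (Fin n) R) S :=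
    IsScalarTower.of_algebraMap_eq (fun r => (π.commutes r).symm)
  letI modPM : Module (MvPolynomial (Fin n) R) M := Module.compHom M π.toRingHom
  haveI : IsScalarTower (MvPolynomial (Fin n) R) S M :=
    IsScalarTower.of_algebraMap_smul (fun _ _ => rfl)
  have hsurj : Function.Surjective (algebraMap (MvPolynomial (Fin n) R) S) := hπ
  have hsurj₀ : Function.Surjective (algebraMap (MvPolynomial (Fin n) (Stg s))
      (MvPolynomial (Fin n) (Stg s) ⧸ Ideal.span (Set.range f₀))) := Ideal.Quotient.mk_surjective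
  have hker₀ : RingHom.ker (algebraMap (MvPolynomial (Fin n) (Stg s))
      (MvPolynomial (Fin n) (Stg s) ⧸ Ideal.span (Set.range f₀))) = Ideal.span (Set.range f₀) :=
    Ideal.mk_ker
  obtain ⟨i1, i2, M₀, i3, i4, i5, i6, i7, i8, f, h1, h3, h4⟩ :=
    exists_model_aux' (S₀ := MvPolynomial (Fin n) (Stg s) ⧸ Ideal.span (Set.range f₀))
      (R₀ := Stg s) (R := R) (S := S) (M := M) hsurj hsurj₀ f₀ hker hker₀ c₀ hann e
  refine ⟨Stg s, inferInstance, inferInstance,
    MvPolynomial (Fin n) (Stg s) ⧸ Ideal.span (Set.range f₀), inferInstance,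
    inferInstance, i1, inferInstance, inferInstance, i2, M₀, i3, i4, i5, i6, i7, i8, f,
    inferInstance, ?_, h1, h3, h4⟩
  exact Algebra.FiniteType.of_surjective
    (Ideal.Quotient.mkₐ (Stg s) (Ideal.span (Set.range f₀))) Ideal.Quotient.mk_surjective

end Main

end Groth.Agent.Lib.Helper58.FPModel
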