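import Groth.Agent.Lib.Helper58.FerrandMod
import Groth.Agent.H76.FlatLocal
import Mathlib

/-!
# Ferrand's descent of flatness for localized modules over a non-local base (helper58)
-/

set_option autoImplicit false
universe u
open TensorProduct

namespace Groth.Agent.Lib.Helper58.FerrandLoc

section Equiv

variable {R A S M : Type*} [CommRing R] [CommRing A] [CommRing S] [Algebra R A] [Algebra R S]
  [AddCommGroup M] [Module R M] [Module A M] [IsScalarTower R A M]

attribute [local instance] Algebra.TensorProduct.rightAlgebra

/-- `(A ⊗[R] S) ⊗[A] M ≃ S ⊗[R] M`, `(a ⊗ s) ⊗ m ↦ s ⊗ a • m`. -/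
noncomputable def e0 : (A ⊗[R] S) ⊗[A] M ≃ₗ[R] S ⊗[R] M :=
  ((TensorProduct.comm A (A ⊗[R] S) M).restrictScalars R).trans
    (((AlgebraTensorModule.cancelBaseChange R A A M S).restrictScalars R).trans
      (TensorProduct.comm R M S))

theorem e0_tmul (a : A) (s : S) (m : M) :
    e0 (R := R) ((a ⊗ₜ[R] s) ⊗ₜ[A] m) = s ⊗ₜ[R] (a • m) := by
  simp [e0]

theorem smul_tmul_tmul (s' : S) (a : A) (s : S) (m : M) :
    s' • ((a ⊗ₜ[R] s) ⊗ₜ[A] m : (A ⊗[R] S) ⊗[A] M) = (a ⊗ₜ[R] (s' * s)) ⊗ₜ[A] m := by
  rw [TensorProduct.smul_tmul']
  congr 1
  rw [Algebra.smul_def, Algebra.TensorProduct.right_algebraMap_apply,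
    Algebra.TensorProduct.tmul_mul_tmul, one_mul]

/-- the `S`-linear version of `e0` -/
noncomputable def e1 : (A ⊗[R] S) ⊗[A] M ≃ₗ[S] S ⊗[R] M :=
  { (e0 (R := R) (A := A) (S := S) (M := M)).toAddEquiv with
    map_smul' := by
      intro s' x
      show e0 (s' • x) = s' • e0 x
      induction x using TensorProduct.induction_on with
      | zero => simp
      | add x y hx hy => rw [smul_add, map_add, map_add, smul_add, hx, hy]
      | tmul y m =>
        induction y using TensorProduct.induction_on with
        | zero => simp
        | add y z hy hz => rw [add_tmul, smul_add, map_add, map_add, smul_add, hy, hz]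
        | tmul a s =>
          rw [smul_tmul_tmul, e0_tmul, e0_tmul, TensorProduct.smul_tmul', smul_eq_mul] }

/-- If `A` is a localization of `R` and `S ⊗[R] M` is flat over `S` then `(A ⊗[R] S) ⊗[A] M` is
flat over `A ⊗[R] S`. -/
theorem flat_tensor (W : Submonoid R) [IsLocalization W A] [Module.Flat S (S ⊗[R] M)] :
    Module.Flat (A ⊗[R] S) ((A ⊗[R] S) ⊗[A] M) := by
  haveI : Module.Flat S ((A ⊗[R] S) ⊗[A] M) := Module.Flat.of_linearEquiv (e1 (R := R))
  exact (Module.flat_iff_of_isLocalization (A ⊗[R] S) (Algebra.algebraMapSubmonoid S W) _).mpr this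

/-- `A → A ⊗[R] S` is injective when `R → S` is and `A` is flat over `R`. -/
theorem includeLeft_injective [Module.Flat R A] (hinj : Function.Injective (algebraMap R S)) :
    Function.Injective (algebraMap A (A ⊗[R] S)) := by
  have h1 : Function.Injective ((Algebra.linearMap R S).lTensor A) :=
    Module.Flat.lTensor_preserves_injective_linearMap _ hinj
  have h2 : (algebraMap A (A ⊗[R] S) : A → A ⊗[R] S) =
      ((Algebra.linearMap R S).lTensor A) ∘ (TensorProduct.rid R A).symm := by
    ext a
    simp [Algebra.TensorProduct.algebraMap_apply]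
  rw [h2]
  exact h1.comp (LinearEquiv.injective _)

end Equiv

section Main

variable {R S P : Type u} [CommRing R] [CommRing S] [CommRing P] [IsNoetherianRing R]
  [IsNoetherianRing P] [Algebra R S] [Module.Finite R S] [Algebra R P]
  (N : Type u) [AddCommGroup N] [Module P N] [Module R N] [IsScalarTower R P N]
  [Module.Finite P N] (q : Ideal P) [q.IsPrime]

/-- **Ferrand's descent for localized modules.** `R → S` finite injective with `R` Noetherian, `P`
a Noetherian `R`-algebra, `N` a finite `P`-module and `q` a prime of `P`.  If `S ⊗[R] N_q` is flat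
over `S`, then `N_q` is flat over `R`. -/
theorem flat_localized_of_finite_injective (hinj : Function.Injective (algebraMap R S))
    [Module.Flat S (S ⊗[R] LocalizedModule q.primeCompl N)] :
    Module.Flat R (LocalizedModule q.primeCompl N) := by
  set p : Ideal R := q.comap (algebraMap R P) with hp
  haveI : p.IsPrime := Ideal.IsPrime.comap _
  let A := Localization.AtPrime p
  let B := Localization.AtPrime q
  let φ : A →+* B := Localization.localRingHom p q (algebraMap R P) rfl
  letI algAB : Algebra A B := φ.toAlgebra
  haveI : IsLocalHom (algebraMap A B) :=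
    Localization.isLocalHom_localRingHom p q (algebraMap R P) rfl
  let M := LocalizedModule q.primeCompl N
  letI modAM : Module A M := Module.compHom M φ
  haveI towABM : IsScalarTower A B M := IsScalarTower.of_algebraMap_smul (fun _ _ => rfl)
  haveI towRAM : IsScalarTower R A M := by
    refine IsScalarTower.of_algebraMap_smul (fun r m => ?_)
    show φ (algebraMap R A r) • m = r • m
    rw [Localization.localRingHom_to_map, ← IsScalarTower.algebraMap_apply R P B,
      algebraMap_smul]
  haveI : Module.Flat (A ⊗[R] S) ((A ⊗[R] S) ⊗[A] M) := flat_tensor (R := R) p.primeCompl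
  haveI : Module.Flat A M :=
    Groth.Agent.Lib.Helper58.FerrandMod.flat_of_finite_injective_module (B := B)
      (A' := A ⊗[R] S) M (includeLeft_injective hinj)
  exact Module.Flat.trans R A M

end Main

section LemmaT

variable {R S : Type u} [CommRing R] [CommRing S] [Algebra R S]

theorem cancel_rTensor (N' : Type u) [AddCommGroup N'] [Module R N'] {X Y : Type u}
    [AddCommGroup X] [Module S X] [Module R X] [IsScalarTower R S X]
    [AddCommGroup Y] [Module S Y] [Module R Y] [IsScalarTower R S Y] (u : X →ₗ[S] Y)
    (z : X ⊗[S] (S ⊗[R] N')) :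
    AlgebraTensorModule.cancelBaseChange R S S Y N' (u.rTensor (S ⊗[R] N') z) =
      (u.restrictScalars R).rTensor N' (AlgebraTensorModule.cancelBaseChange R S S X N' z) := by
  induction z using TensorProduct.induction_on with
  | zero => simp
  | add x y hx hy => simp only [map_add, hx, hy]
  | tmul m w =>
    induction w using TensorProduct.induction_on with
    | zero => simp
    | add x y hx hy => simp only [tmul_add, map_add, hx, hy]
    | tmul a n => simp

theorem rTensor_injective_iff (N' : Type u) [AddCommGroup N'] [Module R N'] {X Y : Type u}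
    [AddCommGroup X] [Module S X] [Module R X] [IsScalarTower R S X]
    [AddCommGroup Y] [Module S Y] [Module R Y] [IsScalarTower R S Y] (u : X →ₗ[S] Y) :
    Function.Injective (u.rTensor (S ⊗[R] N')) ↔
      Function.Injective ((u.restrictScalars R).rTensor N') := by
  constructor
  · intro h a b hab
    obtain ⟨a', rfl⟩ := (AlgebraTensorModule.cancelBaseChange R S S X N').surjective a
    obtain ⟨b', rfl⟩ := (AlgebraTensorModule.cancelBaseChange R S S X N').surjective b
    rw [← cancel_rTensor, ← cancel_rTensor] at hab
    rw [h ((AlgebraTensorModule.cancelBaseChange R S S Y N').injective hab)]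
  · intro h a b hab
    apply (AlgebraTensorModule.cancelBaseChange R S S X N').injective
    apply h
    rw [← cancel_rTensor, ← cancel_rTensor, hab]

/-- **Lemma T.** If `S ⊗[R] N` is flat over `S` then so is `S ⊗[R] W⁻¹N` for a submonoid `W` of a
ring `P` acting on `N`. -/
theorem flat_tensor_localizedModule {P N : Type u} [CommRing P] [Algebra R P] [AddCommGroup N]
    [Module P N] [Module R N] [IsScalarTower R P N] (W : Submonoid P)
    [Module.Flat S (S ⊗[R] N)] : Module.Flat S (S ⊗[R] LocalizedModule W N) := by
  rw [Module.Flat.iff_rTensor_preserves_injective_linearMap]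
  intro X Y _ _ _ _ u hu
  letI : Module R X := Module.compHom X (algebraMap R S)
  haveI : IsScalarTower R S X := IsScalarTower.of_algebraMap_smul (fun _ _ => rfl)
  letI : Module R Y := Module.compHom Y (algebraMap R S)
  haveI : IsScalarTower R S Y := IsScalarTower.of_algebraMap_smul (fun _ _ => rfl)
  rw [rTensor_injective_iff]
  have h1 : Function.Injective ((u.restrictScalars R).rTensor N) :=
    (rTensor_injective_iff N u).mp (Module.Flat.rTensor_preserves_injective_linearMap u hu)
  have h2 : Function.Injective ((u.restrictScalars R).lTensor N) :=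
    (LinearMap.lTensor_inj_iff_rTensor_inj _ _).mpr h1
  have h3 : Function.Injective ((u.restrictScalars R).lTensor (LocalizedModule W N)) :=
    (Groth.Agent.H76.FlatLocal.lTensor_localized_injective_iff W (u.restrictScalars R)).mpr
      (fun z hz => ⟨1, W.one_mem, by rw [one_smul]; exact h2 (hz.trans (map_zero _).symm)⟩)
  exact (LinearMap.lTensor_inj_iff_rTensor_inj _ _).mp h3

end LemmaT

section Global

variable {R S : Type u} [CommRing R] [CommRing S] [IsNoetherianRing R]
  [Algebra R S] [Module.Finite R S]
  (N : Type u) [AddCommGroup N] [Module R N]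

/-- **Descent of flatness along a finite injective map of Noetherian rings** (Ferrand; Stacks
0533-type): `N` a finite module over a Noetherian `R`-algebra `P`; if `S ⊗[R] N` is flat over
`S` then `N` is flat over `R`. -/
theorem flat_of_finite_injective_noeth (P : Type u) [CommRing P] [IsNoetherianRing P]
    [Algebra R P] [Module P N] [IsScalarTower R P N] [Module.Finite P N]
    (hinj : Function.Injective (algebraMap R S))
    [Module.Flat S (S ⊗[R] N)] : Module.Flat R N := by
  apply Module.flat_of_isLocalized_maximal P N (fun q _ => LocalizedModule q.primeCompl N)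
    (fun q _ => LocalizedModule.mkLinearMap q.primeCompl N)
  intro q hq
  haveI := flat_tensor_localizedModule (R := R) (S := S) q.primeCompl (N := N)
  exact flat_localized_of_finite_injective N q hinj

end Global

end Groth.Agent.Lib.Helper58.FerrandLoc
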