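import Groth.Agent.H76.FlatDescent

/-!
# Ferrand's descent of flatness along finite injective maps, module version (helper58)

A straightforward generalisation of helper76's `H76.FlatDescent.flat_of_comap_pow` /
`flat_of_finite_injective` from the ring `B` to a finite `B`-module `M`.
-/

set_option autoImplicit false
universe u

open TensorProduct

namespace Groth.Agent.Lib.Helper58.FerrandMod

open Groth.Agent.H76.FlatGlue Groth.Agent.H76.SquareFlat Groth.Agent.H76.LocalCrit
  Groth.Agent.H76.FlatDescent IsLocalRing

variable {A B A' : Type u} [CommRing A] [CommRing B] [CommRing A']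
  [IsNoetherianRing A] [IsLocalRing A] [IsNoetherianRing B] [IsLocalRing B]
  [Algebra A B] [IsLocalHom (algebraMap A B)] [Algebra A A']
  (M : Type u) [AddCommGroup M] [Module A M] [Module B M] [IsScalarTower A B M]
  [Module.Finite B M]

include B

theorem flat_of_comap_pow_module (𝔯 : Ideal A')
    (h0 : 𝔯.comap (algebraMap A A') = maximalIdeal A)
    (htop : ∀ n : ℕ, ∃ N : ℕ, (𝔯 ^ N).comap (algebraMap A A') ≤ maximalIdeal A ^ n)
    [Module.Flat A' (A' ⊗[A] M)] : Module.Flat A M := by
  have hJ : (maximalIdeal A).map (algebraMap A B) ≠ ⊤ := by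
    have hle : (maximalIdeal A).map (algebraMap A B) ≤ maximalIdeal B :=
      Ideal.map_le_iff_le_comap.mpr (fun x hx => map_nonunit (algebraMap A B) x hx)
    intro htop'
    rw [htop'] at hle
    exact (maximalIdeal.isMaximal B).ne_top (top_le_iff.mp hle)
  apply flat_of_adic (S := B) (M := M) (maximalIdeal A) hJ
  intro m P Q _ _ _ _ u hu hkill
  obtain ⟨N, hN⟩ := htop m
  haveI := flat_comap_pow (A' := A') M 𝔯 h0 N
  apply rTensor_injective_of_surjective_of_flat
    (S := A ⧸ (𝔯 ^ (2 ^ N)).comap (algebraMap A A')) Ideal.Quotient.mk_surjective M u hu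
  intro r hr y
  have hr' : r ∈ (𝔯 ^ (2 ^ N)).comap (algebraMap A A') := Ideal.Quotient.eq_zero_iff_mem.mp hr
  have hle : (𝔯 ^ (2 ^ N)).comap (algebraMap A A') ≤ (𝔯 ^ N).comap (algebraMap A A') :=
    Ideal.comap_mono (Ideal.pow_le_pow_right (Nat.lt_two_pow_self).le)
  exact hkill r (hN (hle hr')) y

/-- Descent of flatness of a finite `B`-module along a finite injective map `A → A'`. -/
theorem flat_of_finite_injective_module [Module.Finite A A']
    (hinj : Function.Injective (algebraMap A A'))
    [Module.Flat A' (A' ⊗[A] M)] : Module.Flat A M :=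
  flat_of_comap_pow_module (B := B) (A' := A') M ((maximalIdeal A).map (algebraMap A A'))
    (comap_map_maximalIdeal hinj) (exists_comap_pow_le hinj)

end Groth.Agent.Lib.Helper58.FerrandMod
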