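import Mathlib

/-!
# Fibrewise exactness and base change (helper58)

For `R`-linear maps `u : F → G`, `v : G → H` and an `R`-algebra `L` we study exactness of
`L ⊗ F → L ⊗ G → L ⊗ H`, and its invariance under base change and field extensions.
-/

set_option autoImplicit false

open TensorProduct

namespace Groth.Agent.Lib.Helper58.FibEx

section BC

variable {R R' : Type*} [CommRing R] [CommRing R'] [Algebra R R']
  {F G H : Type*} [AddCommGroup F] [Module R F] [AddCommGroup G] [Module R G]
  [AddCommGroup H] [Module R H]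
  {F' G' H' : Type*} [AddCommGroup F'] [Module R F'] [Module R' F'] [IsScalarTower R R' F']
  [AddCommGroup G'] [Module R G'] [Module R' G'] [IsScalarTower R R' G']
  [AddCommGroup H'] [Module R H'] [Module R' H'] [IsScalarTower R R' H']
  (L : Type*) [CommRing L] [Algebra R L] [Algebra R' L] [IsScalarTower R R' L]

/-- The comparison isomorphism `L ⊗[R] F ≃ L ⊗[R'] F'` for a base change `F → F'`. -/
noncomputable def bcEquiv {ιF : F →ₗ[R] F'} (hF : IsBaseChange R' ιF) :
    L ⊗[R] F ≃ₗ[L] L ⊗[R'] F' :=
  (hF.comp (TensorProduct.isBaseChange R' F' L)).equiv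

theorem bcEquiv_tmul {ιF : F →ₗ[R] F'} (hF : IsBaseChange R' ιF) (l : L) (x : F) :
    bcEquiv L hF (l ⊗ₜ x) = l ⊗ₜ ιF x := by
  rw [bcEquiv, IsBaseChange.equiv_tmul]
  simp [TensorProduct.smul_tmul']

/-- Exactness of the `L`-fibre is insensitive to base change of the sequence. -/
theorem exact_baseChange_iff_of_isBaseChange
    {ιF : F →ₗ[R] F'} (hF : IsBaseChange R' ιF) {ιG : G →ₗ[R] G'} (hG : IsBaseChange R' ιG)
    {ιH : H →ₗ[R] H'} (hH : IsBaseChange R' ιH)
    (u : F →ₗ[R] G) (v : G →ₗ[R] H) (u' : F' →ₗ[R'] G') (v' : G' →ₗ[R'] H')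
    (hu : ∀ x, u' (ιF x) = ιG (u x)) (hv : ∀ x, v' (ιG x) = ιH (v x)) :
    Function.Exact (u'.baseChange L) (v'.baseChange L) ↔
      Function.Exact (u.baseChange L) (v.baseChange L) := by
  refine Function.Exact.iff_of_ladder_linearEquiv (e₁ := bcEquiv L hF) (e₂ := bcEquiv L hG)
    (e₃ := bcEquiv L hH) ?_ ?_
  · ext x
    simp [bcEquiv_tmul, hu]
  · ext x
    simp [bcEquiv_tmul, hv]

end BC

section Field

variable {R : Type*} [CommRing R]
  {F G H : Type*} [AddCommGroup F] [Module R F] [AddCommGroup G] [Module R G]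
  [AddCommGroup H] [Module R H]

/-- Exactness of the fibre over a field `L` only depends on the kernel of `R → L`. -/
theorem exact_baseChange_field_iff (L : Type*) [Field L] [Algebra R L] (p : Ideal R) [p.IsPrime]
    (hp : RingHom.ker (algebraMap R L) = p) (u : F →ₗ[R] G) (v : G →ₗ[R] H) :
    Function.Exact (u.baseChange L) (v.baseChange L) ↔
      Function.Exact (u.baseChange p.ResidueField) (v.baseChange p.ResidueField) := by
  have hf₁ : p ≤ RingHom.ker (algebraMap R L) := hp.ge
  have hf₂ : p.primeCompl ≤ (IsUnit.submonoid L).comap (algebraMap R L) := by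
    intro x hx
    change IsUnit (algebraMap R L x)
    rw [isUnit_iff_ne_zero]
    intro h0
    apply hx
    rw [← hp]
    exact h0
  let f : p.ResidueField →+* L := Ideal.ResidueField.lift p (algebraMap R L) hf₁ hf₂
  letI : Algebra p.ResidueField L := f.toAlgebra
  haveI : IsScalarTower R p.ResidueField L := IsScalarTower.of_algebraMap_eq (fun x =>
    (Ideal.ResidueField.lift_algebraMap p (algebraMap R L) hf₁ hf₂ x).symm)
  have h1 := exact_baseChange_iff_of_isBaseChange (R := R) (R' := p.ResidueField) L
    (TensorProduct.isBaseChange R F p.ResidueField) (TensorProduct.isBaseChange R G p.ResidueField)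
    (TensorProduct.isBaseChange R H p.ResidueField) u v (u.baseChange p.ResidueField)
    (v.baseChange p.ResidueField) (fun x => by simp) (fun x => by simp)
  rw [← h1]
  rw [LinearMap.baseChange_eq_ltensor, LinearMap.baseChange_eq_ltensor]
  exact Module.FaithfullyFlat.lTensor_exact_iff_exact p.ResidueField L _ _

end Field

end Groth.Agent.Lib.Helper58.FibEx
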