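import Mathlib
import Groth.Agent.Lib.Helper58.FibEx

set_option autoImplicit false

open TensorProduct

namespace Groth.Agent.Lib.Helper58.FibEx

section Prime

variable {R R' : Type*} [CommRing R] [CommRing R'] [Algebra R R']
  {F G H : Type*} [AddCommGroup F] [Module R F] [AddCommGroup G] [Module R G]
  [AddCommGroup H] [Module R H]
  {F' G' H' : Type*} [AddCommGroup F'] [Module R F'] [Module R' F'] [IsScalarTower R R' F']
  [AddCommGroup G'] [Module R G'] [Module R' G'] [IsScalarTower R R' G']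
  [AddCommGroup H'] [Module R H'] [Module R' H'] [IsScalarTower R R' H']

/-- Exactness of the fibre at a prime `p'` of `R'` of a base-changed sequence is equivalent to
exactness of the fibre of the original sequence at the prime below. -/
theorem exact_residueField_comap_iff
    {ιF : F →ₗ[R] F'} (hF : IsBaseChange R' ιF) {ιG : G →ₗ[R] G'} (hG : IsBaseChange R' ιG)
    {ιH : H →ₗ[R] H'} (hH : IsBaseChange R' ιH)
    (u : F →ₗ[R] G) (v : G →ₗ[R] H) (u' : F' →ₗ[R'] G') (v' : G' →ₗ[R'] H')
    (hu : ∀ x, u' (ιF x) = ιG (u x)) (hv : ∀ x, v' (ιG x) = ιH (v x))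
    (p' : Ideal R') [p'.IsPrime] :
    Function.Exact (u'.baseChange p'.ResidueField) (v'.baseChange p'.ResidueField) ↔
      Function.Exact (u.baseChange (p'.comap (algebraMap R R')).ResidueField)
        (v.baseChange (p'.comap (algebraMap R R')).ResidueField) := by
  rw [exact_baseChange_iff_of_isBaseChange p'.ResidueField hF hG hH u v u' v' hu hv]
  refine exact_baseChange_field_iff p'.ResidueField (p'.comap (algebraMap R R')) ?_ u v
  rw [IsScalarTower.algebraMap_eq R R' p'.ResidueField, ← RingHom.comap_ker,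
    Ideal.ker_algebraMap_residueField]

end Prime

section Pushout

variable {R₁ R₂ P₁ P₂ : Type*} [CommRing R₁] [CommRing R₂] [CommRing P₁] [CommRing P₂]
  [Algebra R₁ R₂] [Algebra R₁ P₁] [Algebra R₁ P₂] [Algebra P₁ P₂] [Algebra R₂ P₂]
  [IsScalarTower R₁ P₁ P₂] [IsScalarTower R₁ R₂ P₂] [Algebra.IsPushout R₁ R₂ P₁ P₂]
  {M₁ M₂ : Type*} [AddCommGroup M₁] [Module R₁ M₁] [Module P₁ M₁] [IsScalarTower R₁ P₁ M₁]
  [AddCommGroup M₂] [Module R₁ M₂] [Module P₁ M₂] [Module R₂ M₂] [Module P₂ M₂]
  [IsScalarTower R₁ P₁ M₂] [IsScalarTower P₁ P₂ M₂] [IsScalarTower R₂ P₂ M₂]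
  [IsScalarTower R₁ R₂ M₂]

/-- A base change along `P₁ → P₂` is a base change along `R₁ → R₂` when `P₂ = R₂ ⊗ P₁`. -/
theorem isBaseChange_restrictScalars_of_isPushout (f : M₁ →ₗ[P₁] M₂) (hf : IsBaseChange P₂ f) :
    IsBaseChange R₂ (f.restrictScalars R₁) := by
  refine IsBaseChange.of_equiv
    ((Algebra.IsPushout.cancelBaseChange R₁ R₂ P₁ P₂ M₁).symm ≪≫ₗ hf.equiv.restrictScalars R₂) ?_
  intro x
  have h1 : (Algebra.IsPushout.cancelBaseChange R₁ R₂ P₁ P₂ M₁).symm ((1 : R₂) ⊗ₜ[R₁] x) =
      (1 : P₂) ⊗ₜ[P₁] x := by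
    rw [LinearEquiv.symm_apply_eq, Algebra.IsPushout.cancelBaseChange_tmul]
  simp only [LinearEquiv.trans_apply, h1]
  simp [IsBaseChange.equiv_tmul]

end Pushout

section QI

variable {R : Type*} [CommRing R]
  {F G H F' G' H' : Type*} [AddCommGroup F] [Module R F] [AddCommGroup G] [Module R G]
  [AddCommGroup H] [Module R H] [AddCommGroup F'] [Module R F'] [AddCommGroup G'] [Module R G']
  [AddCommGroup H'] [Module R H']

/-- Diagram chase: replacing the first two terms of a sequence by covers. -/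
theorem exact_iff_of_cover (u : F →ₗ[R] G) (v : G →ₗ[R] H) (u' : F' →ₗ[R] G') (v' : G' →ₗ[R] H')
    (πF : F' →ₗ[R] F) (πG : G' →ₗ[R] G) (e : H' →ₗ[R] H)
    (hF : Function.Surjective πF) (hG : Function.Surjective πG) (he : Function.Injective e)
    (hker : LinearMap.ker πG ≤ LinearMap.range u')
    (h1 : πG ∘ₗ u' = u ∘ₗ πF) (h2 : e ∘ₗ v' = v ∘ₗ πG) :
    Function.Exact u' v' ↔ Function.Exact u v := by
  have h1' : ∀ x, πG (u' x) = u (πF x) := fun x => LinearMap.congr_fun h1 x
  have h2' : ∀ x, e (v' x) = v (πG x) := fun x => LinearMap.congr_fun h2 x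
  constructor
  · intro hex g
    obtain ⟨g', rfl⟩ := hG g
    constructor
    · intro hg
      have : v' g' = 0 := he (by rw [h2', hg, map_zero])
      obtain ⟨f', rfl⟩ := (hex g').mp this
      exact ⟨πF f', (h1' f').symm⟩
    · rintro ⟨f, hf⟩
      obtain ⟨f', rfl⟩ := hF f
      rw [← hf, ← h1', ← h2', hex.apply_apply_eq_zero, map_zero]
  · intro hex g'
    constructor
    · intro hg
      have : v (πG g') = 0 := by rw [← h2', hg, map_zero]
      obtain ⟨f, hf⟩ := (hex _).mp this
      obtain ⟨f', rfl⟩ := hF f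
      have hk : g' - u' f' ∈ LinearMap.ker πG := by
        rw [LinearMap.mem_ker, map_sub, h1', hf, sub_self]
      obtain ⟨f'', hf''⟩ := hker hk
      exact ⟨f'' + f', by rw [map_add, hf'', sub_add_cancel]⟩
    · rintro ⟨f', rfl⟩
      apply he
      rw [h2', h1', hex.apply_apply_eq_zero, map_zero]

/-- The same after tensoring with any `R`-algebra. -/
theorem exact_baseChange_iff_of_cover (L : Type*) [CommRing L] [Algebra R L]
    (u : F →ₗ[R] G) (v : G →ₗ[R] H) (u' : F' →ₗ[R] G') (v' : G' →ₗ[R] H')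
    (πF : F' →ₗ[R] F) (πG : G' →ₗ[R] G) (e : H' ≃ₗ[R] H)
    (hF : Function.Surjective πF) (hG : Function.Surjective πG)
    (hker : LinearMap.ker πG ≤ LinearMap.range u')
    (h1 : πG ∘ₗ u' = u ∘ₗ πF) (h2 : e.toLinearMap ∘ₗ v' = v ∘ₗ πG) :
    Function.Exact (u'.baseChange L) (v'.baseChange L) ↔
      Function.Exact (u.baseChange L) (v.baseChange L) := by
  refine exact_iff_of_cover (u.baseChange L) (v.baseChange L) (u'.baseChange L)
    (v'.baseChange L) (πF.baseChange L) (πG.baseChange L) (e.toLinearMap.baseChange L)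
    ?_ ?_ ?_ ?_ ?_ ?_
  · rw [LinearMap.baseChange_eq_ltensor]; exact LinearMap.lTensor_surjective L hF
  · rw [LinearMap.baseChange_eq_ltensor]; exact LinearMap.lTensor_surjective L hG
  · rw [LinearMap.baseChange_eq_ltensor]
    exact (LinearEquiv.lTensor L e).injective
  · have hex : Function.Exact ((LinearMap.ker πG).subtype.baseChange L) (πG.baseChange L) := by
      rw [LinearMap.baseChange_eq_ltensor, LinearMap.baseChange_eq_ltensor]
      exact lTensor_exact L πG.exact_subtype_ker_map hG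
    have key : ∀ w, (LinearMap.ker πG).subtype.baseChange L w ∈
        LinearMap.range (u'.baseChange L) := by
      intro w
      induction w using TensorProduct.induction_on with
      | zero => simp
      | tmul l k =>
        obtain ⟨x, hx⟩ := hker k.2
        refine ⟨l ⊗ₜ x, ?_⟩
        simp [hx]
      | add a b ha hb =>
        rw [map_add]
        exact Submodule.add_mem _ ha hb
    intro z hz
    obtain ⟨w, rfl⟩ := (hex z).mp hz
    exact key w
  · rw [← LinearMap.baseChange_comp, ← LinearMap.baseChange_comp, h1]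
  · rw [← LinearMap.baseChange_comp, ← LinearMap.baseChange_comp, h2]

end QI

end Groth.Agent.Lib.Helper58.FibEx
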