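import Mathlib
import Groth.Agent.Lib.Helper58.FibEx2
import Groth.Agent.Lib.Helper12.GenericExact

set_option autoImplicit false

open TensorProduct

universe u

namespace Groth.Agent.Lib.Helper58.FibEx

section Away

variable {R : Type*} [CommRing R] (f : R) (T : Type*) [CommRing T] [Algebra R T]
  (M : Type*) [AddCommGroup M] [Module R M]

/-- If `f` is a unit in `T` and `R_f ⊗ M` is free over `R_f`, then `T ⊗ M` is trivial iff
`R_f ⊗ M` is. -/
theorem nontrivial_tensor_iff_of_free_away [Nontrivial T] (hf : IsUnit (algebraMap R T f))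
    [Module.Free (Localization.Away f) (Localization.Away f ⊗[R] M)] :
    Nontrivial (T ⊗[R] M) ↔ Nontrivial (Localization.Away f ⊗[R] M) := by
  let g : Localization.Away f →+* T := IsLocalization.Away.lift f hf
  letI : Algebra (Localization.Away f) T := g.toAlgebra
  haveI : IsScalarTower R (Localization.Away f) T := IsScalarTower.of_algebraMap_eq (fun x =>
    (IsLocalization.Away.lift_eq f hf x).symm)
  have e : T ⊗[Localization.Away f] (Localization.Away f ⊗[R] M) ≃ₗ[T] T ⊗[R] M :=
    TensorProduct.AlgebraTensorModule.cancelBaseChange R (Localization.Away f) T T M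
  rw [← e.toEquiv.nontrivial_congr]
  constructor
  · intro h
    by_contra hN
    rw [not_nontrivial_iff_subsingleton] at hN
    have : Subsingleton (T ⊗[Localization.Away f] (Localization.Away f ⊗[R] M)) := inferInstance
    exact not_nontrivial _ h
  · intro h
    haveI := h
    exact (Module.FaithfullyFlat.nontrivial_tensorProduct_iff_left
      (R := Localization.Away f) (N := Localization.Away f ⊗[R] M) (M := T)).mpr inferInstance

/-- If `a` acts invertibly on `T` and kills `M`, then `T ⊗ M = 0`. -/
theorem subsingleton_tensor_of_smul_eq_zero (a : R) (ha : IsUnit (algebraMap R T a))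
    (hM : ∀ x : M, a • x = 0) : Subsingleton (T ⊗[R] M) := by
  refine subsingleton_of_forall_eq 0 fun z => ?_
  induction z using TensorProduct.induction_on with
  | zero => rfl
  | add x y hx hy => rw [hx, hy, add_zero]
  | tmul t x =>
    have : t ⊗ₜ[R] x = ((ha.unit⁻¹ : Tˣ).val * t) ⊗ₜ[R] (a • x) := by
      rw [tmul_smul, smul_tmul', Algebra.smul_def, ← mul_assoc, IsUnit.mul_val_inv, one_mul]
    rw [this, hM, tmul_zero]

end Away

section Chase

variable {R : Type*} [CommRing R] (L : Type*) [CommRing L] [Algebra R L]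
  {F G H J F₁ Z Hm : Type*} [AddCommGroup F] [Module R F] [AddCommGroup G] [Module R G]
  [AddCommGroup H] [Module R H] [AddCommGroup J] [Module R J] [AddCommGroup F₁] [Module R F₁]
  [AddCommGroup Z] [Module R Z] [AddCommGroup Hm] [Module R Hm]

/-- Case (i): if `v ∘ u` factors as a surjection onto `J` followed by a map which is injective on
the `L`-fibre, and the `L`-fibre of `J` is nonzero, then the `L`-fibre is not exact. -/
theorem not_exact_of_comp_ne_zero (u : F →ₗ[R] G) (v : G →ₗ[R] H) (r : F →ₗ[R] J) (ι : J →ₗ[R] H)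
    (hr : Function.Surjective r) (hw : ι ∘ₗ r = v ∘ₗ u)
    (hι : Function.Injective (ι.baseChange L)) [Nontrivial (L ⊗[R] J)] :
    ¬ Function.Exact (u.baseChange L) (v.baseChange L) := by
  intro hex
  obtain ⟨y, hy⟩ := exists_ne (0 : L ⊗[R] J)
  have hrL : Function.Surjective (r.baseChange L) := by
    rw [LinearMap.baseChange_eq_ltensor]; exact LinearMap.lTensor_surjective L hr
  obtain ⟨x, rfl⟩ := hrL y
  apply hy
  apply hι
  rw [map_zero, ← LinearMap.comp_apply, ← LinearMap.baseChange_comp, hw, LinearMap.baseChange_comp,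
    LinearMap.comp_apply]
  exact hex.apply_apply_eq_zero x

/-- Case (ii). -/
theorem subsingleton_of_exact (u : F →ₗ[R] G) (v : G →ₗ[R] H) (iF : F₁ →ₗ[R] F) (iZ : Z →ₗ[R] G)
    (u₁ : F₁ →ₗ[R] Z) (q : Z →ₗ[R] Hm) (hq : Function.Surjective q) (hu₁q : q ∘ₗ u₁ = 0)
    (hsq : iZ ∘ₗ u₁ = u ∘ₗ iF) (hvZ : v ∘ₗ iZ = 0)
    (hiF : Function.Surjective (iF.baseChange L)) (hiZ : Function.Injective (iZ.baseChange L))
    (hex : Function.Exact (u.baseChange L) (v.baseChange L)) : Subsingleton (L ⊗[R] Hm) := by
  have hqL : Function.Surjective (q.baseChange L) := by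
    rw [LinearMap.baseChange_eq_ltensor]; exact LinearMap.lTensor_surjective L hq
  refine subsingleton_of_forall_eq 0 fun y => ?_
  obtain ⟨z, rfl⟩ := hqL y
  have h1 : v.baseChange L (iZ.baseChange L z) = 0 := by
    rw [← LinearMap.comp_apply, ← LinearMap.baseChange_comp, hvZ, LinearMap.baseChange_zero,
      LinearMap.zero_apply]
  obtain ⟨f, hf⟩ := (hex _).mp h1
  obtain ⟨f₁, rfl⟩ := hiF f
  have h2 : iZ.baseChange L (u₁.baseChange L f₁) = iZ.baseChange L z := by
    rw [← hf, ← LinearMap.comp_apply, ← LinearMap.baseChange_comp, hsq, LinearMap.baseChange_comp,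
      LinearMap.comp_apply]
  rw [← hiZ h2, ← LinearMap.comp_apply, ← LinearMap.baseChange_comp, hu₁q,
    LinearMap.baseChange_zero, LinearMap.zero_apply]

/-- Generic exactness from vanishing of the homology module. -/
theorem exact_of_subsingleton [Module.Flat R L] (u : F →ₗ[R] G) (v : G →ₗ[R] H) (iF : F₁ →ₗ[R] F)
    (iZ : Z →ₗ[R] G) (u₁ : F₁ →ₗ[R] Z) (q : Z →ₗ[R] Hm) (hq : Function.Surjective q)
    (hu₁q : Function.Exact u₁ q) (hsq : iZ ∘ₗ u₁ = u ∘ₗ iF) (hvZ : Function.Exact iZ v)
    (hvu : (v ∘ₗ u).baseChange L = 0) [Subsingleton (L ⊗[R] Hm)] :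
    Function.Exact (u.baseChange L) (v.baseChange L) := by
  have h1 : Function.Exact (iZ.baseChange L) (v.baseChange L) := by
    rw [LinearMap.baseChange_eq_ltensor, LinearMap.baseChange_eq_ltensor]
    exact Module.Flat.lTensor_exact L hvZ
  have h2 : Function.Exact (u₁.baseChange L) (q.baseChange L) := by
    rw [LinearMap.baseChange_eq_ltensor, LinearMap.baseChange_eq_ltensor]
    exact lTensor_exact L hu₁q hq
  intro g
  constructor
  · intro hg
    obtain ⟨z, rfl⟩ := (h1 g).mp hg
    obtain ⟨f₁, rfl⟩ := (h2 z).mp (Subsingleton.elim _ _)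
    refine ⟨iF.baseChange L f₁, ?_⟩
    rw [← LinearMap.comp_apply, ← LinearMap.baseChange_comp, ← hsq, LinearMap.baseChange_comp,
      LinearMap.comp_apply]
  · rintro ⟨f, rfl⟩
    rw [← LinearMap.comp_apply, ← LinearMap.baseChange_comp, hvu, LinearMap.zero_apply]

end Chase

section Generic

variable {R B : Type u} [CommRing R] [IsDomain R] [CommRing B] [Algebra R B]
  [Algebra.FiniteType R B]

/-- A finite module over a finite type algebra over a domain with nonzero generic fibre has
nonzero fibres over a nonempty open. -/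
theorem exists_forall_nontrivial_fibre (M : Type u) [AddCommGroup M] [Module B M] [Module R M]
    [IsScalarTower R B M] [Module.Finite B M] (hM : Nontrivial (FractionRing R ⊗[R] M)) :
    ∃ a : R, a ≠ 0 ∧ ∀ p : Ideal R, ∀ [p.IsPrime], a ∉ p →
      Nontrivial (p.ResidueField ⊗[R] M) := by
  obtain ⟨f, hf0, hfree, -, -, -⟩ :=
    Groth.Agent.Lib.Helper91.generic_freeness (R := R) (S := B) (M := M)
  haveI := hfree
  have hK : IsUnit (algebraMap R (FractionRing R) f) := by
    rw [isUnit_iff_ne_zero]
    simpa using hf0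
  have hN : Nontrivial (Localization.Away f ⊗[R] M) :=
    (nontrivial_tensor_iff_of_free_away f (FractionRing R) M hK).mp hM
  refine ⟨f, hf0, fun p _ hp => ?_⟩
  have hu : IsUnit (algebraMap R p.ResidueField f) := by
    rw [isUnit_iff_ne_zero, Ne, Ideal.algebraMap_residueField_eq_zero]
    exact hp
  exact (nontrivial_tensor_iff_of_free_away f p.ResidueField M hu).mpr hN

/-- Generic injectivity on fibres. -/
theorem exists_forall_injective_fibre {N M : Type u} [AddCommGroup N] [Module B N] [Module R N]
    [IsScalarTower R B N] [Module.Finite B N] [AddCommGroup M] [Module B M] [Module R M]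
    [IsScalarTower R B M] [Module.Finite B M] (ι : N →ₗ[B] M) (hι : Function.Injective ι) :
    ∃ a : R, a ≠ 0 ∧ ∀ p : PrimeSpectrum R, a ∉ p.asIdeal →
      Function.Injective ((ι.restrictScalars R).baseChange p.asIdeal.ResidueField) := by
  have hgen : Function.Exact
      (((0 : PUnit.{u+1} →ₗ[B] N).restrictScalars R).baseChange (FractionRing R))
      ((ι.restrictScalars R).baseChange (FractionRing R)) := by
    have h0 : ((0 : PUnit.{u+1} →ₗ[B] N).restrictScalars R) = 0 := rfl
    rw [h0, LinearMap.baseChange_zero, LinearMap.exact_zero_iff_injective,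
      LinearMap.baseChange_eq_ltensor]
    exact Module.Flat.lTensor_preserves_injective_linearMap (ι.restrictScalars R) hι
  obtain ⟨a, ha, h⟩ := Groth.Agent.Lib.Helper12.GenericExact.generic_exact
    (0 : PUnit.{u+1} →ₗ[B] N) ι hgen
  refine ⟨a, ha, fun p hp => ?_⟩
  have := h p hp
  have h0 : ((0 : PUnit.{u+1} →ₗ[B] N).restrictScalars R) = 0 := rfl
  rwa [h0, LinearMap.baseChange_zero, LinearMap.exact_zero_iff_injective] at this

end Generic

section Dichotomy

open Groth.Agent.Lib.Helper12.GenericExact

variable {R B : Type u} [CommRing R] [IsDomain R] [CommRing B] [Algebra R B]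
  [Algebra.FiniteType R B] [IsNoetherianRing B]
  {F G H : Type u} [AddCommGroup F] [Module B F] [Module R F] [IsScalarTower R B F]
  [Module.Finite B F]
  [AddCommGroup G] [Module B G] [Module R G] [IsScalarTower R B G] [Module.Finite B G]
  [AddCommGroup H] [Module B H] [Module R H] [IsScalarTower R B H] [Module.Finite B H]

/-- Over a Noetherian domain, fibrewise exactness is constant on a nonempty basic open. -/
theorem dichotomy (u : F →ₗ[B] G) (v : G →ₗ[B] H) :
    ∃ a : R, a ≠ 0 ∧
      ((∀ p : PrimeSpectrum R, a ∉ p.asIdeal →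
        Function.Exact ((u.restrictScalars R).baseChange p.asIdeal.ResidueField)
          ((v.restrictScalars R).baseChange p.asIdeal.ResidueField)) ∨
       (∀ p : PrimeSpectrum R, a ∉ p.asIdeal →
        ¬ Function.Exact ((u.restrictScalars R).baseChange p.asIdeal.ResidueField)
          ((v.restrictScalars R).baseChange p.asIdeal.ResidueField))) := by
  classical
  by_cases hgen : Function.Exact ((u.restrictScalars R).baseChange (FractionRing R))
      ((v.restrictScalars R).baseChange (FractionRing R))
  · obtain ⟨a, ha, h⟩ := generic_exact u v hgen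
    exact ⟨a, ha, Or.inl h⟩
  haveI : IsNoetherian B F := isNoetherian_of_isNoetherianRing_of_finite B F
  haveI : IsNoetherian B G := isNoetherian_of_isNoetherianRing_of_finite B G
  haveI : IsNoetherian B H := isNoetherian_of_isNoetherianRing_of_finite B H
  let w : F →ₗ[B] H := v ∘ₗ u
  let J : Submodule B H := LinearMap.range w
  have hwfac : (J.subtype.restrictScalars R) ∘ₗ (w.rangeRestrict.restrictScalars R) =
      (v.restrictScalars R) ∘ₗ (u.restrictScalars R) := by
    ext x; rfl
  by_cases hJ : Nontrivial (FractionRing R ⊗[R] J)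
  · -- case (i)
    obtain ⟨a₁, ha₁, h₁⟩ := exists_forall_nontrivial_fibre (B := B) J hJ
    obtain ⟨a₂, ha₂, h₂⟩ := exists_forall_injective_fibre (R := R) J.subtype J.injective_subtype
    refine ⟨a₁ * a₂, mul_ne_zero ha₁ ha₂, Or.inr fun p hp => ?_⟩
    have hp₁ : a₁ ∉ p.asIdeal := fun h => hp (p.asIdeal.mul_mem_right _ h)
    have hp₂ : a₂ ∉ p.asIdeal := fun h => hp (p.asIdeal.mul_mem_left _ h)
    haveI := h₁ p.asIdeal hp₁
    exact not_exact_of_comp_ne_zero p.asIdeal.ResidueField (u.restrictScalars R)
      (v.restrictScalars R) (w.rangeRestrict.restrictScalars R) (J.subtype.restrictScalars R)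
      w.surjective_rangeRestrict hwfac (h₂ p hp₂)
  · -- case (ii)
    rw [not_nontrivial_iff_subsingleton] at hJ
    have hJtors : ∀ y : J, ∃ s ∈ nonZeroDivisors R, s • y = 0 := fun y =>
      exists_smul_eq_zero_of_tmul_eq_zero (nonZeroDivisors R) (FractionRing R) y
        (Subsingleton.elim _ _)
    obtain ⟨gJ, hgJ⟩ := (Module.Finite.fg_top : (⊤ : Submodule B J).FG)
    obtain ⟨a₁, ha₁, h₁⟩ := exists_smul_mem_of_finite (R := R) (nonZeroDivisors R)
      (⊥ : Submodule B J) (gJ : Set J) gJ.finite_toSet (fun n _ => by simpa using hJtors n)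
    rw [hgJ] at h₁
    have hkill : ∀ y : J, a₁ • y = 0 := fun y => by simpa using h₁ y Submodule.mem_top
    let Z : Submodule B G := LinearMap.ker v
    let F₁ : Submodule B F := LinearMap.ker w
    let u₁ : F₁ →ₗ[B] Z := (u ∘ₗ F₁.subtype).codRestrict Z (fun x => x.2)
    let Hm := Z ⧸ LinearMap.range u₁
    let q : Z →ₗ[B] Hm := (LinearMap.range u₁).mkQ
    have hq : Function.Surjective q := Submodule.mkQ_surjective _
    have hu₁q : Function.Exact u₁ q := LinearMap.exact_map_mkQ_range u₁
    have hsq : (Z.subtype.restrictScalars R) ∘ₗ (u₁.restrictScalars R) =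
        (u.restrictScalars R) ∘ₗ (F₁.subtype.restrictScalars R) := by
      ext x; rfl
    have hvZ : Function.Exact Z.subtype v := LinearMap.exact_subtype_ker_map v
    have hHm : Nontrivial (FractionRing R ⊗[R] Hm) := by
      by_contra hs
      rw [not_nontrivial_iff_subsingleton] at hs
      haveI := hs
      apply hgen
      refine exact_of_subsingleton (FractionRing R) (u.restrictScalars R) (v.restrictScalars R)
        (F₁.subtype.restrictScalars R) (Z.subtype.restrictScalars R) (u₁.restrictScalars R)
        (q.restrictScalars R) hq hu₁q hsq hvZ ?_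
      rw [← hwfac, LinearMap.baseChange_comp]
      refine LinearMap.ext fun z => ?_
      rw [LinearMap.comp_apply, LinearMap.zero_apply]
      rw [Subsingleton.elim ((w.rangeRestrict.restrictScalars R).baseChange (FractionRing R) z) 0,
        map_zero]
    obtain ⟨a₂, ha₂, h₂⟩ := exists_forall_nontrivial_fibre (B := B) Hm hHm
    obtain ⟨a₃, ha₃, h₃⟩ := exists_forall_injective_fibre (R := R) Z.subtype Z.injective_subtype
    refine ⟨a₁ * a₂ * a₃, mul_ne_zero (mul_ne_zero (nonZeroDivisors.ne_zero ha₁) ha₂) ha₃,
      Or.inr fun p hp hex => ?_⟩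
    have hp₁ : a₁ ∉ p.asIdeal := fun h => hp
      (p.asIdeal.mul_mem_right _ (p.asIdeal.mul_mem_right _ h))
    have hp₂ : a₂ ∉ p.asIdeal := fun h => hp
      (p.asIdeal.mul_mem_right _ (p.asIdeal.mul_mem_left _ h))
    have hp₃ : a₃ ∉ p.asIdeal := fun h => hp (p.asIdeal.mul_mem_left _ h)
    haveI := h₂ p.asIdeal hp₂
    have hunit : IsUnit (algebraMap R p.asIdeal.ResidueField a₁) := by
      rw [isUnit_iff_ne_zero, Ne, Ideal.algebraMap_residueField_eq_zero]
      exact hp₁
    haveI hJp : Subsingleton (p.asIdeal.ResidueField ⊗[R] J) :=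
      subsingleton_tensor_of_smul_eq_zero p.asIdeal.ResidueField J a₁ hunit hkill
    have hiF : Function.Surjective
        ((F₁.subtype.restrictScalars R).baseChange p.asIdeal.ResidueField) := by
      have hex1 : Function.Exact (F₁.subtype.restrictScalars R)
          (w.rangeRestrict.restrictScalars R) := by
        intro x
        change w.rangeRestrict x = 0 ↔ x ∈ Set.range F₁.subtype
        rw [← LinearMap.mem_ker, LinearMap.ker_rangeRestrict]
        simp [F₁]
      have hex2 : Function.Exact
          ((F₁.subtype.restrictScalars R).baseChange p.asIdeal.ResidueField)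
          ((w.rangeRestrict.restrictScalars R).baseChange p.asIdeal.ResidueField) := by
        rw [LinearMap.baseChange_eq_ltensor, LinearMap.baseChange_eq_ltensor]
        exact lTensor_exact _ hex1 w.surjective_rangeRestrict
      intro f
      exact (hex2 f).mp (Subsingleton.elim _ _)
    have := subsingleton_of_exact p.asIdeal.ResidueField (u.restrictScalars R)
      (v.restrictScalars R) (F₁.subtype.restrictScalars R) (Z.subtype.restrictScalars R)
      (u₁.restrictScalars R) (q.restrictScalars R) hq (by ext x; exact (hu₁q.apply_apply_eq_zero x))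
      hsq (by ext x; exact x.2) hiF (h₃ p hp₃) hex
    exact not_nontrivial _ ‹Nontrivial (p.asIdeal.ResidueField ⊗[R] Hm)›

end Dichotomy

end Groth.Agent.Lib.Helper58.FibEx
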