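import Mathlib
import Groth.Agent.Lib.Helper58.FibEx2
import Groth.Agent.H76.FlatModel

set_option autoImplicit false

open TensorProduct Groth.Agent.H76.FlatKernel Groth.Agent.H76.FlatBaseChange

namespace Groth.Agent.Lib.Helper58.FibEx

attribute [local instance] MvPolynomial.algebraMvPolynomial

section NF

variable {σ κa κb κc κd : Type*} [Fintype κa] [Fintype κb] [Fintype κc] [Fintype κd]

/-- First map of the normal form `R[x]^a → R[x]^b → R[x]^c / γ`. -/
noncomputable def nfU {R : Type*} [CommRing R] (α : κa → κb → MvPolynomial σ R) :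
    (κa → MvPolynomial σ R) →ₗ[R] (κb → MvPolynomial σ R) :=
  (matMap α).restrictScalars R

/-- Second map of the normal form `R[x]^a → R[x]^b → R[x]^c / γ`. -/
noncomputable def nfV {R : Type*} [CommRing R] (β : κb → κc → MvPolynomial σ R)
    (γ : κd → κc → MvPolynomial σ R) :
    (κb → MvPolynomial σ R) →ₗ[R]
      ((κc → MvPolynomial σ R) ⧸ Submodule.span (MvPolynomial σ R) (Set.range γ)) :=
  ((Submodule.mkQ _) ∘ₗ matMap β).restrictScalars R

/-- Exactness of the `L`-fibre of the normal form sequence. -/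
def NFExact {R : Type*} [CommRing R] (L : Type*) [CommRing L] [Algebra R L]
    (α : κa → κb → MvPolynomial σ R) (β : κb → κc → MvPolynomial σ R)
    (γ : κd → κc → MvPolynomial σ R) : Prop :=
  Function.Exact ((nfU α).baseChange L) ((nfV β γ).baseChange L)

variable {R₁ R₂ : Type*} [CommRing R₁] [CommRing R₂] [Algebra R₁ R₂]

theorem nfExact_comap_iff (α : κa → κb → MvPolynomial σ R₁) (β : κb → κc → MvPolynomial σ R₁)
    (γ : κd → κc → MvPolynomial σ R₁) (p : Ideal R₂) [p.IsPrime] :
    NFExact p.ResidueField (cmap (algebraMap R₁ R₂) α) (cmap (algebraMap R₁ R₂) β)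
        (cmap (algebraMap R₁ R₂) γ) ↔
      NFExact (p.comap (algebraMap R₁ R₂)).ResidueField α β γ := by
  have hFa : IsBaseChange (MvPolynomial σ R₂)
      ((Algebra.linearMap (MvPolynomial σ R₁) (MvPolynomial σ R₂)).compLeft κa) :=
    IsBaseChange.finitePow κa (IsBaseChange.linearMap _ _)
  have hFb : IsBaseChange (MvPolynomial σ R₂)
      ((Algebra.linearMap (MvPolynomial σ R₁) (MvPolynomial σ R₂)).compLeft κb) :=
    IsBaseChange.finitePow κb (IsBaseChange.linearMap _ _)
  have hFc : IsBaseChange (MvPolynomial σ R₂) (cokerMap (P₂ := MvPolynomial σ R₂) γ) :=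
    isBaseChange_cokerMap γ
  refine exact_residueField_comap_iff (R := R₁) (R' := R₂)
    (isBaseChange_restrictScalars_of_isPushout _ hFa)
    (isBaseChange_restrictScalars_of_isPushout _ hFb)
    (isBaseChange_restrictScalars_of_isPushout _ hFc) (nfU α) (nfV β γ)
    (nfU (cmap (algebraMap R₁ R₂) α)) (nfV (cmap (algebraMap R₁ R₂) β) (cmap (algebraMap R₁ R₂) γ))
    ?_ ?_ p
  · intro x
    exact (vmap_matMap (algebraMap R₁ R₂) α x).symm
  · intro x
    change Submodule.Quotient.mk (matMap (cmap (algebraMap R₁ R₂) β) (vmap (algebraMap R₁ R₂) x)) =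
      cokerMap (P₂ := MvPolynomial σ R₂) γ (Submodule.Quotient.mk (matMap β x))
    rw [cokerMap_mk, ← vmap_matMap]
    rfl

end NF

end Groth.Agent.Lib.Helper58.FibEx
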