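import Mathlib
import Groth.Agent.Lib.Helper58.FibExNF
import Groth.Agent.Lib.Helper58.FibExDich
import Groth.Agent.Lib.Helper12.ConstrTop
import Groth.Agent.H76.FlatDescentLocal

set_option autoImplicit false

open TensorProduct Topology Groth.Agent.H76.FlatKernel Groth.Agent.H76.FlatBaseChange
  Groth.Agent.H76.FlatDescentLocal

universe u

namespace Groth.Agent.Lib.Helper58.FibEx

attribute [local instance] MvPolynomial.algebraMvPolynomial

theorem isConstructible_preimage_comap {R S : Type*} [CommRing R] [CommRing S] (f : R →+* S)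
    {E : Set (PrimeSpectrum R)} (hE : IsConstructible E) :
    IsConstructible (PrimeSpectrum.comap f ⁻¹' E) := by
  classical
  refine hE.preimage (PrimeSpectrum.continuous_comap f) fun s hso hsc => ?_
  obtain ⟨t, rfl⟩ := PrimeSpectrum.isCompact_isOpen_iff.mp ⟨hsc.isCompact, hso⟩
  rw [Set.preimage_compl, PrimeSpectrum.preimage_comap_zeroLocus]
  have : (f '' (t : Set R)) = ((t.image f : Finset S) : Set S) := by rw [Finset.coe_image]
  rw [this]
  exact PrimeSpectrum.isRetrocompact_zeroLocus_compl (Finset.finite_toSet _)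

section Noeth

variable {n : ℕ} {κa κb κc κd : Type} [Fintype κa] [Fintype κb] [Fintype κc] [Fintype κd]

theorem isConstructible_nfExact_of_isNoetherianRing {R : Type u} [CommRing R] [IsNoetherianRing R]
    (α : κa → κb → MvPolynomial (Fin n) R) (β : κb → κc → MvPolynomial (Fin n) R)
    (γ : κd → κc → MvPolynomial (Fin n) R) :
    IsConstructible {p : PrimeSpectrum R | NFExact p.asIdeal.ResidueField α β γ} := by
  have key := (Groth.Agent.Lib.Helper12.ConstrTop.constructible_function_iff
    (X := PrimeSpectrum R) (fun p => NFExact p.asIdeal.ResidueField α β γ)).2 ?_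
  · convert key.1 True using 1
    ext p
    simp
  intro Y hYc hYi
  let P : Ideal R := PrimeSpectrum.vanishingIdeal Y
  haveI hP : P.IsPrime := (PrimeSpectrum.isIrreducible_iff_vanishingIdeal_isPrime).mp hYi
  have hY : Y = PrimeSpectrum.zeroLocus (P : Set R) := by
    rw [PrimeSpectrum.zeroLocus_vanishingIdeal_eq_closure, hYc.closure_eq]
  obtain ⟨ā, hā, hdich⟩ := dichotomy (R := R ⧸ P) (B := MvPolynomial (Fin n) (R ⧸ P))
    (matMap (cmap (algebraMap R (R ⧸ P)) α))
    ((Submodule.mkQ (Submodule.span (MvPolynomial (Fin n) (R ⧸ P))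
      (Set.range (cmap (algebraMap R (R ⧸ P)) γ)))) ∘ₗ matMap (cmap (algebraMap R (R ⧸ P)) β))
  obtain ⟨a, rfl⟩ := Ideal.Quotient.mk_surjective ā
  have haP : a ∉ P := by rwa [Ne, Ideal.Quotient.eq_zero_iff_mem] at hā
  refine ⟨PrimeSpectrum.basicOpen a, (PrimeSpectrum.basicOpen a).isOpen,
    ⟨⟨P, hP⟩, haP, ?_⟩, ?_⟩
  · rw [hY]
    exact fun x hx => hx
  have hrange : Set.range (PrimeSpectrum.comap (Ideal.Quotient.mk P)) =
      PrimeSpectrum.zeroLocus (P : Set R) := by
    rw [range_comap_of_surjective _ _ Ideal.Quotient.mk_surjective, Ideal.mk_ker]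
  have hval : ∀ q ∈ (PrimeSpectrum.basicOpen a : Set (PrimeSpectrum R)) ∩ Y,
      ∃ q' : PrimeSpectrum (R ⧸ P), Ideal.Quotient.mk P a ∉ q'.asIdeal ∧
        (NFExact q.asIdeal.ResidueField α β γ ↔
          NFExact q'.asIdeal.ResidueField (cmap (algebraMap R (R ⧸ P)) α)
            (cmap (algebraMap R (R ⧸ P)) β) (cmap (algebraMap R (R ⧸ P)) γ)) := by
    rintro q ⟨hqa, hqY⟩
    rw [hY, ← hrange] at hqY
    obtain ⟨q', rfl⟩ := hqY
    refine ⟨q', fun h => hqa h, ?_⟩
    exact (nfExact_comap_iff α β γ q'.asIdeal).symm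
  intro q₁ hq₁ q₂ hq₂
  obtain ⟨q₁', h₁, e₁⟩ := hval q₁ hq₁
  obtain ⟨q₂', h₂, e₂⟩ := hval q₂ hq₂
  apply propext
  rw [e₁, e₂]
  rcases hdich with h | h
  · exact iff_of_true (h q₁' h₁) (h q₂' h₂)
  · exact iff_of_false (h q₁' h₁) (h q₂' h₂)

/-- Constructibility of the exactness locus of a normal form sequence over any ring. -/
theorem isConstructible_nfExact {R : Type u} [CommRing R]
    (α : κa → κb → MvPolynomial (Fin n) R) (β : κb → κc → MvPolynomial (Fin n) R)
    (γ : κd → κc → MvPolynomial (Fin n) R) :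
    IsConstructible {p : PrimeSpectrum R | NFExact p.asIdeal.ResidueField α β γ} := by
  classical
  let s : Finset R :=
    ((Finset.univ.biUnion fun j => Finset.univ.biUnion fun i => (α j i).coeffs) ∪
      (Finset.univ.biUnion fun j => Finset.univ.biUnion fun i => (β j i).coeffs)) ∪
      (Finset.univ.biUnion fun j => Finset.univ.biUnion fun i => (γ j i).coeffs)
  have hα : ∀ j i, ∃ f : MvPolynomial (Fin n) (Stg s),
      MvPolynomial.map (algebraMap (Stg s) R) f = α j i := by
    intro j i
    apply exists_map_eq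
    intro x hx
    apply Finset.mem_union_left
    apply Finset.mem_union_left
    simp only [Finset.mem_biUnion, Finset.mem_univ, true_and]
    exact ⟨j, i, hx⟩
  have hβ : ∀ j i, ∃ f : MvPolynomial (Fin n) (Stg s),
      MvPolynomial.map (algebraMap (Stg s) R) f = β j i := by
    intro j i
    apply exists_map_eq
    intro x hx
    apply Finset.mem_union_left
    apply Finset.mem_union_right
    simp only [Finset.mem_biUnion, Finset.mem_univ, true_and]
    exact ⟨j, i, hx⟩
  have hγ : ∀ j i, ∃ f : MvPolynomial (Fin n) (Stg s),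
      MvPolynomial.map (algebraMap (Stg s) R) f = γ j i := by
    intro j i
    apply exists_map_eq
    intro x hx
    apply Finset.mem_union_right
    simp only [Finset.mem_biUnion, Finset.mem_univ, true_and]
    exact ⟨j, i, hx⟩
  choose α₀ hα₀ using hα
  choose β₀ hβ₀ using hβ
  choose γ₀ hγ₀ using hγ
  have hα' : α = cmap (algebraMap (Stg s) R) α₀ := by
    funext j i
    exact (hα₀ j i).symm
  have hβ' : β = cmap (algebraMap (Stg s) R) β₀ := by
    funext j i
    exact (hβ₀ j i).symm
  have hγ' : γ = cmap (algebraMap (Stg s) R) γ₀ := by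
    funext j i
    exact (hγ₀ j i).symm
  have hset : {p : PrimeSpectrum R | NFExact p.asIdeal.ResidueField α β γ} =
      PrimeSpectrum.comap (algebraMap (Stg s) R) ⁻¹'
        {p₀ : PrimeSpectrum (Stg s) | NFExact p₀.asIdeal.ResidueField α₀ β₀ γ₀} := by
    ext p
    rw [hα', hβ', hγ']
    exact nfExact_comap_iff α₀ β₀ γ₀ p.asIdeal
  rw [hset]
  exact isConstructible_preimage_comap _ (isConstructible_nfExact_of_isNoetherianRing α₀ β₀ γ₀)

end Noeth

end Groth.Agent.Lib.Helper58.FibEx
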