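import Mathlib
import Groth.Agent.Lib.Helper58.FibExCons

set_option autoImplicit false

open TensorProduct Topology Groth.Agent.H76.FlatKernel

universe u

namespace Groth.Agent.Lib.Helper58.FibEx

section Poly

variable {R : Type u} [CommRing R] {n : ℕ}
  {F G H : Type u} [AddCommGroup F] [Module (MvPolynomial (Fin n) R) F] [Module R F]
  [IsScalarTower R (MvPolynomial (Fin n) R) F] [Module.Finite (MvPolynomial (Fin n) R) F]
  [AddCommGroup G] [Module (MvPolynomial (Fin n) R) G] [Module R G]
  [IsScalarTower R (MvPolynomial (Fin n) R) G] [Module.FinitePresentation (MvPolynomial (Fin n) R) G]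
  [AddCommGroup H] [Module (MvPolynomial (Fin n) R) H] [Module R H]
  [IsScalarTower R (MvPolynomial (Fin n) R) H] [Module.FinitePresentation (MvPolynomial (Fin n) R) H]

/-- Constructibility of the fibrewise exactness locus for finitely presented modules over a
polynomial ring. -/
theorem isConstructible_exact_poly (u : F →ₗ[MvPolynomial (Fin n) R] G)
    (v : G →ₗ[MvPolynomial (Fin n) R] H) :
    IsConstructible {p : PrimeSpectrum R |
      Function.Exact ((u.restrictScalars R).baseChange p.asIdeal.ResidueField)
        ((v.restrictScalars R).baseChange p.asIdeal.ResidueField)} := by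
  classical
  obtain ⟨a₁, πF, hπF⟩ := Module.Finite.exists_fin' (MvPolynomial (Fin n) R) F
  obtain ⟨b, πG, hπG⟩ := Module.Finite.exists_fin' (MvPolynomial (Fin n) R) G
  obtain ⟨a₂, k, hk⟩ := Submodule.fg_iff_exists_fin_generating_family.mp
    (Module.FinitePresentation.fg_ker πG hπG)
  obtain ⟨c, πH, hπH⟩ := Module.Finite.exists_fin' (MvPolynomial (Fin n) R) H
  obtain ⟨d, γ, hγ⟩ := Submodule.fg_iff_exists_fin_generating_family.mp
    (Module.FinitePresentation.fg_ker πH hπH)
  have hũ : ∀ j : Fin a₁, ∃ y : Fin b → MvPolynomial (Fin n) R,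
      πG y = u (πF (Pi.single j 1)) := fun j => hπG _
  choose ũ hũ using hũ
  have hβ : ∀ j : Fin b, ∃ y : Fin c → MvPolynomial (Fin n) R,
      πH y = v (πG (Pi.single j 1)) := fun j => hπH _
  choose β hβ using hβ
  let α : (Fin a₁ ⊕ Fin a₂) → Fin b → MvPolynomial (Fin n) R := Sum.elim ũ k
  let e : ((Fin c → MvPolynomial (Fin n) R) ⧸
      Submodule.span (MvPolynomial (Fin n) R) (Set.range γ)) ≃ₗ[MvPolynomial (Fin n) R] H :=
    (Submodule.quotEquivOfEq _ _ hγ).trans (πH.quotKerEquivOfSurjective hπH)
  have he : ∀ y, e (Submodule.Quotient.mk y) = πH y := fun y => rfl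
  let πF' : ((Fin a₁ ⊕ Fin a₂) → MvPolynomial (Fin n) R) →ₗ[MvPolynomial (Fin n) R] F :=
    πF ∘ₗ LinearMap.funLeft (MvPolynomial (Fin n) R) (MvPolynomial (Fin n) R) Sum.inl
  have hπF' : Function.Surjective πF' := by
    intro y
    obtain ⟨x, rfl⟩ := hπF y
    refine ⟨Sum.elim x 0, ?_⟩
    simp only [πF', LinearMap.comp_apply]
    congr 1
  have hkmem : ∀ i, πG (k i) = 0 := by
    intro i
    have : k i ∈ LinearMap.ker πG := by
      rw [← hk]
      exact Submodule.subset_span ⟨i, rfl⟩
    exact this
  have hsingle : ∀ j, matMap α (Pi.single j 1) = α j := by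
    intro j
    simp [matMap, Fintype.linearCombination_apply_single]
  have h1 : πG ∘ₗ matMap α = u ∘ₗ πF' := by
    refine LinearMap.pi_ext' fun j => ?_
    refine LinearMap.ext_ring ?_
    simp only [LinearMap.comp_apply, LinearMap.single_apply]
    rw [hsingle]
    rcases j with i | i
    · have : πF' (Pi.single (Sum.inl i) 1) = πF (Pi.single i 1) := by
        simp only [πF', LinearMap.comp_apply]
        congr 1
        ext l
        simp [LinearMap.funLeft_apply, Pi.single_apply]
      rw [this]
      exact hũ i
    · have : πF' (Pi.single (Sum.inr i) 1) = 0 := by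
        simp only [πF', LinearMap.comp_apply]
        have : LinearMap.funLeft (MvPolynomial (Fin n) R) (MvPolynomial (Fin n) R) Sum.inl
            (Pi.single (Sum.inr i) 1 : (Fin a₁ ⊕ Fin a₂) → MvPolynomial (Fin n) R) = 0 := by
          ext l
          simp [LinearMap.funLeft_apply, Pi.single_apply]
        rw [this, map_zero]
      rw [this, map_zero]
      exact hkmem i
  have h2 : e.toLinearMap ∘ₗ ((Submodule.mkQ _) ∘ₗ matMap β) = v ∘ₗ πG := by
    refine LinearMap.pi_ext' fun j => ?_
    refine LinearMap.ext_ring ?_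
    simp only [LinearMap.comp_apply, LinearMap.single_apply]
    have hsβ : matMap β (Pi.single j 1) = β j := by
      simp [matMap, Fintype.linearCombination_apply_single]
    rw [hsβ]
    exact (he _).trans (hβ j)
  have hker : LinearMap.ker πG ≤ LinearMap.range (matMap α) := by
    rw [← hk, Submodule.span_le]
    rintro _ ⟨i, rfl⟩
    exact ⟨Pi.single (Sum.inr i) 1, hsingle (Sum.inr i)⟩
  have hset : {p : PrimeSpectrum R |
      Function.Exact ((u.restrictScalars R).baseChange p.asIdeal.ResidueField)
        ((v.restrictScalars R).baseChange p.asIdeal.ResidueField)} =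
      {p : PrimeSpectrum R | NFExact p.asIdeal.ResidueField α β γ} := by
    ext p
    refine (exact_baseChange_iff_of_cover p.asIdeal.ResidueField (u.restrictScalars R)
      (v.restrictScalars R) (nfU α) (nfV β γ) (πF'.restrictScalars R) (πG.restrictScalars R)
      (e.restrictScalars R) hπF' hπG ?_ ?_ ?_).symm
    · intro x hx
      obtain ⟨y, hy⟩ := hker hx
      exact ⟨y, hy⟩
    · exact LinearMap.ext fun x => LinearMap.congr_fun h1 x
    · exact LinearMap.ext fun x => LinearMap.congr_fun h2 x
  rw [hset]
  exact isConstructible_nfExact α β γ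

end Poly

end Groth.Agent.Lib.Helper58.FibEx
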