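/-
Helper library (helper58): base change of a Milnor square of rings along an arbitrary ring map
`C → D`: the base-changed square is again a Milnor square as soon as
`D → (B ⊗ D) × (A' ⊗ D)` is injective.
-/
import Mathlib
import Groth.Agent.Lib.Helper58.FibSqFlatGen

set_option autoImplicit false
universe u

open CategoryTheory Limits TensorProduct

namespace Groth.Agent.Lib.Helper58.FibSqFlat

open Groth.Agent.Lib.Helper61

section Concrete

variable {C B A' A D : Type u} [CommRing C] [CommRing B] [CommRing A'] [CommRing A] [CommRing D]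
  [Algebra C B] [Algebra C A'] [Algebra C A] [Algebra C D] (q : B →ₐ[C] A) (p : A' →ₐ[C] A)

/-- Base change of a Milnor square, in terms of tensor products, under an injectivity hypothesis. -/
theorem fibSq_tensor_of_injective
    (h : FibSq (algebraMap C B) (algebraMap C A') q.toRingHom p.toRingHom)
    (hinj : ∀ x : D, (1 : B) ⊗ₜ[C] x = 0 → (1 : A') ⊗ₜ[C] x = 0 → x = 0) :
    FibSq (Algebra.TensorProduct.includeRight : D →ₐ[C] B ⊗[C] D).toRingHom
      (Algebra.TensorProduct.includeRight : D →ₐ[C] A' ⊗[C] D).toRingHom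
      (Algebra.TensorProduct.map q (AlgHom.id C D)).toRingHom
      (Algebra.TensorProduct.map p (AlgHom.id C D)).toRingHom := by
  let ι : C →ₗ[C] B × A' := (Algebra.linearMap C B).prod (Algebra.linearMap C A')
  let δ : B × A' →ₗ[C] A :=
    q.toLinearMap ∘ₗ LinearMap.fst C B A' - p.toLinearMap ∘ₗ LinearMap.snd C B A'
  have hδ : Function.Surjective δ := by
    intro a
    obtain ⟨a', ha'⟩ := h.surj a
    refine ⟨(0, -a'), ?_⟩
    change q 0 - p (-a') = a
    rw [map_zero, map_neg, zero_sub, neg_neg]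
    exact ha'
  have hex : Function.Exact ι δ := by
    intro y
    constructor
    · intro hy
      have hy' : q y.1 - p y.2 = 0 := hy
      obtain ⟨c, h1, h2⟩ := h.lift y.1 y.2 (sub_eq_zero.1 hy')
      exact ⟨c, Prod.ext h1 h2⟩
    · rintro ⟨c, rfl⟩
      change q (algebraMap C B c) - p (algebraMap C A' c) = 0
      exact sub_eq_zero.2 (h.comm c)
  have hexD : Function.Exact (ι.rTensor D) (δ.rTensor D) := rTensor_exact D hex hδ
  let e := TensorProduct.prodLeft C C B A' D
  have key1 : ∀ x : D, e ((ι.rTensor D) ((1 : C) ⊗ₜ[C] x)) =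
      ((1 : B) ⊗ₜ[C] x, (1 : A') ⊗ₜ[C] x) := by
    intro x
    rw [LinearMap.rTensor_tmul]
    change e (((algebraMap C B 1, algebraMap C A' 1) : B × A') ⊗ₜ[C] x) = _
    rw [TensorProduct.prodLeft_tmul, map_one, map_one]
  have key2 : ∀ y : (B × A') ⊗[C] D, (δ.rTensor D) y =
      Algebra.TensorProduct.map q (AlgHom.id C D) (e y).1 -
        Algebra.TensorProduct.map p (AlgHom.id C D) (e y).2 := by
    intro y
    induction y using TensorProduct.induction_on with
    | zero => simp
    | tmul y x =>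
      obtain ⟨b, a'⟩ := y
      rw [LinearMap.rTensor_tmul, TensorProduct.prodLeft_tmul]
      change (q b - p a') ⊗ₜ[C] x = _
      rw [Algebra.TensorProduct.map_tmul, Algebra.TensorProduct.map_tmul, TensorProduct.sub_tmul]
      rfl
    | add y₁ y₂ h₁ h₂ =>
      rw [map_add, map_add, h₁, h₂, Prod.fst_add, Prod.snd_add, map_add, map_add]
      ring
  refine ⟨fun x => ?_, ?_, fun β α' hβα => ?_, fun x x' h1 h2 => ?_⟩
  · change Algebra.TensorProduct.map q (AlgHom.id C D) ((1 : B) ⊗ₜ[C] x) =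
      Algebra.TensorProduct.map p (AlgHom.id C D) ((1 : A') ⊗ₜ[C] x)
    rw [Algebra.TensorProduct.map_tmul, Algebra.TensorProduct.map_tmul, map_one, map_one]
  · have hp : Function.Surjective p.toLinearMap := h.surj
    exact LinearMap.rTensor_surjective D hp
  · have hβα' : Algebra.TensorProduct.map q (AlgHom.id C D) β =
        Algebra.TensorProduct.map p (AlgHom.id C D) α' := hβα
    have h0 : (δ.rTensor D) (e.symm (β, α')) = 0 := by
      rw [key2, LinearEquiv.apply_symm_apply, hβα', sub_self]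
    obtain ⟨w, hw⟩ := (hexD _).1 h0
    refine ⟨TensorProduct.lid C D w, ?_⟩
    have hw' : w = (1 : C) ⊗ₜ[C] (TensorProduct.lid C D w) := by
      rw [← TensorProduct.lid_symm_apply, LinearEquiv.symm_apply_apply]
    have h3 := key1 (TensorProduct.lid C D w)
    rw [← hw', hw, LinearEquiv.apply_symm_apply] at h3
    exact ⟨(congrArg Prod.fst h3).symm, (congrArg Prod.snd h3).symm⟩
  · have h1' : (1 : B) ⊗ₜ[C] x = (1 : B) ⊗ₜ[C] x' := h1
    have h2' : (1 : A') ⊗ₜ[C] x = (1 : A') ⊗ₜ[C] x' := h2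
    have h3 : x - x' = 0 := by
      apply hinj
      · rw [TensorProduct.tmul_sub, h1', sub_self]
      · rw [TensorProduct.tmul_sub, h2', sub_self]
    exact sub_eq_zero.1 h3

end Concrete

/-- Base change of a general Milnor square along `d : C ⟶ D`, for abstract pushouts of rings, under
an injectivity hypothesis. -/
theorem fibSq_of_isPushout_of_injective
    {C B A' A D BD AD' AD : CommRingCat.{u}}
    {f : C ⟶ B} {s : C ⟶ A'} {q : B ⟶ A} {p : A' ⟶ A} (h : FibSq f.hom s.hom q.hom p.hom)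
    {d : C ⟶ D}
    {fD : D ⟶ BD} {sD : D ⟶ AD'} {qD : BD ⟶ AD} {pD : AD' ⟶ AD}
    {bB : B ⟶ BD} {bA' : A' ⟶ AD'} {bA : A ⟶ AD}
    (hB : IsPushout f d bB fD) (hA' : IsPushout s d bA' sD)
    (hA : IsPushout (f ≫ q) d bA (fD ≫ qD))
    (hcomm : fD ≫ qD = sD ≫ pD) (hp : bA' ≫ pD = p ≫ bA)
    (hinj : ∀ x : D, fD.hom x = 0 → sD.hom x = 0 → x = 0) :
    FibSq fD.hom sD.hom qD.hom pD.hom := by
  letI : Algebra C B := f.hom.toAlgebra
  letI : Algebra C A' := s.hom.toAlgebra
  letI : Algebra C A := (f ≫ q).hom.toAlgebra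
  letI : Algebra C D := d.hom.toAlgebra
  let qa : B →ₐ[C] A := ⟨q.hom, fun c => rfl⟩
  let pa : A' →ₐ[C] A := ⟨p.hom, fun c => (h.comm c).symm⟩
  have h0 : FibSq (algebraMap C B) (algebraMap C A') qa.toRingHom pa.toRingHom := h
  obtain ⟨eB, heB⟩ := exists_equiv_of_isPushout (R := C) (A := B) (B := D) hB
  obtain ⟨eA', heA'⟩ := exists_equiv_of_isPushout (R := C) (A := A') (B := D) hA'
  obtain ⟨eA, heA⟩ := exists_equiv_of_isPushout (R := C) (A := A) (B := D) hA
  have hinj' : ∀ x : D, (1 : B) ⊗ₜ[C] x = 0 → (1 : A') ⊗ₜ[C] x = 0 → x = 0 := by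
    intro x h1 h2
    apply hinj
    · have := congrArg eB h1
      rwa [heB, map_one, one_mul, map_zero] at this
    · have := congrArg eA' h2
      rwa [heA', map_one, one_mul, map_zero] at this
  have h1 := fibSq_tensor_of_injective (D := D) qa pa h0 hinj'
  have hc : ∀ x, qD.hom (fD.hom x) = pD.hom (sD.hom x) := fun x =>
    congrArg (fun φ => φ.hom x) hcomm
  have hp' : ∀ a', pD.hom (bA'.hom a') = bA.hom (p.hom a') := fun a' =>
    congrArg (fun φ => φ.hom a') hp
  have hq' : ∀ b, qD.hom (bB.hom b) = bA.hom (q.hom b) := by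
    intro b
    obtain ⟨c, rfl⟩ := h.f_surjective b
    have e1 : bB.hom (f.hom c) = fD.hom (d.hom c) := congrArg (fun φ => φ.hom c) hB.w
    have e2 : bA.hom (q.hom (f.hom c)) = qD.hom (fD.hom (d.hom c)) :=
      congrArg (fun φ => φ.hom c) hA.w
    rw [e1, e2]
  refine h1.of_ringEquiv eB eA' eA (fun x => ?_) (fun x => ?_) (fun y => ?_) (fun y => ?_)
  · change fD.hom x = eB ((1 : B) ⊗ₜ[C] x)
    rw [heB, map_one, one_mul]
  · change sD.hom x = eA' ((1 : A') ⊗ₜ[C] x)
    rw [heA', map_one, one_mul]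
  · induction y using TensorProduct.induction_on with
    | zero => simp
    | tmul b x =>
      change qD.hom (eB (b ⊗ₜ[C] x)) = eA (Algebra.TensorProduct.map qa (AlgHom.id C D) (b ⊗ₜ[C] x))
      rw [Algebra.TensorProduct.map_tmul, heB, heA, map_mul, hq']
      rfl
    | add y₁ y₂ h₁ h₂ => rw [map_add, map_add, map_add, map_add, h₁, h₂]
  · induction y using TensorProduct.induction_on with
    | zero => simp
    | tmul a' x =>
      change pD.hom (eA' (a' ⊗ₜ[C] x)) =
        eA (Algebra.TensorProduct.map pa (AlgHom.id C D) (a' ⊗ₜ[C] x))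
      rw [Algebra.TensorProduct.map_tmul, heA', heA, map_mul, hp', ← hc]
      rfl
    | add y₁ y₂ h₁ h₂ => rw [map_add, map_add, map_add, map_add, h₁, h₂]

end Groth.Agent.Lib.Helper58.FibSqFlat
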