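/-
Helper library (helper58): universal injectivity of a Milnor square of rings over a base ring:
after any base change `R → R'`, the map `C ⊗ R' → (B ⊗ R') × (A' ⊗ R')` stays injective, provided
the corner `A` is flat over `R`, or `B → A` is injective with `R`-flat cokernel.
-/
import Mathlib
import Groth.Agent.Lib.Helper58.FibSqInj

set_option autoImplicit false
universe u

open CategoryTheory Limits TensorProduct

namespace Groth.Agent.Lib.Helper58.FibSqFlat

open Groth.Agent.Lib.Helper61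

/-- Universal injectivity of `C → B × A'` over the base ring `R`, phrased with abstract pushouts
of commutative rings. -/
def UnivInj {R C B A' : CommRingCat.{u}} (ρ₀ : R ⟶ C) (f : C ⟶ B) (s : C ⟶ A') : Prop :=
  ∀ ⦃R' E BE AE' : CommRingCat.{u}⦄ ⦃φ : R ⟶ R'⦄ ⦃cE : C ⟶ E⦄ ⦃rE : R' ⟶ E⦄
    (_ : IsPushout ρ₀ φ cE rE)
    ⦃bB : B ⟶ BE⦄ ⦃fE : E ⟶ BE⦄ (_ : IsPushout f cE bB fE)
    ⦃bA' : A' ⟶ AE'⦄ ⦃sE : E ⟶ AE'⦄ (_ : IsPushout s cE bA' sE),
    ∀ x : E, fE.hom x = 0 → sE.hom x = 0 → x = 0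

section Aux

variable {R R' C B : Type u} [CommRing R] [CommRing R'] [CommRing C] [CommRing B]
  [Algebra R R'] [Algebra R C] [Algebra R B]

/-- Compatibility of the tensor product description of iterated pushouts. -/
theorem lTensor_eq_zero_of_isPushout (f : C →ₐ[R] B) {E BE : CommRingCat.{u}}
    {cE : CommRingCat.of C ⟶ E} {rE : CommRingCat.of R' ⟶ E}
    (hE : IsPushout (CommRingCat.ofHom (algebraMap R R')) (CommRingCat.ofHom (algebraMap R C)) rE cE)
    {bB : CommRingCat.of B ⟶ BE} {fE : E ⟶ BE}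
    (hB : IsPushout (CommRingCat.ofHom f.toRingHom) cE bB fE)
    (eE : R' ⊗[R] C ≃+* E) (heE : ∀ r c, eE (r ⊗ₜ[R] c) = rE.hom r * cE.hom c)
    (y : R' ⊗[R] C) (hy : fE.hom (eE y) = 0) : f.toLinearMap.lTensor R' y = 0 := by
  have hpaste : IsPushout (CommRingCat.ofHom (algebraMap R R'))
      (CommRingCat.ofHom (algebraMap R C) ≫ CommRingCat.ofHom f.toRingHom) (rE ≫ fE) bB :=
    hE.paste_vert hB.flip
  have hcomp : CommRingCat.ofHom (algebraMap R C) ≫ CommRingCat.ofHom f.toRingHom =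
      CommRingCat.ofHom (algebraMap R B) := by
    ext r
    exact f.commutes r
  rw [hcomp] at hpaste
  obtain ⟨eB, heB⟩ := exists_equiv_of_isPushout (R := R) (A := R') (B := B) hpaste
  have key : ∀ y : R' ⊗[R] C, eB (f.toLinearMap.lTensor R' y) = fE.hom (eE y) := by
    intro y
    induction y using TensorProduct.induction_on with
    | zero => simp
    | tmul r c =>
      rw [LinearMap.lTensor_tmul, heB, heE, map_mul]
      have e1 : bB.hom (f c) = fE.hom (cE.hom c) := congrArg (fun θ => θ.hom c) hB.w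
      change fE.hom (rE.hom r) * bB.hom (f c) = _
      rw [e1]
    | add y₁ y₂ h₁ h₂ => rw [map_add, map_add, map_add, map_add, h₁, h₂]
  apply eB.injective
  rw [key, hy, map_zero]

end Aux

/-- A Milnor square whose corner `A` is flat over `R` is universally injective over `R`. -/
theorem univInj_of_flat_corner {R C B A' A : CommRingCat.{u}}
    {f : C ⟶ B} {s : C ⟶ A'} {q : B ⟶ A} {p : A' ⟶ A} (h : FibSq f.hom s.hom q.hom p.hom)
    (ρ₀ : R ⟶ C) (hflat : (ρ₀ ≫ f ≫ q).hom.Flat) : UnivInj ρ₀ f s := by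
  intro R' E BE AE' φ cE rE hE bB fE hB bA' sE hA' x hx1 hx2
  letI : Algebra R R' := φ.hom.toAlgebra
  letI : Algebra R C := ρ₀.hom.toAlgebra
  letI : Algebra R B := (ρ₀ ≫ f).hom.toAlgebra
  letI : Algebra R A' := (ρ₀ ≫ s).hom.toAlgebra
  letI : Algebra R A := (ρ₀ ≫ f ≫ q).hom.toAlgebra
  haveI : Module.Flat R A := hflat
  let fa : C →ₐ[R] B := ⟨f.hom, fun r => rfl⟩
  let sa : C →ₐ[R] A' := ⟨s.hom, fun r => rfl⟩
  let qa : B →ₐ[R] A := ⟨q.hom, fun r => rfl⟩
  let pa : A' →ₐ[R] A := ⟨p.hom, fun r => (h.comm (ρ₀.hom r)).symm⟩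
  let ι : C →ₗ[R] B × A' := LinearMap.inl R B A' ∘ₗ fa.toLinearMap +
    LinearMap.inr R B A' ∘ₗ sa.toLinearMap
  let δ : B × A' →ₗ[R] A :=
    qa.toLinearMap ∘ₗ LinearMap.fst R B A' - pa.toLinearMap ∘ₗ LinearMap.snd R B A'
  have hι : ∀ c, ι c = (f.hom c, s.hom c) := by
    intro c
    change ((f.hom c, 0) : B × A') + (0, s.hom c) = _
    simp
  have hδ : Function.Surjective δ := by
    intro a
    obtain ⟨a', ha'⟩ := h.surj a
    refine ⟨(0, -a'), ?_⟩
    change q.hom 0 - p.hom (-a') = a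
    rw [map_zero, map_neg, zero_sub, neg_neg]
    exact ha'
  have hιinj : Function.Injective ι := by
    intro c c' hcc
    rw [hι, hι] at hcc
    exact h.inj c c' (congrArg Prod.fst hcc) (congrArg Prod.snd hcc)
  have hex : Function.Exact ι δ := by
    intro y
    constructor
    · intro hy
      have hy' : q.hom y.1 - p.hom y.2 = 0 := hy
      obtain ⟨c, h1, h2⟩ := h.lift y.1 y.2 (sub_eq_zero.1 hy')
      exact ⟨c, by rw [hι]; exact Prod.ext h1 h2⟩
    · rintro ⟨c, rfl⟩
      rw [hι]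
      change q.hom (f.hom c) - p.hom (s.hom c) = 0
      exact sub_eq_zero.2 (h.comm c)
  have hinj := LinearMap.lTensor_injective_of_exact_of_flat δ hδ ι hιinj hex R'
  obtain ⟨eE, heE⟩ := exists_equiv_of_isPushout (R := R) (A := R') (B := C) hE.flip
  have h1 := lTensor_eq_zero_of_isPushout fa hE.flip hB eE heE (eE.symm x)
    (by rw [RingEquiv.apply_symm_apply]; exact hx1)
  have h2 := lTensor_eq_zero_of_isPushout sa hE.flip hA' eE heE (eE.symm x)
    (by rw [RingEquiv.apply_symm_apply]; exact hx2)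
  have h3 : ι.lTensor R' (eE.symm x) = 0 := by
    rw [LinearMap.lTensor_add, LinearMap.lTensor_comp, LinearMap.lTensor_comp, LinearMap.add_apply,
      LinearMap.comp_apply, LinearMap.comp_apply, h1, h2, map_zero, map_zero, add_zero]
  have h4 : eE.symm x = 0 := hinj (by rw [h3, map_zero])
  have := congrArg eE h4
  rwa [RingEquiv.apply_symm_apply, map_zero] at this

/-- A Milnor square with `B → A` injective and `R`-flat cokernel is universally injective over
`R`. -/
theorem univInj_of_flat_coker {R C B A' A : CommRingCat.{u}}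
    {f : C ⟶ B} {s : C ⟶ A'} {q : B ⟶ A} {p : A' ⟶ A} (h : FibSq f.hom s.hom q.hom p.hom)
    (hq : Function.Injective q.hom)
    (ρ₀ : R ⟶ C) (ψ : R ⟶ A) (hψ : ψ = ρ₀ ≫ f ≫ q)
    (hflat : letI := ψ.hom.toAlgebra
      Module.Flat R (A ⧸ Submodule.span R (Set.range q.hom))) : UnivInj ρ₀ f s := by
  subst hψ
  intro R' E BE AE' φ cE rE hE bB fE hB bA' sE hA' x _ hx2
  letI : Algebra R R' := φ.hom.toAlgebra
  letI : Algebra R C := ρ₀.hom.toAlgebra
  letI : Algebra R B := (ρ₀ ≫ f).hom.toAlgebra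
  letI : Algebra R A' := (ρ₀ ≫ s).hom.toAlgebra
  letI : Algebra R A := (ρ₀ ≫ f ≫ q).hom.toAlgebra
  haveI : Module.Flat R (A ⧸ Submodule.span R (Set.range q.hom)) := hflat
  let sa : C →ₐ[R] A' := ⟨s.hom, fun r => rfl⟩
  let qa : B →ₐ[R] A := ⟨q.hom, fun r => rfl⟩
  let pa : A' →ₐ[R] A := ⟨p.hom, fun r => (h.comm (ρ₀.hom r)).symm⟩
  let N : Submodule R A := Submodule.span R (Set.range q.hom)
  have hN : ∀ a : A, a ∈ N ↔ a ∈ Set.range q.hom := by
    intro a
    have : (LinearMap.range qa.toLinearMap : Set A) = Set.range q.hom := by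
      ext a
      simp only [SetLike.mem_coe, LinearMap.mem_range, Set.mem_range]
      rfl
    change a ∈ Submodule.span R (Set.range q.hom) ↔ _
    rw [← this, Submodule.span_eq]
    rfl
  let δ : A' →ₗ[R] A ⧸ N := N.mkQ ∘ₗ pa.toLinearMap
  have hδ : Function.Surjective δ := (Submodule.mkQ_surjective N).comp h.surj
  have hsinj : Function.Injective sa.toLinearMap := by
    intro c c' hcc
    have hcc' : s.hom c = s.hom c' := hcc
    refine h.inj c c' (hq ?_) hcc'
    rw [h.comm, h.comm, hcc']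
  have hex : Function.Exact sa.toLinearMap δ := by
    intro a'
    constructor
    · intro ha'
      have h1 : p.hom a' ∈ N := (Submodule.Quotient.mk_eq_zero N).1 ha'
      obtain ⟨b, hb⟩ := (hN _).1 h1
      obtain ⟨c, -, hc⟩ := h.lift b a' hb
      exact ⟨c, hc⟩
    · rintro ⟨c, rfl⟩
      change N.mkQ (p.hom (s.hom c)) = 0
      rw [← h.comm]
      exact (Submodule.Quotient.mk_eq_zero N).2 ((hN _).2 ⟨f.hom c, rfl⟩)
  have hinj := LinearMap.lTensor_injective_of_exact_of_flat δ hδ sa.toLinearMap hsinj hex R'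
  obtain ⟨eE, heE⟩ := exists_equiv_of_isPushout (R := R) (A := R') (B := C) hE.flip
  have h2 := lTensor_eq_zero_of_isPushout sa hE.flip hA' eE heE (eE.symm x)
    (by rw [RingEquiv.apply_symm_apply]; exact hx2)
  have h4 : eE.symm x = 0 := hinj (by rw [h2, map_zero])
  have := congrArg eE h4
  rwa [RingEquiv.apply_symm_apply, map_zero] at this

end Groth.Agent.Lib.Helper58.FibSqFlat
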