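/-
Helper library (helper58): finiteness properties of the corner of a Milnor square of rings
(`C = B ×_A A'` with `A' → A` surjective): if `B → A` is finite then `C → A'` is finite, and
(Artin–Tate) if moreover `B` and `A'` are of finite type over a Noetherian ring `R`, so is `C`.
-/
import Mathlib
import Groth.Agent.Lib.Helper61.FibSq5

set_option autoImplicit false
universe u

namespace Groth.Agent.Lib.Helper61.FibSq

variable {C B A' A : Type*} [CommRing C] [CommRing B] [CommRing A'] [CommRing A]
  {f : C →+* B} {s : C →+* A'} {q : B →+* A} {p : A' →+* A}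

/-- If `q : B → A` is finite, then `s : C → A'` is finite. -/
theorem s_finite (h : FibSq f s q p) (hq : q.Finite) : s.Finite := by
  classical
  letI := q.toAlgebra
  letI := s.toAlgebra
  have hq' : Module.Finite B A := hq
  obtain ⟨t, ht⟩ := hq'.fg_top
  have hp := h.surj
  choose g hg using hp
  have hfst : Function.Surjective f := h.f_surjective
  change Module.Finite C A'
  refine ⟨⟨insert 1 (t.image g), ?_⟩⟩
  rw [eq_top_iff]
  rintro a' -
  have key : ∀ a ∈ Submodule.span B (t : Set A),
      ∃ m ∈ Submodule.span C ((t.image g : Finset A') : Set A'), p m = a := by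
    intro a ha
    induction ha using Submodule.span_induction with
    | mem a ha =>
      exact ⟨g a, Submodule.subset_span (Finset.mem_coe.2 (Finset.mem_image_of_mem g ha)), hg a⟩
    | zero => exact ⟨0, Submodule.zero_mem _, map_zero p⟩
    | add a₁ a₂ _ _ h₁ h₂ =>
      obtain ⟨m₁, hm₁, e₁⟩ := h₁
      obtain ⟨m₂, hm₂, e₂⟩ := h₂
      exact ⟨m₁ + m₂, Submodule.add_mem _ hm₁ hm₂, by rw [map_add, e₁, e₂]⟩
    | smul b a _ h' =>
      obtain ⟨m, hm, e⟩ := h'
      obtain ⟨c, rfl⟩ := hfst b
      refine ⟨c • m, Submodule.smul_mem _ c hm, ?_⟩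
      change p (s c * m) = q (f c) * a
      rw [map_mul, e, h.comm]
  obtain ⟨m, hm, e⟩ := key (p a') (ht ▸ Submodule.mem_top)
  obtain ⟨c₀, -, hc₀⟩ := h.lift 0 (a' - m) (by rw [map_zero, map_sub, e, sub_self])
  have h1 : a' = m + c₀ • (1 : A') := by
    change a' = m + s c₀ * 1
    rw [hc₀]
    ring
  rw [h1]
  refine Submodule.add_mem _ ?_ ?_
  · refine Submodule.span_mono ?_ hm
    intro x hx
    simp only [Finset.coe_insert, Set.mem_insert_iff]
    exact Or.inr hx
  · refine Submodule.smul_mem _ _ (Submodule.subset_span ?_)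
    simp

/-- Artin–Tate for Milnor squares: if `B` and `A'` are of finite type over the Noetherian ring `R`
and `B → A` is finite, then `C` is of finite type over `R`. -/
theorem finiteType {R : Type*} [CommRing R] [IsNoetherianRing R] (h : FibSq f s q p) (ρ : R →+* C)
    (hB : (f.comp ρ).FiniteType) (hA' : (s.comp ρ).FiniteType) (hq : q.Finite) :
    ρ.FiniteType := by
  letI : Algebra R C := ρ.toAlgebra
  letI : Algebra R B := (f.comp ρ).toAlgebra
  letI : Algebra R A' := (s.comp ρ).toAlgebra
  letI : Algebra C B := f.toAlgebra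
  letI : Algebra C A' := s.toAlgebra
  haveI : IsScalarTower R C (B × A') := IsScalarTower.of_algebraMap_eq (fun r => rfl)
  haveI : Algebra.FiniteType R B := hB
  haveI : Algebra.FiniteType R A' := hA'
  haveI : Module.Finite C B := Module.Finite.of_surjective (Algebra.linearMap C B) h.f_surjective
  haveI : Module.Finite C A' := h.s_finite hq
  have hAC : (⊤ : Subalgebra R (B × A')).FG := (inferInstance : Algebra.FiniteType R (B × A')).out
  have hBC : (⊤ : Submodule C (B × A')).FG := (inferInstance : Module.Finite C (B × A')).fg_top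
  have hinj : Function.Injective (algebraMap C (B × A')) := by
    intro c c' e
    exact h.inj c c' (congrArg Prod.fst e) (congrArg Prod.snd e)
  have := fg_of_fg_of_fg R C (B × A') hAC hBC hinj
  exact ⟨this⟩

end Groth.Agent.Lib.Helper61.FibSq
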