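/-
Helper library (helper58): in a Milnor square of rings `C = B ×_A A'` (with `A' → A` surjective),
if `B → A` is integral then `C → A'` is integral.
-/
import Mathlib
import Groth.Agent.Lib.Helper61.FibSq5

set_option autoImplicit false
universe u

open Polynomial

namespace Groth.Agent.Lib.Helper61.FibSq

variable {C₀ B A' A : Type*} [CommRing C₀] [CommRing B] [CommRing A'] [CommRing A]
  {f : C₀ →+* B} {s : C₀ →+* A'} {q : B →+* A} {p : A' →+* A}

theorem s_isIntegral (h : FibSq f s q p) (hq : q.IsIntegral) : s.IsIntegral := by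
  intro a'
  obtain ⟨P, hPm, hP⟩ := hq (p a')
  have hlifts : P ∈ Polynomial.lifts f :=
    (Polynomial.mem_lifts P).2 (Polynomial.map_surjective f h.f_surjective P)
  obtain ⟨Pt, hPtmap, -, hPtm⟩ := Polynomial.lifts_and_natDegree_eq_and_monic hlifts hPm
  have hcs : p.comp s = q.comp f := by
    ext c
    exact (h.comm c).symm
  have he : p (Polynomial.eval₂ s a' Pt) = 0 := by
    rw [Polynomial.hom_eval₂, hcs, ← Polynomial.eval₂_map, hPtmap]
    exact hP
  obtain ⟨c₁, -, hc₁⟩ := h.lift 0 (a' * Polynomial.eval₂ s a' Pt)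
    (by rw [map_zero, map_mul, he, mul_zero])
  refine ⟨X * Pt - C c₁, ?_, ?_⟩
  · rcases subsingleton_or_nontrivial C₀ with hC | hC
    · exact Subsingleton.elim _ _
    · have hm : (X * Pt).Monic := Polynomial.monic_X.mul hPtm
      refine hm.sub_of_left (Polynomial.degree_lt_degree ?_)
      rw [Polynomial.natDegree_C, Polynomial.monic_X.natDegree_mul hPtm, Polynomial.natDegree_X]
      omega
  · rw [Polynomial.eval₂_sub, Polynomial.eval₂_mul, Polynomial.eval₂_X, Polynomial.eval₂_C, hc₁,
      sub_self]

end Groth.Agent.Lib.Helper61.FibSq
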