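import Mathlib
import Groth.Agent.Lib.Helper13.FibreDimDescent

set_option autoImplicit false

namespace Groth.Agent.Lib.Helper58.FibreDimStage

open TensorProduct Topology
open Groth.Agent.Lib.Helper13.GenFibreCons Groth.Agent.Lib.Helper13.FibreDimDescent

universe u

variable {A₀ : Type u} [CommRing A₀] [IsNoetherianRing A₀] (B₀ : Type u) [CommRing B₀]
  [Algebra A₀ B₀] [Algebra.FiniteType A₀ B₀] (A : Type u) [CommRing A] [Algebra A₀ A]

/-- Directed descent of a condition on the fibre dimensions of a finite type algebra `B₀` over a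
Noetherian ring `A₀`: if all points of `Spec A₀` in the image of `Spec A` have fibre dimension in
the finite set `T`, the same holds for the image of `Spec` of a finitely generated subalgebra. -/
theorem exists_stage_forall_fibreDim_mem (T : Set (WithBot ℕ∞)) (hT : T.Finite)
    (h : ∀ p : PrimeSpectrum A, ringKrullDim
      ((PrimeSpectrum.comap (algebraMap A₀ A) p).asIdeal.ResidueField ⊗[A₀] B₀) ∈ T) :
    ∃ s : Finset A, ∀ p₁ : PrimeSpectrum (Algebra.adjoin A₀ (s : Set A)),
      ringKrullDim ((PrimeSpectrum.comap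
        (algebraMap A₀ (Algebra.adjoin A₀ (s : Set A))) p₁).asIdeal.ResidueField ⊗[A₀] B₀) ∈ T := by
  classical
  obtain ⟨h1, -⟩ := constructible_dim_of_isNoetherianRing (A₀ := A₀) (B₀ := B₀)
  set E₀ : Set (PrimeSpectrum A₀) :=
    (fun p : PrimeSpectrum A₀ => ringKrullDim (p.asIdeal.ResidueField ⊗[A₀] B₀)) ⁻¹' T with hE₀
  have hE₀c : IsConstructible E₀ := by
    have : E₀ = ⋃ m ∈ T, (fun p : PrimeSpectrum A₀ =>
        ringKrullDim (p.asIdeal.ResidueField ⊗[A₀] B₀)) ⁻¹' {m} := by
      ext p
      simp [hE₀]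
    rw [this]
    exact IsConstructible.biUnion hT (fun m _ => h1 m)
  have hrange : Set.range (PrimeSpectrum.comap (algebraMap A₀ A)) ⊆ E₀ := by
    rintro _ ⟨p, rfl⟩
    exact h p
  let E : Finset A → Set (PrimeSpectrum A₀) := fun s =>
    E₀ ∪ (Set.range (PrimeSpectrum.comap
      (algebraMap A₀ (Algebra.adjoin A₀ (s : Set A)))))ᶜ
  have hmono : Monotone E := by
    intro s s' hss'
    refine Set.union_subset_union_right _ (Set.compl_subset_compl.mpr ?_)
    rintro _ ⟨q, rfl⟩
    have hle : Algebra.adjoin A₀ (s : Set A) ≤ Algebra.adjoin A₀ (s' : Set A) :=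
      Algebra.adjoin_mono (by exact_mod_cast hss')
    refine ⟨PrimeSpectrum.comap (Subalgebra.inclusion hle).toRingHom q, ?_⟩
    rw [← PrimeSpectrum.comap_comp_apply]
    congr 2
  have hE : ∀ s, IsConstructible (E s) := by
    intro s
    refine hE₀c.union (IsConstructible.compl ?_)
    apply PrimeSpectrum.isConstructible_range_comap
    rw [RingHom.finitePresentation_algebraMap]
    haveI : Algebra.FiniteType A₀ (Algebra.adjoin A₀ (s : Set A)) :=
      (Subalgebra.fg_iff_finiteType _).mp (Subalgebra.fg_adjoin_finset s)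
    exact Algebra.FinitePresentation.of_finiteType.mp inferInstance
  have hirr : ∀ Y : Set (PrimeSpectrum A₀), IsClosed Y → IsIrreducible Y →
      ∃ s, Y ⊆ closure (E s ∩ Y) := by
    intro Y hYc hYi
    have hη := hYi.isGenericPoint_genericPoint hYc
    set η := hYi.genericPoint with hηdef
    have hsuff : ∀ s, η ∈ E s → Y ⊆ closure (E s ∩ Y) := by
      intro s hs
      have h1 : ({η} : Set _) ⊆ E s ∩ Y := Set.singleton_subset_iff.2 ⟨hs, hη.mem⟩
      calc Y = closure {η} := hη.def.symm
        _ ⊆ closure (E s ∩ Y) := closure_mono h1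
    by_cases hηE : η ∈ E₀
    · exact ⟨∅, hsuff ∅ (Or.inl hηE)⟩
    · have hηr : η ∉ Set.range (PrimeSpectrum.comap (algebraMap A₀ A)) :=
        fun h => hηE (hrange h)
      obtain ⟨s, hs⟩ := exists_finset_notMem_range_comap η hηr
      exact ⟨s, hsuff s (Or.inr hs)⟩
  obtain ⟨s, hs⟩ := Groth.Agent.Lib.Helper12.ConstrTop.eq_of_directed_constructible_cover
    E hmono hE hirr
  refine ⟨s, fun p₁ => ?_⟩
  have : PrimeSpectrum.comap (algebraMap A₀ (Algebra.adjoin A₀ (s : Set A))) p₁ ∈ E s :=
    hs ▸ Set.mem_univ _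
  rcases this with h | h
  · exact h
  · exact absurd ⟨p₁, rfl⟩ h

end Groth.Agent.Lib.Helper58.FibreDimStage
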