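import Mathlib

/-!
# The Fitting idempotent of an algebra endomorphism of a finite length algebra
-/

set_option autoImplicit false
universe u v

namespace Groth.Agent.Lib.Helper58.Fit

variable {Λ : Type u} [CommRing Λ]

/-- `ε` is the Fitting idempotent of `t`, with stabilization index `N` -/
structure IsFit {M : Type v} [CommRing M] [Algebra Λ M] (t ε : M →ₐ[Λ] M) (N : ℕ) : Prop where
  ker : ∀ x, (t ^ N) (x - ε x) = 0
  range : ∀ x j, ∃ c, ε x = (t ^ j) c
  vanish : ∀ x j, (t ^ j) x = 0 → ε x = 0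
  fix : ∀ c, ε ((t ^ N) c) = (t ^ N) c

section Exists

variable {M : Type v} [CommRing M] [Algebra Λ M] [IsNoetherian Λ M] [IsArtinian Λ M]

theorem exists_isFit (t : M →ₐ[Λ] M) : ∃ (ε : M →ₐ[Λ] M) (N : ℕ), IsFit t ε N := by
  classical
  let f : Module.End Λ M := t.toLinearMap
  have hfpow : ∀ (n : ℕ) (x : M), (f ^ n) x = (t ^ n) x := by
    intro n x
    rw [Module.End.pow_apply, AlgHom.coe_pow]
    rfl
  obtain ⟨N, hN⟩ := Filter.eventually_atTop.mp (f.eventually_isCompl_ker_pow_range_pow.and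
    (f.eventually_iInf_range_pow_eq.and f.eventually_iSup_ker_pow_eq))
  obtain ⟨hc, hB, hK⟩ := hN N le_rfl
  set K := LinearMap.ker (f ^ N) with hKdef
  set B := LinearMap.range (f ^ N) with hBdef
  have hmemK : ∀ x, x ∈ K ↔ (t ^ N) x = 0 := by
    intro x
    rw [hKdef, LinearMap.mem_ker, hfpow]
  have hmemB : ∀ x, x ∈ B ↔ ∃ c, (t ^ N) c = x := by
    intro x
    rw [hBdef, LinearMap.mem_range]
    simp only [hfpow]
  have hKmul : ∀ x y, x ∈ K → x * y ∈ K := by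
    intro x y hx
    rw [hmemK] at hx ⊢
    rw [map_mul, hx, zero_mul]
  have hBmul : ∀ x y, x ∈ B → y ∈ B → x * y ∈ B := by
    intro x y hx hy
    rw [hmemB] at hx hy ⊢
    obtain ⟨a, rfl⟩ := hx
    obtain ⟨b, rfl⟩ := hy
    exact ⟨a * b, map_mul _ _ _⟩
  have hBone : (1 : M) ∈ B := (hmemB 1).2 ⟨1, map_one _⟩
  let pr : M →ₗ[Λ] B := Submodule.projectionOnto B K hc.symm
  let ε₀ : M →ₗ[Λ] M := B.subtype ∘ₗ pr
  have hε₀B : ∀ x, ε₀ x ∈ B := fun x => (pr x).2
  have hε₀fix : ∀ x, x ∈ B → ε₀ x = x := by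
    intro x hx
    change ((pr x : B) : M) = x
    have := Submodule.projectionOnto_apply_left hc.symm ⟨x, hx⟩
    rw [show pr x = ⟨x, hx⟩ from this]
  have hε₀K : ∀ x, x ∈ K → ε₀ x = 0 := by
    intro x hx
    change ((pr x : B) : M) = 0
    have := Submodule.projectionOnto_apply_right hc.symm ⟨x, hx⟩
    rw [show pr x = 0 from this]
    rfl
  have hsub : ∀ x, x - ε₀ x ∈ K := by
    intro x
    have h1 : pr (x - ε₀ x) = 0 := by
      rw [map_sub]
      have h2 : pr (ε₀ x) = pr x := by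
        have := Submodule.projectionOnto_apply_left hc.symm (pr x)
        exact this
      rw [h2, sub_self]
    exact (Submodule.projectionOnto_apply_eq_zero_iff hc.symm).1 h1
  have huniq : ∀ x z, z ∈ B → x - z ∈ K → ε₀ x = z := by
    intro x z hz hxz
    have h1 : x = z + (x - z) := by ring
    rw [h1, map_add, hε₀fix z hz, hε₀K _ hxz, add_zero]
  have hone : ε₀ 1 = 1 := hε₀fix 1 hBone
  have hmul : ∀ x y, ε₀ (x * y) = ε₀ x * ε₀ y := by
    intro x y
    apply huniq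
    · exact hBmul _ _ (hε₀B x) (hε₀B y)
    · have h1 : x * y - ε₀ x * ε₀ y = (x - ε₀ x) * y + (y - ε₀ y) * ε₀ x := by ring
      rw [h1]
      exact K.add_mem (hKmul _ _ (hsub x)) (hKmul _ _ (hsub y))
  let ε : M →ₐ[Λ] M := AlgHom.ofLinearMap ε₀ hone hmul
  have hεapp : ∀ x, ε x = ε₀ x := fun x => rfl
  refine ⟨ε, N, ⟨?_, ?_, ?_, ?_⟩⟩
  · intro x
    rw [hεapp, ← hmemK]
    exact hsub x
  · intro x j
    have h1 : ε₀ x ∈ ⨅ m, LinearMap.range (f ^ m) := by
      rw [hB]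
      exact hε₀B x
    rw [Submodule.mem_iInf] at h1
    obtain ⟨c, hc'⟩ := h1 j
    exact ⟨c, by rw [hεapp, ← hc', hfpow]⟩
  · intro x j hx
    rw [hεapp]
    apply hε₀K
    have h1 : x ∈ LinearMap.ker (f ^ j) := by
      rw [LinearMap.mem_ker, hfpow]
      exact hx
    have h2 : LinearMap.ker (f ^ j) ≤ ⨆ m, LinearMap.ker (f ^ m) := le_iSup (fun m => LinearMap.ker (f ^ m)) j
    have h3 := h2 h1
    rw [hK] at h3
    exact h3
  · intro c
    rw [hεapp]
    exact hε₀fix _ ((hmemB _).2 ⟨c, rfl⟩)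

end Exists

section Natural

variable {M' : Type v} {M : Type v} [CommRing M'] [CommRing M] [Algebra Λ M'] [Algebra Λ M]

theorem pow_comm (p : M' →ₐ[Λ] M) (t' : M' →ₐ[Λ] M') (t : M →ₐ[Λ] M) (hp : p.comp t' = t.comp p)
    (j : ℕ) (x : M') : p ((t' ^ j) x) = (t ^ j) (p x) := by
  induction j generalizing x with
  | zero => simp
  | succ j ih =>
    rw [pow_succ, pow_succ, AlgHom.mul_apply, AlgHom.mul_apply, ih]
    congr 1
    exact congrArg (fun g : M' →ₐ[Λ] M => g x) hp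

theorem IsFit.idem {t ε : M →ₐ[Λ] M} {N : ℕ} (h : IsFit t ε N) (x : M) : ε (ε x) = ε x := by
  obtain ⟨c, hc⟩ := h.range x N
  rw [hc, h.fix]

theorem IsFit.natural (p : M' →ₐ[Λ] M) {t' ε' : M' →ₐ[Λ] M'} {N' : ℕ} {t ε : M →ₐ[Λ] M} {N : ℕ}
    (h' : IsFit t' ε' N') (h : IsFit t ε N) (hp : p.comp t' = t.comp p) (x : M') :
    p (ε' x) = ε (p x) := by
  have h1 : x = (x - ε' x) + ε' x := by ring
  have h2 : ε (p (x - ε' x)) = 0 := by
    apply h.vanish _ N'
    rw [← pow_comm p t' t hp, h'.ker, map_zero]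
  obtain ⟨c, hc⟩ := h'.range x N
  have h3 : ε (p (ε' x)) = p (ε' x) := by
    rw [hc, pow_comm p t' t hp, h.fix]
  calc p (ε' x) = ε (p (x - ε' x)) + ε (p (ε' x)) := by rw [h2, h3, zero_add]
    _ = ε (p x) := by rw [← map_add, ← map_add, ← h1]

end Natural

end Groth.Agent.Lib.Helper58.Fit
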