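import Mathlib
import Groth.Prelude.Def_W4sfdMinVersal
import Groth.Agent.Lib.Helper58.ArtLength
import Groth.Agent.Lib.Helper58.FittingIdem

/-!
# The Fitting idempotent of an endomorphism of a coefficient ring
-/

set_option autoImplicit false
universe u v
open CategoryTheory

namespace Groth.Agent.Lib.Helper58.FitLim

open ArtFun IsLocalRing Groth.Agent.Lib.Helper58.Fit Groth.Agent.Lib.Helper58.ArtLen

variable {Λ : Type u} {k : Type u} [CommRing Λ] [Field k] [Algebra Λ k]

section Basic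

variable (R : CRing Λ k) (θ : R.carrier →ₐ[Λ] R.carrier) (hθ : R.res.comp θ = R.res)

include hθ in
theorem res_apply (r : R.carrier) : R.res (θ r) = R.res r :=
  congrArg (fun t : R.carrier →ₐ[Λ] k => t r) hθ

include hθ in
theorem res_pow_apply (j : ℕ) (r : R.carrier) : R.res ((θ ^ j) r) = R.res r := by
  induction j with
  | zero => simp
  | succ j ih => rw [pow_succ', AlgHom.mul_apply, res_apply R θ hθ, ih]

include hθ in
theorem pow_le_comap (n : ℕ) :
    maximalIdeal R.carrier ^ n ≤ (maximalIdeal R.carrier ^ n).comap θ := by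
  rw [← Ideal.map_le_iff_le_comap, Ideal.map_pow]
  apply Ideal.pow_right_mono
  rw [Ideal.map_le_iff_le_comap]
  intro a ha
  rw [Ideal.mem_comap, CRing.mem_maximalIdeal_iff, res_apply R θ hθ]
  exact (CRing.mem_maximalIdeal_iff R a).1 ha

include hθ in
theorem pow_mem (n j : ℕ) (r : R.carrier) (hr : r ∈ maximalIdeal R.carrier ^ n) :
    (θ ^ j) r ∈ maximalIdeal R.carrier ^ n := by
  induction j with
  | zero => simpa using hr
  | succ j ih =>
    rw [pow_succ', AlgHom.mul_apply]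
    exact pow_le_comap R θ hθ n ih

/-- the induced endomorphism of `R/m^n` -/
noncomputable def θq (n : ℕ) : (R.carrier ⧸ maximalIdeal R.carrier ^ n) →ₐ[Λ]
    (R.carrier ⧸ maximalIdeal R.carrier ^ n) :=
  Ideal.quotientMapₐ (maximalIdeal R.carrier ^ n) θ (pow_le_comap R θ hθ n)

theorem θq_mk (n : ℕ) (r : R.carrier) :
    θq R θ hθ n (Ideal.Quotient.mk _ r) = Ideal.Quotient.mk _ (θ r) := rfl

theorem θq_pow_mk (n j : ℕ) (r : R.carrier) :
    ((θq R θ hθ n) ^ j) (Ideal.Quotient.mk _ r) = Ideal.Quotient.mk _ ((θ ^ j) r) := by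
  induction j generalizing r with
  | zero => simp
  | succ j ih =>
    rw [pow_succ, pow_succ, AlgHom.mul_apply, AlgHom.mul_apply, θq_mk, ih]

end Basic

section Main

variable [IsNoetherianRing Λ] [Module.Finite Λ k]
variable (R : CRing Λ k) (θ : R.carrier →ₐ[Λ] R.carrier) (hθ : R.res.comp θ = R.res)

theorem exists_fit (n : ℕ) : ∃ (ε : (R.carrier ⧸ maximalIdeal R.carrier ^ n) →ₐ[Λ]
    (R.carrier ⧸ maximalIdeal R.carrier ^ n)) (N : ℕ), IsFit (θq R θ hθ n) ε N := by
  haveI := isNoetherian_quot_pow R n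
  haveI := isArtinian_quot_pow R n
  exact exists_isFit _

include hθ in
/-- the Fitting idempotent of an endomorphism of a coefficient ring -/
theorem exists_idem :
    ∃ e : R.carrier →ₐ[Λ] R.carrier, R.res.comp e = R.res ∧ e.comp e = e ∧
      (∀ n, ∃ N, ∀ r, e ((θ ^ N) r) - (θ ^ N) r ∈ maximalIdeal R.carrier ^ n) ∧
      (∀ n j r, (θ ^ j) r ∈ maximalIdeal R.carrier ^ n → e r ∈ maximalIdeal R.carrier ^ n) ∧
      (∀ n j r, ∃ c, e r - (θ ^ j) c ∈ maximalIdeal R.carrier ^ n) := by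
  classical
  haveI := R.isAdicComplete
  choose ε N hFit using exists_fit R θ hθ
  let f : ∀ n, R.carrier →ₐ[Λ] (R.carrier ⧸ maximalIdeal R.carrier ^ n) := fun n =>
    (ε n).comp (Ideal.Quotient.mkₐ Λ (maximalIdeal R.carrier ^ n))
  have hf : ∀ {a b : ℕ} (hle : a ≤ b),
      (Ideal.Quotient.factorₐ Λ (Ideal.pow_le_pow_right hle)).comp (f b) = f a := by
    intro a b hle
    apply AlgHom.ext
    intro r
    have hp : (Ideal.Quotient.factorₐ Λ (Ideal.pow_le_pow_right (I := maximalIdeal R.carrier) hle)).comp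
        (θq R θ hθ b) = (θq R θ hθ a).comp (Ideal.Quotient.factorₐ Λ (Ideal.pow_le_pow_right hle)) := by
      apply AlgHom.ext
      intro x
      obtain ⟨y, rfl⟩ := Ideal.Quotient.mk_surjective x
      rfl
    exact IsFit.natural _ (hFit b) (hFit a) hp (Ideal.Quotient.mk _ r)
  let e : R.carrier →ₐ[Λ] R.carrier := IsAdicComplete.liftAlgHom (maximalIdeal R.carrier) f hf
  have he : ∀ n r, Ideal.Quotient.mk (maximalIdeal R.carrier ^ n) (e r) =
      ε n (Ideal.Quotient.mk (maximalIdeal R.carrier ^ n) r) := fun n r =>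
    IsAdicComplete.mk_liftAlgHom (maximalIdeal R.carrier) f hf n r
  have h0 : ∀ n, ∃ M, ∀ r, (θ ^ M) (r - e r) ∈ maximalIdeal R.carrier ^ n := by
    intro n
    refine ⟨N n, fun r => ?_⟩
    rw [← Ideal.Quotient.eq_zero_iff_mem, ← θq_pow_mk R θ hθ, map_sub, he]
    exact (hFit n).ker _
  refine ⟨e, ?_, ?_, ?_, ?_, ?_⟩
  · apply AlgHom.ext
    intro r
    obtain ⟨M, hM⟩ := h0 1
    have h1 := hM r
    rw [pow_one, CRing.mem_maximalIdeal_iff, res_pow_apply R θ hθ, map_sub, sub_eq_zero] at h1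
    exact h1.symm
  · apply IsAdicComplete.algHom_ext (maximalIdeal R.carrier)
    intro n
    apply AlgHom.ext
    intro r
    change Ideal.Quotient.mk _ (e (e r)) = Ideal.Quotient.mk _ (e r)
    rw [he, he, (hFit n).idem]
  · intro n
    refine ⟨N n, fun r => ?_⟩
    rw [← Ideal.Quotient.eq_zero_iff_mem, map_sub, he, ← θq_pow_mk R θ hθ, (hFit n).fix, sub_self]
  · intro n j r hr
    rw [← Ideal.Quotient.eq_zero_iff_mem, he]
    apply (hFit n).vanish _ j
    rw [θq_pow_mk R θ hθ, Ideal.Quotient.eq_zero_iff_mem]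
    exact hr
  · intro n j r
    obtain ⟨c, hc⟩ := (hFit n).range (Ideal.Quotient.mk _ r) j
    obtain ⟨c', rfl⟩ := Ideal.Quotient.mk_surjective c
    refine ⟨c', ?_⟩
    rw [← Ideal.Quotient.eq_zero_iff_mem, map_sub, he, hc, θq_pow_mk R θ hθ, sub_self]

end Main

end Groth.Agent.Lib.Helper58.FitLim
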