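import Groth.Agent.H76.FlatDescentGlobal
import Groth.Agent.Lib.Helper58.FerrandLoc

/-!
# Descent of flatness along injective integral ring maps, f.p. modules over polynomial rings
(helper58; Stacks 0533/0534-type, non-Noetherian via helper76's Noetherian approximation)
-/

set_option autoImplicit false
universe u
open TensorProduct Groth.Agent.H76.FlatKernel Groth.Agent.H76.FlatBaseChange
  Groth.Agent.H76.FlatDescentLocal

namespace Groth.Agent.Lib.Helper58.CokerBC

attribute [local instance] MvPolynomial.algebraMvPolynomial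

section BC

variable {A₁ A₂ : Type u} [CommRing A₁] [CommRing A₂] [Algebra A₁ A₂] {n a b : ℕ}

/-- the cokernel of a polynomial matrix -/
abbrev Coker {A : Type u} [CommRing A] (c : Fin a → Fin b → MvPolynomial (Fin n) A) : Type u :=
  (Fin b → MvPolynomial (Fin n) A) ⧸ Submodule.span (MvPolynomial (Fin n) A) (Set.range c)

/-- cokernels of polynomial matrices commute with base change of the coefficient ring -/
noncomputable def cokerBC (c₁ : Fin a → Fin b → MvPolynomial (Fin n) A₁) :
    Coker (cmap (algebraMap A₁ A₂) c₁) ≃ₗ[A₂] A₂ ⊗[A₁] Coker c₁ :=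
  ((isBaseChange_cokerMap (P₂ := MvPolynomial (Fin n) A₂) c₁).equiv.symm.restrictScalars A₂).trans
    (Algebra.IsPushout.cancelBaseChange A₁ A₂ (MvPolynomial (Fin n) A₁) (MvPolynomial (Fin n) A₂)
      (Coker c₁))

theorem flat_coker_of_flat_tensor (c₁ : Fin a → Fin b → MvPolynomial (Fin n) A₁)
    [Module.Flat A₂ (A₂ ⊗[A₁] Coker c₁)] : Module.Flat A₂ (Coker (cmap (algebraMap A₁ A₂) c₁)) :=
  Module.Flat.of_linearEquiv (cokerBC c₁)

theorem flat_tensor_of_flat_coker (c₁ : Fin a → Fin b → MvPolynomial (Fin n) A₁)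
    [Module.Flat A₂ (Coker (cmap (algebraMap A₁ A₂) c₁))] : Module.Flat A₂ (A₂ ⊗[A₁] Coker c₁) :=
  Module.Flat.of_linearEquiv (cokerBC c₁).symm

theorem flat_coker_baseChange (c₁ : Fin a → Fin b → MvPolynomial (Fin n) A₁)
    [Module.Flat A₁ (Coker c₁)] : Module.Flat A₂ (Coker (cmap (algebraMap A₁ A₂) c₁)) :=
  flat_coker_of_flat_tensor c₁

end BC

section Integral

variable {R S : Type u} [CommRing R] [CommRing S] [Algebra R S]

/-- an element of `S` integral over `R` via a monic polynomial with coefficients in the stage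
`Stg t` is integral over `Stg t`. -/
theorem isIntegral_stg (t : Finset R) (x : S) (p : Polynomial R) (hp : p.Monic)
    (hx : Polynomial.eval₂ (algebraMap R S) x p = 0) (hpt : ∀ i, p.coeff i ∈ Stg t) :
    IsIntegral (Stg t) x := by
  rcases subsingleton_or_nontrivial R with hR | hR
  · haveI : Subsingleton S := by
      refine subsingleton_of_zero_eq_one ?_
      rw [← map_one (algebraMap R S), Subsingleton.elim (1 : R) 0, map_zero]
    exact ⟨1, Polynomial.monic_one, Subsingleton.elim _ _⟩
  have hl : p ∈ Polynomial.lifts (algebraMap (Stg t) R) := by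
    rw [Polynomial.lifts_iff_coeff_lifts]
    intro i
    exact ⟨⟨p.coeff i, hpt i⟩, rfl⟩
  obtain ⟨q, hq, -, hqm⟩ := Polynomial.lifts_and_degree_eq_and_monic hl hp
  refine ⟨q, hqm, ?_⟩
  rw [IsScalarTower.algebraMap_eq (Stg t) R S, ← Polynomial.eval₂_map, hq]
  exact hx

/-- matrices over a subring are determined by their images -/
theorem cmap_injective {A B : Type u} [CommRing A] [CommRing B] (ρ : A →+* B)
    (hρ : Function.Injective ρ) {n a b : ℕ} (c c' : Fin a → Fin b → MvPolynomial (Fin n) A)
    (h : cmap ρ c = cmap ρ c') : c = c' := by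
  ext j i : 2
  have := congrFun (congrFun h j) i
  exact MvPolynomial.map_injective ρ hρ this

theorem cmap_cmap {A B C : Type u} [CommRing A] [CommRing B] [CommRing C] (ρ : A →+* B)
    (σ : B →+* C) {n a b : ℕ} (c : Fin a → Fin b → MvPolynomial (Fin n) A) :
    cmap σ (cmap ρ c) = cmap (σ.comp ρ) c := by
  ext j i : 2
  simp [MvPolynomial.map_map]

/-- **Descent of flatness along an injective integral ring map** for cokernels of polynomial
matrices. -/
theorem flat_coker_of_integral_injective [Algebra.IsIntegral R S]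
    (hinj : Function.Injective (algebraMap R S)) {n a b : ℕ}
    (c : Fin a → Fin b → MvPolynomial (Fin n) R)
    [Module.Flat S (Coker (cmap (algebraMap R S) c))] : Module.Flat R (Coker c) := by
  classical
  -- Step 3: a flat stage over `S`
  obtain ⟨s, -, c', hc', hfl'⟩ :=
    Groth.Agent.H76.FlatDescentGlobal.exists_stage_flat_global (cmap (algebraMap R S) c) ∅
  -- integrality data
  have hint : ∀ x : S, ∃ p : Polynomial R, p.Monic ∧ Polynomial.eval₂ (algebraMap R S) x p = 0 :=
    fun x => Algebra.IsIntegral.isIntegral x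
  choose p hpm hpx using hint
  set t : Finset R := (Finset.univ.biUnion fun j => Finset.univ.biUnion fun i => (c j i).coeffs) ∪
    s.biUnion (fun x => (p x).coeffs) with ht
  have hc₁ : ∀ j i, ∃ f : MvPolynomial (Fin n) (Stg t),
      MvPolynomial.map (algebraMap (Stg t) R) f = c j i := by
    intro j i
    apply exists_map_eq
    intro x hx
    rw [ht]
    apply Finset.mem_union_left
    simp only [Finset.mem_biUnion, Finset.mem_univ, true_and]
    exact ⟨j, i, hx⟩
  choose c₁ hc₁ using hc₁
  have hcc₁ : cmap (algebraMap (Stg t) R) c₁ = c := by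
    ext j i : 2
    exact hc₁ j i
  have hpt : ∀ x ∈ s, ∀ i, (p x).coeff i ∈ Stg t := by
    intro x hx i
    by_cases h0 : (p x).coeff i = 0
    · rw [h0]; exact zero_mem _
    · apply Algebra.subset_adjoin
      rw [ht]
      apply Finset.mem_coe.mpr
      apply Finset.mem_union_right
      exact Finset.mem_biUnion.mpr ⟨x, hx, Polynomial.coeff_mem_coeffs h0⟩
  have hints : ∀ x ∈ s, IsIntegral (Stg t) x := fun x hx =>
    isIntegral_stg t x (p x) (hpm x) (hpx x) (hpt x hx)
  -- the finite extension `S₁` of `R₁ = Stg t`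
  let S₁ : Subalgebra (Stg t) S := Algebra.adjoin (Stg t) (s : Set S)
  haveI hfin : Module.Finite (Stg t) S₁ := by
    have hfg : (Subalgebra.toSubmodule S₁).FG := fg_adjoin_of_finite s.finite_toSet hints
    exact Module.Finite.of_fg hfg
  have hinj₁ : Function.Injective (algebraMap (Stg t) S₁) := by
    intro x y hxy
    have h1 : algebraMap (Stg t) S x = algebraMap (Stg t) S y := congrArg Subtype.val hxy
    rw [IsScalarTower.algebraMap_apply (Stg t) R S, IsScalarTower.algebraMap_apply (Stg t) R S] at h1
    exact algebraMap_stg_injective t (hinj h1)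
  -- the inclusion of the stage of `S` into `S₁`
  have hle : ∀ x : Stg s, algebraMap (Stg s) S x ∈ S₁ := by
    intro x
    have h1 : (Stg s : Subalgebra ℤ S) ≤ S₁.restrictScalars ℤ := by
      apply Algebra.adjoin_le
      intro y hy
      exact Algebra.subset_adjoin hy
    exact h1 x.2
  let j : Stg s →+* S₁ := RingHom.codRestrict (algebraMap (Stg s) S) S₁ hle
  letI algj : Algebra (Stg s) S₁ := j.toAlgebra
  haveI := hfl'
  haveI hflS₁ : Module.Flat S₁ (Coker (cmap (algebraMap (Stg s) S₁) c')) :=
    flat_coker_baseChange c'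
  have heq : cmap (algebraMap (Stg s) S₁) c' = cmap (algebraMap (Stg t) S₁) c₁ := by
    apply cmap_injective (S₁.val : S₁ →+* S) Subtype.val_injective
    rw [cmap_cmap, cmap_cmap]
    have e1 : ((S₁.val : S₁ →+* S)).comp (algebraMap (Stg s) S₁) = algebraMap (Stg s) S := by
      ext x; rfl
    have e2 : ((S₁.val : S₁ →+* S)).comp (algebraMap (Stg t) S₁) =
        (algebraMap R S).comp (algebraMap (Stg t) R) := by
      ext x; rfl
    rw [e1, e2, hc', ← cmap_cmap, hcc₁]
  rw [heq] at hflS₁
  haveI : Module.Flat S₁ (S₁ ⊗[Stg t] Coker c₁) := flat_tensor_of_flat_coker c₁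
  haveI : Module.Flat (Stg t) (Coker c₁) :=
    Groth.Agent.Lib.Helper58.FerrandLoc.flat_of_finite_injective_noeth (R := Stg t) (S := S₁)
      (Coker c₁) (MvPolynomial (Fin n) (Stg t)) hinj₁
  rw [← hcc₁]
  exact flat_coker_baseChange c₁

end Integral

end Groth.Agent.Lib.Helper58.CokerBC
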