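import Mathlib

/-!
# A map into a flat module which is an isomorphism modulo a nilpotent ideal is an isomorphism
-/

set_option autoImplicit false
universe u v w

namespace Groth.Agent.Lib.Helper58.FlatNilpIso

variable {A : Type u} [CommRing A] (I : Ideal A)
  {M : Type v} [AddCommGroup M] [Module A M] {N : Type w} [AddCommGroup N] [Module A N]

/-- nilpotent Nakayama: a submodule `P` with `P + I N = N` is everything -/
theorem eq_top_of_sup_smul_eq_top (hI : IsNilpotent I) (P : Submodule A N)
    (h : ⊤ ≤ P ⊔ I • (⊤ : Submodule A N)) : P = ⊤ := by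
  obtain ⟨j, hj⟩ := hI
  have key : ∀ i : ℕ, (⊤ : Submodule A N) ≤ P ⊔ (I ^ i) • (⊤ : Submodule A N) := by
    intro i
    induction i with
    | zero =>
      rw [pow_zero, Ideal.one_eq_top, Submodule.top_smul]
      exact le_sup_right
    | succ i ih =>
      calc (⊤ : Submodule A N) ≤ P ⊔ I • (⊤ : Submodule A N) := h
        _ ≤ P ⊔ I • (P ⊔ (I ^ i) • (⊤ : Submodule A N)) :=
          sup_le_sup_left (Submodule.smul_mono le_rfl ih) _
        _ = P ⊔ (I • P ⊔ I • (I ^ i) • (⊤ : Submodule A N)) := by rw [Submodule.smul_sup]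
        _ ≤ P ⊔ (I ^ (i + 1)) • (⊤ : Submodule A N) := by
          apply sup_le le_sup_left
          apply sup_le
          · exact le_trans Submodule.smul_le_right le_sup_left
          · rw [← Submodule.mul_smul, ← pow_succ']
            exact le_sup_right
  have h1 := key j
  rw [hj, Ideal.zero_eq_bot, Submodule.bot_smul, sup_bot_eq] at h1
  exact top_le_iff.1 h1

/-- nilpotent Nakayama: a submodule `K` with `K ≤ I K` is zero -/
theorem eq_bot_of_le_smul (hI : IsNilpotent I) (K : Submodule A M) (h : K ≤ I • K) : K = ⊥ := by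
  obtain ⟨j, hj⟩ := hI
  have key : ∀ i : ℕ, K ≤ (I ^ i) • K := by
    intro i
    induction i with
    | zero =>
      rw [pow_zero, Ideal.one_eq_top, Submodule.top_smul]
    | succ i ih =>
      calc K ≤ I • K := h
        _ ≤ I • (I ^ i) • K := Submodule.smul_mono le_rfl ih
        _ = (I ^ (i + 1)) • K := by rw [← Submodule.mul_smul, ← pow_succ']
  have h1 := key j
  rw [hj, Ideal.zero_eq_bot, Submodule.bot_smul] at h1
  exact le_bot_iff.1 h1

/-- a linear map to a flat module, surjective modulo `I` and with kernel inside `I M`, is bijective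
when `I` is nilpotent -/
theorem bijective_of_flat (hI : IsNilpotent I) [Module.Flat A N] (f : M →ₗ[A] N)
    (h1 : ∀ n : N, ∃ m : M, n - f m ∈ I • (⊤ : Submodule A N))
    (h2 : ∀ m : M, f m = 0 → m ∈ I • (⊤ : Submodule A M)) : Function.Bijective f := by
  classical
  have hsurj : Function.Surjective f := by
    rw [← LinearMap.range_eq_top]
    apply eq_top_of_sup_smul_eq_top I hI
    intro n _
    obtain ⟨m, hm⟩ := h1 n
    have : n = f m + (n - f m) := by abel
    rw [this]
    exact Submodule.add_mem_sup (LinearMap.mem_range_self f m) hm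
  refine ⟨?_, hsurj⟩
  rw [← LinearMap.ker_eq_bot]
  apply eq_bot_of_le_smul I hI
  intro x hx
  have hx0 : f x = 0 := hx
  have hxI := h2 x hx0
  have hspan : (⊤ : Submodule A M) = Submodule.span A (Set.range (id : M → M)) := by
    rw [Set.range_id, Submodule.span_univ]
  rw [hspan, Submodule.mem_ideal_smul_span_iff_exists_sum] at hxI
  obtain ⟨a, haI, hax⟩ := hxI
  -- the relation in `N`
  have hrel : ∑ i : a.support, a i • f (i : M) = 0 := by
    have h3 : f (a.sum fun i c => c • id i) = 0 := by rw [hax, hx0]
    rw [Finsupp.sum, map_sum] at h3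
    rw [← Finset.sum_coe_sort] at h3
    simpa using h3
  obtain ⟨κ, b, y, hy, hb⟩ := Module.Flat.isTrivialRelation_of_sum_smul_eq_zero hrel
  choose z hz using fun j => hsurj (y j)
  have hκ : ∀ i : a.support, (i : M) - ∑ j, b i j • z j ∈ LinearMap.ker f := by
    intro i
    have hyi : f (i : M) = ∑ j, b i j • y j := hy i
    rw [LinearMap.mem_ker, map_sub, map_sum, hyi, sub_eq_zero]
    apply Finset.sum_congr rfl
    intro j _
    rw [map_smul, hz]
  have hxsum : x = ∑ i : a.support, a i • ((i : M) - ∑ j, b i j • z j) := by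
    have h4 : ∑ i : a.support, a i • ∑ j, b i j • z j = 0 := by
      simp_rw [Finset.smul_sum, smul_smul]
      rw [Finset.sum_comm]
      apply Finset.sum_eq_zero
      intro j _
      rw [← Finset.sum_smul, hb j, zero_smul]
    simp_rw [smul_sub]
    rw [Finset.sum_sub_distrib, h4, sub_zero, ← hax, Finsupp.sum, ← Finset.sum_coe_sort]
    rfl
  rw [hxsum]
  exact Submodule.sum_mem _ fun i _ => Submodule.smul_mem_smul (haI i) (hκ i)

end Groth.Agent.Lib.Helper58.FlatNilpIso
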