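import Mathlib

/-!
# Free coactions of group algebras (pure algebra)

A coaction `ρ : A → A[P]` (`P` a commutative group) which is free on points has all its graded
pieces generating the unit ideal, and then `A[P]` is generated as a ring by the constants and the
image of `ρ`.
-/

set_option autoImplicit false

universe u v

namespace Groth.Agent.Lib.Helper58.FreeAct1

open MonoidAlgebra

open Classical

variable {A : Type u} [CommRing A] {P : Type v} [CommGroup P]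
  (ρ : A →+* MonoidAlgebra A P)

/-- the homogeneous component of degree `m`. -/
noncomputable def p (m : P) (f : A) : A := (ρ f).coeff m

lemma p_add (m : P) (f g : A) : p ρ m (f + g) = p ρ m f + p ρ m g := by
  simp [p]

lemma p_zero (m : P) : p ρ m 0 = 0 := by simp [p]

variable (h1 : ∀ (f : A) (m n : P), (ρ ((ρ f).coeff m)).coeff n =
    if m = n then (ρ f).coeff m else 0)
  (h2 : ∀ f : A, (ρ f).coeff.sum (fun _ c => c) = f)

include h1 in
lemma ρ_p (m : P) (f : A) : ρ (p ρ m f) = single m (p ρ m f) := by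
  classical
  ext n
  rw [coeff_single, Finsupp.single_apply]
  exact h1 f m n

include h1 in
lemma p_p (m n : P) (f : A) : p ρ n (p ρ m f) = if m = n then p ρ m f else 0 := h1 f m n

include h1 in
lemma ρ_mul_p (a b : P) (f g : A) :
    ρ (p ρ a f * p ρ b g) = single (a * b) (p ρ a f * p ρ b g) := by
  rw [map_mul, ρ_p ρ h1, ρ_p ρ h1, single_mul_single]

include h1 in
lemma p_mul_p (a b : P) (f g : A) :
    p ρ (a * b) (p ρ a f * p ρ b g) = p ρ a f * p ρ b g := by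
  unfold p
  rw [show (ρ f).coeff a = p ρ a f from rfl, show (ρ g).coeff b = p ρ b g from rfl,
    ρ_mul_p ρ h1, coeff_single, Finsupp.single_eq_same]

lemma p_one_one : p ρ 1 1 = 1 := by
  have h : ρ 1 = single 1 1 := by rw [map_one, one_def]
  unfold p
  rw [h, coeff_single, Finsupp.single_eq_same]

lemma p_mul (m : P) (g f : A) :
    p ρ m (g * f) = (ρ g).coeff.sum fun a c => (ρ f).coeff.sum fun b d =>
      if a * b = m then c * d else 0 := by
  classical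
  unfold p
  rw [map_mul, MonoidAlgebra.coeff_mul]


section free

variable (𝔭 : Ideal A) [𝔭.IsPrime]

/-- degrees in which some homogeneous element is nonzero at `𝔭`. -/
def Mx : Set P := {m | ∃ f, p ρ m f ∉ 𝔭}

lemma one_mem_Mx : (1 : P) ∈ Mx ρ 𝔭 :=
  ⟨1, by rw [p_one_one]; exact (Ideal.ne_top_iff_one 𝔭).mp (Ideal.IsPrime.ne_top ‹_›)⟩

include h1 in
lemma mul_mem_Mx {a b : P} (ha : a ∈ Mx ρ 𝔭) (hb : b ∈ Mx ρ 𝔭) : a * b ∈ Mx ρ 𝔭 := by
  obtain ⟨f, hf⟩ := ha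
  obtain ⟨g, hg⟩ := hb
  refine ⟨p ρ a f * p ρ b g, ?_⟩
  rw [p_mul_p ρ h1]
  exact fun h => (Ideal.IsPrime.mem_or_mem ‹_› h).elim hf hg

/-- the group of units of `Mx`. -/
def E : Subgroup P where
  carrier := {m | m ∈ Mx ρ 𝔭 ∧ m⁻¹ ∈ Mx ρ 𝔭}
  mul_mem' := fun ⟨h3, h4⟩ ⟨h5, h6⟩ =>
    ⟨mul_mem_Mx ρ h1 𝔭 h3 h5, by rw [mul_inv]; exact mul_mem_Mx ρ h1 𝔭 h4 h6⟩
  one_mem' := ⟨one_mem_Mx ρ 𝔭, by rw [inv_one]; exact one_mem_Mx ρ 𝔭⟩
  inv_mem' := fun ⟨h3, h4⟩ => ⟨h4, by rw [inv_inv]; exact h3⟩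

lemma mem_E {m : P} : m ∈ E ρ h1 𝔭 ↔ m ∈ Mx ρ 𝔭 ∧ m⁻¹ ∈ Mx ρ 𝔭 := Iff.rfl

/-- the ideal of the limit point. -/
def Q : Ideal A where
  carrier := {f | ∀ m ∈ E ρ h1 𝔭, p ρ m f ∈ 𝔭}
  add_mem' := fun hf hg m hm => by rw [p_add]; exact 𝔭.add_mem (hf m hm) (hg m hm)
  zero_mem' := fun m _ => by rw [p_zero]; exact 𝔭.zero_mem
  smul_mem' := fun g f hf m hm => by
    rw [smul_eq_mul, p_mul]
    refine Ideal.sum_mem 𝔭 (fun a _ => Ideal.sum_mem 𝔭 (fun b _ => ?_))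
    beta_reduce
    split_ifs with hab
    · by_cases hb : b ∈ E ρ h1 𝔭
      · exact 𝔭.mul_mem_left _ (hf b hb)
      · by_contra hcon
        have ha' : a ∈ Mx ρ 𝔭 := ⟨g, fun h => hcon (𝔭.mul_mem_right _ h)⟩
        have hb' : b ∈ Mx ρ 𝔭 := ⟨f, fun h => hcon (𝔭.mul_mem_left _ h)⟩
        have hbinv : b⁻¹ = a * m⁻¹ := by rw [← hab, mul_inv, mul_inv_cancel_left]
        exact hb ⟨hb', by rw [hbinv]; exact mul_mem_Mx ρ h1 𝔭 ha' hm.2⟩
    · exact 𝔭.zero_mem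

lemma mem_Q {f : A} : f ∈ Q ρ h1 𝔭 ↔ ∀ m ∈ E ρ h1 𝔭, p ρ m f ∈ 𝔭 := Iff.rfl

lemma one_notMem_Q : (1 : A) ∉ Q ρ h1 𝔭 := by
  intro h
  have h' := h 1 (E ρ h1 𝔭).one_mem
  rw [p_one_one] at h'
  exact (Ideal.ne_top_iff_one 𝔭).mp (Ideal.IsPrime.ne_top ‹_›) h'

lemma p_mem_Q {m : P} (hm : m ∉ E ρ h1 𝔭) (f : A) : p ρ m f ∈ Q ρ h1 𝔭 := by
  intro n hn
  have hne : ¬ (m = n) := fun h => hm (by rw [h]; exact hn)
  rw [p_p ρ h1, if_neg hne]
  exact 𝔭.zero_mem

end free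

lemma liftNC_eq_sum {B : Type*} [CommRing B] (ξ : A →+* B) (α : P →* B) (x : MonoidAlgebra A P) :
    MonoidAlgebra.liftNCRingHom ξ α (fun _ _ => Commute.all _ _) x =
      x.coeff.sum fun m c => ξ c * α m := by
  induction x using MonoidAlgebra.induction_linear with
  | zero => simp
  | add x y hx hy =>
    rw [map_add, hx, hy, coeff_add, Finsupp.sum_add_index' (by simp) (by intros; rw [map_add, add_mul])]
  | single m r =>
    rw [coeff_single, Finsupp.sum_single_index (by simp)]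
    simp [liftNCRingHom]

include h1 h2 in
/-- a free coaction has all graded pieces generating the unit ideal. -/
theorem span_range_p_eq_top
    (hfree : ∀ (B : Type (max u v)) [CommRing B] (ξ : A →+* B) (α : P →* B),
      (∀ f, MonoidAlgebra.liftNCRingHom ξ α (fun _ _ => Commute.all _ _) (ρ f) = ξ f) → α = 1)
    (m₀ : P) : Ideal.span (Set.range (p ρ m₀)) = ⊤ := by
  by_contra hne
  obtain ⟨𝔭, h𝔭, hle⟩ := Ideal.exists_le_maximal _ hne
  haveI := h𝔭.isPrime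
  have hm₀ : m₀ ∉ Mx ρ 𝔭 := fun ⟨f, hf⟩ => hf (hle (Ideal.subset_span ⟨f, rfl⟩))
  have hm₀E : m₀ ∉ E ρ h1 𝔭 := fun h => hm₀ h.1
  haveI : Nontrivial (A ⧸ Q ρ h1 𝔭) :=
    Ideal.Quotient.nontrivial_iff.mpr (by rw [Ne, Ideal.eq_top_iff_one]; exact one_notMem_Q ρ h1 𝔭)
  obtain ⟨ξ, hξ⟩ : ∃ ξ : A →+* MonoidAlgebra (A ⧸ Q ρ h1 𝔭) (P ⧸ E ρ h1 𝔭),
      ξ = (algebraMap (A ⧸ Q ρ h1 𝔭) (MonoidAlgebra (A ⧸ Q ρ h1 𝔭) (P ⧸ E ρ h1 𝔭))).comp
        (Ideal.Quotient.mk (Q ρ h1 𝔭)) := ⟨_, rfl⟩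
  obtain ⟨α, hα⟩ : ∃ α : P →* MonoidAlgebra (A ⧸ Q ρ h1 𝔭) (P ⧸ E ρ h1 𝔭),
      α = (MonoidAlgebra.of (A ⧸ Q ρ h1 𝔭) (P ⧸ E ρ h1 𝔭)).comp (QuotientGroup.mk' (E ρ h1 𝔭)) :=
    ⟨_, rfl⟩
  have hξ0 : ∀ (m : P) (f : A), m ∉ E ρ h1 𝔭 → ξ (p ρ m f) = 0 := by
    intro m f hm
    rw [hξ, RingHom.comp_apply, Ideal.Quotient.eq_zero_iff_mem.mpr (p_mem_Q ρ h1 𝔭 hm f), map_zero]
  have hα1 : ∀ m : P, m ∈ E ρ h1 𝔭 → α m = 1 := by
    intro m hm
    rw [hα, MonoidHom.comp_apply, QuotientGroup.mk'_apply, (QuotientGroup.eq_one_iff m).mpr hm,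
      map_one]
  have hfix : ∀ f, MonoidAlgebra.liftNCRingHom ξ α (fun _ _ => Commute.all _ _) (ρ f) = ξ f := by
    intro f
    rw [liftNC_eq_sum]
    conv_rhs => rw [← h2 f, map_finsuppSum]
    refine Finsupp.sum_congr (fun m _ => ?_)
    by_cases hm : m ∈ E ρ h1 𝔭
    · rw [hα1 m hm, mul_one]
    · have := hξ0 m f hm
      unfold p at this
      rw [this, zero_mul]
  have h3 := hfree _ ξ α hfix
  have h4 : α m₀ = 1 := by rw [h3]; rfl
  rw [hα, MonoidHom.comp_apply, QuotientGroup.mk'_apply, ← map_one (MonoidAlgebra.of _ _)] at h4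
  have h5 := MonoidAlgebra.of_injective h4
  exact hm₀E ((QuotientGroup.eq_one_iff m₀).mp h5)

include h1 in
/-- if all graded pieces generate the unit ideal, the group algebra is generated by the constants
and the image of the coaction. -/
theorem closure_eq_top (hspan : ∀ m : P, Ideal.span (Set.range (p ρ m)) = ⊤) :
    Subring.closure (Set.range (algebraMap A (MonoidAlgebra A P)) ∪ Set.range ρ) = ⊤ := by
  set S := Subring.closure (Set.range (algebraMap A (MonoidAlgebra A P)) ∪ Set.range ρ) with hS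
  have hA : ∀ b : A, (single 1 b : MonoidAlgebra A P) ∈ S := by
    intro b
    refine Subring.subset_closure (Or.inl ⟨b, ?_⟩)
    rw [coe_algebraMap]
    simp
  have hρ : ∀ f : A, ρ f ∈ S := fun f => Subring.subset_closure (Or.inr ⟨f, rfl⟩)
  have key : ∀ (m : P) (y : A), y ∈ Ideal.span (Set.range (p ρ m)) →
      (single m y : MonoidAlgebra A P) ∈ S := by
    intro m y hy
    refine Submodule.span_induction (p := fun y _ => (single m y : MonoidAlgebra A P) ∈ S)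
      ?_ ?_ ?_ ?_ hy
    · rintro _ ⟨f, rfl⟩
      rw [← ρ_p ρ h1]
      exact hρ _
    · rw [single_zero]
      exact S.zero_mem
    · intro x y _ _ hx hy
      rw [single_add]
      exact S.add_mem hx hy
    · intro b y _ hy
      have : (single m (b • y) : MonoidAlgebra A P) = single 1 b * single m y := by
        rw [single_mul_single, one_mul, smul_eq_mul]
      rw [this]
      exact S.mul_mem (hA b) hy
  rw [eq_top_iff]
  intro x _
  rw [← sum_coeff_single x]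
  refine Subring.sum_mem S (fun m _ => ?_)
  exact key m _ (by rw [hspan m]; exact Submodule.mem_top)

end Groth.Agent.Lib.Helper58.FreeAct1
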