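import Mathlib
import Groth.Agent.Lib.Helper58.TwoCover

/-!
# fpqc descent (in the sense of the Prelude) for properties of morphisms of `S`-schemes
-/

set_option autoImplicit false

universe u

open CategoryTheory CategoryTheory.Limits AlgebraicGeometry MorphismProperty

namespace Groth.Agent.Lib.Helper58.FreeAct2

open Groth.Agent.Lib.Helper58.TwoCover

variable (P : MorphismProperty Scheme.{u})

/-- descent of a property of a morphism `g : P₁ ⟶ P₂` of `S`-schemes along an fpqc covering of `S`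
followed by Zariski localisation. -/
theorem of_fpqc_mor [IsZariskiLocalAtTarget P] [P.IsStableUnderBaseChange]
    [P.DescendsAlong (@Surjective ⊓ @Flat ⊓ @QuasiCompact)]
    {P₁ P₂ S S' : Scheme.{u}} (g : P₁ ⟶ P₂) (s₂ : P₂ ⟶ S) (f : S' ⟶ S) [Flat f]
    (hcov : ∀ V : S.Opens, IsAffineOpen V →
      ∃ W : S'.Opens, IsCompact (W : Set S') ∧ f.base '' (W : Set S') = (V : Set S))
    (𝒰 : S' → S'.Opens) (h𝒰 : ∀ s, s ∈ 𝒰 s)
    (hloc : ∀ (O : Scheme.{u}) [IsAffine O] (s' : S') (o : O ⟶ (𝒰 s' : Scheme.{u})) (h : O ⟶ P₂),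
        o ≫ (𝒰 s').ι ≫ f = h ≫ s₂ → P (pullback.snd g h)) : P g := by
  have h0 : P (pullback.snd g (𝟙 P₂)) := by
    refine snd_of_local P g (𝟙 P₂) (fun x => ?_)
    obtain ⟨B, hB, hxB, -⟩ := exists_isAffineOpen_mem_and_subset (x := s₂.base x) (U := ⊤) trivial
    have hxB' : x ∈ s₂ ⁻¹ᵁ B := hxB
    obtain ⟨V, hV, hxV, hVB⟩ := exists_isAffineOpen_mem_and_subset hxB'
    have hVB' : V ≤ s₂ ⁻¹ᵁ B := hVB
    refine ⟨V, hxV, ?_⟩
    rw [Category.comp_id]
    obtain ⟨W, hW, hWB⟩ := hcov B hB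
    haveI : IsAffine (B : Scheme.{u}) := hB
    obtain ⟨fW, hfac, hfW⟩ := exists_lift_fpqc f B.ι W hW (by rw [hWB, Scheme.Opens.range_ι])
    obtain ⟨sV, hsV⟩ : ∃ sV : (V : Scheme.{u}) ⟶ B, sV = s₂.resLE B V hVB' := ⟨_, rfl⟩
    have hsV' : sV ≫ B.ι = V.ι ≫ s₂ := by rw [hsV, Scheme.Hom.resLE_comp_ι]
    have hq : (@Surjective ⊓ @Flat ⊓ @QuasiCompact : MorphismProperty Scheme.{u})
        (pullback.fst sV fW) := MorphismProperty.pullback_fst _ _ hfW
    refine snd_of_descends P _ g V.ι (pullback.fst sV fW) hq ?_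
    refine snd_of_local P g _ (fun v' => ?_)
    obtain ⟨r, hr⟩ : ∃ r : pullback sV fW ⟶ S', r = pullback.snd sV fW ≫ W.ι := ⟨_, rfl⟩
    have hrf : r ≫ f = (pullback.fst sV fW ≫ V.ι) ≫ s₂ := by
      rw [hr, Category.assoc, ← hfac, ← Category.assoc, ← pullback.condition, Category.assoc, hsV',
        Category.assoc]
    obtain ⟨U', hU'aff, hvU', hU'le⟩ := exists_isAffineOpen_mem_and_subset
      (x := v') (U := r ⁻¹ᵁ (𝒰 (r.base v'))) (h𝒰 _)
    refine ⟨U', hvU', ?_⟩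
    have hrange : Set.range (U'.ι ≫ r).base ⊆ Set.range (𝒰 (r.base v')).ι.base := by
      rw [Scheme.Opens.range_ι]
      rintro _ ⟨y, rfl⟩
      exact hU'le y.2
    haveI : IsAffine (U' : Scheme.{u}) := hU'aff
    exact hloc U' (r.base v') (IsOpenImmersion.lift (𝒰 (r.base v')).ι (U'.ι ≫ r) hrange)
      (U'.ι ≫ pullback.fst sV fW ≫ V.ι) (by
        rw [IsOpenImmersion.lift_fac_assoc, Category.assoc, hrf]
        simp only [Category.assoc])
  have h1 : pullback.snd g (𝟙 P₂) = (asIso (pullback.fst g (𝟙 P₂))).hom ≫ g := by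
    rw [asIso_hom, pullback.condition, Category.comp_id]
  rw [h1, P.cancel_left_of_respectsIso] at h0
  exact h0

end Groth.Agent.Lib.Helper58.FreeAct2
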