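import Mathlib
import Groth.Prelude.Def_SGA3x
import Groth.Prelude.Def_AlgGrp
import Groth.Agent.Lib.Helper58.TrivAct2
import Groth.Agent.Lib.Helper58.FreeAct1

/-!
# Actions of locally diagonalisable groups on schemes affine over the base: saturated charts
-/

set_option autoImplicit false

universe u

open CategoryTheory CategoryTheory.Limits AlgebraicGeometry MonoidalCategory
  CartesianMonoidalCategory MonObj GrpObj

namespace Groth.Agent.Lib.Helper58.FreeAct3

open Groth.Agent.Lib.Helper43 Groth.Agent.Lib.Helper58.DiagPts Groth.Agent.Lib.Helper58.DiagTest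
open Groth.Agent.Lib.Helper58 Groth.Agent.Lib.Helper58.TrivAct2

section testScheme

variable {S U : Scheme.{u}} (G : Over S) [GrpObj G] (u : U ⟶ S) {M : Type} [AddCommGroup M]
  (e : Grp.mk (Red.bc u G) ≅ Grp.mk (Red.DS U M))
  {k : Type u} [CommRing k] (t : Spec (CommRingCat.of k) ⟶ S)
  (tU : Spec (CommRingCat.of k) ⟶ U) (htU : tU ≫ u = t)

/-- a morphism to the test scheme is determined by its two components. -/
lemma hom_ext_D {Y : Over S} (h₁ h₂ : Y ⟶ D t M) (hτ : h₁ ≫ τD t M = h₂ ≫ τD t M)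
    (ha : h₁ ≫ aD G u e t tU htU = h₂ ≫ aD G u e t tU htU) : h₁ = h₂ := by
  have hτ' : h₁.left ≫ π k M = h₂.left ≫ π k M := congrArg (fun f => f.left) hτ
  apply Over.OverMorphism.ext
  apply ext_of_ptFnHom
  apply MonoidAlgebra.ringHom_ext
  · intro c
    have h : ∀ h : Y ⟶ D t M, ptFnHom h.left (MonoidAlgebra.single 1 c) = ptFn (h.left ≫ π k M) c := by
      intro h
      rw [ptFn_specMap, ptFnHom_apply, MonoidAlgebra.coe_algebraMap]
      simp only [Function.comp_apply, Algebra.algebraMap_self, RingHom.id_apply]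
    rw [h h₁, h h₂, hτ']
  · intro m
    have h : ∀ h : Y ⟶ D t M, ptFnHom h.left (MonoidAlgebra.single m 1) =
        κ G u e (h.left ≫ π k M ≫ tU) (by
          rw [Category.assoc, Category.assoc, htU]; exact Over.w h) (h ≫ aD G u e t tU htU) m := by
      intro h
      rw [κ_comp' G u e (π k M ≫ tU) (hxD u t tU htU) h (aD G u e t tU htU) _ _ rfl m, κ_aD]
      rfl
    rw [h h₁, h h₂]
    have h3 : h₁.left ≫ π k M ≫ tU = h₂.left ≫ π k M ≫ tU := by
      rw [← Category.assoc, hτ', Category.assoc]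
    rw [κ_congr' G u e _ _ _ (by
      rw [Category.assoc, Category.assoc, htU]; exact Over.w h₂) h3, ha]

end testScheme


section chart

variable {S : Scheme.{u}} (G X : Over S) [GrpObj G] (a : AlgGrp.Action G X)
  {U : Scheme.{u}} (u : U ⟶ S) {M : Type} [AddCommGroup M]
  (e : Grp.mk (Red.bc u G) ≅ Grp.mk (Red.DS U M))
  (W : S.affineOpens) {A : Type u} [CommRing A] (c : Γ(S, W) →+* A)
  (vA : Spec (CommRingCat.of A) ⟶ pullback X.hom u) [IsOpenImmersion vA]
  (hvA : vA ≫ pullback.fst X.hom u ≫ X.hom = Spec.map (CommRingCat.ofHom c) ≫ W.2.fromSpec)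
  (T : U.Opens)
  (hT : ∀ p : ↥(pullback X.hom u), p ∈ Set.range vA.base ↔ (pullback.snd X.hom u).base p ∈ T)

/-- the affine open of the trivialising scheme, as an `S`-scheme. -/
noncomputable abbrev TS : Over S := Over.mk (T.ι ≫ u)

include hT in
lemma range_tUA : Set.range (tUA X u vA).base ⊆ Set.range T.ι.base := by
  rw [Scheme.Opens.range_ι]
  rintro _ ⟨q, rfl⟩
  exact (hT (vA.base q)).mp ⟨q, rfl⟩

/-- the map from the chart to the affine open of the trivialising scheme. -/
noncomputable def tT : DiagTest.T (tA W c) ⟶ TS u T :=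
  Over.homMk (IsOpenImmersion.lift T.ι (tUA X u vA) (range_tUA X u vA T hT)) (by
    change _ ≫ T.ι ≫ u = tA W c
    rw [IsOpenImmersion.lift_fac_assoc]
    exact htUA X u W c vA hvA)

lemma tT_left_ι : (tT X u W c vA hvA T hT).left ≫ T.ι = tUA X u vA :=
  IsOpenImmersion.lift_fac _ _ _

section vOf

variable {Y : Over S} (x : Y ⟶ X) (t : Y ⟶ TS u T)

lemma vOf_cond : x.left ≫ X.hom = (t.left ≫ T.ι) ≫ u := by
  rw [Over.w x, Category.assoc]
  exact (Over.w t).symm

include hT in
lemma vOf_range : Set.range (pullback.lift x.left (t.left ≫ T.ι) (vOf_cond X u T x t)).base ⊆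
    Set.range vA.base := by
  rintro _ ⟨y, rfl⟩
  rw [hT, ← Scheme.Hom.comp_apply, pullback.lift_snd, Scheme.Hom.comp_apply]
  exact (t.left.base y).2

/-- the point of the chart with given components. -/
noncomputable def vOf : Y ⟶ DiagTest.T (tA W c) :=
  Over.homMk (IsOpenImmersion.lift vA (pullback.lift x.left (t.left ≫ T.ι) (vOf_cond X u T x t))
    (vOf_range X u vA T hT x t)) (by
    change _ ≫ tA W c = Y.hom
    have h : tA W c = vA ≫ pullback.fst X.hom u ≫ X.hom := hvA.symm
    rw [h, IsOpenImmersion.lift_fac_assoc, pullback.lift_fst_assoc]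
    exact Over.w x)

lemma vOf_left_vA : (vOf X u W c vA hvA T hT x t).left ≫ vA =
    pullback.lift x.left (t.left ≫ T.ι) (vOf_cond X u T x t) :=
  IsOpenImmersion.lift_fac _ _ _

lemma vOf_xA : vOf X u W c vA hvA T hT x t ≫ xA X u W c vA hvA = x := by
  apply Over.OverMorphism.ext
  simp only [Over.comp_left, xA, Over.homMk_left]
  rw [← Category.assoc, vOf_left_vA, pullback.lift_fst]

lemma vOf_tT : vOf X u W c vA hvA T hT x t ≫ tT X u W c vA hvA T hT = t := by
  apply Over.OverMorphism.ext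
  rw [← cancel_mono T.ι, Over.comp_left, Category.assoc, tT_left_ι]
  change _ ≫ vA ≫ pullback.snd X.hom u = _
  rw [← Category.assoc, vOf_left_vA, pullback.lift_snd]

end vOf

lemma hom_ext_chart {Y : Over S} (v₁ v₂ : Y ⟶ DiagTest.T (tA W c))
    (h1 : v₁ ≫ xA X u W c vA hvA = v₂ ≫ xA X u W c vA hvA)
    (h2 : v₁ ≫ tT X u W c vA hvA T hT = v₂ ≫ tT X u W c vA hvA T hT) : v₁ = v₂ := by
  refine xA_inj X u W c vA hvA v₁ v₂ h1 ?_
  have h := congrArg (fun f => f.left ≫ T.ι) h2
  simp only [Over.comp_left, Category.assoc] at h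
  rw [tT_left_ι] at h
  exact h

/-- the action on the universal point, as a point of the chart. -/
noncomputable def zh : D (tA W c) M ⟶ DiagTest.T (tA W c) :=
  vOf X u W c vA hvA T hT (zA G X a u e W c vA hvA) (τD (tA W c) M ≫ tT X u W c vA hvA T hT)

lemma zh_xA : zh G X a u e W c vA hvA T hT ≫ xA X u W c vA hvA = zA G X a u e W c vA hvA :=
  vOf_xA X u W c vA hvA T hT _ _

lemma zh_tT : zh G X a u e W c vA hvA T hT ≫ tT X u W c vA hvA T hT =
    τD (tA W c) M ≫ tT X u W c vA hvA T hT :=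
  vOf_tT X u W c vA hvA T hT _ _

lemma zh_tUA : (zh G X a u e W c vA hvA T hT).left ≫ tUA X u vA = π A M ≫ tUA X u vA := by
  have h := congrArg (fun f => f.left ≫ T.ι) (zh_tT G X a u e W c vA hvA T hT)
  simp only [Over.comp_left, Category.assoc] at h
  rw [tT_left_ι] at h
  exact h


/-- the coaction of the group algebra on the coordinate ring of the chart. -/
noncomputable abbrev ρ : A →+* kM A M := ρA W c (zh G X a u e W c vA hvA T hT)

theorem ρ_counit (f : A) :
    (ρ G X a u e W c vA hvA T hT f).coeff.sum (fun _ c => c) = f :=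
  ρA_counit G X a u e W c vA hvA (zh G X a u e W c vA hvA T hT) (zh_xA G X a u e W c vA hvA T hT)
    (zh_tUA G X a u e W c vA hvA T hT) f

open Classical in
theorem ρ_coassoc (f : A) (m n : Multiplicative M) :
    (ρ G X a u e W c vA hvA T hT ((ρ G X a u e W c vA hvA T hT f).coeff m)).coeff n =
      if m = n then (ρ G X a u e W c vA hvA T hT f).coeff m else 0 :=
  ρA_coassoc G X a u e W c vA hvA (zh G X a u e W c vA hvA T hT) (zh_xA G X a u e W c vA hvA T hT)
    (zh_tUA G X a u e W c vA hvA T hT) f m n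

lemma ptFn_id {B : Type u} [CommRing B] (b : B) :
    ptFn (𝟙 (Spec (CommRingCat.of B))) b = (Scheme.ΓSpecIso (CommRingCat.of B)).inv.hom b := by
  unfold ptFn
  simp

lemma ptFn_specMap' {B : Type u} [CommRing B] (ξ : A →+* B) (f : A) :
    ptFn (Spec.map (CommRingCat.ofHom ξ)) f = (Scheme.ΓSpecIso (CommRingCat.of B)).inv.hom (ξ f) := by
  rw [← Category.id_comp (Spec.map (CommRingCat.ofHom ξ)), ptFn_specMap, ptFn_id]

/-- a free action gives a free coaction. -/
theorem alg_free
    (hfree : ∀ (Y : Over S) (g : Y ⟶ G) (x : Y ⟶ X), lift g x ≫ a.act = x → g = 1)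
    (B : Type u) [CommRing B] (ξ : A →+* B) (α : Multiplicative M →* B)
    (hfix : ∀ f, MonoidAlgebra.liftNCRingHom ξ α (fun _ _ => Commute.all _ _)
      (ρ G X a u e W c vA hvA T hT f) = ξ f) : α = 1 := by
  obtain ⟨v, hv⟩ : ∃ v : Over.mk (Spec.map (CommRingCat.ofHom ξ) ≫ tA W c) ⟶ DiagTest.T (tA W c),
      v = Over.homMk (Spec.map (CommRingCat.ofHom ξ)) rfl := ⟨_, rfl⟩
  have hvl : v.left = Spec.map (CommRingCat.ofHom ξ) := by rw [hv]; rfl
  obtain ⟨α', hα'⟩ : ∃ α' : Multiplicative M →* Γ(Spec (CommRingCat.of B), ⊤),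
      α' = (RingHom.toMonoidHom (Scheme.ΓSpecIso (CommRingCat.of B)).inv.hom).comp α := ⟨_, rfl⟩
  obtain ⟨g, hg⟩ := κ_surjective G u e (v.left ≫ tUA X u vA)
    (hxX u (tA W c) (tUA X u vA) (htUA X u W c vA hvA) v) α'
  have hev : ev (tA W c) v α' = ((Scheme.ΓSpecIso (CommRingCat.of B)).inv.hom).comp
      (MonoidAlgebra.liftNCRingHom ξ α (fun _ _ => Commute.all _ _)) := by
    apply MonoidAlgebra.ringHom_ext
    · intro r
      rw [ev_single, map_one, _root_.mul_one, RingHom.comp_apply, ptFnHom_apply, hvl, ptFn_specMap']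
      simp [MonoidAlgebra.liftNCRingHom]
    · intro m
      rw [ev_single, map_one, _root_.one_mul, RingHom.comp_apply, hα']
      simp [MonoidAlgebra.liftNCRingHom]
  have key : gOf (tA W c) v α' ≫ zh G X a u e W c vA hvA T hT = v := by
    apply Over.OverMorphism.ext
    apply ext_of_ptFnHom
    ext f
    rw [ptFnHom_apply, ptFnHom_apply, ptFn_gOf_zh, hev, RingHom.comp_apply, hfix, hvl, ptFn_specMap']
  have h1 := act_eq' G X a u e W c vA hvA (zh G X a u e W c vA hvA T hT)
    (zh_xA G X a u e W c vA hvA T hT) v g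
  rw [hg, key] at h1
  have h2 := hfree _ g (v ≫ xA X u W c vA hvA) h1
  rw [h2, κ_one] at hg
  refine MonoidHom.ext (fun m => ?_)
  have h3 := DFunLike.congr_fun hg m
  rw [hα', MonoidHom.one_apply, MonoidHom.comp_apply] at h3
  have hinj : Function.Injective (Scheme.ΓSpecIso (CommRingCat.of B)).inv.hom := by
    intro a b hab
    have h4 : ∀ z : B, (Scheme.ΓSpecIso (CommRingCat.of B)).hom.hom
        ((Scheme.ΓSpecIso (CommRingCat.of B)).inv.hom z) = z := fun z =>
      Iso.inv_hom_id_apply (C := CommRingCat) (Scheme.ΓSpecIso (CommRingCat.of B)) z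
    rw [← h4 a, ← h4 b, hab]
  rw [MonoidHom.one_apply]
  apply hinj
  rw [map_one]
  exact h3.symm


open Classical in
/-- for a free action the group algebra is generated by the constants and the coaction. -/
theorem closure_top
    (hfree : ∀ (Y : Over S) (g : Y ⟶ G) (x : Y ⟶ X), lift g x ≫ a.act = x → g = 1) :
    Subring.closure (Set.range (algebraMap A (kM A M)) ∪
      Set.range (ρ G X a u e W c vA hvA T hT)) = ⊤ :=
  FreeAct1.closure_eq_top (ρ G X a u e W c vA hvA T hT) (ρ_coassoc G X a u e W c vA hvA T hT)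
    (fun m => FreeAct1.span_range_p_eq_top (ρ G X a u e W c vA hvA T hT)
      (ρ_coassoc G X a u e W c vA hvA T hT) (ρ_counit G X a u e W c vA hvA T hT)
      (fun B _ ξ α h => alg_free G X a u e W c vA hvA T hT hfree B ξ α h) m)

/-- the universal point of `G × X × T` with values in the test scheme. -/
noncomputable def Ψ : D (tA W c) M ⟶ (G ⊗ X) ⊗ TS u T :=
  lift (lift (aD G u e (tA W c) (tUA X u vA) (htUA X u W c vA hvA))
    (τD (tA W c) M ≫ xA X u W c vA hvA)) (τD (tA W c) M ≫ tT X u W c vA hvA T hT)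

/-- the chart point of the universal point of `G × X × T`. -/
noncomputable def v₁ : (G ⊗ X) ⊗ TS u T ⟶ DiagTest.T (tA W c) :=
  vOf X u W c vA hvA T hT (fst (G ⊗ X) (TS u T) ≫ snd G X) (snd (G ⊗ X) (TS u T))

/-- the inverse of `Ψ`. -/
noncomputable def Φ : (G ⊗ X) ⊗ TS u T ⟶ D (tA W c) M :=
  gOf (tA W c) (v₁ G X u W c vA hvA T hT)
    (κ G u e ((v₁ G X u W c vA hvA T hT).left ≫ tUA X u vA)
      (hxX u (tA W c) (tUA X u vA) (htUA X u W c vA hvA) (v₁ G X u W c vA hvA T hT))
      (fst (G ⊗ X) (TS u T) ≫ fst G X))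

lemma Ψ_v₁ : Ψ G X u e W c vA hvA T hT ≫ v₁ G X u W c vA hvA T hT = τD (tA W c) M := by
  apply hom_ext_chart X u W c vA hvA T hT
  · rw [Category.assoc, v₁, vOf_xA, Ψ, lift_fst_assoc, lift_snd]
  · rw [Category.assoc, v₁, vOf_tT, Ψ, lift_snd]

lemma Ψ_Φ : Ψ G X u e W c vA hvA T hT ≫ Φ G X u e W c vA hvA T hT = 𝟙 _ := by
  apply hom_ext_D G u e (tA W c) (tUA X u vA) (htUA X u W c vA hvA)
  · rw [Category.assoc, Φ, gOf_τD, Ψ_v₁, Category.id_comp]
  · rw [Category.assoc, Φ, gOf_aD, Category.id_comp, Ψ, lift_fst_assoc, lift_fst]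

lemma Φ_Ψ : Φ G X u e W c vA hvA T hT ≫ Ψ G X u e W c vA hvA T hT = 𝟙 _ := by
  rw [Ψ, comp_lift, comp_lift, Φ, gOf_aD, ← Category.assoc, gOf_τD, ← Category.assoc, gOf_τD, v₁,
    vOf_xA, vOf_tT]
  apply CartesianMonoidalCategory.hom_ext
  · rw [lift_fst, Category.id_comp]
    apply CartesianMonoidalCategory.hom_ext
    · rw [lift_fst]
    · rw [lift_snd]
  · rw [lift_snd, Category.id_comp]


/-- the graph morphism of the action. -/
noncomputable abbrev gr : G ⊗ X ⟶ X ⊗ X := lift a.act (snd G X)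

/-- the first coordinate function of `X × X × T` with values in the chart. -/
noncomputable def q₁ : (X ⊗ X) ⊗ TS u T ⟶ DiagTest.T (tA W c) :=
  vOf X u W c vA hvA T hT (fst (X ⊗ X) (TS u T) ≫ fst X X) (snd (X ⊗ X) (TS u T))

/-- the second coordinate function of `X × X × T` with values in the chart. -/
noncomputable def q₂ : (X ⊗ X) ⊗ TS u T ⟶ DiagTest.T (tA W c) :=
  vOf X u W c vA hvA T hT (fst (X ⊗ X) (TS u T) ≫ snd X X) (snd (X ⊗ X) (TS u T))

lemma Ψ_gr_q₂ : Ψ G X u e W c vA hvA T hT ≫ (gr G X a ▷ TS u T) ≫ q₂ X u W c vA hvA T hT =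
    τD (tA W c) M := by
  apply hom_ext_chart X u W c vA hvA T hT
  · rw [Category.assoc, Category.assoc, q₂, vOf_xA, whiskerRight_fst_assoc, lift_snd, Ψ,
      lift_fst_assoc, lift_snd]
  · rw [Category.assoc, Category.assoc, q₂, vOf_tT, whiskerRight_snd, Ψ, lift_snd]

lemma Ψ_gr_q₁ : Ψ G X u e W c vA hvA T hT ≫ (gr G X a ▷ TS u T) ≫ q₁ X u W c vA hvA T hT =
    zh G X a u e W c vA hvA T hT := by
  apply hom_ext_chart X u W c vA hvA T hT
  · rw [Category.assoc, Category.assoc, q₁, vOf_xA, whiskerRight_fst_assoc, lift_fst, Ψ,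
      lift_fst_assoc, zh_xA]
    rfl
  · rw [Category.assoc, Category.assoc, q₁, vOf_tT, whiskerRight_snd, Ψ, lift_snd, zh_tT]


lemma ΓSpecIso_inv_surjective (B : Type u) [CommRing B] :
    Function.Surjective (Scheme.ΓSpecIso (CommRingCat.of B)).inv.hom := by
  intro y
  exact ⟨(Scheme.ΓSpecIso (CommRingCat.of B)).hom.hom y,
    Iso.hom_inv_id_apply (C := CommRingCat) (Scheme.ΓSpecIso (CommRingCat.of B)) y⟩

/-- functions on the test scheme are pulled back from `X × X × T`. -/
theorem appTop_surjective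
    (hfree : ∀ (Y : Over S) (g : Y ⟶ G) (x : Y ⟶ X), lift g x ≫ a.act = x → g = 1) :
    Function.Surjective
      (Ψ G X u e W c vA hvA T hT ≫ (gr G X a ▷ TS u T)).left.appTop.hom := by
  obtain ⟨F, hF⟩ : ∃ F, F = (Ψ G X u e W c vA hvA T hT ≫ (gr G X a ▷ TS u T)).left := ⟨_, rfl⟩
  rw [← hF]
  have h1 : ∀ f : A, (Scheme.ΓSpecIso (CommRingCat.of (kM A M))).inv.hom (algebraMap A (kM A M) f) ∈
      F.appTop.hom.range := by
    intro f
    refine ⟨ptFn (q₂ X u W c vA hvA T hT).left f, ?_⟩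
    have h := congrArg (fun v => ptFn (Over.Hom.left v) f) (Ψ_gr_q₂ G X a u e W c vA hvA T hT)
    beta_reduce at h
    rw [← Category.assoc, Over.comp_left, ← hF, ptFn_comp] at h
    rw [← ptFn_specMap' (algebraMap A (kM A M)) f]
    exact h
  have h2 : ∀ f : A, (Scheme.ΓSpecIso (CommRingCat.of (kM A M))).inv.hom
      (ρ G X a u e W c vA hvA T hT f) ∈ F.appTop.hom.range := by
    intro f
    refine ⟨ptFn (q₁ X u W c vA hvA T hT).left f, ?_⟩
    have h := congrArg (fun v => ptFn (Over.Hom.left v) f) (Ψ_gr_q₁ G X a u e W c vA hvA T hT)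
    beta_reduce at h
    rw [← Category.assoc, Over.comp_left, ← hF, ptFn_comp,
      zh_left W c (zh G X a u e W c vA hvA T hT), ptFn_specMap'] at h
    exact h
  have h3 : Subring.closure (Set.range (algebraMap A (kM A M)) ∪
      Set.range (ρ G X a u e W c vA hvA T hT)) ≤
      F.appTop.hom.range.comap (Scheme.ΓSpecIso (CommRingCat.of (kM A M))).inv.hom := by
    rw [Subring.closure_le]
    rintro _ (⟨f, rfl⟩ | ⟨f, rfl⟩)
    · exact h1 f
    · exact h2 f
  rw [closure_top G X a u e W c vA hvA T hT hfree] at h3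
  intro y
  obtain ⟨y', rfl⟩ := ΓSpecIso_inv_surjective (kM A M) y
  exact h3 (Subring.mem_top y')


include e hvA hT in
/-- the base change of the graph morphism of a free action to an affine open of the trivialising
scheme is a closed immersion. -/
theorem isClosedImmersion_whisker [IsAffineHom X.hom] (hTaff : IsAffineOpen T)
    (hfree : ∀ (Y : Over S) (g : Y ⟶ G) (x : Y ⟶ X), lift g x ≫ a.act = x → g = 1) :
    IsClosedImmersion (gr G X a ▷ TS u T).left := by
  haveI : IsAffine (T : Scheme.{u}) := hTaff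
  haveI : IsAffineHom (pullback.fst X.hom X.hom) :=
    MorphismProperty.pullback_fst _ _ ‹IsAffineHom X.hom›
  haveI : IsAffineHom (X ⊗ X).hom := by
    change IsAffineHom (pullback.fst X.hom X.hom ≫ X.hom)
    infer_instance
  haveI : IsAffine ((X ⊗ X) ⊗ TS u T).left := by
    change IsAffine (pullback (X ⊗ X).hom (T.ι ≫ u))
    infer_instance
  haveI : IsAffine (D (tA W c) M).left := by
    change IsAffine (Spec (CommRingCat.of (kM A M)))
    infer_instance
  have hcl : IsClosedImmersion (Ψ G X u e W c vA hvA T hT ≫ (gr G X a ▷ TS u T)).left :=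
    IsClosedImmersion.of_surjective_of_isAffine _
      (appTop_surjective G X a u e W c vA hvA T hT hfree)
  haveI : IsIso (Φ G X u e W c vA hvA T hT) :=
    ⟨Ψ G X u e W c vA hvA T hT, Φ_Ψ G X u e W c vA hvA T hT, Ψ_Φ G X u e W c vA hvA T hT⟩
  haveI : IsIso (Φ G X u e W c vA hvA T hT).left :=
    inferInstanceAs (IsIso ((Over.forget S).map (Φ G X u e W c vA hvA T hT)))
  have h : (gr G X a ▷ TS u T).left = (Φ G X u e W c vA hvA T hT).left ≫
      (Ψ G X u e W c vA hvA T hT ≫ (gr G X a ▷ TS u T)).left := by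
    rw [← Over.comp_left, ← Category.assoc, Φ_Ψ, Category.id_comp]
  rw [h]
  infer_instance

end chart

end Groth.Agent.Lib.Helper58.FreeAct3
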