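import Mathlib
import Groth.Prelude.Def_TwC
import Groth.Prelude.Def_SGA3x
import Groth.Prelude.Def_AlgGrp
import Groth.Agent.Lib.Helper58.FreeAct2
import Groth.Agent.Lib.Helper58.FreeAct3
import Groth.Agent.Lib.Helper1.AffineAndDescent

/-!
# Free actions of groups of multiplicative type on schemes affine over the base
-/

set_option autoImplicit false

universe u

open CategoryTheory CategoryTheory.Limits AlgebraicGeometry MonoidalCategory
  CartesianMonoidalCategory MonObj GrpObj

namespace Groth.Agent.Lib.Helper58.FreeAct4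

open Groth.Agent.Lib.Helper58 Groth.Agent.Lib.Helper58.TrivAct2 Groth.Agent.Lib.Helper58.FreeAct3
open Groth.Agent.Lib.Helper58.TwoCover

lemma isPullback_whiskerRight {C : Type*} [Category C] [CartesianMonoidalCategory C] {Y Y' : C}
    (f : Y ⟶ Y') (Z : C) : IsPullback (f ▷ Z) (fst Y Z) (fst Y' Z) f := by
  refine ⟨⟨whiskerRight_fst f Z⟩, ⟨PullbackCone.IsLimit.mk _
    (fun s => lift s.snd (s.fst ≫ snd Y' Z)) ?_ ?_ ?_⟩⟩
  · intro s
    apply CartesianMonoidalCategory.hom_ext
    · rw [Category.assoc, whiskerRight_fst, lift_fst_assoc, s.condition]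
    · rw [Category.assoc, whiskerRight_snd, lift_snd]
  · intro s
    rw [lift_fst]
  · intro s m h1 h2
    apply CartesianMonoidalCategory.hom_ext
    · rw [lift_fst, h2]
    · rw [lift_snd, ← h1, Category.assoc, whiskerRight_snd]

section loc

variable {S : Scheme.{u}} (G X : Over S) [GrpObj G] (a : AlgGrp.Action G X) [IsAffineHom X.hom]
  (hfree : ∀ (Y : Over S) (g : Y ⟶ G) (x : Y ⟶ X), lift g x ≫ a.act = x → g = 1)
  {U : Scheme.{u}} (u : U ⟶ S) {M : Type} [AddCommGroup M]
  (e : Grp.mk (Red.bc u G) ≅ Grp.mk (Red.DS U M))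
  (W : S.affineOpens) (T : U.Opens) (hTaff : IsAffineOpen T) (hTW : T ≤ u ⁻¹ᵁ (W : S.Opens))

include hfree e hTaff hTW in
theorem whisker_closedImmersion : IsClosedImmersion (gr G X a ▷ TS u T).left := by
  haveI : IsAffineHom (pullback.snd X.hom u) :=
    MorphismProperty.pullback_snd _ _ ‹IsAffineHom X.hom›
  have hV : IsAffineOpen ((pullback.snd X.hom u) ⁻¹ᵁ T) := hTaff.preimage _
  have hVW : (pullback.snd X.hom u) ⁻¹ᵁ T ≤
      (pullback.fst X.hom u ≫ X.hom) ⁻¹ᵁ (W : S.Opens) := by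
    intro p hp
    change (pullback.fst X.hom u ≫ X.hom).base p ∈ (W : S.Opens)
    rw [pullback.condition]
    exact hTW hp
  obtain ⟨c, hc⟩ : ∃ c : Γ(S, W) →+* Γ(pullback X.hom u, (pullback.snd X.hom u) ⁻¹ᵁ T),
      c = ((pullback.fst X.hom u ≫ X.hom).appLE W _ hVW).hom := ⟨_, rfl⟩
  have hvA : hV.fromSpec ≫ pullback.fst X.hom u ≫ X.hom =
      Spec.map (CommRingCat.ofHom c) ≫ W.2.fromSpec := by
    rw [hc, CommRingCat.ofHom_hom]
    exact (IsAffineOpen.SpecMap_appLE_fromSpec _ W.2 hV hVW).symm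
  have hT : ∀ p : ↥(pullback X.hom u), p ∈ Set.range hV.fromSpec.base ↔
      (pullback.snd X.hom u).base p ∈ T := by
    intro p
    rw [hV.range_fromSpec]
    rfl
  exact isClosedImmersion_whisker G X a u e W c hV.fromSpec hvA T hT hTaff hfree

include hfree e hTaff hTW in
theorem loc_closedImmersion {O : Scheme.{u}} (o : O ⟶ T) (h : O ⟶ (X ⊗ X).left)
    (hoh : o ≫ T.ι ≫ u = h ≫ (X ⊗ X).hom) :
    IsClosedImmersion (pullback.snd (gr G X a).left h) := by
  have hcl := whisker_closedImmersion G X a hfree u e W T hTaff hTW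
  have hpb : IsPullback (gr G X a ▷ TS u T).left (fst (G ⊗ X) (TS u T)).left
      (fst (X ⊗ X) (TS u T)).left (gr G X a).left :=
    (isPullback_whiskerRight (gr G X a) (TS u T)).map (Over.forget S)
  obtain ⟨h', hh'⟩ : ∃ h' : O ⟶ ((X ⊗ X) ⊗ TS u T).left,
      h' = pullback.lift h o hoh.symm := ⟨_, rfl⟩
  have hfac : h = h' ≫ (fst (X ⊗ X) (TS u T)).left := by
    rw [hh']
    exact (pullback.lift_fst _ _ _).symm
  rw [hfac, snd_comp_iff @IsClosedImmersion]
  apply MorphismProperty.pullback_snd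
  rw [← hpb.flip.isoPullback_inv_snd, MorphismProperty.cancel_left_of_respectsIso @IsClosedImmersion]
  exact hcl

end loc


section main

variable {S : Scheme.{u}} (G X : Over S) [GrpObj G]
  (hG : TwC.Locally S TwC.Topology.fpqc (fun S' f => ∃ (M : Type) (_ : AddCommGroup M),
    Nonempty (Grp.mk (Red.bc f G) ≅ Grp.mk (Red.DS S' M))))
  (hX : IsAffineHom X.hom) (a : AlgGrp.Action G X)
  (hfree : ∀ (Y : Over S) (g : Y ⟶ G) (x : Y ⟶ X), lift g x ≫ a.act = x → g = 1)

include hG hX hfree in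
/-- the graph morphism of a free action of a group of multiplicative type on a scheme affine over
the base is a closed immersion. -/
theorem graph_closedImmersion : IsClosedImmersion (lift a.act (snd G X)).left := by
  obtain ⟨S', f, hflat, hsurj, hcov, hloc⟩ := hG
  haveI := Groth.Agent.Lib.Helper1.descendsAlong_isClosedImmersion_fpqc.{u}
  have hdata : ∀ s' : S', ∃ Ts : S'.Opens, s' ∈ Ts ∧
      ∀ (O : Scheme.{u}) [IsAffine O] (o : O ⟶ (Ts : Scheme.{u})) (h : O ⟶ (X ⊗ X).left),
        o ≫ Ts.ι ≫ f = h ≫ (X ⊗ X).hom → IsClosedImmersion (pullback.snd (gr G X a).left h) := by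
    intro s'
    obtain ⟨Us, hUs, M, hM, ⟨e⟩⟩ := hloc s'
    obtain ⟨W, hW, hsW, -⟩ := exists_isAffineOpen_mem_and_subset (x := f.base s') (U := ⊤) trivial
    have hmem : s' ∈ Us ⊓ f ⁻¹ᵁ W := ⟨hUs, hsW⟩
    obtain ⟨Ts, hTs, hsT, hTle⟩ := exists_isAffineOpen_mem_and_subset hmem
    have hTU : Ts ≤ Us := fun p hp => (hTle hp).1
    have hTW : Ts ≤ f ⁻¹ᵁ W := fun p hp => (hTle hp).2
    refine ⟨Ts, hsT, fun O _ o h hoh => ?_⟩
    haveI : IsAffine (Ts : Scheme.{u}) := hTs
    have hT'aff : IsAffineOpen (S'.homOfLE hTU).opensRange := isAffineOpen_opensRange _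
    have hT'W : (S'.homOfLE hTU).opensRange ≤ (Us.ι ≫ f) ⁻¹ᵁ W := by
      rintro _ ⟨t, rfl⟩
      change (Us.ι ≫ f).base ((S'.homOfLE hTU).base t) ∈ W
      rw [← Scheme.Hom.comp_apply, ← Category.assoc, Scheme.homOfLE_ι, Scheme.Hom.comp_apply]
      exact hTW t.2
    refine loc_closedImmersion G X a hfree (Us.ι ≫ f) e ⟨W, hW⟩ (S'.homOfLE hTU).opensRange
      hT'aff hT'W (o ≫ (S'.homOfLE hTU).isoOpensRange.hom) h ?_
    rw [Category.assoc, ← Category.assoc (S'.homOfLE hTU).isoOpensRange.hom,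
      Scheme.Hom.isoOpensRange_hom_ι, ← Category.assoc (S'.homOfLE hTU), Scheme.homOfLE_ι]
    exact hoh
  choose 𝒰 h𝒰 h𝒰loc using hdata
  exact FreeAct2.of_fpqc_mor @IsClosedImmersion (gr G X a).left (X ⊗ X).hom f hcov 𝒰 h𝒰
    (fun O _ s' o h hoh => h𝒰loc s' O o h hoh)

end main


section orbit

variable {S : Scheme.{u}} {G X : Over S} [GrpObj G] (a : AlgGrp.Action G X)
  (σ : 𝟙_ (Over S) ⟶ X)

lemma isPullback_orbitMap :
    IsPullback (lift (𝟙 G) (toUnit G ≫ σ)) (a.orbitMap σ) (gr G X a)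
      (lift (𝟙 X) (toUnit X ≫ σ)) := by
  have hw : lift (𝟙 G) (toUnit G ≫ σ) ≫ gr G X a = a.orbitMap σ ≫ lift (𝟙 X) (toUnit X ≫ σ) := by
    apply CartesianMonoidalCategory.hom_ext
    · rw [Category.assoc, lift_fst, Category.assoc, lift_fst, Category.comp_id]
      rfl
    · rw [Category.assoc, lift_snd, lift_snd, Category.assoc, lift_snd, ← Category.assoc]
      congr 1
      exact toUnit_unique _ _
  refine ⟨⟨hw⟩, ⟨PullbackCone.IsLimit.mk _ (fun s => s.fst ≫ fst G X) ?_ ?_ ?_⟩⟩
  · intro s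
    have h2 : s.fst ≫ snd G X = toUnit _ ≫ σ := by
      have h := congrArg (fun f => f ≫ snd X X) s.condition
      simp only [Category.assoc, lift_snd] at h
      rw [h, ← Category.assoc]
      congr 1
      exact toUnit_unique _ _
    apply CartesianMonoidalCategory.hom_ext
    · rw [Category.assoc, lift_fst, Category.comp_id]
    · rw [Category.assoc, lift_snd, h2, ← Category.assoc]
      congr 1
      exact toUnit_unique _ _
  · intro s
    have h1 : s.fst ≫ a.act = s.snd := by
      have h := congrArg (fun f => f ≫ fst X X) s.condition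
      simp only [Category.assoc, lift_fst, Category.comp_id] at h
      exact h
    have h2 : s.fst ≫ snd G X = toUnit _ ≫ σ := by
      have h := congrArg (fun f => f ≫ snd X X) s.condition
      simp only [Category.assoc, lift_snd] at h
      rw [h, ← Category.assoc]
      congr 1
      exact toUnit_unique _ _
    rw [← h1]
    change (s.fst ≫ fst G X) ≫ lift (𝟙 G) (toUnit G ≫ σ) ≫ a.act = _
    rw [← Category.assoc]
    congr 1
    apply CartesianMonoidalCategory.hom_ext
    · rw [Category.assoc, lift_fst, Category.comp_id]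
    · rw [Category.assoc, lift_snd, h2, ← Category.assoc]
      congr 1
      exact toUnit_unique _ _
  · intro s m h1 _
    rw [← h1, Category.assoc, lift_fst, Category.comp_id]

theorem orbitMap_closedImmersion (hgr : IsClosedImmersion (gr G X a).left) :
    IsClosedImmersion (a.orbitMap σ).left :=
  MorphismProperty.of_isPullback (P := @IsClosedImmersion)
    ((isPullback_orbitMap a σ).map (Over.forget S)) hgr

end orbit

end Groth.Agent.Lib.Helper58.FreeAct4
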