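import Mathlib

/-!
# Averaging argument for lifting homomorphisms out of a group with a Haar integral (helper58)

Abstract core: `G(T) = WithConv (C →ₐ[R] T)` is a group for a commutative Hopf algebra `C`.
Given a "system" `T₁ ⇉ T₂ ⇉ T₃` of commutative `R`-algebras which looks like
`A, A ⊗ A, (A ⊗ A) ⊗ A` for a Hopf algebra `A` with an invariant integral, and an ideal `J` of `R`
whose extensions to the `Tᵢ` have square zero, every point `ψ ∈ G(T₁)` which is a homomorphism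
modulo `J` is congruent modulo `J` to a point which is a homomorphism.
-/

set_option autoImplicit false
universe u v w
open TensorProduct WithConv

namespace Groth.Agent.Lib.Helper58.HL1

variable {R : Type u} [CommRing R] {C : Type v} [CommRing C] [HopfAlgebra R C]

section Grp

variable {T : Type w} [CommRing T] [Algebra R T]

/-- the group of `T`-points of `Spec C` (Mathlib's instance asks for a bialgebra structure on the
target, which is not needed). -/
@[reducible] noncomputable def convGroup' : Group (WithConv (C →ₐ[R] T)) :=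
  { (inferInstance : Monoid (WithConv (C →ₐ[R] T))) with
    inv := fun f => toConv (f.ofConv.comp (HopfAlgebra.antipodeAlgHom R C))
    inv_mul_cancel := fun f => by
      have H : (Algebra.TensorProduct.lmul' R).comp (Algebra.TensorProduct.map f.ofConv f.ofConv) =
        f.ofConv.comp (Algebra.TensorProduct.lmul' R) := by ext <;> simp
      change toConv (f.ofConv.comp (HopfAlgebra.antipodeAlgHom R C)) * f = 1
      trans toConv <| ((Algebra.TensorProduct.lmul' R).comp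
        (Algebra.TensorProduct.map f.ofConv f.ofConv)).comp
        ((Algebra.TensorProduct.map
        (HopfAlgebra.antipodeAlgHom R C) (.id _ _)).comp (Bialgebra.comulAlgHom R C))
      · rw [AlgHom.comp_assoc, ← AlgHom.comp_assoc (Algebra.TensorProduct.map f.ofConv f.ofConv),
          ← Algebra.TensorProduct.map_comp]; rfl
      rw [H, AlgHom.comp_assoc, WithConv.ext_iff, ← AlgHom.toLinearMap_injective.eq_iff]
      change f.ofConv.toLinearMap.comp
        (toConv (HopfAlgebra.antipode R (A := C)) * toConv LinearMap.id).ofConv =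
        ofConv (1 : WithConv <| C →ₗ[R] T)
      rw [LinearMap.antipode_mul_id]
      ext
      simp }


attribute [local instance] convGroup'

lemma inv_def (f : WithConv (C →ₐ[R] T)) :
    f⁻¹ = toConv (f.ofConv.comp (HopfAlgebra.antipodeAlgHom R C)) := rfl

lemma inv_apply (f : WithConv (C →ₐ[R] T)) (c : C) :
    (f⁻¹).ofConv c = f.ofConv (HopfAlgebra.antipode R c) := rfl

variable {T' : Type*} [CommRing T'] [Algebra R T'] {T'' : Type*} [CommRing T''] [Algebra R T'']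

/-- functoriality of the group of points in the target. -/
noncomputable def push (h : T →ₐ[R] T') : WithConv (C →ₐ[R] T) →* WithConv (C →ₐ[R] T') where
  toFun f := toConv (h.comp f.ofConv)
  map_one' := by
    apply WithConv.ext
    apply AlgHom.ext
    intro c
    simp [AlgHom.convOne_apply]
  map_mul' f g := by
    apply WithConv.ext
    exact AlgHom.comp_convMul_distrib h f g

@[simp] lemma push_apply (h : T →ₐ[R] T') (f : WithConv (C →ₐ[R] T)) (c : C) :
    (push h f).ofConv c = h (f.ofConv c) := rfl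

lemma push_ofConv (h : T →ₐ[R] T') (f : WithConv (C →ₐ[R] T)) :
    (push h f).ofConv = h.comp f.ofConv := rfl

lemma push_push (h : T →ₐ[R] T') (h' : T' →ₐ[R] T'') (f : WithConv (C →ₐ[R] T)) :
    push h' (push h f) = push (h'.comp h) f := rfl

lemma push_inv (h : T →ₐ[R] T') (f : WithConv (C →ₐ[R] T)) :
    push h f⁻¹ = (push h f)⁻¹ := rfl

/-- evaluation of a convolution product. -/
lemma mul_apply (f g : WithConv (C →ₐ[R] T)) (c : C) :
    (f * g).ofConv c =
      Algebra.TensorProduct.lift f.ofConv g.ofConv (fun _ _ => Commute.all _ _)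
        (Coalgebra.comul (R := R) c) :=
  AlgHom.convMul_apply f g c

end Grp


attribute [local instance] convGroup'

section Cong

variable (J : Ideal R)

/-- the extension of the ideal `J` of `R` to an `R`-algebra. -/
def JT (T : Type*) [CommRing T] [Algebra R T] : Ideal T := J.map (algebraMap R T)

variable {T : Type*} [CommRing T] [Algebra R T] {T' : Type*} [CommRing T'] [Algebra R T']

lemma mem_JT_iff (x : T) : x ∈ JT J T ↔ x ∈ (J • ⊤ : Submodule R T) := by
  rw [Ideal.smul_top_eq_map]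
  rfl

lemma smul_mem_JT {r : R} (hr : r ∈ J) (x : T) : r • x ∈ JT J T := by
  rw [mem_JT_iff]
  exact Submodule.smul_mem_smul hr trivial

/-- `R`-linear maps respect the extensions of `J`. -/
lemma map_mem_JT (a : T →ₗ[R] T') {x : T} (hx : x ∈ JT J T) : a x ∈ JT J T' := by
  rw [mem_JT_iff] at hx ⊢
  refine Submodule.smul_induction_on hx (fun r hr n _ => ?_) (fun x y hx hy => ?_)
  · rw [map_smul]
    exact Submodule.smul_mem_smul hr trivial
  · rw [map_add]
    exact add_mem hx hy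

lemma algHom_mem_JT (h : T →ₐ[R] T') {x : T} (hx : x ∈ JT J T) : h x ∈ JT J T' :=
  map_mem_JT J h.toLinearMap hx

/-- congruence of points modulo `J`. -/
def Cong (f g : WithConv (C →ₐ[R] T)) : Prop := ∀ c, f.ofConv c - g.ofConv c ∈ JT J T

variable {J}

lemma Cong.refl (f : WithConv (C →ₐ[R] T)) : Cong J f f := fun c => by
  rw [sub_self]; exact zero_mem _

lemma Cong.of_eq {f g : WithConv (C →ₐ[R] T)} (h : f = g) : Cong J f g := h ▸ Cong.refl f

lemma Cong.symm {f g : WithConv (C →ₐ[R] T)} (h : Cong J f g) : Cong J g f := fun c => by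
  have := neg_mem (h c)
  rwa [neg_sub] at this

lemma Cong.trans {f g k : WithConv (C →ₐ[R] T)} (h : Cong J f g) (h' : Cong J g k) :
    Cong J f k := fun c => by
  have := add_mem (h c) (h' c)
  rwa [sub_add_sub_cancel] at this

lemma Cong.push (h : T →ₐ[R] T') {f g : WithConv (C →ₐ[R] T)} (hfg : Cong J f g) :
    Cong J (push h f) (push h g) := fun c => by
  rw [push_apply, push_apply, ← map_sub]
  exact algHom_mem_JT J h (hfg c)

lemma Cong.inv {f g : WithConv (C →ₐ[R] T)} (hfg : Cong J f g) : Cong J f⁻¹ g⁻¹ := fun c => by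
  rw [inv_apply, inv_apply]
  exact hfg _

lemma Cong.mul {f f' g g' : WithConv (C →ₐ[R] T)} (hf : Cong J f f') (hg : Cong J g g') :
    Cong J (f * g) (f' * g') := fun c => by
  rw [mul_apply, mul_apply]
  generalize Coalgebra.comul (R := R) c = z
  induction z using TensorProduct.induction_on with
  | zero => simp
  | tmul x y =>
    simp only [Algebra.TensorProduct.lift_tmul]
    have : f.ofConv x * g.ofConv y - f'.ofConv x * g'.ofConv y =
        (f.ofConv x - f'.ofConv x) * g.ofConv y + f'.ofConv x * (g.ofConv y - g'.ofConv y) := by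
      ring
    rw [this]
    exact add_mem (Ideal.mul_mem_right _ _ (hf x)) (Ideal.mul_mem_left _ _ (hg y))
  | add z z' hz hz' =>
    rw [map_add, map_add, add_sub_add_comm]
    exact add_mem hz hz'

end Cong


section Avg

/-- data for averaging: an `R`-algebra map `ι : T → B` with a `T`-linear normalised retraction
`a : B → T` ("integration over the last variable"), the extensions of `J` having square zero. -/
structure AvgData (J : Ideal R) (T : Type*) (B : Type*) [CommRing T] [Algebra R T] [CommRing B]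
    [Algebra R B] where
  ι : T →ₐ[R] B
  a : B →ₗ[R] T
  a_mul : ∀ s b, a (ι s * b) = s * a b
  a_one : a 1 = 1
  sqB : ∀ x y : B, x ∈ JT J B → y ∈ JT J B → x * y = 0
  sqT : ∀ x y : T, x ∈ JT J T → y ∈ JT J T → x * y = 0

variable {J : Ideal R} {T : Type*} {B : Type*} [CommRing T] [Algebra R T] [CommRing B]
  [Algebra R B] (D : AvgData J T B)

namespace AvgData

lemma a_ι (s : T) : D.a (D.ι s) = s := by
  have := D.a_mul s 1
  rwa [mul_one, D.a_one, mul_one] at this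

/-- the key identity: the average is multiplicative on elements which are constant modulo `J`. -/
lemma a_mul_of_const {u v : B} {u' v' : T} (hu : u - D.ι u' ∈ JT J B) (hv : v - D.ι v' ∈ JT J B) :
    D.a (u * v) = D.a u * D.a v := by
  obtain ⟨e, he⟩ : ∃ e, e = u - D.ι u' := ⟨_, rfl⟩
  obtain ⟨f, hf⟩ : ∃ f, f = v - D.ι v' := ⟨_, rfl⟩
  rw [← he] at hu
  rw [← hf] at hv
  have hu' : u = D.ι u' + e := by rw [he]; ring
  have hv' : v = D.ι v' + f := by rw [hf]; ring
  have hef : e * f = 0 := D.sqB e f hu hv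
  have h1 : u * v = D.ι (u' * v') * 1 + D.ι u' * f + D.ι v' * e := by
    rw [hu', hv', map_mul]
    linear_combination hef
  have hae : D.a e ∈ JT J T := map_mem_JT J D.a hu
  have haf : D.a f ∈ JT J T := map_mem_JT J D.a hv
  have h2 : D.a e * D.a f = 0 := D.sqT _ _ hae haf
  rw [h1, map_add, map_add, D.a_mul, D.a_mul, D.a_mul, D.a_one, hu', hv', map_add, map_add,
    D.a_ι, D.a_ι]
  linear_combination -h2

/-- points of `B` which are, modulo `J`, constant in the last variable. -/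
def constSubgroup : Subgroup (WithConv (C →ₐ[R] B)) where
  carrier := {f | ∃ f' : WithConv (C →ₐ[R] T), Cong J f (push D.ι f')}
  mul_mem' := by
    rintro f g ⟨f', hf⟩ ⟨g', hg⟩
    exact ⟨f' * g', (hf.mul hg).trans (Cong.of_eq (map_mul _ _ _).symm)⟩
  one_mem' := ⟨1, Cong.of_eq (map_one _).symm⟩
  inv_mem' := by
    rintro f ⟨f', hf⟩
    exact ⟨f'⁻¹, hf.inv.trans (Cong.of_eq (push_inv _ _).symm)⟩

lemma mem_constSubgroup {f : WithConv (C →ₐ[R] B)} :
    f ∈ D.constSubgroup (C := C) ↔ ∃ f' : WithConv (C →ₐ[R] T), Cong J f (push D.ι f') := Iff.rfl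

lemma push_mem (f' : WithConv (C →ₐ[R] T)) : push D.ι f' ∈ D.constSubgroup (C := C) :=
  ⟨f', Cong.refl _⟩

/-- the average of a point which is constant modulo `J`. -/
noncomputable def avgHom (f : D.constSubgroup (C := C)) : C →ₐ[R] T :=
  AlgHom.ofLinearMap (D.a ∘ₗ f.1.ofConv.toLinearMap)
    (by simp [D.a_one])
    (by
      intro x y
      obtain ⟨f', hf⟩ := f.2
      simp only [LinearMap.comp_apply, AlgHom.toLinearMap_apply, map_mul]
      exact D.a_mul_of_const (hf x) (hf y))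

@[simp] lemma avgHom_apply (f : D.constSubgroup (C := C)) (c : C) :
    D.avgHom f c = D.a (f.1.ofConv c) := rfl

/-- averaging is a homomorphism of groups. -/
noncomputable def avg : D.constSubgroup (C := C) →* WithConv (C →ₐ[R] T) where
  toFun f := toConv (D.avgHom f)
  map_one' := by
    apply WithConv.ext
    apply AlgHom.ext
    intro c
    change D.a ((1 : WithConv (C →ₐ[R] B)).ofConv c) = (1 : WithConv (C →ₐ[R] T)).ofConv c
    rw [AlgHom.convOne_apply, AlgHom.convOne_apply, Algebra.algebraMap_eq_smul_one, map_smul,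
      D.a_one, Algebra.algebraMap_eq_smul_one]
  map_mul' f g := by
    apply WithConv.ext
    apply AlgHom.ext
    intro c
    obtain ⟨f', hf⟩ := f.2
    obtain ⟨g', hg⟩ := g.2
    change D.a ((f.1 * g.1).ofConv c) = (toConv (D.avgHom f) * toConv (D.avgHom g)).ofConv c
    rw [mul_apply, mul_apply]
    generalize Coalgebra.comul (R := R) c = z
    induction z using TensorProduct.induction_on with
    | zero => simp
    | tmul x y =>
      simp only [Algebra.TensorProduct.lift_tmul, ofConv_toConv, avgHom_apply]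
      exact D.a_mul_of_const (hf x) (hg y)
    | add z z' hz hz' => rw [map_add, map_add, map_add, hz, hz']

@[simp] lemma avg_apply (f : D.constSubgroup (C := C)) (c : C) :
    (D.avg f).ofConv c = D.a (f.1.ofConv c) := rfl

lemma avg_push (f' : WithConv (C →ₐ[R] T)) : D.avg ⟨push D.ι f', D.push_mem f'⟩ = f' := by
  apply WithConv.ext
  apply AlgHom.ext
  intro c
  rw [avg_apply, push_apply, D.a_ι]

lemma cong_avg (f : D.constSubgroup (C := C)) {f' : WithConv (C →ₐ[R] T)}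
    (h : Cong J f.1 (push D.ι f')) : Cong J (D.avg f) f' := fun c => by
  have := map_mem_JT J D.a (h c)
  rwa [map_sub, push_apply, D.a_ι] at this

end AvgData

end Avg


section Core

/-- a system of `R`-algebras which looks like `A`, `A ⊗ A`, `(A ⊗ A) ⊗ A` for a commutative Hopf
algebra `A` with an invariant integral: `Δ` is the comultiplication ("`(g, x) ↦ g x`"), `ι₁`, `ι₂` the
two inclusions, `d₁ = Δ ⊗ id` ("`(g, h, x) ↦ (g h, x)`"), `d₂ = id ⊗ Δ` ("`(g, h, x) ↦ (g, h x)`"),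
`d₃ = ι₂ ⊗ id` ("`(g, h, x) ↦ (h, x)`"), `j = (- ⊗ 1)`, and `a₁`, `a₂` are integration over the
last variable. -/
structure Sys (J : Ideal R) (T₁ : Type*) (T₂ : Type*) (T₃ : Type*) [CommRing T₁] [Algebra R T₁]
    [CommRing T₂] [Algebra R T₂] [CommRing T₃] [Algebra R T₃] where
  Δ : T₁ →ₐ[R] T₂
  ι₁ : T₁ →ₐ[R] T₂
  ι₂ : T₁ →ₐ[R] T₂
  d₁ : T₂ →ₐ[R] T₃
  d₂ : T₂ →ₐ[R] T₃
  d₃ : T₂ →ₐ[R] T₃
  j : T₂ →ₐ[R] T₃
  a₁ : T₂ →ₗ[R] T₁
  a₂ : T₃ →ₗ[R] T₂
  coassoc : d₁.comp Δ = d₂.comp Δ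
  d₂_ι₂ : d₂.comp ι₂ = d₃.comp Δ
  d₁_ι₂ : d₁.comp ι₂ = d₃.comp ι₂
  d₂_ι₁ : d₂.comp ι₁ = j.comp ι₁
  d₃_ι₁ : d₃.comp ι₁ = j.comp ι₂
  a₁_mul : ∀ s b, a₁ (ι₁ s * b) = s * a₁ b
  a₁_one : a₁ 1 = 1
  a₂_mul : ∀ s b, a₂ (j s * b) = s * a₂ b
  a₂_one : a₂ 1 = 1
  a₂_d₁ : ∀ x, a₂ (d₁ x) = Δ (a₁ x)
  a₂_d₂ : ∀ x, a₂ (d₂ x) = ι₁ (a₁ x)
  a₂_d₃ : ∀ x, a₂ (d₃ x) = ι₂ (a₁ x)
  sq₁ : ∀ x y : T₁, x ∈ JT J T₁ → y ∈ JT J T₁ → x * y = 0
  sq₂ : ∀ x y : T₂, x ∈ JT J T₂ → y ∈ JT J T₂ → x * y = 0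
  sq₃ : ∀ x y : T₃, x ∈ JT J T₃ → y ∈ JT J T₃ → x * y = 0

variable {J : Ideal R} {T₁ : Type*} {T₂ : Type*} {T₃ : Type*} [CommRing T₁] [Algebra R T₁]
  [CommRing T₂] [Algebra R T₂] [CommRing T₃] [Algebra R T₃] (S : Sys J T₁ T₂ T₃)

namespace Sys

/-- averaging data `T₁ → T₂`. -/
def D₁ : AvgData J T₁ T₂ := ⟨S.ι₁, S.a₁, S.a₁_mul, S.a₁_one, S.sq₂, S.sq₁⟩

/-- averaging data `T₂ → T₃`. -/
def D₂ : AvgData J T₂ T₃ := ⟨S.j, S.a₂, S.a₂_mul, S.a₂_one, S.sq₃, S.sq₂⟩

/-- a point of `T₁` is a homomorphism. -/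
def IsHom (f : WithConv (C →ₐ[R] T₁)) : Prop := push S.Δ f = push S.ι₁ f * push S.ι₂ f

/-- a point of `T₁` is a homomorphism modulo `J`. -/
def IsHomMod (f : WithConv (C →ₐ[R] T₁)) : Prop :=
  Cong J (push S.Δ f) (push S.ι₁ f * push S.ι₂ f)

/-- **Vanishing of `H²`** by averaging: a point which is a homomorphism modulo `J` is congruent
modulo `J` to a homomorphism. -/
theorem exists_isHom (ψ : WithConv (C →ₐ[R] T₁)) (hψ : S.IsHomMod ψ) :
    ∃ φ : WithConv (C →ₐ[R] T₁), S.IsHom φ ∧ Cong J φ ψ := by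
  obtain ⟨Φ, hΦdef⟩ : ∃ Φ, Φ = push S.Δ ψ * (push S.ι₂ ψ)⁻¹ := ⟨_, rfl⟩
  have hΦ : Cong J Φ (push S.ι₁ ψ) := by
    rw [hΦdef]
    exact (Cong.mul hψ (Cong.refl _)).trans (Cong.of_eq (mul_inv_cancel_right _ _))
  let Φc : S.D₁.constSubgroup (C := C) := ⟨Φ, ψ, hΦ⟩
  refine ⟨S.D₁.avg Φc, ?_, S.D₁.cong_avg Φc hΦ⟩
  have hXYZ : push S.d₁ Φ = push S.d₂ Φ * push S.d₃ Φ := by
    rw [hΦdef]
    simp only [map_mul, map_inv, push_push]
    rw [S.coassoc, S.d₂_ι₂, S.d₁_ι₂, ← mul_assoc, inv_mul_cancel_right]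
  have hY : Cong J (push S.d₂ Φ) (push S.j (push S.ι₁ ψ)) := by
    have := hΦ.push S.d₂
    rwa [push_push, S.d₂_ι₁, ← push_push] at this
  have hZ : Cong J (push S.d₃ Φ) (push S.j (push S.ι₂ ψ)) := by
    have := hΦ.push S.d₃
    rwa [push_push, S.d₃_ι₁, ← push_push] at this
  let Yc : S.D₂.constSubgroup (C := C) := ⟨push S.d₂ Φ, _, hY⟩
  let Zc : S.D₂.constSubgroup (C := C) := ⟨push S.d₃ Φ, _, hZ⟩
  have h1 : S.D₂.avg Yc = push S.ι₁ (S.D₁.avg Φc) := by
    apply WithConv.ext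
    apply AlgHom.ext
    intro c
    exact S.a₂_d₂ _
  have h2 : S.D₂.avg Zc = push S.ι₂ (S.D₁.avg Φc) := by
    apply WithConv.ext
    apply AlgHom.ext
    intro c
    exact S.a₂_d₃ _
  have h3 : S.D₂.avg (Yc * Zc) = push S.Δ (S.D₁.avg Φc) := by
    apply WithConv.ext
    apply AlgHom.ext
    intro c
    change S.a₂ ((push S.d₂ Φ * push S.d₃ Φ).ofConv c) = _
    rw [← hXYZ]
    exact S.a₂_d₁ _
  unfold IsHom
  rw [← h3, map_mul, h1, h2]

end Sys

end Core


section Counit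

variable {T₀ : Type*} {T₁ : Type*} {T₂ : Type*} [CommRing T₀] [Algebra R T₀] [CommRing T₁]
  [Algebra R T₁] [CommRing T₂] [Algebra R T₂]

/-- a homomorphism sends the unit to the unit. -/
theorem push_counit_eq_one (Δ ι₁ ι₂ : T₁ →ₐ[R] T₂) (ε₁ : T₁ →ₐ[R] T₀) (ε₂ : T₂ →ₐ[R] T₀)
    (h : ε₂.comp Δ = ε₁) (h₁ : ε₂.comp ι₁ = ε₁) (h₂ : ε₂.comp ι₂ = ε₁)
    (φ : WithConv (C →ₐ[R] T₁)) (hφ : push Δ φ = push ι₁ φ * push ι₂ φ) : push ε₁ φ = 1 := by
  have := congrArg (push ε₂) hφ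
  rw [map_mul, push_push, push_push, push_push, h, h₁, h₂] at this
  exact (mul_eq_left.mp this.symm)

end Counit

section H1

/-- a system of `R`-algebras which looks like `R`, `A`, `A ⊗ A` for a commutative Hopf
algebra `A` with an invariant integral `a₀`. -/
structure Sys1 (J : Ideal R) (T₀ : Type*) (T₁ : Type*) (T₂ : Type*) [CommRing T₀] [Algebra R T₀]
    [CommRing T₁] [Algebra R T₁] [CommRing T₂] [Algebra R T₂] where
  Δ : T₁ →ₐ[R] T₂
  ι₁ : T₁ →ₐ[R] T₂
  ι₂ : T₁ →ₐ[R] T₂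
  η : T₀ →ₐ[R] T₁
  a₀ : T₁ →ₗ[R] T₀
  a₁ : T₂ →ₗ[R] T₁
  Δ_η : Δ.comp η = ι₁.comp η
  ι₂_η : ι₂.comp η = ι₁.comp η
  a₀_mul : ∀ s b, a₀ (η s * b) = s * a₀ b
  a₀_one : a₀ 1 = 1
  a₁_mul : ∀ s b, a₁ (ι₁ s * b) = s * a₁ b
  a₁_one : a₁ 1 = 1
  a₁_Δ : ∀ x, a₁ (Δ x) = η (a₀ x)
  a₁_ι₂ : ∀ x, a₁ (ι₂ x) = η (a₀ x)
  sq₀ : ∀ x y : T₀, x ∈ JT J T₀ → y ∈ JT J T₀ → x * y = 0
  sq₁ : ∀ x y : T₁, x ∈ JT J T₁ → y ∈ JT J T₁ → x * y = 0
  sq₂ : ∀ x y : T₂, x ∈ JT J T₂ → y ∈ JT J T₂ → x * y = 0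

variable {J : Ideal R} {T₀ : Type*} {T₁ : Type*} {T₂ : Type*} [CommRing T₀] [Algebra R T₀]
  [CommRing T₁] [Algebra R T₁] [CommRing T₂] [Algebra R T₂] (S : Sys1 J T₀ T₁ T₂)

namespace Sys1

/-- averaging data `T₀ → T₁`. -/
def D₀ : AvgData J T₀ T₁ := ⟨S.η, S.a₀, S.a₀_mul, S.a₀_one, S.sq₁, S.sq₀⟩

/-- averaging data `T₁ → T₂`. -/
def D₁ : AvgData J T₁ T₂ := ⟨S.ι₁, S.a₁, S.a₁_mul, S.a₁_one, S.sq₂, S.sq₁⟩

/-- a point of `T₁` is a homomorphism. -/
def IsHom (f : WithConv (C →ₐ[R] T₁)) : Prop := push S.Δ f = push S.ι₁ f * push S.ι₂ f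

/-- conjugates of homomorphisms by constant points are homomorphisms. -/
theorem isHom_conj {φ : WithConv (C →ₐ[R] T₁)} (hφ : S.IsHom φ) (g : WithConv (C →ₐ[R] T₀)) :
    S.IsHom (push S.η g * φ * (push S.η g)⁻¹) := by
  unfold IsHom at hφ ⊢
  simp only [map_mul, map_inv, push_push]
  rw [S.Δ_η, S.ι₂_η, hφ]
  group

/-- **Vanishing of `H¹`** by averaging: two homomorphisms which are congruent modulo `J` are
conjugate under a constant point which is trivial modulo `J`. -/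
theorem exists_conj {φ φ' : WithConv (C →ₐ[R] T₁)} (hφ : S.IsHom φ) (hφ' : S.IsHom φ')
    (h : Cong J φ' φ) :
    ∃ g : WithConv (C →ₐ[R] T₀), Cong J g 1 ∧ φ' = push S.η g * φ * (push S.η g)⁻¹ := by
  obtain ⟨k, hk⟩ : ∃ k, k = φ' * φ⁻¹ := ⟨_, rfl⟩
  have hk1 : Cong J k 1 := by
    rw [hk]
    exact (Cong.mul h (Cong.refl _)).trans (Cong.of_eq (mul_inv_cancel _))
  have hk1' : Cong J k (push S.η 1) := by rwa [map_one]
  let kc : S.D₀.constSubgroup (C := C) := ⟨k, 1, hk1'⟩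
  refine ⟨S.D₀.avg kc, ?_, ?_⟩
  · have := S.D₀.cong_avg kc hk1'
    exact this
  -- the cocycle identity
  have hcoc : push S.Δ k = push S.ι₁ φ' * push S.ι₂ k * (push S.ι₁ φ)⁻¹ := by
    rw [hk]
    simp only [map_mul, map_inv]
    rw [hφ, hφ']
    group
  -- all factors are constant
  have c1 : push S.ι₂ k ∈ S.D₁.constSubgroup (C := C) := by
    refine ⟨1, ?_⟩
    have := hk1.push S.ι₂
    rwa [map_one, ← map_one (push S.ι₁ (C := C))] at this
  have c2 : push S.Δ k ∈ S.D₁.constSubgroup (C := C) := by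
    refine ⟨1, ?_⟩
    have := hk1.push S.Δ
    rwa [map_one, ← map_one (push S.ι₁ (C := C))] at this
  have e1 : S.D₁.avg ⟨push S.ι₂ k, c1⟩ = push S.η (S.D₀.avg kc) := by
    apply WithConv.ext
    apply AlgHom.ext
    intro c
    exact S.a₁_ι₂ _
  have e2 : S.D₁.avg ⟨push S.Δ k, c2⟩ = push S.η (S.D₀.avg kc) := by
    apply WithConv.ext
    apply AlgHom.ext
    intro c
    exact S.a₁_Δ _
  have e3 : (⟨push S.Δ k, c2⟩ : S.D₁.constSubgroup (C := C)) =
      ⟨push S.ι₁ φ', S.D₁.push_mem φ'⟩ * ⟨push S.ι₂ k, c1⟩ * ⟨push S.ι₁ φ, S.D₁.push_mem φ⟩⁻¹ := by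
    apply Subtype.ext
    exact hcoc
  have e4 := congrArg S.D₁.avg e3
  rw [map_mul, map_mul, map_inv, e1, e2] at e4
  have e5 : S.D₁.avg ⟨push S.ι₁ φ', S.D₁.push_mem φ'⟩ = φ' := S.D₁.avg_push φ'
  have e6 : S.D₁.avg ⟨push S.ι₁ φ, S.D₁.push_mem φ⟩ = φ := S.D₁.avg_push φ
  rw [e5, e6] at e4
  -- `g = φ' g φ⁻¹`
  have e7 := mul_inv_eq_iff_eq_mul.mp e4.symm
  exact eq_mul_inv_of_mul_eq e7

end Sys1

end H1

end Groth.Agent.Lib.Helper58.HL1
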