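import Mathlib
import Groth.Agent.Lib.Helper58.HL1

/-!
# The system `A, A ⊗ A, (A ⊗ A) ⊗ A` of a Hopf algebra with an invariant integral (helper58)

`IsInt R A t`: `t : A → R` is a normalised two-sided invariant integral of the Hopf algebra `A`.
For an ideal `𝔞` of `R` we build the systems `Sys`, `Sys1` of `HL1` on the reductions
`(R ⧸ 𝔞) ⊗ A`, `(R ⧸ 𝔞) ⊗ (A ⊗ A)`, ... (regarded as `R`-algebras).
-/

set_option autoImplicit false
universe u
open TensorProduct WithConv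

namespace Groth.Agent.Lib.Helper58.HL2

open Groth.Agent.Lib.Helper58.HL1

variable (R : Type u) [CommRing R] (A : Type u) [CommRing A] [HopfAlgebra R A]

/-- a normalised two-sided invariant integral. -/
structure IsInt (t : A →ₗ[R] R) : Prop where
  one : t 1 = 1
  left : ∀ a : A, TensorProduct.rid R A (t.lTensor A (Coalgebra.comul a)) = t a • (1 : A)
  right : ∀ a : A, TensorProduct.lid R A (t.rTensor A (Coalgebra.comul a)) = t a • (1 : A)

variable {R A}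

section AvgL

variable (t : A →ₗ[R] R) (M : Type u) [AddCommGroup M] [Module R M]

/-- integration over the last variable. -/
noncomputable def avgL : M ⊗[R] A →ₗ[R] M := (TensorProduct.rid R M).toLinearMap ∘ₗ t.lTensor M

@[simp] lemma avgL_tmul (m : M) (a : A) : avgL t M (m ⊗ₜ[R] a) = t a • m := by
  simp [avgL]

end AvgL

section Base

variable (R A)

/-- comultiplication. -/
noncomputable abbrev Δ₀ : A →ₐ[R] A ⊗[R] A := Bialgebra.comulAlgHom R A
/-- first inclusion. -/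
noncomputable abbrev i₁ : A →ₐ[R] A ⊗[R] A := Algebra.TensorProduct.includeLeft
/-- second inclusion. -/
noncomputable abbrev i₂ : A →ₐ[R] A ⊗[R] A := Algebra.TensorProduct.includeRight
/-- `Δ ⊗ id`. -/
noncomputable abbrev e₁ : A ⊗[R] A →ₐ[R] (A ⊗[R] A) ⊗[R] A :=
  Algebra.TensorProduct.map (Δ₀ R A) (AlgHom.id R A)
/-- `id ⊗ Δ`. -/
noncomputable abbrev e₂ : A ⊗[R] A →ₐ[R] (A ⊗[R] A) ⊗[R] A :=
  (Algebra.TensorProduct.assoc R R R A A A).symm.toAlgHom.comp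
    (Algebra.TensorProduct.map (AlgHom.id R A) (Δ₀ R A))
/-- `i₂ ⊗ id`. -/
noncomputable abbrev e₃ : A ⊗[R] A →ₐ[R] (A ⊗[R] A) ⊗[R] A :=
  Algebra.TensorProduct.map (i₂ R A) (AlgHom.id R A)
/-- `- ⊗ 1`. -/
noncomputable abbrev jj : A ⊗[R] A →ₐ[R] (A ⊗[R] A) ⊗[R] A :=
  Algebra.TensorProduct.includeLeft

lemma e₁_Δ₀ : (e₁ R A).comp (Δ₀ R A) = (e₂ R A).comp (Δ₀ R A) := by
  apply AlgHom.ext
  intro a
  simp only [AlgHom.comp_apply, Bialgebra.comulAlgHom_apply, AlgHom.coe_coe]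
  have h := Coalgebra.coassoc_symm_apply (R := R) a
  have h1 : ∀ z : A ⊗[R] A, (Algebra.TensorProduct.map (Δ₀ R A) (AlgHom.id R A)) z =
      (Coalgebra.comul (R := R) (A := A)).rTensor A z := by
    intro z
    induction z using TensorProduct.induction_on with
    | zero => simp
    | tmul x y => simp
    | add x y hx hy => rw [map_add, map_add, hx, hy]
  have h2 : ∀ z : A ⊗[R] A, (Algebra.TensorProduct.map (AlgHom.id R A) (Δ₀ R A)) z =
      (Coalgebra.comul (R := R) (A := A)).lTensor A z := by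
    intro z
    induction z using TensorProduct.induction_on with
    | zero => simp
    | tmul x y => simp
    | add x y hx hy => rw [map_add, map_add, hx, hy]
  have h3 : ∀ w : A ⊗[R] (A ⊗[R] A), (Algebra.TensorProduct.assoc R R R A A A).symm w =
      (TensorProduct.assoc R A A A).symm w := by
    intro w
    rfl
  rw [h1, h2]
  exact ((h3 _).trans h).symm


lemma e₂_tmul (x y : A) :
    e₂ R A (x ⊗ₜ[R] y) = (TensorProduct.assoc R A A A).symm (x ⊗ₜ[R] Coalgebra.comul (R := R) y) := by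
  simp only [AlgHom.comp_apply, Algebra.TensorProduct.map_tmul, AlgHom.id_apply,
    Bialgebra.comulAlgHom_apply, AlgHom.coe_coe]
  rfl

lemma e₂_i₂ : (e₂ R A).comp (i₂ R A) = (e₃ R A).comp (Δ₀ R A) := by
  apply AlgHom.ext
  intro a
  change e₂ R A ((1 : A) ⊗ₜ[R] a) = e₃ R A (Coalgebra.comul (R := R) a)
  rw [e₂_tmul]
  generalize Coalgebra.comul (R := R) a = z
  induction z using TensorProduct.induction_on with
  | zero => simp
  | tmul x y => simp
  | add x y hx hy => rw [TensorProduct.tmul_add, map_add, map_add, hx, hy]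

lemma e₁_i₂ : (e₁ R A).comp (i₂ R A) = (e₃ R A).comp (i₂ R A) := by
  apply AlgHom.ext
  intro a
  simp

lemma e₂_i₁ : (e₂ R A).comp (i₁ R A) = (jj R A).comp (i₁ R A) := by
  apply AlgHom.ext
  intro a
  change e₂ R A (a ⊗ₜ[R] (1 : A)) = (a ⊗ₜ[R] (1 : A)) ⊗ₜ[R] (1 : A)
  rw [e₂_tmul]
  simp [Algebra.TensorProduct.one_def]

lemma e₃_i₁ : (e₃ R A).comp (i₁ R A) = (jj R A).comp (i₂ R A) := by
  apply AlgHom.ext
  intro a
  simp

variable {R A}
variable (t : A →ₗ[R] R)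

/-- integration `A ⊗ A → A`. -/
noncomputable abbrev b₁ : A ⊗[R] A →ₗ[R] A := avgL t A
/-- integration `(A ⊗ A) ⊗ A → A ⊗ A`. -/
noncomputable abbrev b₂ : (A ⊗[R] A) ⊗[R] A →ₗ[R] A ⊗[R] A := avgL t (A ⊗[R] A)

lemma b₁_mul (s : A) (b : A ⊗[R] A) : b₁ t (i₁ R A s * b) = s * b₁ t b := by
  induction b using TensorProduct.induction_on with
  | zero => simp
  | tmul x y => simp [Algebra.TensorProduct.tmul_mul_tmul]
  | add x y hx hy => rw [mul_add, map_add, map_add, hx, hy, mul_add]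

lemma b₂_mul (s : A ⊗[R] A) (b : (A ⊗[R] A) ⊗[R] A) : b₂ t (jj R A s * b) = s * b₂ t b := by
  induction b using TensorProduct.induction_on with
  | zero => simp
  | tmul x y => simp [Algebra.TensorProduct.tmul_mul_tmul]
  | add x y hx hy => rw [mul_add, map_add, map_add, hx, hy, mul_add]

lemma b₁_one (ht : t 1 = 1) : b₁ t (1 : A ⊗[R] A) = 1 := by
  rw [Algebra.TensorProduct.one_def, avgL_tmul, ht, one_smul]

lemma b₂_one (ht : t 1 = 1) : b₂ t (1 : (A ⊗[R] A) ⊗[R] A) = 1 := by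
  rw [Algebra.TensorProduct.one_def, avgL_tmul, ht, one_smul]

lemma b₂_e₁ (x : A ⊗[R] A) : b₂ t (e₁ R A x) = Δ₀ R A (b₁ t x) := by
  induction x using TensorProduct.induction_on with
  | zero => simp
  | tmul x y => simp
  | add x y hx hy => rw [map_add, map_add, map_add, map_add, hx, hy]

lemma b₂_e₃ (x : A ⊗[R] A) : b₂ t (e₃ R A x) = i₂ R A (b₁ t x) := by
  induction x using TensorProduct.induction_on with
  | zero => simp
  | tmul x y => simp
  | add x y hx hy => rw [map_add, map_add, map_add, map_add, hx, hy]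

lemma b₂_assoc_symm (x : A) (z : A ⊗[R] A) :
    b₂ t ((TensorProduct.assoc R A A A).symm (x ⊗ₜ[R] z)) =
      x ⊗ₜ[R] (TensorProduct.rid R A (t.lTensor A z)) := by
  induction z using TensorProduct.induction_on with
  | zero => simp
  | tmul y y' => simp [TensorProduct.tmul_smul]
  | add z z' hz hz' =>
    rw [TensorProduct.tmul_add, map_add, map_add, hz, hz', map_add, map_add, TensorProduct.tmul_add]

lemma b₂_e₂ (ht : IsInt R A t) (x : A ⊗[R] A) : b₂ t (e₂ R A x) = i₁ R A (b₁ t x) := by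
  induction x using TensorProduct.induction_on with
  | zero => simp
  | tmul x y =>
    rw [e₂_tmul, b₂_assoc_symm, ht.left, avgL_tmul, Algebra.TensorProduct.includeLeft_apply,
      TensorProduct.tmul_smul, TensorProduct.smul_tmul']
  | add x y hx hy => rw [map_add, map_add, map_add, map_add, hx, hy]

end Base


section Bar

variable (𝔞 : Ideal R) {X : Type u} {Y : Type u} {Z : Type u} {W : Type u}
  [CommRing X] [Algebra R X] [CommRing Y] [Algebra R Y] [CommRing Z] [Algebra R Z]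
  [CommRing W] [Algebra R W]

/-- reduction modulo `𝔞` of an algebra map. -/
noncomputable abbrev bar (f : X →ₐ[R] Y) : (R ⧸ 𝔞) ⊗[R] X →ₐ[R] (R ⧸ 𝔞) ⊗[R] Y :=
  Algebra.TensorProduct.map (AlgHom.id R (R ⧸ 𝔞)) f

/-- reduction modulo `𝔞` of a linear map. -/
noncomputable abbrev barL (b : X →ₗ[R] Y) : (R ⧸ 𝔞) ⊗[R] X →ₗ[R] (R ⧸ 𝔞) ⊗[R] Y :=
  b.lTensor (R ⧸ 𝔞)

/-- the reduction map. -/
noncomputable abbrev red (X : Type u) [CommRing X] [Algebra R X] : X →ₐ[R] (R ⧸ 𝔞) ⊗[R] X :=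
  Algebra.TensorProduct.includeRight

lemma bar_comp (f : Y →ₐ[R] Z) (g : X →ₐ[R] Y) : bar 𝔞 (f.comp g) = (bar 𝔞 f).comp (bar 𝔞 g) :=
  Algebra.TensorProduct.map_id_comp f g

lemma bar_red (f : X →ₐ[R] Y) : (bar 𝔞 f).comp (red 𝔞 X) = (red 𝔞 Y).comp f := by
  apply AlgHom.ext
  intro x
  simp

lemma barL_red (b : X →ₗ[R] Y) (x : X) : barL 𝔞 b (red 𝔞 X x) = red 𝔞 Y (b x) := by
  simp

lemma barL_bar {b : Y →ₗ[R] Z} {f : X →ₐ[R] Y} {g : W →ₐ[R] Z} {b' : X →ₗ[R] W}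
    (h : ∀ x, b (f x) = g (b' x)) (x : (R ⧸ 𝔞) ⊗[R] X) :
    barL 𝔞 b (bar 𝔞 f x) = bar 𝔞 g (barL 𝔞 b' x) := by
  induction x using TensorProduct.induction_on with
  | zero => simp
  | tmul q x => simp [h]
  | add x y hx hy => rw [map_add, map_add, map_add, map_add, hx, hy]

lemma barL_mul {b : Y →ₗ[R] X} {f : X →ₐ[R] Y} (h : ∀ s y, b (f s * y) = s * b y)
    (s : (R ⧸ 𝔞) ⊗[R] X) (y : (R ⧸ 𝔞) ⊗[R] Y) :
    barL 𝔞 b (bar 𝔞 f s * y) = s * barL 𝔞 b y := by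
  induction s using TensorProduct.induction_on with
  | zero => simp
  | tmul q s =>
    induction y using TensorProduct.induction_on with
    | zero => simp
    | tmul q' y => simp [Algebra.TensorProduct.tmul_mul_tmul, h]
    | add y y' hy hy' => rw [mul_add, map_add, map_add, hy, hy', mul_add]
  | add s s' hs hs' => rw [map_add, add_mul, map_add, hs, hs', add_mul]

lemma barL_one {b : Y →ₗ[R] X} (h : b 1 = 1) : barL 𝔞 b (1 : (R ⧸ 𝔞) ⊗[R] Y) = 1 := by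
  rw [Algebra.TensorProduct.one_def]
  simp [h, Algebra.TensorProduct.one_def]

lemma smul_eq_zero_of_mem {r : R} (hr : r ∈ 𝔞) (w : (R ⧸ 𝔞) ⊗[R] X) : r • w = 0 := by
  induction w using TensorProduct.induction_on with
  | zero => simp
  | tmul q x =>
    rw [TensorProduct.smul_tmul']
    have : r • q = 0 := by
      rw [Algebra.smul_def, Ideal.Quotient.algebraMap_eq, Ideal.Quotient.eq_zero_iff_mem.mpr hr,
        zero_mul]
    rw [this, TensorProduct.zero_tmul]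
  | add x y hx hy => rw [smul_add, hx, hy, add_zero]

/-- the extension of `J` to a reduction modulo `𝔞 ⊇ J²` has square zero. -/
lemma sq_zero {J : Ideal R} (hJ : J * J ≤ 𝔞) (x y : (R ⧸ 𝔞) ⊗[R] X)
    (hx : x ∈ JT J ((R ⧸ 𝔞) ⊗[R] X)) (hy : y ∈ JT J ((R ⧸ 𝔞) ⊗[R] X)) : x * y = 0 := by
  rw [mem_JT_iff] at hx hy
  refine Submodule.smul_induction_on hx (fun r hr n _ => ?_) (fun x x' hx hx' => ?_)
  · refine Submodule.smul_induction_on hy (fun r' hr' n' _ => ?_) (fun y y' hy hy' => ?_)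
    · rw [smul_mul_smul_comm]
      exact smul_eq_zero_of_mem 𝔞 (hJ (Ideal.mul_mem_mul hr hr')) _
    · rw [mul_add, hy, hy', add_zero]
  · rw [add_mul, hx, hx', add_zero]

end Bar

section SysBar

variable (t : A →ₗ[R] R) (ht : IsInt R A t) (𝔞 : Ideal R) (J : Ideal R) (hJ : J * J ≤ 𝔞)

/-- the system of reductions modulo `𝔞` of `A`, `A ⊗ A`, `(A ⊗ A) ⊗ A`. -/
noncomputable def sysBar :
    Sys J ((R ⧸ 𝔞) ⊗[R] A) ((R ⧸ 𝔞) ⊗[R] (A ⊗[R] A)) ((R ⧸ 𝔞) ⊗[R] ((A ⊗[R] A) ⊗[R] A)) where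
  Δ := bar 𝔞 (Δ₀ R A)
  ι₁ := bar 𝔞 (i₁ R A)
  ι₂ := bar 𝔞 (i₂ R A)
  d₁ := bar 𝔞 (e₁ R A)
  d₂ := bar 𝔞 (e₂ R A)
  d₃ := bar 𝔞 (e₃ R A)
  j := bar 𝔞 (jj R A)
  a₁ := barL 𝔞 (b₁ t)
  a₂ := barL 𝔞 (b₂ t)
  coassoc := by rw [← bar_comp, ← bar_comp, e₁_Δ₀]
  d₂_ι₂ := by rw [← bar_comp, ← bar_comp, e₂_i₂]
  d₁_ι₂ := by rw [← bar_comp, ← bar_comp, e₁_i₂]
  d₂_ι₁ := by rw [← bar_comp, ← bar_comp, e₂_i₁]
  d₃_ι₁ := by rw [← bar_comp, ← bar_comp, e₃_i₁]
  a₁_mul := barL_mul 𝔞 (b₁_mul t)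
  a₁_one := barL_one 𝔞 (b₁_one t ht.one)
  a₂_mul := barL_mul 𝔞 (b₂_mul t)
  a₂_one := barL_one 𝔞 (b₂_one t ht.one)
  a₂_d₁ := barL_bar 𝔞 (b₂_e₁ t)
  a₂_d₂ := barL_bar 𝔞 (b₂_e₂ t ht)
  a₂_d₃ := barL_bar 𝔞 (b₂_e₃ t)
  sq₁ := sq_zero 𝔞 hJ
  sq₂ := sq_zero 𝔞 hJ
  sq₃ := sq_zero 𝔞 hJ

end SysBar

end Groth.Agent.Lib.Helper58.HL2
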