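import Mathlib
import Groth.Agent.Lib.Helper58.HL2

/-!
# Lifting homomorphisms to a formally smooth group modulo a nilpotent ideal (helper58)

`A` a commutative Hopf algebra over `R` with an invariant integral, `C` a commutative Hopf algebra
which is formally smooth over `R`, `I` a nilpotent ideal of `R`.  Every algebra map `C → A` which is
a bialgebra map modulo `I` is congruent modulo `I` to a bialgebra map.
-/

set_option autoImplicit false
universe u
open TensorProduct WithConv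

namespace Groth.Agent.Lib.Helper58.HL3

open Groth.Agent.Lib.Helper58.HL1 Groth.Agent.Lib.Helper58.HL2

attribute [local instance] convGroup'

variable {R : Type u} [CommRing R]

section Red

variable (𝔞 : Ideal R) (X : Type u) [CommRing X] [Algebra R X]

lemma red_surjective : Function.Surjective (red 𝔞 X) := by
  intro z
  obtain ⟨y, hy⟩ := Submodule.Quotient.mk_surjective _
    (TensorProduct.quotTensorEquivQuotSMul X 𝔞 z)
  refine ⟨y, ?_⟩
  apply (TensorProduct.quotTensorEquivQuotSMul X 𝔞).injective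
  rw [← hy]
  exact TensorProduct.quotTensorEquivQuotSMul_mk_one_tmul 𝔞 y

lemma red_eq_zero_iff (x : X) : red 𝔞 X x = 0 ↔ x ∈ JT 𝔞 X := by
  rw [mem_JT_iff, ← Submodule.Quotient.mk_eq_zero,
    ← TensorProduct.quotTensorEquivQuotSMul_mk_one_tmul 𝔞 x,
    LinearEquiv.map_eq_zero_iff]
  rfl

lemma ker_red : RingHom.ker (red 𝔞 X : X →+* (R ⧸ 𝔞) ⊗[R] X) = JT 𝔞 X := by
  ext x
  rw [RingHom.mem_ker]
  exact red_eq_zero_iff 𝔞 X x

lemma isNilpotent_ker_red (h : IsNilpotent 𝔞) :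
    IsNilpotent (RingHom.ker (red 𝔞 X : X →+* (R ⧸ 𝔞) ⊗[R] X)) := by
  rw [ker_red]
  obtain ⟨n, hn⟩ := h
  refine ⟨n, ?_⟩
  unfold JT
  rw [← Ideal.map_pow, hn, Ideal.zero_eq_bot, Ideal.map_bot, Ideal.zero_eq_bot]

variable {𝔞 X}

lemma JT_red_eq (J : Ideal R) :
    JT J ((R ⧸ 𝔞) ⊗[R] X) = (JT J X).map (red 𝔞 X).toRingHom := by
  unfold JT
  rw [Ideal.map_map]
  congr 1
  exact (red 𝔞 X).comp_algebraMap.symm

lemma mem_JT_of_red_mem {J : Ideal R} (h𝔞 : 𝔞 ≤ J) {x : X}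
    (hx : red 𝔞 X x ∈ JT J ((R ⧸ 𝔞) ⊗[R] X)) : x ∈ JT J X := by
  rw [JT_red_eq, Ideal.mem_map_iff_of_surjective (red 𝔞 X).toRingHom (red_surjective 𝔞 X)] at hx
  obtain ⟨y, hy, hxy⟩ := hx
  have hxy' : red 𝔞 X y = red 𝔞 X x := hxy
  have h1 : red 𝔞 X (x - y) = 0 := by rw [map_sub, hxy', sub_self]
  rw [red_eq_zero_iff] at h1
  have h2 : x - y ∈ JT J X := Ideal.map_mono h𝔞 h1
  have := add_mem h2 hy
  rwa [sub_add_cancel] at this

end Red


section Lift

variable {A : Type u} [CommRing A] [HopfAlgebra R A] {C : Type u} [CommRing C] [HopfAlgebra R C]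

/-- `ψ` is a homomorphism modulo `𝔞`. -/
def HomMod (𝔞 : Ideal R) (ψ : WithConv (C →ₐ[R] A)) : Prop :=
  Cong 𝔞 (push (Δ₀ R A) ψ) (push (i₁ R A) ψ * push (i₂ R A) ψ)

lemma Cong.mono {X : Type u} [CommRing X] [Algebra R X] {𝔞 J : Ideal R} (h : 𝔞 ≤ J)
    {f g : WithConv (C →ₐ[R] X)} (hfg : Cong 𝔞 f g) : Cong J f g :=
  fun c => Ideal.map_mono h (hfg c)

lemma eq_of_cong_bot {X : Type u} [CommRing X] [Algebra R X] {f g : WithConv (C →ₐ[R] X)}
    (hfg : Cong (⊥ : Ideal R) f g) : f = g := by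
  apply WithConv.ext
  apply AlgHom.ext
  intro c
  have := hfg c
  unfold JT at this
  rw [Ideal.map_bot, Ideal.mem_bot, sub_eq_zero] at this
  exact this

lemma cong_of_push_red_eq {X : Type u} [CommRing X] [Algebra R X] (𝔞 : Ideal R)
    {f g : WithConv (C →ₐ[R] X)} (h : push (red 𝔞 X) f = push (red 𝔞 X) g) : Cong 𝔞 f g :=
  fun c => by
    rw [← red_eq_zero_iff, map_sub, sub_eq_zero]
    have := congrArg (fun k : WithConv (C →ₐ[R] (R ⧸ 𝔞) ⊗[R] X) => k.ofConv c) h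
    exact this

lemma push_red_eq_of_cong {X : Type u} [CommRing X] [Algebra R X] {𝔞 : Ideal R}
    {f g : WithConv (C →ₐ[R] X)} (h : Cong 𝔞 f g) : push (red 𝔞 X) f = push (red 𝔞 X) g := by
  apply WithConv.ext
  apply AlgHom.ext
  intro c
  have := (red_eq_zero_iff 𝔞 X _).mpr (h c)
  rw [map_sub, sub_eq_zero] at this
  exact this

lemma cong_of_cong_push_red {X : Type u} [CommRing X] [Algebra R X] {𝔞 J : Ideal R} (h𝔞 : 𝔞 ≤ J)
    {f g : WithConv (C →ₐ[R] X)} (h : Cong J (push (red 𝔞 X) f) (push (red 𝔞 X) g)) :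
    Cong J f g := fun c => by
  apply mem_JT_of_red_mem h𝔞
  have := h c
  rwa [push_apply, push_apply, ← map_sub] at this

/-- one step of the lifting: from a homomorphism modulo `I ^ k` to one modulo `I ^ (k + 1)`. -/
theorem step (t : A →ₗ[R] R) (ht : IsInt R A t) [Algebra.FormallySmooth R C] (I : Ideal R)
    (hI : IsNilpotent I) (k : ℕ) (hk : 1 ≤ k) (ψ : WithConv (C →ₐ[R] A))
    (hψ : HomMod (I ^ k) ψ) :
    ∃ ψ' : WithConv (C →ₐ[R] A), HomMod (I ^ (k + 1)) ψ' ∧ Cong (I ^ k) ψ' ψ := by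
  have hJ : I ^ k * I ^ k ≤ I ^ (k + 1) := by
    rw [← pow_add]
    exact Ideal.pow_le_pow_right (by omega)
  have hle : I ^ (k + 1) ≤ I ^ k := Ideal.pow_le_pow_right (by omega)
  have hnil : IsNilpotent (I ^ (k + 1)) := by
    obtain ⟨n, hn⟩ := hI
    refine ⟨n, ?_⟩
    rw [← pow_mul, mul_comm, pow_mul, hn, zero_pow (by omega)]
  obtain ⟨𝔞, h𝔞⟩ : ∃ 𝔞, 𝔞 = I ^ (k + 1) := ⟨_, rfl⟩
  rw [← h𝔞] at hJ hle hnil ⊢
  let S := sysBar t ht 𝔞 (I ^ k) hJ
  have h1 : S.IsHomMod (push (red 𝔞 A) ψ) := by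
    have := Cong.push (red 𝔞 (A ⊗[R] A)) hψ
    rw [map_mul, push_push, push_push, push_push, ← bar_red, ← bar_red, ← bar_red, ← push_push,
      ← push_push, ← push_push] at this
    exact this
  obtain ⟨φb, hφb, hφψ⟩ := S.exists_isHom _ h1
  let ψ' : C →ₐ[R] A := Algebra.FormallySmooth.liftOfSurjective φb.ofConv (red 𝔞 A)
    (red_surjective 𝔞 A) (isNilpotent_ker_red 𝔞 A hnil)
  have hψ' : push (red 𝔞 A) (toConv ψ') = φb := by
    apply WithConv.ext
    exact Algebra.FormallySmooth.comp_liftOfSurjective φb.ofConv (red 𝔞 A)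
      (red_surjective 𝔞 A) (isNilpotent_ker_red 𝔞 A hnil)
  refine ⟨toConv ψ', ?_, ?_⟩
  · apply cong_of_push_red_eq
    rw [map_mul, push_push, push_push, push_push, ← bar_red, ← bar_red, ← bar_red, ← push_push,
      ← push_push, ← push_push, hψ']
    exact hφb
  · apply cong_of_cong_push_red hle
    rw [hψ']
    exact hφψ

/-- **Lifting modulo a nilpotent ideal**: a point which is a homomorphism modulo `I` is congruent
modulo `I` to a homomorphism. -/
theorem exists_hom (t : A →ₗ[R] R) (ht : IsInt R A t) [Algebra.FormallySmooth R C] (I : Ideal R)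
    (hI : IsNilpotent I) (ψ : WithConv (C →ₐ[R] A)) (hψ : HomMod I ψ) :
    ∃ φ : WithConv (C →ₐ[R] A),
      push (Δ₀ R A) φ = push (i₁ R A) φ * push (i₂ R A) φ ∧ Cong I φ ψ := by
  have key : ∀ k : ℕ, 1 ≤ k → ∃ ψk : WithConv (C →ₐ[R] A), HomMod (I ^ k) ψk ∧ Cong I ψk ψ := by
    intro k hk
    induction k, hk using Nat.le_induction with
    | base => exact ⟨ψ, by rwa [pow_one], Cong.refl _⟩
    | succ k hk ih =>
      obtain ⟨ψk, h1, h2⟩ := ih
      obtain ⟨ψ', h3, h4⟩ := step t ht I hI k hk ψk h1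
      refine ⟨ψ', h3, (Cong.mono ?_ h4).trans h2⟩
      exact Ideal.pow_le_self (by omega)
  obtain ⟨n, hn⟩ := hI
  obtain ⟨φ, h1, h2⟩ := key (n + 1) (by omega)
  refine ⟨φ, ?_, h2⟩
  apply eq_of_cong_bot
  have h0 : I ^ (n + 1) = ⊥ := by rw [pow_succ, hn, Ideal.zero_eq_bot, Ideal.bot_mul]
  unfold HomMod at h1
  rwa [h0] at h1

end Lift

end Groth.Agent.Lib.Helper58.HL3
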