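import Mathlib
import Groth.Agent.Lib.Helper58.HL3
import Groth.Agent.Lib.Helper77.MultBC

/-!
# Lifting bialgebra maps modulo a nilpotent ideal (helper58)

Translation of `HL3.exists_hom` to the form with base changes `(R ⧸ I) ⊗ -`:
for a Hopf algebra `A` with an invariant integral and a formally smooth Hopf algebra `C`, every
bialgebra map `(R ⧸ I) ⊗ C → (R ⧸ I) ⊗ A`, `I` nilpotent, lifts to a bialgebra map `C → A`.
-/

set_option autoImplicit false
universe u
open TensorProduct WithConv

namespace Groth.Agent.Lib.Helper58.HL4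

open Groth.Agent.Lib.Helper58.HL1 Groth.Agent.Lib.Helper58.HL2 Groth.Agent.Lib.Helper58.HL3

attribute [local instance] convGroup'

variable {R : Type u} [CommRing R] {A : Type u} [CommRing A] [HopfAlgebra R A]
  {C : Type u} [CommRing C] [HopfAlgebra R C]

section Pack

lemma mul_incl (φ : C →ₐ[R] A) :
    (push (i₁ R A) (toConv φ) * push (i₂ R A) (toConv φ)).ofConv =
      (Algebra.TensorProduct.map φ φ).comp (Bialgebra.comulAlgHom R C) := by
  rw [AlgHom.convMul_def, ofConv_toConv, ← AlgHom.comp_assoc]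
  congr 1
  apply Algebra.TensorProduct.ext'
  intro x y
  simp [Algebra.TensorProduct.tmul_mul_tmul]

/-- the counit of `A ⊗ A`. -/
noncomputable def ε₂ : A ⊗[R] A →ₐ[R] R :=
  Algebra.TensorProduct.lift (Bialgebra.counitAlgHom R A) (Bialgebra.counitAlgHom R A)
    (fun _ _ => Commute.all _ _)

lemma ε₂_Δ₀ : (ε₂ (R := R) (A := A)).comp (Δ₀ R A) = Bialgebra.counitAlgHom R A := by
  apply AlgHom.ext
  intro a
  have h : ∀ z : A ⊗[R] A, ε₂ (R := R) z =
      Coalgebra.counit (R := R) (TensorProduct.lid R A ((Coalgebra.counit (R := R)).rTensor A z)) := by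
    intro z
    induction z using TensorProduct.induction_on with
    | zero => simp
    | tmul x y => simp [ε₂]
    | add x y hx hy => rw [map_add, hx, hy, map_add, map_add, map_add]
  rw [AlgHom.comp_apply, Bialgebra.comulAlgHom_apply, h, Coalgebra.rTensor_counit_comul]
  simp

/-- an algebra map which is multiplicative for the group laws is a bialgebra map. -/
noncomputable def toBialgHom (φ : C →ₐ[R] A)
    (h : push (Δ₀ R A) (toConv φ) = push (i₁ R A) (toConv φ) * push (i₂ R A) (toConv φ)) :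
    C →ₐc[R] A :=
  BialgHom.ofAlgHom φ
    (by
      have h1 := push_counit_eq_one (Δ₀ R A) (i₁ R A) (i₂ R A) (Bialgebra.counitAlgHom R A)
        (ε₂ (R := R) (A := A)) ε₂_Δ₀
        (by apply AlgHom.ext; intro a; simp [ε₂])
        (by apply AlgHom.ext; intro a; simp [ε₂]) (toConv φ) h
      have h2 := congrArg WithConv.ofConv h1
      rw [push_ofConv, ofConv_toConv] at h2
      rw [h2]
      apply AlgHom.ext
      intro c
      simp)
    (by
      have h1 := congrArg WithConv.ofConv h
      rw [mul_incl, push_ofConv, ofConv_toConv] at h1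
      exact h1.symm)

@[simp] lemma toBialgHom_apply (φ : C →ₐ[R] A)
    (h : push (Δ₀ R A) (toConv φ) = push (i₁ R A) (toConv φ) * push (i₂ R A) (toConv φ)) (c : C) :
    toBialgHom φ h c = φ c := rfl

end Pack


section Trans

open Groth.Agent.Lib.Helper77.MultBC

variable (I : Ideal R) (φ₀ : ((R ⧸ I) ⊗[R] C) →ₐc[R ⧸ I] ((R ⧸ I) ⊗[R] A))

/-- an algebra lift of a bialgebra map of the reductions is a homomorphism modulo `I`. -/
theorem homMod_of_lift (ψ : C →ₐ[R] A)
    (hψ : ∀ c, (1 : R ⧸ I) ⊗ₜ[R] ψ c = φ₀ ((1 : R ⧸ I) ⊗ₜ[R] c)) : HomMod I (toConv ψ) := by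
  apply cong_of_push_red_eq
  apply WithConv.ext
  apply AlgHom.ext
  intro c
  rw [push_apply, push_apply, push_apply, mul_incl]
  change (1 : R ⧸ I) ⊗ₜ[R] Coalgebra.comul (R := R) (ψ c) =
    (1 : R ⧸ I) ⊗ₜ[R] (Algebra.TensorProduct.map ψ ψ (Coalgebra.comul (R := R) c))
  apply (TensorProduct.AlgebraTensorModule.distribBaseChange R (R ⧸ I) A A).injective
  rw [← comul_one_tmul, hψ, ← CoalgHomClass.map_comp_comul_apply, comul_one_tmul]
  generalize Coalgebra.comul (R := R) c = z
  induction z using TensorProduct.induction_on with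
  | zero => simp
  | tmul x y =>
    simp only [TensorProduct.AlgebraTensorModule.distribBaseChange_tmul, TensorProduct.map_tmul,
      Algebra.TensorProduct.map_tmul]
    rw [hψ, hψ]
    rfl
  | add x y hx hy =>
    simp only [TensorProduct.tmul_add, map_add, hx, hy]

end Trans

section Main

/-- **Lifting of bialgebra maps modulo a nilpotent ideal** (SGA3 IX 3.6, affine smooth target):
the source has an invariant integral, the target is formally smooth. -/
theorem exists_bialgHom_lift (t : A →ₗ[R] R) (ht : IsInt R A t) [Algebra.FormallySmooth R C]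
    (I : Ideal R) (hI : IsNilpotent I)
    (φ₀ : ((R ⧸ I) ⊗[R] C) →ₐc[R ⧸ I] ((R ⧸ I) ⊗[R] A)) :
    ∃ φ : C →ₐc[R] A, ∀ c : C, φ₀ ((1 : R ⧸ I) ⊗ₜ[R] c) = (1 : R ⧸ I) ⊗ₜ[R] (φ c) := by
  -- an algebra lift
  let f : C →ₐ[R] (R ⧸ I) ⊗[R] A := ((φ₀ : _ →ₐ[R ⧸ I] _).restrictScalars R).comp (red I C)
  let ψ : C →ₐ[R] A := Algebra.FormallySmooth.liftOfSurjective f (red I A)
    (red_surjective I A) (isNilpotent_ker_red I A hI)
  have hψ : ∀ c, (1 : R ⧸ I) ⊗ₜ[R] ψ c = φ₀ ((1 : R ⧸ I) ⊗ₜ[R] c) := by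
    intro c
    exact Algebra.FormallySmooth.liftOfSurjective_apply f (red I A)
      (red_surjective I A) (isNilpotent_ker_red I A hI) c
  obtain ⟨φ, h1, h2⟩ := exists_hom t ht I hI (toConv ψ) (homMod_of_lift I φ₀ ψ hψ)
  refine ⟨toBialgHom φ.ofConv h1, fun c => ?_⟩
  rw [toBialgHom_apply, ← hψ]
  have := (red_eq_zero_iff I A _).mpr (h2 c)
  rw [map_sub, sub_eq_zero] at this
  exact this.symm

end Main

end Groth.Agent.Lib.Helper58.HL4
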