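import Mathlib
import Groth.Agent.Lib.Helper58.HL4

/-!
# Compatible systems of liftings along `R ⧸ I ^ (k+1)` (helper58)

`B` a commutative Hopf algebra over `R` with an invariant integral, `C` a commutative Hopf algebra
which is formally smooth over `R`.  A homomorphism `C → (R ⧸ I) ⊗ B` "over `R ⧸ I`" extends to a
compatible system of homomorphisms `C → (R ⧸ I ^ (k+1)) ⊗ B`.
-/

set_option autoImplicit false
universe u
open TensorProduct WithConv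

namespace Groth.Agent.Lib.Helper58.HL8

open Groth.Agent.Lib.Helper58.HL1 Groth.Agent.Lib.Helper58.HL2 Groth.Agent.Lib.Helper58.HL3
  Groth.Agent.Lib.Helper58.HL4

attribute [local instance] convGroup'

variable {R : Type u} [CommRing R]

section Tr

variable {𝔞' 𝔞 : Ideal R} (h : 𝔞' ≤ 𝔞) (X : Type u) [CommRing X] [Algebra R X]
  {Y : Type u} [CommRing Y] [Algebra R Y]

/-- the transition map `(R ⧸ 𝔞') ⊗ X → (R ⧸ 𝔞) ⊗ X`. -/
noncomputable abbrev tr : (R ⧸ 𝔞') ⊗[R] X →ₐ[R] (R ⧸ 𝔞) ⊗[R] X :=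
  Algebra.TensorProduct.map (Ideal.Quotient.factorₐ R h) (AlgHom.id R X)

lemma tr_red : (tr h X).comp (red 𝔞' X) = red 𝔞 X := by
  apply AlgHom.ext
  intro x
  simp

lemma tr_red_apply (x : X) : tr h X (red 𝔞' X x) = red 𝔞 X x :=
  AlgHom.congr_fun (tr_red h X) x

variable {X}

lemma tr_bar (f : X →ₐ[R] Y) : (tr h Y).comp (bar 𝔞' f) = (bar 𝔞 f).comp (tr h X) := by
  apply Algebra.TensorProduct.ext'
  intro q x
  simp

lemma tr_barL (b : X →ₗ[R] Y) (x : (R ⧸ 𝔞') ⊗[R] X) :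
    tr h Y (barL 𝔞' b x) = barL 𝔞 b (tr h X x) := by
  induction x using TensorProduct.induction_on with
  | zero => simp
  | tmul q x => simp
  | add x y hx hy => simp only [map_add, hx, hy]

variable (X)

lemma tr_surjective : Function.Surjective (tr h X) := by
  intro z
  obtain ⟨x, rfl⟩ := red_surjective 𝔞 X z
  exact ⟨red 𝔞' X x, tr_red_apply h X x⟩

lemma eq_zero_of_mem_JT_self {x : (R ⧸ 𝔞) ⊗[R] X} (hx : x ∈ JT 𝔞 ((R ⧸ 𝔞) ⊗[R] X)) : x = 0 := by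
  rw [mem_JT_iff] at hx
  refine Submodule.smul_induction_on hx (fun r hr n _ => ?_) (fun x y hx hy => ?_)
  · exact smul_eq_zero_of_mem 𝔞 hr n
  · rw [hx, hy, add_zero]

lemma tr_eq_zero_iff (x : (R ⧸ 𝔞') ⊗[R] X) : tr h X x = 0 ↔ x ∈ JT 𝔞 ((R ⧸ 𝔞') ⊗[R] X) := by
  constructor
  · intro hx
    obtain ⟨y, rfl⟩ := red_surjective 𝔞' X x
    rw [tr_red_apply, red_eq_zero_iff] at hx
    exact algHom_mem_JT 𝔞 (red 𝔞' X) hx
  · intro hx
    exact eq_zero_of_mem_JT_self X (algHom_mem_JT 𝔞 (tr h X) hx)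

lemma isNilpotent_ker_tr (h2 : 𝔞 * 𝔞 ≤ 𝔞') :
    IsNilpotent (RingHom.ker (tr h X : (R ⧸ 𝔞') ⊗[R] X →+* (R ⧸ 𝔞) ⊗[R] X)) := by
  have hker : RingHom.ker (tr h X : (R ⧸ 𝔞') ⊗[R] X →+* (R ⧸ 𝔞) ⊗[R] X) *
      RingHom.ker (tr h X : (R ⧸ 𝔞') ⊗[R] X →+* (R ⧸ 𝔞) ⊗[R] X) = ⊥ := by
    rw [eq_bot_iff, Ideal.mul_le]
    intro x hx y hy
    rw [RingHom.mem_ker] at hx hy
    rw [Ideal.mem_bot]
    exact sq_zero 𝔞' h2 x y ((tr_eq_zero_iff h X x).mp hx) ((tr_eq_zero_iff h X y).mp hy)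
  refine ⟨2, ?_⟩
  rw [show (2 : ℕ) = 1 + 1 from rfl, Submodule.pow_succ, Submodule.pow_one]
  exact hker

end Tr


section Step

variable {B : Type u} [CommRing B] [HopfAlgebra R B] {C : Type u} [CommRing C] [HopfAlgebra R C]

/-- `f : C → (R ⧸ 𝔞) ⊗ B` is a homomorphism (over `R ⧸ 𝔞`). -/
def IsHomAt (𝔞 : Ideal R) (f : WithConv (C →ₐ[R] (R ⧸ 𝔞) ⊗[R] B)) : Prop :=
  push (bar 𝔞 (Δ₀ R B)) f = push (bar 𝔞 (i₁ R B)) f * push (bar 𝔞 (i₂ R B)) f

lemma cong_of_push_tr_eq {𝔞' 𝔞 : Ideal R} (h : 𝔞' ≤ 𝔞) {X : Type u} [CommRing X] [Algebra R X]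
    {f g : WithConv (C →ₐ[R] (R ⧸ 𝔞') ⊗[R] X)} (hfg : push (tr h X) f = push (tr h X) g) :
    Cong 𝔞 f g := fun c => by
  rw [← tr_eq_zero_iff h, map_sub, sub_eq_zero]
  exact congrArg (fun k : WithConv (C →ₐ[R] (R ⧸ 𝔞) ⊗[R] X) => k.ofConv c) hfg

lemma push_tr_eq_of_cong {𝔞' 𝔞 : Ideal R} (h : 𝔞' ≤ 𝔞) {X : Type u} [CommRing X] [Algebra R X]
    {f g : WithConv (C →ₐ[R] (R ⧸ 𝔞') ⊗[R] X)} (hfg : Cong 𝔞 f g) :
    push (tr h X) f = push (tr h X) g := by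
  apply WithConv.ext
  apply AlgHom.ext
  intro c
  have := (tr_eq_zero_iff h X _).mpr (hfg c)
  rw [map_sub, sub_eq_zero] at this
  exact this

/-- transitions of homomorphisms are homomorphisms. -/
lemma IsHomAt.push_tr {𝔞' 𝔞 : Ideal R} (h : 𝔞' ≤ 𝔞) {f : WithConv (C →ₐ[R] (R ⧸ 𝔞') ⊗[R] B)}
    (hf : IsHomAt 𝔞' f) : IsHomAt 𝔞 (push (tr h B) f) := by
  unfold IsHomAt at hf ⊢
  have := congrArg (push (tr h (B ⊗[R] B))) hf
  rw [map_mul, push_push, push_push, push_push, tr_bar, tr_bar, tr_bar, ← push_push,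
    ← push_push, ← push_push] at this
  exact this

/-- **one step**: a homomorphism over `R ⧸ 𝔞` lifts to a homomorphism over `R ⧸ 𝔞'`
when `𝔞² ⊆ 𝔞' ⊆ 𝔞`. -/
theorem exists_lift_step (t : B →ₗ[R] R) (ht : IsInt R B t) [Algebra.FormallySmooth R C]
    {𝔞' 𝔞 : Ideal R} (h : 𝔞' ≤ 𝔞) (h2 : 𝔞 * 𝔞 ≤ 𝔞')
    (f : WithConv (C →ₐ[R] (R ⧸ 𝔞) ⊗[R] B)) (hf : IsHomAt 𝔞 f) :
    ∃ f' : WithConv (C →ₐ[R] (R ⧸ 𝔞') ⊗[R] B), IsHomAt 𝔞' f' ∧ push (tr h B) f' = f := by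
  let ψ : C →ₐ[R] (R ⧸ 𝔞') ⊗[R] B := Algebra.FormallySmooth.liftOfSurjective f.ofConv (tr h B)
    (tr_surjective h B) (isNilpotent_ker_tr h B h2)
  have hψ : push (tr h B) (toConv ψ) = f := by
    apply WithConv.ext
    exact Algebra.FormallySmooth.comp_liftOfSurjective f.ofConv (tr h B)
      (tr_surjective h B) (isNilpotent_ker_tr h B h2)
  let S := sysBar t ht 𝔞' 𝔞 h2
  have h1 : S.IsHomMod (toConv ψ) := by
    apply cong_of_push_tr_eq h
    rw [map_mul, push_push, push_push, push_push]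
    change push ((tr h (B ⊗[R] B)).comp (bar 𝔞' (Δ₀ R B))) (toConv ψ) =
      push ((tr h (B ⊗[R] B)).comp (bar 𝔞' (i₁ R B))) (toConv ψ) *
        push ((tr h (B ⊗[R] B)).comp (bar 𝔞' (i₂ R B))) (toConv ψ)
    rw [tr_bar, tr_bar, tr_bar, ← push_push, ← push_push, ← push_push, hψ]
    exact hf
  obtain ⟨φ, hφ, hφψ⟩ := S.exists_isHom _ h1
  refine ⟨φ, hφ, ?_⟩
  rw [push_tr_eq_of_cong h hφψ, hψ]

end Step


section Seq

/-- the ideals `I ^ (k + 1)`, defined so that the `0`-th one is `I` by definition. -/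
def idl (I : Ideal R) : ℕ → Ideal R
  | 0 => I
  | (k + 1) => idl I k * I

@[simp] lemma idl_zero (I : Ideal R) : idl I 0 = I := rfl

lemma idl_succ (I : Ideal R) (k : ℕ) : idl I (k + 1) = idl I k * I := rfl

lemma idl_eq_pow (I : Ideal R) (k : ℕ) : idl I k = I ^ (k + 1) := by
  induction k with
  | zero => simp
  | succ k ih => rw [idl_succ, ih, ← pow_succ]

lemma idl_succ_le (I : Ideal R) (k : ℕ) : idl I (k + 1) ≤ idl I k := by
  rw [idl_succ]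
  exact Ideal.mul_le_left

lemma idl_le (I : Ideal R) (k : ℕ) : idl I k ≤ I := by
  rw [idl_eq_pow]
  exact Ideal.pow_le_self (by omega)

lemma idl_sq (I : Ideal R) (k : ℕ) : idl I k * idl I k ≤ idl I (k + 1) :=
  Ideal.mul_mono_right (idl_le I k)

variable {B : Type u} [CommRing B] [HopfAlgebra R B] {C : Type u} [CommRing C] [HopfAlgebra R C]
  (t : B →ₗ[R] R) (ht : IsInt R B t) [Algebra.FormallySmooth R C] (I : Ideal R)
  (f₀ : WithConv (C →ₐ[R] (R ⧸ I) ⊗[R] B)) (hf₀ : IsHomAt I f₀)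

/-- a compatible system of liftings of `f₀`. -/
noncomputable def seq :
    ∀ k, {f : WithConv (C →ₐ[R] (R ⧸ idl I k) ⊗[R] B) // IsHomAt (idl I k) f}
  | 0 => ⟨f₀, hf₀⟩
  | (k + 1) =>
    ⟨(exists_lift_step t ht (idl_succ_le I k) (idl_sq I k) (seq k).1 (seq k).2).choose,
      (exists_lift_step t ht (idl_succ_le I k) (idl_sq I k) (seq k).1 (seq k).2).choose_spec.1⟩

lemma seq_zero : (seq t ht I f₀ hf₀ 0).1 = f₀ := rfl

lemma seq_compat (k : ℕ) :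
    push (tr (idl_succ_le I k) B) (seq t ht I f₀ hf₀ (k + 1)).1 = (seq t ht I f₀ hf₀ k).1 :=
  (exists_lift_step t ht (idl_succ_le I k) (idl_sq I k) (seq t ht I f₀ hf₀ k).1
    (seq t ht I f₀ hf₀ k).2).choose_spec.2

/-- compatibility with the `0`-th level. -/
lemma seq_compat_zero (k : ℕ) :
    push (tr (idl_le I k) B) (seq t ht I f₀ hf₀ k).1 = f₀ := by
  induction k with
  | zero =>
    apply WithConv.ext
    apply AlgHom.ext
    intro c
    change tr (le_refl I) B (f₀.ofConv c) = f₀.ofConv c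
    rw [show tr (le_refl I) B = AlgHom.id R _ from by
      apply Algebra.TensorProduct.ext' ; intro q x; simp]
    rfl
  | succ k ih =>
    have h1 : tr (idl_le I (k + 1)) B = (tr (idl_le I k) B).comp (tr (idl_succ_le I k) B) := by
      apply Algebra.TensorProduct.ext'
      intro q x
      obtain ⟨r, rfl⟩ := Ideal.Quotient.mk_surjective q
      simp
    rw [h1, ← push_push, seq_compat, ih]

end Seq

end Groth.Agent.Lib.Helper58.HL8
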