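import Mathlib
import Groth.Agent.Lib.Helper58.HL8
import Groth.Agent.Lib.Helper77.MultBC

/-!
# Initial datum for the adic lifting (helper58)

A bialgebra map `(R ⧸ I) ⊗ C → (R ⧸ I) ⊗ B` over `R ⧸ I` gives a point of `(R ⧸ I) ⊗ B` which is a
homomorphism in the sense of `HL8.IsHomAt`.
-/

set_option autoImplicit false
universe u
open TensorProduct WithConv

namespace Groth.Agent.Lib.Helper58.HL9

open Groth.Agent.Lib.Helper58.HL1 Groth.Agent.Lib.Helper58.HL2 Groth.Agent.Lib.Helper58.HL3
  Groth.Agent.Lib.Helper58.HL4 Groth.Agent.Lib.Helper58.HL8 Groth.Agent.Lib.Helper77.MultBC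

attribute [local instance] convGroup'

variable {R : Type u} [CommRing R] {B : Type u} [CommRing B] [HopfAlgebra R B]
  {C : Type u} [CommRing C] [HopfAlgebra R C]

section Init

variable (I : Ideal R)

lemma dBC_bar_Δ₀ (y : (R ⧸ I) ⊗[R] B) :
    TensorProduct.AlgebraTensorModule.distribBaseChange R (R ⧸ I) B B (bar I (Δ₀ R B) y) =
      Coalgebra.comul (R := R ⧸ I) y := by
  induction y using TensorProduct.induction_on with
  | zero => simp
  | tmul q b =>
    have h1 : q ⊗ₜ[R] b = q • ((1 : R ⧸ I) ⊗ₜ[R] b) := by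
      rw [TensorProduct.smul_tmul', smul_eq_mul, mul_one]
    have h2 : bar I (Δ₀ R B) (q ⊗ₜ[R] b) = q • ((1 : R ⧸ I) ⊗ₜ[R] Coalgebra.comul (R := R) b) := by
      rw [TensorProduct.smul_tmul', smul_eq_mul, mul_one]
      simp
    rw [h2, h1, map_smul, map_smul, comul_one_tmul]
  | add x y hx hy => simp only [map_add, hx, hy]

lemma dBC_mul (u v : (R ⧸ I) ⊗[R] B) :
    TensorProduct.AlgebraTensorModule.distribBaseChange R (R ⧸ I) B B
      (bar I (i₁ R B) u * bar I (i₂ R B) v) = u ⊗ₜ[R ⧸ I] v := by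
  induction u using TensorProduct.induction_on with
  | zero => simp
  | tmul q b =>
    induction v using TensorProduct.induction_on with
    | zero => simp
    | tmul q' b' =>
      simp only [Algebra.TensorProduct.map_tmul, AlgHom.id_apply,
        Algebra.TensorProduct.includeLeft_apply, Algebra.TensorProduct.includeRight_apply,
        Algebra.TensorProduct.tmul_mul_tmul, mul_one, one_mul,
        TensorProduct.AlgebraTensorModule.distribBaseChange_tmul]
      have h1 : q' ⊗ₜ[R] b' = q' • ((1 : R ⧸ I) ⊗ₜ[R] b') := by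
        rw [TensorProduct.smul_tmul', smul_eq_mul, mul_one]
      rw [h1, TensorProduct.tmul_smul, TensorProduct.smul_tmul', TensorProduct.smul_tmul',
        smul_eq_mul, mul_comm]
    | add x y hx hy => simp only [map_add, mul_add, TensorProduct.tmul_add, hx, hy]
  | add x y hx hy => simp only [map_add, add_mul, TensorProduct.add_tmul, hx, hy]

variable (φ₀ : ((R ⧸ I) ⊗[R] C) →ₐc[R ⧸ I] ((R ⧸ I) ⊗[R] B))

/-- the point of `(R ⧸ I) ⊗ B` defined by `φ₀`. -/
noncomputable def f₀ : WithConv (C →ₐ[R] (R ⧸ I) ⊗[R] B) :=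
  toConv (((φ₀ : _ →ₐ[R ⧸ I] _).restrictScalars R).comp (red I C))

lemma f₀_apply (c : C) : (f₀ I φ₀).ofConv c = φ₀ ((1 : R ⧸ I) ⊗ₜ[R] c) := rfl

theorem isHomAt_f₀ : IsHomAt I (f₀ I φ₀) := by
  apply WithConv.ext
  apply AlgHom.ext
  intro c
  apply (TensorProduct.AlgebraTensorModule.distribBaseChange R (R ⧸ I) B B).injective
  rw [push_apply, dBC_bar_Δ₀, f₀_apply, ← CoalgHomClass.map_comp_comul_apply, comul_one_tmul,
    mul_apply]
  generalize Coalgebra.comul (R := R) c = z
  induction z using TensorProduct.induction_on with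
  | zero => simp
  | tmul x y =>
    rw [Algebra.TensorProduct.lift_tmul, push_apply, push_apply, dBC_mul,
      TensorProduct.AlgebraTensorModule.distribBaseChange_tmul, TensorProduct.map_tmul]
    rfl
  | add x y hx hy => simp only [TensorProduct.tmul_add, map_add, hx, hy]

end Init

end Groth.Agent.Lib.Helper58.HL9
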