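import Mathlib
import Groth.Agent.Lib.Helper58.HL9
import Groth.Agent.Lib.Helper84.SerreSub

/-!
# Coordinates of a diagonalisable group after base change (helper58)

`e : R' ⊗ B ≃ R'[M]` a diagonalisation of the `R`-Hopf algebra `B` over the `R`-algebra `R'`.
The coordinate functionals `lam e m : B → R'`, their finiteness, joint injectivity and
multiplicativity on homomorphisms.
-/

set_option autoImplicit false
universe u
open TensorProduct WithConv

namespace Groth.Agent.Lib.Helper58.HL10

open Groth.Agent.Lib.Helper58.HL1 Groth.Agent.Lib.Helper58.HL2 Groth.Agent.Lib.Helper58.HL3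
  Groth.Agent.Lib.Helper58.HL4 Groth.Agent.Lib.Helper58.HL8 Groth.Agent.Lib.Helper77.MultBC

attribute [local instance] convGroup'

variable {R : Type u} [CommRing R] {B : Type u} [CommRing B] [HopfAlgebra R B]
  {C : Type u} [CommRing C] [HopfAlgebra R C]
  {R' : Type u} [CommRing R'] [Algebra R R'] {M : Type u} [CommGroup M]

section Coord

/-- the `m`-th coefficient, as an `R`-linear functional. -/
noncomputable def cf (m : M) : MonoidAlgebra R' M →ₗ[R] R' :=
  (Finsupp.lapply m).comp (MonoidAlgebra.coeffLinearEquiv R).toLinearMap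

lemma cf_apply (m : M) (u : MonoidAlgebra R' M) : cf (R := R) m u = u.coeff m := rfl

/-- joint injectivity of the coordinates, after any base change. -/
theorem coord_injective (Q : Type u) [AddCommGroup Q] [Module R Q]
    (w : Q ⊗[R] MonoidAlgebra R' M) (h : ∀ m : M, (cf (R := R) m).lTensor Q w = 0) : w = 0 := by
  classical
  have h1 : ((MonoidAlgebra.coeffLinearEquiv R (S := R') (M := M)).lTensor Q) w = 0 := by
    apply (TensorProduct.finsuppRight R R Q R' M).injective
    rw [map_zero]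
    ext m
    rw [TensorProduct.finsuppRight_apply, Finsupp.zero_apply, ← LinearEquiv.coe_coe,
      LinearEquiv.coe_lTensor, ← LinearMap.comp_apply, ← LinearMap.lTensor_comp]
    exact h m
  exact (LinearEquiv.map_eq_zero_iff _).mp h1

variable (e : (R' ⊗[R] B) ≃ₐc[R'] MonoidAlgebra R' M)

/-- `b ↦ e (1 ⊗ b)`. -/
noncomputable def uu : B →ₗ[R] MonoidAlgebra R' M :=
  ((e : (R' ⊗[R] B) →ₗ[R'] MonoidAlgebra R' M).restrictScalars R) ∘ₗ (TensorProduct.mk R R' B 1)

lemma uu_apply (b : B) : uu e b = e ((1 : R') ⊗ₜ[R] b) := rfl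

/-- the `m`-th coordinate of `b`. -/
noncomputable def lam (m : M) : B →ₗ[R] R' := (cf (R := R) m) ∘ₗ (uu e)

lemma lam_apply (m : M) (b : B) : lam e m b = (e ((1 : R') ⊗ₜ[R] b)).coeff m := rfl

/-- `b ⊗ b' ↦ lam m b * lam m b'`. -/
noncomputable def nu (m : M) : B ⊗[R] B →ₗ[R] R' :=
  (LinearMap.mul' R R') ∘ₗ (TensorProduct.map (lam e m) (lam e m))

@[simp] lemma nu_tmul (m : M) (b b' : B) : nu e m (b ⊗ₜ[R] b') = lam e m b * lam e m b' := by
  simp [nu]

/-- `lam m` is an idempotent for the convolution. -/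
theorem nu_comul (m : M) (b : B) : nu e m (Coalgebra.comul (R := R) b) = lam e m b := by
  classical
  -- on `R'[M]`
  let cc : MonoidAlgebra R' M ⊗[R'] MonoidAlgebra R' M →ₗ[R'] R' :=
    (LinearMap.mul' R' R') ∘ₗ (TensorProduct.map
      ((Finsupp.lapply m).comp (MonoidAlgebra.coeffLinearEquiv R').toLinearMap)
      ((Finsupp.lapply m).comp (MonoidAlgebra.coeffLinearEquiv R').toLinearMap))
  have hcc : ∀ u v : MonoidAlgebra R' M, cc (u ⊗ₜ[R'] v) = u.coeff m * v.coeff m := by
    intro u v
    rfl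
  have hcc' : ∀ u : MonoidAlgebra R' M, cc (Coalgebra.comul (R := R') u) = u.coeff m := by
    intro u
    induction u using MonoidAlgebra.induction_on with
    | of n =>
      rw [MonoidAlgebra.of_apply, MonoidAlgebra.comul_single]
      simp only [CommSemiring.comul_apply, TensorProduct.map_tmul, MonoidAlgebra.lsingle_apply]
      rw [hcc, MonoidAlgebra.coeff_single, Finsupp.single_apply]
      split_ifs <;> simp
    | add x y hx hy => rw [map_add, map_add, hx, hy, MonoidAlgebra.coeff_add, Finsupp.add_apply]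
    | smul r x hx =>
      rw [map_smul, map_smul, hx, MonoidAlgebra.coeff_smul, Finsupp.smul_apply]
  let UU : B ⊗[R] B →ₗ[R] MonoidAlgebra R' M ⊗[R'] MonoidAlgebra R' M :=
    ((TensorProduct.map (e : (R' ⊗[R] B) →ₗ[R'] MonoidAlgebra R' M)
      (e : (R' ⊗[R] B) →ₗ[R'] MonoidAlgebra R' M)).restrictScalars R) ∘ₗ
    ((TensorProduct.AlgebraTensorModule.distribBaseChange R R' B B).toLinearMap.restrictScalars R) ∘ₗ
    (TensorProduct.mk R R' (B ⊗[R] B) 1)
  have hUU : ∀ x y, UU (x ⊗ₜ[R] y) = uu e x ⊗ₜ[R'] uu e y := by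
    intro x y
    simp [UU, uu_apply]
  have hUUc : UU (Coalgebra.comul (R := R) b) = Coalgebra.comul (R := R') (uu e b) := by
    change TensorProduct.map (e : (R' ⊗[R] B) →ₗ[R'] MonoidAlgebra R' M)
      (e : (R' ⊗[R] B) →ₗ[R'] MonoidAlgebra R' M)
      (TensorProduct.AlgebraTensorModule.distribBaseChange R R' B B
        ((1 : R') ⊗ₜ[R] Coalgebra.comul (R := R) b)) = _
    rw [← comul_one_tmul, uu_apply]
    exact CoalgHomClass.map_comp_comul_apply e _
  have key : ∀ z : B ⊗[R] B, nu e m z = cc (UU z) := by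
    intro z
    induction z using TensorProduct.induction_on with
    | zero => simp
    | tmul x y => rw [nu_tmul, hUU, hcc]; rfl
    | add x y hx hy => simp only [map_add, hx, hy]
  rw [key, hUUc, hcc']
  rfl

end Coord


section Level

variable (e : (R' ⊗[R] B) ≃ₐc[R'] MonoidAlgebra R' M) (𝔞 : Ideal R)

/-- the `m`-th coordinate at level `𝔞`. -/
noncomputable abbrev Lc (m : M) : (R ⧸ 𝔞) ⊗[R] B →ₗ[R] (R ⧸ 𝔞) ⊗[R] R' := barL 𝔞 (lam e m)

/-- finiteness of the support. -/
theorem finite_support (y : (R ⧸ 𝔞) ⊗[R] B) : {m : M | Lc e 𝔞 m y ≠ 0}.Finite := by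
  induction y using TensorProduct.induction_on with
  | zero => simp
  | tmul q b =>
    refine Set.Finite.subset (e ((1 : R') ⊗ₜ[R] b)).coeff.support.finite_toSet ?_
    intro m hm
    simp only [Set.mem_ofPred_eq, LinearMap.lTensor_tmul] at hm
    simp only [Finset.mem_coe, Finsupp.mem_support_iff]
    intro h0
    apply hm
    rw [lam_apply, h0, TensorProduct.tmul_zero]
  | add x y hx hy =>
    refine Set.Finite.subset (hx.union hy) ?_
    intro m hm
    simp only [Set.mem_ofPred_eq, map_add] at hm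
    by_contra hcon
    simp only [Set.mem_union, Set.mem_ofPred_eq, not_or, not_not] at hcon
    rw [hcon.1, hcon.2, add_zero] at hm
    exact hm rfl

lemma barL_nu_Δ₀ (m : M) (y : (R ⧸ 𝔞) ⊗[R] B) :
    barL 𝔞 (nu e m) (bar 𝔞 (Δ₀ R B) y) = Lc e 𝔞 m y := by
  induction y using TensorProduct.induction_on with
  | zero => simp
  | tmul q b => simp [nu_comul]
  | add x y hx hy => simp only [map_add, hx, hy]

lemma barL_nu_mul (m : M) (u v : (R ⧸ 𝔞) ⊗[R] B) :
    barL 𝔞 (nu e m) (bar 𝔞 (i₁ R B) u * bar 𝔞 (i₂ R B) v) = Lc e 𝔞 m u * Lc e 𝔞 m v := by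
  induction u using TensorProduct.induction_on with
  | zero => simp
  | tmul q b =>
    induction v using TensorProduct.induction_on with
    | zero => simp
    | tmul q' b' => simp [Algebra.TensorProduct.tmul_mul_tmul]
    | add x y hx hy => simp only [map_add, mul_add, hx, hy]
  | add x y hx hy => simp only [map_add, add_mul, hx, hy]

/-- the coordinates of a homomorphism are idempotent for the convolution. -/
theorem Lc_hom (m : M) (f : WithConv (C →ₐ[R] (R ⧸ 𝔞) ⊗[R] B)) (hf : IsHomAt 𝔞 f) (x : C) :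
    Lc e 𝔞 m (f.ofConv x) =
      (LinearMap.mul' R ((R ⧸ 𝔞) ⊗[R] R'))
        (TensorProduct.map ((Lc e 𝔞 m) ∘ₗ f.ofConv.toLinearMap) ((Lc e 𝔞 m) ∘ₗ f.ofConv.toLinearMap)
          (Coalgebra.comul (R := R) x)) := by
  have h1 := congrArg (fun k : WithConv (C →ₐ[R] (R ⧸ 𝔞) ⊗[R] (B ⊗[R] B)) =>
    barL 𝔞 (nu e m) (k.ofConv x)) hf
  simp only [push_apply] at h1
  rw [barL_nu_Δ₀, mul_apply] at h1
  rw [h1]
  generalize Coalgebra.comul (R := R) x = z
  induction z using TensorProduct.induction_on with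
  | zero => simp
  | tmul x y =>
    rw [Algebra.TensorProduct.lift_tmul, push_apply, push_apply, barL_nu_mul]
    rfl
  | add x y hx hy => simp only [map_add, hx, hy]

end Level


section Inj

variable (e : (R' ⊗[R] B) ≃ₐc[R'] MonoidAlgebra R' M) (𝔞 : Ideal R)

/-- `b ↦ 1 ⊗ b`. -/
noncomputable abbrev kap : B →ₗ[R] R' ⊗[R] B := TensorProduct.mk R R' B 1

lemma barL_kap_injective [Module.FaithfullyFlat R R'] (Q : Type u) [AddCommGroup Q] [Module R Q] :
    Function.Injective ((kap (R := R) (B := B) (R' := R')).lTensor Q) := by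
  have h : (TensorProduct.leftComm R Q R' B).toLinearMap ∘ₗ
      ((kap (R := R) (B := B) (R' := R')).lTensor Q) = TensorProduct.mk R R' (Q ⊗[R] B) 1 := by
    apply TensorProduct.ext'
    intro q b
    simp
  have h2 : Function.Injective ((TensorProduct.leftComm R Q R' B).toLinearMap ∘ₗ
      ((kap (R := R) (B := B) (R' := R')).lTensor Q)) := by
    rw [h]
    exact Module.FaithfullyFlat.tensorProduct_mk_injective (A := R) (B := R') (Q ⊗[R] B)
  rw [LinearMap.coe_comp] at h2
  exact Function.Injective.of_comp h2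

/-- `e` as an `R`-linear equivalence. -/
noncomputable abbrev eR : (R' ⊗[R] B) ≃ₗ[R] MonoidAlgebra R' M :=
  (e : (R' ⊗[R] B) ≃ₗ[R'] MonoidAlgebra R' M).restrictScalars R

lemma uu_eq : uu e = (eR e).toLinearMap ∘ₗ (kap (R := R) (B := B) (R' := R')) := rfl

/-- the coordinates at level `𝔞` are jointly injective. -/
theorem Lc_injective [Module.FaithfullyFlat R R'] (y : (R ⧸ 𝔞) ⊗[R] B)
    (h : ∀ m : M, Lc e 𝔞 m y = 0) : y = 0 := by
  have h1 : barL 𝔞 (uu e) y = 0 := by
    apply coord_injective (R := R) (R' := R') (M := M) (R ⧸ 𝔞)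
    intro m
    have := h m
    rwa [Lc, barL, lam, LinearMap.lTensor_comp, LinearMap.comp_apply] at this
  rw [barL, uu_eq, LinearMap.lTensor_comp, LinearMap.comp_apply] at h1
  have h2 : ((kap (R := R) (B := B) (R' := R')).lTensor (R ⧸ 𝔞)) y = 0 := by
    have : Function.Injective ((eR e).toLinearMap.lTensor (R ⧸ 𝔞)) := by
      rw [← LinearEquiv.coe_lTensor]
      exact ((eR e).lTensor (R ⧸ 𝔞)).injective
    apply this
    rw [h1, map_zero]
  apply barL_kap_injective (R := R) (B := B) (R' := R') (R ⧸ 𝔞)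
  rw [h2, map_zero]

end Inj

section Serre

open Groth.Agent.Lib.Helper84.SerreSub

/-- every element of a flat coalgebra over a Noetherian ring lies in a finitely generated
subcomodule, given by explicit finite data. -/
theorem exists_finite_data [IsNoetherianRing R] [Module.Flat R C] (c : C) :
    ∃ (r : ℕ) (v : Fin r → C) (cc : Fin r → Fin r → C),
      c ∈ Submodule.span R (Set.range v) ∧
      ∀ i, Coalgebra.comul (R := R) (v i) = ∑ j, v j ⊗ₜ[R] cc i j := by
  classical
  obtain ⟨N, hN, hc⟩ := exists_fg_core (R := R) (A := C) {c}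
  have hV : (core N).FG := fg_core hN
  obtain ⟨r, v, hv⟩ := Submodule.fg_iff_exists_fin_generating_family.mp hV
  have hvmem : ∀ i, v i ∈ core N := by
    intro i
    rw [← hv]
    exact Submodule.subset_span ⟨i, rfl⟩
  have key : ∀ z : (core N) ⊗[R] C, ∃ d : Fin r → C,
      ((core N).subtype.rTensor C) z = ∑ j, v j ⊗ₜ[R] d j := by
    intro z
    induction z using TensorProduct.induction_on with
    | zero => exact ⟨fun _ => 0, by simp⟩
    | tmul w x =>
      have hw : (w : C) ∈ Submodule.span R (Set.range v) := by rw [hv]; exact w.2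
      obtain ⟨a, ha⟩ := (Submodule.mem_span_range_iff_exists_fun R).mp hw
      refine ⟨fun j => a j • x, ?_⟩
      rw [LinearMap.rTensor_tmul, Submodule.subtype_apply, ← ha, TensorProduct.sum_tmul]
      refine Finset.sum_congr rfl (fun j _ => ?_)
      rw [TensorProduct.smul_tmul]
    | add z z' hz hz' =>
      obtain ⟨d, hd⟩ := hz
      obtain ⟨d', hd'⟩ := hz'
      refine ⟨fun j => d j + d' j, ?_⟩
      rw [map_add, hd, hd', ← Finset.sum_add_distrib]
      refine Finset.sum_congr rfl (fun j _ => ?_)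
      rw [TensorProduct.tmul_add]
  have hch : ∀ i, ∃ d : Fin r → C, Coalgebra.comul (R := R) (v i) = ∑ j, v j ⊗ₜ[R] d j := by
    intro i
    obtain ⟨z, hz⟩ := comul_mem_core N (hvmem i)
    obtain ⟨d, hd⟩ := key z
    exact ⟨d, by rw [← hz, hd]⟩
  choose cc hcc using hch
  refine ⟨r, v, cc, ?_, hcc⟩
  rw [hv]
  exact hc (by simp)

end Serre

end Groth.Agent.Lib.Helper58.HL10
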