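import Mathlib
import Groth.Agent.Lib.Helper58.HL10
import Groth.Agent.Lib.Helper27.AdicSep

/-!
# Nilpotence of the coordinates outside a finite set, limits, separatedness (helper58)
-/

set_option autoImplicit false
universe u
open TensorProduct WithConv

namespace Groth.Agent.Lib.Helper58.HL11

open Groth.Agent.Lib.Helper58.HL1 Groth.Agent.Lib.Helper58.HL2 Groth.Agent.Lib.Helper58.HL3
  Groth.Agent.Lib.Helper58.HL4 Groth.Agent.Lib.Helper58.HL8 Groth.Agent.Lib.Helper58.HL10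

attribute [local instance] convGroup'

variable {R : Type u} [CommRing R] {B : Type u} [CommRing B] [HopfAlgebra R B]
  {C : Type u} [CommRing C] [HopfAlgebra R C]
  {R' : Type u} [CommRing R'] [Algebra R R'] {M : Type u} [CommGroup M]

section Nilp

variable (e : (R' ⊗[R] B) ≃ₐc[R'] MonoidAlgebra R' M) {𝔞 I : Ideal R} (h : 𝔞 ≤ I)

/-- the coordinates of a homomorphism outside the support of the matrix coefficients modulo `I`
vanish. -/
theorem Lc_eq_zero_of_comul {r : ℕ} (v : Fin r → C) (cc : Fin r → Fin r → C)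
    (hΔ : ∀ i, Coalgebra.comul (R := R) (v i) = ∑ j, v j ⊗ₜ[R] cc i j)
    (n : ℕ) (hn : I ^ n ≤ 𝔞)
    (f : WithConv (C →ₐ[R] (R ⧸ 𝔞) ⊗[R] B)) (hf : IsHomAt 𝔞 f) (m : M)
    (h0 : ∀ i j, Lc e I m (tr h B (f.ofConv (cc i j))) = 0) (i : Fin r) :
    Lc e 𝔞 m (f.ofConv (v i)) = 0 := by
  have h1 : ∀ i j, Lc e 𝔞 m (f.ofConv (cc i j)) ∈ JT I ((R ⧸ 𝔞) ⊗[R] R') := by
    intro i j
    rw [← tr_eq_zero_iff h, tr_barL]
    exact h0 i j
  have h2 : ∀ i, Lc e 𝔞 m (f.ofConv (v i)) =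
      ∑ j, Lc e 𝔞 m (f.ofConv (v j)) * Lc e 𝔞 m (f.ofConv (cc i j)) := by
    intro i
    rw [Lc_hom e 𝔞 m f hf, hΔ, map_sum, map_sum]
    refine Finset.sum_congr rfl (fun j _ => ?_)
    rw [TensorProduct.map_tmul, LinearMap.mul'_apply]
    rfl
  have h3 : ∀ n : ℕ, ∀ i, Lc e 𝔞 m (f.ofConv (v i)) ∈ JT (I ^ n) ((R ⧸ 𝔞) ⊗[R] R') := by
    intro n
    induction n with
    | zero =>
      intro i
      rw [pow_zero, JT, Ideal.one_eq_top, Ideal.map_top]
      trivial
    | succ n ih =>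
      intro i
      rw [h2 i, pow_succ, JT, Ideal.map_mul]
      exact Ideal.sum_mem _ (fun j _ => Ideal.mul_mem_mul (ih j) (h1 i j))
  exact eq_zero_of_mem_JT_self R' (Ideal.map_mono hn (h3 n i))

theorem Lc_eq_zero_of_mem_span {r : ℕ} (v : Fin r → C) (cc : Fin r → Fin r → C)
    (hΔ : ∀ i, Coalgebra.comul (R := R) (v i) = ∑ j, v j ⊗ₜ[R] cc i j)
    (n : ℕ) (hn : I ^ n ≤ 𝔞)
    (f : WithConv (C →ₐ[R] (R ⧸ 𝔞) ⊗[R] B)) (hf : IsHomAt 𝔞 f) (m : M)
    (h0 : ∀ i j, Lc e I m (tr h B (f.ofConv (cc i j))) = 0) (c : C)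
    (hc : c ∈ Submodule.span R (Set.range v)) :
    Lc e 𝔞 m (f.ofConv c) = 0 := by
  have hle : Submodule.span R (Set.range v) ≤
      LinearMap.ker ((Lc e 𝔞 m) ∘ₗ f.ofConv.toLinearMap) := by
    rw [Submodule.span_le]
    rintro _ ⟨i, rfl⟩
    exact Lc_eq_zero_of_comul e h v cc hΔ n hn f hf m h0 i
  exact hle hc

end Nilp


section Complete

/-- A finite module over an `I`-adically precomplete ring is `I`-adically precomplete. -/
theorem isPrecomplete_of_finite (I : Ideal R) [IsPrecomplete I R]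
    (N : Type*) [AddCommGroup N] [Module R N] [Module.Finite R N] : IsPrecomplete I N := by
  rw [← AdicCompletion.of_surjective_iff]
  intro y
  obtain ⟨t, rfl⟩ := AdicCompletion.ofTensorProduct_surjective_of_finite I N y
  induction t using TensorProduct.induction_on with
  | zero => exact ⟨0, by simp⟩
  | tmul r x =>
    obtain ⟨r, rfl⟩ := AdicCompletion.of_surjective I R r
    refine ⟨r • x, ?_⟩
    rw [AdicCompletion.ofTensorProduct_tmul, map_smul]
    have h1 : AdicCompletion.of I R r = r • (1 : AdicCompletion I R) := by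
      rw [← Algebra.algebraMap_eq_smul_one, AdicCompletion.algebraMap_apply,
        Algebra.algebraMap_self, RingHom.id_apply]
    rw [h1, smul_assoc, one_smul]
  | add a b ha hb =>
    obtain ⟨a', ha'⟩ := ha
    obtain ⟨b', hb'⟩ := hb
    exact ⟨a' + b', by rw [map_add, ha', hb', map_add]⟩

/-- a compatible system of elements modulo the powers of `I` has a limit. -/
theorem exists_limit (I : Ideal R) (X : Type u) [CommRing X] [Algebra R X] [IsPrecomplete I X]
    (x : ∀ k, (R ⧸ idl I k) ⊗[R] X) (hx : ∀ k, tr (idl_succ_le I k) X (x (k + 1)) = x k) :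
    ∃ a : X, ∀ k, red (idl I k) X a = x k := by
  choose a ha using fun k => red_surjective (idl I k) X (x k)
  have h1 : ∀ k, a (k + 1) - a k ∈ (I ^ (k + 1) • ⊤ : Submodule R X) := by
    intro k
    rw [← idl_eq_pow, ← mem_JT_iff, ← red_eq_zero_iff, map_sub, ha k, ← hx k, ← ha (k + 1),
      tr_red_apply, sub_self]
  have h2 : ∀ m n, m ≤ n → a n - a m ∈ (I ^ (m + 1) • ⊤ : Submodule R X) := by
    intro m n hmn
    induction n, hmn using Nat.le_induction with
    | base => simp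
    | succ n hmn ih =>
      have : a (n + 1) - a m = (a (n + 1) - a n) + (a n - a m) := by ring
      rw [this]
      exact add_mem (Submodule.smul_mono_left (Ideal.pow_le_pow_right (by omega)) (h1 n)) ih
  obtain ⟨L, hL⟩ := IsPrecomplete.prec' (I := I) a (by
    intro m n hmn
    rw [SModEq.sub_mem]
    have := h2 m n hmn
    have h3 : a m - a n = -(a n - a m) := by ring
    rw [h3]
    exact neg_mem (Submodule.smul_mono_left (Ideal.pow_le_pow_right (Nat.le_succ m)) this))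
  refine ⟨L, fun k => ?_⟩
  rw [← ha k]
  have h4 : L - a k ∈ (I ^ (k + 1) • ⊤ : Submodule R X) := by
    have h5 := hL (k + 1)
    rw [SModEq.sub_mem] at h5
    have h6 : L - a k = -(a (k + 1) - L) + (a (k + 1) - a k) := by ring
    rw [h6]
    exact add_mem (neg_mem h5) (h1 k)
  rw [← idl_eq_pow, ← mem_JT_iff, ← red_eq_zero_iff, map_sub, sub_eq_zero] at h4
  exact h4

end Complete


section Sep

/-- separatedness from a jointly injective family of maps to finite modules. -/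
theorem eq_zero_of_coords [IsNoetherianRing R] (I : Ideal R) (hI : I ≤ Ideal.jacobson ⊥)
    {X : Type*} [AddCommGroup X] [Module R X] {ι : Type*} {N : Type*} [AddCommGroup N]
    [Module R N] [Module.Finite R N]
    (g : ι → X →ₗ[R] N) (hg : ∀ x : X, (∀ i, g i x = 0) → x = 0) (d : X)
    (h : ∀ k : ℕ, (1 : R ⧸ idl I k) ⊗ₜ[R] d = 0) : d = 0 := by
  apply hg
  intro i
  have hmem : ∀ k : ℕ, g i d ∈ (I ^ (k + 1) • ⊤ : Submodule R N) := by
    intro k
    rw [← idl_eq_pow]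
    apply Groth.Agent.Lib.Helper27.mem_smul_top_of_one_tmul_eq_zero
    have := congrArg (LinearMap.lTensor (R ⧸ idl I k) (g i)) (h k)
    rwa [LinearMap.lTensor_tmul, map_zero] at this
  have hinf : g i d ∈ (⨅ j : ℕ, I ^ j • ⊤ : Submodule R N) := by
    rw [Submodule.mem_iInf]
    intro j
    exact Submodule.smul_mono_left (Ideal.pow_le_pow_right (Nat.le_succ j)) (hmem j)
  rw [Ideal.iInf_pow_smul_eq_bot_of_le_jacobson I hI] at hinf
  exact (Submodule.mem_bot R).mp hinf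

end Sep

section SepInst

variable [IsNoetherianRing R] (I : Ideal R) (hI : I ≤ Ideal.jacobson ⊥)
  [Module.Finite R R'] [Module.FaithfullyFlat R R']
  (e : (R' ⊗[R] B) ≃ₐc[R'] MonoidAlgebra R' M)

include hI e in
/-- `B` is separated. -/
theorem sepB (d : B) (h : ∀ k : ℕ, (1 : R ⧸ idl I k) ⊗ₜ[R] d = 0) : d = 0 := by
  refine Groth.Agent.Lib.Helper27.eq_zero_of_forall_one_tmul_eq_zero I hI (A' := R') (M := M)
    (((MonoidAlgebra.coeffLinearEquiv R' (S := R') (M := M)).toLinearMap) ∘ₗ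
      (e : (R' ⊗[R] B) →ₗ[R'] MonoidAlgebra R' M)) ?_ d ?_
  · rw [LinearMap.coe_comp]
    exact (MonoidAlgebra.coeffLinearEquiv R' (S := R') (M := M)).injective.comp e.injective
  · intro n
    rw [← idl_eq_pow]
    exact h n

/-- the coordinates of `R' ⊗ (B ⊗ B)`. -/
noncomputable def e₂ : R' ⊗[R] (B ⊗[R] B) ≃ₗ[R'] (M × M →₀ R') :=
  (TensorProduct.AlgebraTensorModule.distribBaseChange R R' B B) ≪≫ₗ
  (TensorProduct.congr
    ((e : (R' ⊗[R] B) ≃ₗ[R'] MonoidAlgebra R' M) ≪≫ₗ MonoidAlgebra.coeffLinearEquiv R')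
    ((e : (R' ⊗[R] B) ≃ₗ[R'] MonoidAlgebra R' M) ≪≫ₗ MonoidAlgebra.coeffLinearEquiv R')) ≪≫ₗ
  (finsuppTensorFinsupp' R' M M)

include hI e in
/-- `B ⊗ B` is separated. -/
theorem sepBB (d : B ⊗[R] B) (h : ∀ k : ℕ, (1 : R ⧸ idl I k) ⊗ₜ[R] d = 0) : d = 0 := by
  refine Groth.Agent.Lib.Helper27.eq_zero_of_forall_one_tmul_eq_zero I hI (A' := R') (M := M × M)
    (e₂ e).toLinearMap (e₂ e).injective d ?_
  intro n
  rw [← idl_eq_pow]
  exact h n

/-- the coordinates of `(R' ⊗ R') ⊗ B`. -/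
noncomputable def gX (m : M) : (R' ⊗[R] R') ⊗[R] B →ₗ[R] R' ⊗[R] R' :=
  (((cf (R := R) m) ∘ₗ (eR e).toLinearMap).lTensor R') ∘ₗ (TensorProduct.assoc R R' R' B).toLinearMap

lemma gX_injective (x : (R' ⊗[R] R') ⊗[R] B) (hx : ∀ m, gX e m x = 0) : x = 0 := by
  have h1 : ((eR e).lTensor R') (TensorProduct.assoc R R' R' B x) = 0 := by
    apply coord_injective (R := R) (R' := R') (M := M) R'
    intro m
    have := hx m
    rwa [gX, LinearMap.lTensor_comp, LinearMap.comp_apply, LinearMap.comp_apply] at this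
  rw [LinearEquiv.map_eq_zero_iff, LinearEquiv.map_eq_zero_iff] at h1
  exact h1

include hI e in
/-- `(R' ⊗ R') ⊗ B` is separated. -/
theorem sepX (d : (R' ⊗[R] R') ⊗[R] B) (h : ∀ k : ℕ, (1 : R ⧸ idl I k) ⊗ₜ[R] d = 0) : d = 0 :=
  eq_zero_of_coords I hI (gX e) (gX_injective e) d h

end SepInst


end Groth.Agent.Lib.Helper58.HL11
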