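import Mathlib
import Groth.Agent.Lib.Helper58.HL11

/-!
# Algebraisation of the elements (helper58)
-/

set_option autoImplicit false
universe u
open TensorProduct WithConv

namespace Groth.Agent.Lib.Helper58.HL12

open Groth.Agent.Lib.Helper58.HL1 Groth.Agent.Lib.Helper58.HL2 Groth.Agent.Lib.Helper58.HL3
  Groth.Agent.Lib.Helper58.HL4 Groth.Agent.Lib.Helper58.HL8 Groth.Agent.Lib.Helper58.HL10
  Groth.Agent.Lib.Helper58.HL11 Groth.Agent.Lib.Helper77.MultBC

attribute [local instance] convGroup'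

variable {R : Type u} [CommRing R] [IsNoetherianRing R] {B : Type u} [CommRing B] [HopfAlgebra R B]
  {C : Type u} [CommRing C] [HopfAlgebra R C] [Module.Flat R C]
  {R' : Type u} [CommRing R'] [Algebra R R'] {M : Type u} [CommGroup M]
  [Module.Finite R R'] [Module.FaithfullyFlat R R']
  (e : (R' ⊗[R] B) ≃ₐc[R'] MonoidAlgebra R' M)
  (I : Ideal R) [IsAdicComplete I R]
  (f₀ : WithConv (C →ₐ[R] (R ⧸ I) ⊗[R] B))
  (F : ∀ k, WithConv (C →ₐ[R] (R ⧸ idl I k) ⊗[R] B))
  (hF : ∀ k, IsHomAt (idl I k) (F k))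
  (hcompat : ∀ k, push (tr (idl_succ_le I k) B) (F (k + 1)) = F k)
  (hcompat0 : ∀ k, push (tr (idl_le I k) B) (F k) = f₀)

include e hF hcompat hcompat0 in
/-- every element of `C` has an image in `B`. -/
theorem exists_elt (c : C) : ∃ b : B, ∀ k, red (idl I k) B b = (F k).ofConv c := by
  classical
  obtain ⟨r, v, cc, hc, hΔ⟩ := exists_finite_data (R := R) c
  -- the finite set
  obtain ⟨S, hSdef⟩ : ∃ S : Set M, S = ⋃ i : Fin r, ⋃ j : Fin r,
      {m : M | Lc e I m (f₀.ofConv (cc i j)) ≠ 0} := ⟨_, rfl⟩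
  have hS : S.Finite := by
    rw [hSdef]
    exact Set.finite_iUnion (fun i => Set.finite_iUnion (fun j => finite_support e I _))
  -- vanishing outside `S`
  have hvan : ∀ m, m ∉ S → ∀ k, Lc e (idl I k) m ((F k).ofConv c) = 0 := by
    intro m hm k
    refine Lc_eq_zero_of_mem_span e (idl_le I k) v cc hΔ (k + 1) (by rw [idl_eq_pow]) (F k) (hF k) m
      ?_ c hc
    intro i j
    have h1 : tr (idl_le I k) B ((F k).ofConv (cc i j)) = f₀.ofConv (cc i j) := by
      have := congrArg (fun g : WithConv (C →ₐ[R] (R ⧸ I) ⊗[R] B) => g.ofConv (cc i j))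
        (hcompat0 k)
      simpa [push_apply] using this
    rw [h1]
    by_contra hne
    apply hm
    rw [hSdef]
    simp only [Set.mem_iUnion]
    exact ⟨i, j, hne⟩
  -- the coordinates are compatible
  have hcomp : ∀ m k, tr (idl_succ_le I k) R' (Lc e (idl I (k + 1)) m ((F (k + 1)).ofConv c)) =
      Lc e (idl I k) m ((F k).ofConv c) := by
    intro m k
    rw [tr_barL]
    congr 1
    have := congrArg (fun g : WithConv (C →ₐ[R] (R ⧸ idl I k) ⊗[R] B) => g.ofConv c) (hcompat k)
    simpa [push_apply] using this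
  haveI : IsPrecomplete I R' := isPrecomplete_of_finite I R'
  choose a ha using fun m =>
    exists_limit I R' (fun k => Lc e (idl I k) m ((F k).ofConv c)) (hcomp m)
  -- the candidate in `R'[M]`
  obtain ⟨b', hb'def⟩ : ∃ b' : MonoidAlgebra R' M,
      b' = ∑ m ∈ hS.toFinset, MonoidAlgebra.single m (a m) := ⟨_, rfl⟩
  have hb' : ∀ m, b'.coeff m = if m ∈ S then a m else 0 := by
    intro m
    rw [hb'def, MonoidAlgebra.coeff_sum, Finsupp.finsetSum_apply]
    simp only [MonoidAlgebra.coeff_single, Finsupp.single_apply]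
    rw [Finset.sum_ite_eq' hS.toFinset m (fun m => a m)]
    simp only [Set.Finite.mem_toFinset]
  have hdag : ∀ k, barL (idl I k) (uu e) ((F k).ofConv c) = (1 : R ⧸ idl I k) ⊗ₜ[R] b' := by
    intro k
    rw [← sub_eq_zero]
    apply coord_injective (R := R) (R' := R') (M := M) (R ⧸ idl I k)
    intro m
    rw [map_sub, sub_eq_zero, LinearMap.lTensor_tmul, cf_apply, hb', ← LinearMap.comp_apply,
      ← LinearMap.lTensor_comp]
    by_cases hm : m ∈ S
    · rw [if_pos hm]
      exact (ha m k).symm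
    · rw [if_neg hm, tmul_zero]
      exact hvan m hm k
  -- the candidate in `R' ⊗ B`
  obtain ⟨β, hβdef⟩ : ∃ β : R' ⊗[R] B, β = e.symm b' := ⟨_, rfl⟩
  have hβ : ∀ k, (kap (R := R) (B := B) (R' := R')).lTensor (R ⧸ idl I k) ((F k).ofConv c) =
      (1 : R ⧸ idl I k) ⊗ₜ[R] β := by
    intro k
    have hinj : Function.Injective ((eR e).toLinearMap.lTensor (R ⧸ idl I k)) := by
      rw [← LinearEquiv.coe_lTensor]
      exact ((eR e).lTensor _).injective
    apply hinj
    rw [← LinearMap.comp_apply, ← LinearMap.lTensor_comp, ← uu_eq, LinearMap.lTensor_tmul]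
    rw [show (eR e).toLinearMap β = b' from by rw [hβdef]; exact e.apply_symm_apply b']
    exact hdag k
  -- descent
  obtain ⟨D, hDdef⟩ : ∃ D : R' ⊗[R] B →ₗ[R] (R' ⊗[R] R') ⊗[R] B, D =
    LinearMap.rTensor B (Algebra.TensorProduct.includeLeft : R' →ₐ[R] R' ⊗[R] R').toLinearMap -
    LinearMap.rTensor B (Algebra.TensorProduct.includeRight : R' →ₐ[R] R' ⊗[R] R').toLinearMap :=
    ⟨_, rfl⟩
  have hD : D ∘ₗ (kap (R := R) (B := B) (R' := R')) = 0 := by
    apply LinearMap.ext
    intro b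
    rw [hDdef]
    simp
  have hδ : D β = 0 := by
    apply sepX I (IsAdicComplete.le_jacobson_bot I) e
    intro k
    have := congrArg (D.lTensor (R ⧸ idl I k)) (hβ k)
    rw [← LinearMap.comp_apply, ← LinearMap.lTensor_comp, hD, LinearMap.lTensor_zero,
      LinearMap.zero_apply, LinearMap.lTensor_tmul] at this
    exact this.symm
  rw [hDdef, LinearMap.sub_apply, sub_eq_zero] at hδ
  obtain ⟨b, hb⟩ := exists_eq_one_tmul_of_rTensor_eq R R' B β hδ
  refine ⟨b, fun k => ?_⟩
  apply barL_kap_injective (R := R) (B := B) (R' := R') (R ⧸ idl I k)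
  rw [hβ k, hb]
  rfl

end Groth.Agent.Lib.Helper58.HL12
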