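import Mathlib
import Groth.Agent.Lib.Helper58.HL2
import Groth.Agent.Lib.Helper77.MultBC
import Groth.Prelude.Def_SGA3b

/-!
# Integrals with values in an algebra, and their descent (helper58)

`KInt K τ`: `τ : B → K` is a normalised two-sided invariant integral of the `R`-Hopf algebra `B`
with values in the `R`-algebra `K` (the same as an integral of `K ⊗ B` over `K`).  Such integrals
are unique, are compatible with change of `K`, exist for products, and descend along faithfully
flat `R → K`.
-/

set_option autoImplicit false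
universe u
open TensorProduct

namespace Groth.Agent.Lib.Helper58.HL5

open Groth.Agent.Lib.Helper58.HL2

variable {R : Type u} [CommRing R] {B : Type u} [CommRing B] [HopfAlgebra R B]

/-- an invariant integral with values in the `R`-algebra `K`. -/
structure KInt (K : Type u) [CommRing K] [Algebra R K] (τ : B →ₗ[R] K) : Prop where
  one : τ 1 = 1
  left : ∀ b : B, τ.lTensor B (Coalgebra.comul (R := R) b) = (1 : B) ⊗ₜ[R] τ b
  right : ∀ b : B, τ.lTensor B (TensorProduct.comm R B B (Coalgebra.comul (R := R) b)) =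
    (1 : B) ⊗ₜ[R] τ b

section Basic

variable {K : Type u} [CommRing K] [Algebra R K] {K' : Type u} [CommRing K'] [Algebra R K']

/-- `μ ∘ (τ₂ ⊗ τ₁)`. -/
noncomputable def pair (τ₁ τ₂ : B →ₗ[R] K) : B ⊗[R] B →ₗ[R] K :=
  (LinearMap.mul' R K) ∘ₗ (TensorProduct.map τ₂ τ₁)

lemma pair_eq_left (τ₁ τ₂ : B →ₗ[R] K) (z : B ⊗[R] B) :
    pair τ₁ τ₂ z = (LinearMap.mul' R K) (TensorProduct.map τ₂ LinearMap.id (τ₁.lTensor B z)) := by
  induction z using TensorProduct.induction_on with
  | zero => simp
  | tmul x y => simp [pair]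
  | add x y hx hy => simp only [map_add, hx, hy]

lemma pair_eq_right (τ₁ τ₂ : B →ₗ[R] K) (z : B ⊗[R] B) :
    pair τ₁ τ₂ z = (LinearMap.mul' R K)
      (TensorProduct.map τ₁ LinearMap.id (τ₂.lTensor B (TensorProduct.comm R B B z))) := by
  induction z using TensorProduct.induction_on with
  | zero => simp
  | tmul x y => simp [pair, mul_comm]
  | add x y hx hy => simp only [map_add, hx, hy]

/-- uniqueness of the integral. -/
theorem KInt.unique {τ₁ τ₂ : B →ₗ[R] K} (h₁ : KInt K τ₁) (h₂ : KInt K τ₂) : τ₁ = τ₂ := by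
  apply LinearMap.ext
  intro b
  have e1 := pair_eq_left τ₁ τ₂ (Coalgebra.comul (R := R) b)
  have e2 := pair_eq_right τ₁ τ₂ (Coalgebra.comul (R := R) b)
  rw [h₁.left] at e1
  rw [h₂.right] at e2
  simp only [TensorProduct.map_tmul, LinearMap.id_apply, LinearMap.mul'_apply, h₁.one, h₂.one,
    one_mul] at e1 e2
  rw [← e1, e2]

/-- change of the algebra of values. -/
theorem KInt.comp {τ : B →ₗ[R] K} (h : KInt K τ) (p : K →ₐ[R] K') :
    KInt K' (p.toLinearMap ∘ₗ τ) where
  one := by simp [h.one]
  left b := by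
    rw [LinearMap.lTensor_comp, LinearMap.comp_apply, h.left]
    simp
  right b := by
    rw [LinearMap.lTensor_comp, LinearMap.comp_apply, h.right]
    simp

/-- an `R`-valued integral is an integral. -/
theorem KInt.isInt {t : B →ₗ[R] R} (h : KInt R t) : IsInt R B t where
  one := h.one
  left b := by
    rw [h.left]
    simp
  right b := by
    have h1 := h.right b
    have h2 : ∀ z : B ⊗[R] B, TensorProduct.lid R B (t.rTensor B z) =
        TensorProduct.rid R B (t.lTensor B (TensorProduct.comm R B B z)) := by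
      intro z
      induction z using TensorProduct.induction_on with
      | zero => simp
      | tmul x y => simp
      | add x y hx hy => simp only [map_add, hx, hy]
    rw [h2, h1]
    simp

end Basic


section Pi

variable {ι : Type u} [Fintype ι] [DecidableEq ι] (K : ι → Type u) [∀ i, CommRing (K i)]
  [∀ i, Algebra R (K i)]

/-- integrals with values in the factors give an integral with values in the product. -/
theorem KInt.pi {τ : ∀ i, B →ₗ[R] K i} (h : ∀ i, KInt (K i) (τ i)) :
    KInt (∀ i, K i) (LinearMap.pi τ) := by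
  have key : ∀ z : B ⊗[R] B, TensorProduct.piRight R R B K ((LinearMap.pi τ).lTensor B z) =
      fun i => (τ i).lTensor B z := by
    intro z
    induction z using TensorProduct.induction_on with
    | zero => simp; rfl
    | tmul x y => simp [TensorProduct.piRight_apply, TensorProduct.piRightHom_tmul]
    | add x y hx hy =>
      simp only [map_add, hx, hy]
      rfl
  refine ⟨?_, fun b => ?_, fun b => ?_⟩
  · ext i
    simp [(h i).one]
  · apply (TensorProduct.piRight R R B K).injective
    rw [key]
    ext i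
    rw [(h i).left]
    simp [TensorProduct.piRight_apply, TensorProduct.piRightHom_tmul]
  · apply (TensorProduct.piRight R R B K).injective
    rw [key]
    ext i
    rw [(h i).right]
    simp [TensorProduct.piRight_apply, TensorProduct.piRightHom_tmul]

end Pi

section Descent

variable {K : Type u} [CommRing K] [Algebra R K]

lemma lTensor_linearMap_injective [Module.FaithfullyFlat R K] :
    Function.Injective ((Algebra.linearMap R K).lTensor B) := by
  have h : (Algebra.linearMap R K).lTensor B =
      (TensorProduct.comm R K B).toLinearMap ∘ₗ (TensorProduct.mk R K B 1) ∘ₗ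
        (TensorProduct.rid R B).toLinearMap := by
    apply TensorProduct.ext'
    intro b r
    simp only [LinearMap.lTensor_tmul, Algebra.linearMap_apply, LinearMap.comp_apply,
      LinearEquiv.coe_coe, TensorProduct.rid_tmul, TensorProduct.mk_apply,
      TensorProduct.comm_tmul]
    rw [Algebra.algebraMap_eq_smul_one, TensorProduct.tmul_smul, TensorProduct.smul_tmul']
  rw [h]
  exact (TensorProduct.comm R K B).injective.comp
    ((Module.FaithfullyFlat.tensorProduct_mk_injective (A := R) (B := K) B).comp
      (TensorProduct.rid R B).injective)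

/-- **faithfully flat descent of the integral**. -/
theorem KInt.descend [Module.FaithfullyFlat R K] {τ : B →ₗ[R] K} (h : KInt K τ) :
    ∃ t : B →ₗ[R] R, KInt R t := by
  -- the two pull-backs agree
  have h1 := (h.comp (Algebra.TensorProduct.includeLeft : K →ₐ[R] K ⊗[R] K)).unique
    (h.comp (Algebra.TensorProduct.includeRight : K →ₐ[R] K ⊗[R] K))
  have h2 : ∀ b, τ b ∈ LinearMap.range (Algebra.linearMap R K) := by
    intro b
    have h3 := LinearMap.congr_fun h1 b
    simp only [LinearMap.comp_apply, AlgHom.toLinearMap_apply,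
      Algebra.TensorProduct.includeLeft_apply, Algebra.TensorProduct.includeRight_apply] at h3
    have h4 : Algebra.TensorProduct.includeLeftSubRight R K (τ b) = 0 := by
      rw [Algebra.TensorProduct.includeLeftSubRight_apply, h3, sub_self]
    exact (Algebra.IsEffective.of_faithfullyFlat R K (τ b)).mp h4
  have hinj : Function.Injective (Algebra.linearMap R K) :=
    FaithfulSMul.algebraMap_injective R K
  let e := LinearEquiv.ofInjective (Algebra.linearMap R K) hinj
  let t : B →ₗ[R] R := e.symm.toLinearMap ∘ₗ (τ.codRestrict _ h2)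
  have ht : ∀ b, algebraMap R K (t b) = τ b := by
    intro b
    have := e.apply_symm_apply (τ.codRestrict _ h2 b)
    exact congrArg Subtype.val this
  have ht' : (Algebra.linearMap R K) ∘ₗ t = τ := LinearMap.ext ht
  refine ⟨t, ?_, fun b => ?_, fun b => ?_⟩
  · apply hinj
    rw [Algebra.linearMap_apply, ht, h.one, Algebra.linearMap_apply, map_one]
  · apply lTensor_linearMap_injective (K := K)
    rw [← LinearMap.comp_apply, ← LinearMap.lTensor_comp, ht', h.left]
    simp [ht]
  · apply lTensor_linearMap_injective (K := K)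
    rw [← LinearMap.comp_apply, ← LinearMap.lTensor_comp, ht', h.right]
    simp [ht]

end Descent


section Diag

open Groth.Agent.Lib.Helper77.MultMono Groth.Agent.Lib.Helper77.MultBC

variable {K : Type u} [CommRing K] [Algebra R K] {M : Type u} [CommGroup M]

/-- a diagonalisable group has an integral. -/
theorem exists_kInt_of_equiv (e : (K ⊗[R] B) ≃ₐc[K] MonoidAlgebra K M) :
    ∃ τ : B →ₗ[R] K, KInt K τ := by
  -- `u b = e (1 ⊗ b)`
  let u : B →ₗ[R] MonoidAlgebra K M :=
    ((e : (K ⊗[R] B) →ₗ[K] MonoidAlgebra K M).restrictScalars R) ∘ₗ (TensorProduct.mk R K B 1)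
  have hu : ∀ b, u b = e ((1 : K) ⊗ₜ[R] b) := fun b => rfl
  let τ : B →ₗ[R] K := ((coeffL K M 1).restrictScalars R) ∘ₗ u
  have hτ : ∀ b, τ b = (u b).coeff 1 := fun b => rfl
  -- `θ (b ⊗ k) = k • u b`
  let θ : B ⊗[R] K →ₗ[R] MonoidAlgebra K M :=
    ((e : (K ⊗[R] B) →ₗ[K] MonoidAlgebra K M).restrictScalars R) ∘ₗ
      (TensorProduct.comm R B K).toLinearMap
  have hθ : ∀ b k, θ (b ⊗ₜ[R] k) = k • u b := by
    intro b k
    change e (k ⊗ₜ[R] b) = k • e ((1 : K) ⊗ₜ[R] b)
    rw [← map_smul, TensorProduct.smul_tmul', smul_eq_mul, mul_one]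
  have hθinj : Function.Injective θ := e.injective.comp (TensorProduct.comm R B K).injective
  -- `UU (x ⊗ y) = u x ⊗ u y`
  let UU : B ⊗[R] B →ₗ[R] MonoidAlgebra K M ⊗[K] MonoidAlgebra K M :=
    ((TensorProduct.map (e : (K ⊗[R] B) →ₗ[K] MonoidAlgebra K M)
      (e : (K ⊗[R] B) →ₗ[K] MonoidAlgebra K M)).restrictScalars R) ∘ₗ
    ((TensorProduct.AlgebraTensorModule.distribBaseChange R K B B).toLinearMap.restrictScalars R) ∘ₗ
    (TensorProduct.mk R K (B ⊗[R] B) 1)
  have hUU : ∀ x y, UU (x ⊗ₜ[R] y) = u x ⊗ₜ[K] u y := by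
    intro x y
    simp [UU, hu]
  have hUUc : ∀ b, UU (Coalgebra.comul (R := R) b) = Coalgebra.comul (R := K) (u b) := by
    intro b
    change TensorProduct.map (e : (K ⊗[R] B) →ₗ[K] MonoidAlgebra K M)
      (e : (K ⊗[R] B) →ₗ[K] MonoidAlgebra K M)
      (TensorProduct.AlgebraTensorModule.distribBaseChange R K B B
        ((1 : K) ⊗ₜ[R] Coalgebra.comul (R := R) b)) = _
    rw [← comul_one_tmul, hu]
    exact CoalgHomClass.map_comp_comul_apply e _
  have key1 : ∀ z : B ⊗[R] B, θ (τ.lTensor B z) = psi K M 1 (UU z) := by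
    intro z
    induction z using TensorProduct.induction_on with
    | zero => simp
    | tmul x y => rw [LinearMap.lTensor_tmul, hθ, hUU, psi_tmul, hτ]
    | add x y hx hy => simp only [map_add, hx, hy]
  have key2 : ∀ z : B ⊗[R] B, θ (τ.lTensor B (TensorProduct.comm R B B z)) =
      psi K M 1 (TensorProduct.comm K _ _ (UU z)) := by
    intro z
    induction z using TensorProduct.induction_on with
    | zero => simp
    | tmul x y =>
      rw [TensorProduct.comm_tmul, LinearMap.lTensor_tmul, hθ, hUU, TensorProduct.comm_tmul,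
        psi_tmul, hτ]
    | add x y hx hy => simp only [map_add, hx, hy]
  have hu1 : u 1 = 1 := by
    rw [hu, ← Algebra.TensorProduct.one_def, map_one]
  have hone : ∀ b, θ ((1 : B) ⊗ₜ[R] τ b) = MonoidAlgebra.single 1 ((u b).coeff 1) := by
    intro b
    rw [hθ, hu1, hτ, MonoidAlgebra.one_def, MonoidAlgebra.smul_single, smul_eq_mul, mul_one]
  refine ⟨τ, ?_, fun b => ?_, fun b => ?_⟩
  · rw [hτ, hu1, MonoidAlgebra.one_def, MonoidAlgebra.coeff_single, Finsupp.single_eq_same]
  · apply hθinj
    rw [key1, hUUc, psi_comul, hone]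
  · apply hθinj
    rw [key2, hUUc, Coalgebra.comm_comul, psi_comul, hone]

end Diag


section MultType

open Groth.Agent.Lib.Helper77.MultBC SGA3b

/-- a flat `R`-algebra covering `D(f)` over which `B` has an integral. -/
structure Piece (R : Type u) [CommRing R] (B : Type u) [CommRing B] [HopfAlgebra R B] (f : R) where
  K : Type u
  [cr : CommRing K]
  [alg : Algebra R K]
  flat : Module.Flat R K
  τ : B →ₗ[R] K
  kint : KInt K τ
  cover : ∀ m : Ideal R, m.IsMaximal → f ∉ m → m.map (algebraMap R K) ≠ ⊤

attribute [instance] Piece.cr Piece.alg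

lemma nonempty_piece (f : R)
    (h : IsMultTypeConst (Localization.Away f) (Localization.Away f ⊗[R] B)) :
    Nonempty (Piece R B f) := by
  obtain ⟨K, _, _, hff, M, _, ⟨e⟩⟩ := h
  letI : Algebra R K :=
    ((algebraMap (Localization.Away f) K).comp (algebraMap R (Localization.Away f))).toAlgebra
  haveI : IsScalarTower R (Localization.Away f) K := IsScalarTower.of_algebraMap_eq (fun x => rfl)
  let e' : (K ⊗[R] B) ≃ₐc[K] MonoidAlgebra K M :=
    (cancelBC R (Localization.Away f) K B).symm.trans e
  obtain ⟨τ, hτ⟩ := exists_kInt_of_equiv e'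
  haveI : Module.Flat R (Localization.Away f) := IsLocalization.flat _ (Submonoid.powers f)
  refine ⟨⟨K, Module.Flat.trans R (Localization.Away f) K, τ, hτ, ?_⟩⟩
  intro m hm hf
  have h1 : m.map (algebraMap R (Localization.Away f)) ≠ ⊤ := by
    rw [IsLocalization.map_algebraMap_ne_top_iff_disjoint (Submonoid.powers f)]
    rw [Set.disjoint_left]
    rintro x ⟨n, rfl⟩ hx
    exact hf (hm.isPrime.mem_of_pow_mem n hx)
  obtain ⟨𝔫, h𝔫, hle⟩ := Ideal.exists_le_maximal _ h1
  have h2 := hff.submodule_ne_top h𝔫
  rw [Ideal.smul_top_eq_map, Ne, Submodule.restrictScalars_eq_top_iff] at h2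
  intro h3
  apply h2
  rw [eq_top_iff, ← h3, IsScalarTower.algebraMap_eq R (Localization.Away f) K, ← Ideal.map_map]
  exact Ideal.map_mono hle

/-- **a group of multiplicative type has an invariant integral**. -/
theorem exists_isInt_of_isMultType (h : IsMultType R B) : ∃ t : B →ₗ[R] R, IsInt R B t := by
  classical
  obtain ⟨s, hs, hall⟩ := h
  obtain ⟨s', hs's, hs'⟩ := (Ideal.span_eq_top_iff_finite s).mp hs
  have hP : ∀ f : {x // x ∈ s'}, Nonempty (Piece R B f.1) :=
    fun f => nonempty_piece f.1 (hall f.1 (hs's f.2))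
  let P : ∀ f : {x // x ∈ s'}, Piece R B f.1 := fun f => (hP f).some
  let K' := ∀ f : {x // x ∈ s'}, (P f).K
  have hk : KInt K' (LinearMap.pi fun f => (P f).τ) := KInt.pi (fun f => (P f).K) (fun f => (P f).kint)
  haveI : ∀ f : {x // x ∈ s'}, Module.Flat R (P f).K := fun f => (P f).flat
  haveI hflat : Module.Flat R K' :=
    Module.Flat.of_linearEquiv
      (DirectSum.linearEquivFunOnFintype R {x // x ∈ s'} (fun f => (P f).K)).symm
  haveI : Module.FaithfullyFlat R K' := by
    refine ⟨fun m hm htop => ?_⟩
    -- some `f ∈ s'` is not in `m`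
    have : ∃ f : {x // x ∈ s'}, f.1 ∉ m := by
      by_contra hcon
      push Not at hcon
      have : Ideal.span (s' : Set R) ≤ m := Ideal.span_le.mpr (fun x hx => hcon ⟨x, hx⟩)
      rw [hs'] at this
      exact hm.ne_top (top_le_iff.mp this)
    obtain ⟨f, hf⟩ := this
    apply (P f).cover m hm hf
    rw [Ideal.smul_top_eq_map, Submodule.restrictScalars_eq_top_iff] at htop
    have h1 : (m.map (algebraMap R K')).map (Pi.evalRingHom (fun f => (P f).K) f) = ⊤ := by
      rw [htop]
      exact Ideal.map_top _
    rw [Ideal.map_map] at h1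
    exact h1
  obtain ⟨t, ht⟩ := hk.descend
  exact ⟨t, ht.isInt⟩

end MultType

end Groth.Agent.Lib.Helper58.HL5
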