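import Mathlib
import Groth.Agent.Lib.Helper58.HL12
import Groth.Agent.Lib.Helper58.HL5

/-!
# Algebraisation of homomorphisms from an isotrivial group of multiplicative type (helper58)

SGA3 IX 7.1 in the affine case: over a Noetherian `I`-adically complete ring `R`, a homomorphism
`H₀ → G₀` modulo `I` from an isotrivial group of multiplicative type to an affine smooth group
lifts to a homomorphism `H → G`.
-/

set_option autoImplicit false
universe u
open TensorProduct WithConv

namespace Groth.Agent.Lib.Helper58.HL13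

open Groth.Agent.Lib.Helper58.HL1 Groth.Agent.Lib.Helper58.HL2 Groth.Agent.Lib.Helper58.HL3
  Groth.Agent.Lib.Helper58.HL4 Groth.Agent.Lib.Helper58.HL5 Groth.Agent.Lib.Helper58.HL8
  Groth.Agent.Lib.Helper58.HL9 Groth.Agent.Lib.Helper58.HL10
  Groth.Agent.Lib.Helper58.HL11 Groth.Agent.Lib.Helper58.HL12

attribute [local instance] convGroup'

variable {R : Type u} [CommRing R] [IsNoetherianRing R] {B : Type u} [CommRing B] [HopfAlgebra R B]
  {C : Type u} [CommRing C] [HopfAlgebra R C] [Module.Flat R C] [Algebra.FormallySmooth R C]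
  {R' : Type u} [CommRing R'] [Algebra R R'] {M : Type u} [CommGroup M]
  [Module.Finite R R'] [Module.FaithfullyFlat R R']

/-- a map into a product which lands in the image of an injective algebra map factors. -/
lemma exists_factor {P : Type u} [CommRing P] [Algebra R P] (ρ : B →ₐ[R] P)
    (hρ : Function.Injective ρ) (Φ : C →ₐ[R] P) (h : ∀ c, ∃ b, ρ b = Φ c) :
    ∃ φ : C →ₐ[R] B, ∀ c, ρ (φ c) = Φ c := by
  have hmem : ∀ c, Φ c ∈ ρ.range := fun c => by
    obtain ⟨b, hb⟩ := h c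
    exact ⟨b, hb⟩
  refine ⟨((AlgEquiv.ofInjective ρ hρ).symm : ρ.range →ₐ[R] B).comp (Φ.codRestrict ρ.range hmem),
    fun c => ?_⟩
  have := (AlgEquiv.ofInjective ρ hρ).apply_symm_apply (Φ.codRestrict ρ.range hmem c)
  have h2 := congrArg Subtype.val this
  rw [AlgEquiv.ofInjective_apply] at h2
  exact h2

theorem exists_bialgHom_lift_complete (e : (R' ⊗[R] B) ≃ₐc[R'] MonoidAlgebra R' M)
    (I : Ideal R) [IsAdicComplete I R]
    (φ₀ : ((R ⧸ I) ⊗[R] C) →ₐc[R ⧸ I] ((R ⧸ I) ⊗[R] B)) :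
    ∃ φ : C →ₐc[R] B, ∀ c : C, φ₀ ((1 : R ⧸ I) ⊗ₜ[R] c) = (1 : R ⧸ I) ⊗ₜ[R] (φ c) := by
  obtain ⟨τ, hτ⟩ := exists_kInt_of_equiv e
  obtain ⟨t, ht'⟩ := hτ.descend
  have ht : IsInt R B t := ht'.isInt
  have hI : I ≤ Ideal.jacobson ⊥ := IsAdicComplete.le_jacobson_bot I
  -- the compatible system
  obtain ⟨F, hFdef⟩ : ∃ F : ∀ k, WithConv (C →ₐ[R] (R ⧸ idl I k) ⊗[R] B),
      F = fun k => (seq t ht I (f₀ I φ₀) (isHomAt_f₀ I φ₀) k).1 := ⟨_, rfl⟩
  have hF : ∀ k, IsHomAt (idl I k) (F k) := by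
    intro k
    rw [hFdef]
    exact (seq t ht I (f₀ I φ₀) (isHomAt_f₀ I φ₀) k).2
  have hcompat : ∀ k, push (tr (idl_succ_le I k) B) (F (k + 1)) = F k := by
    intro k
    rw [hFdef]
    exact seq_compat t ht I (f₀ I φ₀) (isHomAt_f₀ I φ₀) k
  have hcompat0 : ∀ k, push (tr (idl_le I k) B) (F k) = f₀ I φ₀ := by
    intro k
    rw [hFdef]
    exact seq_compat_zero t ht I (f₀ I φ₀) (isHomAt_f₀ I φ₀) k
  have hF0 : ∀ c, (F 0).ofConv c = φ₀ ((1 : R ⧸ I) ⊗ₜ[R] c) := by
    intro c
    rw [hFdef]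
    rfl
  have hex := exists_elt e I (f₀ I φ₀) F hF hcompat hcompat0
  -- the algebra map
  obtain ⟨φ, hφ⟩ := exists_factor (R := R) (B := B) (C := C)
    (P := ∀ k, (R ⧸ idl I k) ⊗[R] B)
    (AlgHom.pi (A := fun k => (R ⧸ idl I k) ⊗[R] B) (fun k => red (idl I k) B))
    (by
      intro b b' hbb'
      rw [← sub_eq_zero]
      apply sepB I hI e
      intro k
      have := congrFun hbb' k
      simp only [AlgHom.pi_apply] at this
      change red (idl I k) B (b - b') = 0
      rw [map_sub, this, sub_self])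
    (AlgHom.pi (A := fun k => (R ⧸ idl I k) ⊗[R] B) (fun k => (F k).ofConv))
    (by
      intro c
      obtain ⟨b, hb⟩ := hex c
      exact ⟨b, funext hb⟩)
  have hφ' : ∀ k, push (red (idl I k) B) (toConv φ) = F k := by
    intro k
    apply WithConv.ext
    apply AlgHom.ext
    intro c
    exact congrFun (hφ c) k
  -- it is a homomorphism
  have hhom : push (Δ₀ R B) (toConv φ) = push (i₁ R B) (toConv φ) * push (i₂ R B) (toConv φ) := by
    have key : ∀ k, push (red (idl I k) (B ⊗[R] B)) (push (Δ₀ R B) (toConv φ)) =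
        push (red (idl I k) (B ⊗[R] B)) (push (i₁ R B) (toConv φ) * push (i₂ R B) (toConv φ)) := by
      intro k
      rw [map_mul, push_push, push_push, push_push, ← bar_red, ← bar_red, ← bar_red, ← push_push,
        ← push_push, ← push_push, hφ' k]
      exact hF k
    apply WithConv.ext
    apply AlgHom.ext
    intro c
    rw [← sub_eq_zero]
    apply sepBB I hI e
    intro k
    have := congrArg (fun g : WithConv (C →ₐ[R] (R ⧸ idl I k) ⊗[R] (B ⊗[R] B)) => g.ofConv c) (key k)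
    simp only [push_apply] at this
    change red (idl I k) (B ⊗[R] B) (_ - _) = 0
    rw [map_sub, sub_eq_zero]
    exact this
  refine ⟨toBialgHom φ hhom, fun c => ?_⟩
  rw [toBialgHom_apply, ← hF0 c]
  exact (congrFun (hφ c) 0).symm

end Groth.Agent.Lib.Helper58.HL13
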