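import Mathlib
import Groth.Agent.Lib.Helper58.HL4

/-!
# Conjugacy of liftings modulo a nilpotent ideal (helper58)

`A` a commutative Hopf algebra over `R` with an invariant integral, `C` a commutative Hopf algebra
which is formally smooth over `R`, `I` a nilpotent ideal of `R`.  Two bialgebra maps `C → A` which
are congruent modulo `I` are conjugate under a point of `Spec C` over `R` which is trivial modulo `I`.
-/

set_option autoImplicit false
universe u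
open TensorProduct WithConv

namespace Groth.Agent.Lib.Helper58.HL6

open Groth.Agent.Lib.Helper58.HL1 Groth.Agent.Lib.Helper58.HL2 Groth.Agent.Lib.Helper58.HL3
  Groth.Agent.Lib.Helper58.HL4

attribute [local instance] convGroup'

variable {R : Type u} [CommRing R] {A : Type u} [CommRing A] [HopfAlgebra R A]
  {C : Type u} [CommRing C] [HopfAlgebra R C]

section Base

variable (R A)

/-- the unit. -/
noncomputable abbrev η₀ : R →ₐ[R] A := Algebra.ofId R A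

lemma Δ₀_η₀ : (Δ₀ R A).comp (η₀ R A) = (i₁ R A).comp (η₀ R A) := by
  apply AlgHom.ext
  intro r
  simp [Algebra.ofId_apply, Algebra.TensorProduct.algebraMap_apply]

lemma i₂_η₀ : (i₂ R A).comp (η₀ R A) = (i₁ R A).comp (η₀ R A) := by
  apply AlgHom.ext
  intro r
  simp only [AlgHom.comp_apply, Algebra.ofId_apply, Algebra.TensorProduct.includeRight_apply,
    Algebra.TensorProduct.includeLeft_apply]
  rw [Algebra.algebraMap_eq_smul_one, TensorProduct.tmul_smul, TensorProduct.smul_tmul']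

variable {R A}
variable (t : A →ₗ[R] R)

lemma t_mul (s : R) (b : A) : t (η₀ R A s * b) = s * t b := by
  rw [Algebra.ofId_apply, ← Algebra.smul_def, map_smul, smul_eq_mul]

lemma b₁_Δ₀ (ht : IsInt R A t) (x : A) : b₁ t (Δ₀ R A x) = η₀ R A (t x) := by
  rw [Bialgebra.comulAlgHom_apply, Algebra.ofId_apply, Algebra.algebraMap_eq_smul_one]
  exact ht.left x

lemma b₁_i₂ (x : A) : b₁ t (i₂ R A x) = η₀ R A (t x) := by
  rw [Algebra.TensorProduct.includeRight_apply, avgL_tmul, Algebra.ofId_apply,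
    Algebra.algebraMap_eq_smul_one]

end Base

section Sys1Bar

variable (t : A →ₗ[R] R) (ht : IsInt R A t) (𝔞 : Ideal R) (J : Ideal R) (hJ : J * J ≤ 𝔞)

/-- the system of reductions modulo `𝔞` of `R`, `A`, `A ⊗ A`. -/
noncomputable def sys1Bar :
    Sys1 J ((R ⧸ 𝔞) ⊗[R] R) ((R ⧸ 𝔞) ⊗[R] A) ((R ⧸ 𝔞) ⊗[R] (A ⊗[R] A)) where
  Δ := bar 𝔞 (Δ₀ R A)
  ι₁ := bar 𝔞 (i₁ R A)
  ι₂ := bar 𝔞 (i₂ R A)
  η := bar 𝔞 (η₀ R A)
  a₀ := barL 𝔞 t
  a₁ := barL 𝔞 (b₁ t)
  Δ_η := by rw [← bar_comp, ← bar_comp, Δ₀_η₀]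
  ι₂_η := by rw [← bar_comp, ← bar_comp, i₂_η₀]
  a₀_mul := barL_mul 𝔞 (t_mul t)
  a₀_one := barL_one 𝔞 ht.one
  a₁_mul := barL_mul 𝔞 (b₁_mul t)
  a₁_one := barL_one 𝔞 (b₁_one t ht.one)
  a₁_Δ := barL_bar 𝔞 (b₁_Δ₀ t ht)
  a₁_ι₂ := barL_bar 𝔞 (b₁_i₂ t)
  sq₀ := sq_zero 𝔞 hJ
  sq₁ := sq_zero 𝔞 hJ
  sq₂ := sq_zero 𝔞 hJ

end Sys1Bar


section Conj

/-- `f` is a homomorphism. -/
def IsHom₀ (f : WithConv (C →ₐ[R] A)) : Prop :=
  push (Δ₀ R A) f = push (i₁ R A) f * push (i₂ R A) f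

lemma isHom₀_of_bialgHom (f : C →ₐc[R] A) : IsHom₀ (toConv (f : C →ₐ[R] A)) := by
  apply WithConv.ext
  rw [mul_incl, push_ofConv, ofConv_toConv]
  exact (BialgHom.map_comp_comulAlgHom f).symm

/-- conjugates of homomorphisms by constant points are homomorphisms. -/
lemma isHom₀_conj {φ : WithConv (C →ₐ[R] A)} (hφ : IsHom₀ φ) (g : WithConv (C →ₐ[R] R)) :
    IsHom₀ (push (η₀ R A) g * φ * (push (η₀ R A) g)⁻¹) := by
  unfold IsHom₀ at hφ ⊢
  simp only [map_mul, map_inv, push_push]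
  rw [Δ₀_η₀, i₂_η₀, hφ]
  group

lemma isHom_push_red {𝔞 J : Ideal R} (t : A →ₗ[R] R) (ht : IsInt R A t) (hJ : J * J ≤ 𝔞)
    {φ : WithConv (C →ₐ[R] A)} (hφ : IsHom₀ φ) :
    (sys1Bar t ht 𝔞 J hJ).IsHom (push (red 𝔞 A) φ) := by
  have := congrArg (push (red 𝔞 (A ⊗[R] A))) hφ
  rw [map_mul, push_push, push_push, push_push, ← bar_red, ← bar_red, ← bar_red, ← push_push,
    ← push_push, ← push_push] at this
  exact this

/-- one step: from conjugate modulo `I ^ k` to conjugate modulo `I ^ (k + 1)`. -/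
theorem step_conj (t : A →ₗ[R] R) (ht : IsInt R A t) [Algebra.FormallySmooth R C] (I : Ideal R)
    (hI : IsNilpotent I) (k : ℕ) (hk : 1 ≤ k) {φ φ' : WithConv (C →ₐ[R] A)}
    (hφ : IsHom₀ φ) (hφ' : IsHom₀ φ') (h : Cong (I ^ k) φ' φ) :
    ∃ g : WithConv (C →ₐ[R] R), Cong (I ^ k) g 1 ∧
      Cong (I ^ (k + 1)) φ' (push (η₀ R A) g * φ * (push (η₀ R A) g)⁻¹) := by
  have hJ : I ^ k * I ^ k ≤ I ^ (k + 1) := by
    rw [← pow_add]
    exact Ideal.pow_le_pow_right (by omega)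
  have hle : I ^ (k + 1) ≤ I ^ k := Ideal.pow_le_pow_right (by omega)
  have hnil : IsNilpotent (I ^ (k + 1)) := by
    obtain ⟨n, hn⟩ := hI
    refine ⟨n, ?_⟩
    rw [← pow_mul, mul_comm, pow_mul, hn, zero_pow (by omega)]
  obtain ⟨𝔞, h𝔞⟩ : ∃ 𝔞, 𝔞 = I ^ (k + 1) := ⟨_, rfl⟩
  rw [← h𝔞] at hJ hle hnil ⊢
  let S := sys1Bar t ht 𝔞 (I ^ k) hJ
  obtain ⟨gb, hgb1, hgb⟩ := S.exists_conj (isHom_push_red t ht hJ hφ) (isHom_push_red t ht hJ hφ')
    (Cong.push (red 𝔞 A) h)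
  let g : C →ₐ[R] R := Algebra.FormallySmooth.liftOfSurjective gb.ofConv (red 𝔞 R)
    (red_surjective 𝔞 R) (isNilpotent_ker_red 𝔞 R hnil)
  have hg : push (red 𝔞 R) (toConv g) = gb := by
    apply WithConv.ext
    exact Algebra.FormallySmooth.comp_liftOfSurjective gb.ofConv (red 𝔞 R)
      (red_surjective 𝔞 R) (isNilpotent_ker_red 𝔞 R hnil)
  refine ⟨toConv g, ?_, ?_⟩
  · apply cong_of_cong_push_red hle
    rw [hg, map_one]
    exact hgb1
  · apply cong_of_push_red_eq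
    rw [map_mul, map_mul, map_inv, push_push, ← bar_red, ← push_push, hg]
    exact hgb

/-- **Conjugacy of liftings modulo a nilpotent ideal**. -/
theorem exists_conj (t : A →ₗ[R] R) (ht : IsInt R A t) [Algebra.FormallySmooth R C] (I : Ideal R)
    (hI : IsNilpotent I) {φ φ' : WithConv (C →ₐ[R] A)}
    (hφ : IsHom₀ φ) (hφ' : IsHom₀ φ') (h : Cong I φ' φ) :
    ∃ g : WithConv (C →ₐ[R] R), Cong I g 1 ∧
      φ' = push (η₀ R A) g * φ * (push (η₀ R A) g)⁻¹ := by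
  have key : ∀ k : ℕ, 1 ≤ k → ∃ g : WithConv (C →ₐ[R] R), Cong I g 1 ∧
      Cong (I ^ k) φ' (push (η₀ R A) g * φ * (push (η₀ R A) g)⁻¹) := by
    intro k hk
    induction k, hk using Nat.le_induction with
    | base =>
      refine ⟨1, Cong.refl _, ?_⟩
      rw [map_one, one_mul, inv_one, mul_one, pow_one]
      exact h
    | succ k hk ih =>
      obtain ⟨g, hg1, hg⟩ := ih
      obtain ⟨g', hg'1, hg'⟩ := step_conj t ht I hI k hk (isHom₀_conj hφ g) hφ' hg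
      refine ⟨g' * g, ?_, ?_⟩
      · have h1 : Cong I g' 1 := Cong.mono (Ideal.pow_le_self (by omega)) hg'1
        have := h1.mul hg1
        rwa [one_mul] at this
      · have e : push (η₀ R A) (g' * g) * φ * (push (η₀ R A) (g' * g))⁻¹ =
            push (η₀ R A) g' * (push (η₀ R A) g * φ * (push (η₀ R A) g)⁻¹) *
              (push (η₀ R A) g')⁻¹ := by
          rw [map_mul]
          group
        rw [e]
        exact hg'
  obtain ⟨n, hn⟩ := hI
  obtain ⟨g, h1, h2⟩ := key (n + 1) (by omega)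
  refine ⟨g, h1, ?_⟩
  apply eq_of_cong_bot
  have h0 : I ^ (n + 1) = ⊥ := by rw [pow_succ, hn, Ideal.zero_eq_bot, Ideal.bot_mul]
  rwa [h0] at h2

end Conj

end Groth.Agent.Lib.Helper58.HL6
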