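import Mathlib
import Groth.Agent.Lib.Helper58.HL6

/-!
# Relative lifting of bialgebra maps modulo a nilpotent ideal (helper58)

SGA3 IX 3.6 (formal smoothness of `Hom(H₂, G) → Hom(H₁, G)`), affine form.
-/

set_option autoImplicit false
universe u
open TensorProduct WithConv

namespace Groth.Agent.Lib.Helper58.HL7

open Groth.Agent.Lib.Helper58.HL1 Groth.Agent.Lib.Helper58.HL2 Groth.Agent.Lib.Helper58.HL3
  Groth.Agent.Lib.Helper58.HL4 Groth.Agent.Lib.Helper58.HL6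

attribute [local instance] convGroup'

variable {R : Type u} [CommRing R] {A₁ : Type u} [CommRing A₁] [HopfAlgebra R A₁]
  {A₂ : Type u} [CommRing A₂] [HopfAlgebra R A₂] {C : Type u} [CommRing C] [HopfAlgebra R C]

theorem exists_relative_lift (t₁ : A₁ →ₗ[R] R) (ht₁ : IsInt R A₁ t₁) (t₂ : A₂ →ₗ[R] R)
    (ht₂ : IsInt R A₂ t₂) [Algebra.FormallySmooth R C] (I : Ideal R) (hI : IsNilpotent I)
    (α : A₂ →ₐc[R] A₁) (β : C →ₐc[R] A₁)
    (γ₀ : ((R ⧸ I) ⊗[R] C) →ₐc[R ⧸ I] ((R ⧸ I) ⊗[R] A₂))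
    (h0 : ∀ c : C, Algebra.TensorProduct.map (AlgHom.id (R ⧸ I) (R ⧸ I)) (α : A₂ →ₐ[R] A₁)
      (γ₀ ((1 : R ⧸ I) ⊗ₜ[R] c)) = (1 : R ⧸ I) ⊗ₜ[R] (β c)) :
    ∃ γ : C →ₐc[R] A₂, (∀ c : C, γ₀ ((1 : R ⧸ I) ⊗ₜ[R] c) = (1 : R ⧸ I) ⊗ₜ[R] (γ c)) ∧
      ∀ c : C, α (γ c) = β c := by
  -- a first lift
  obtain ⟨γ', hγ'⟩ := exists_bialgHom_lift t₂ ht₂ I hI γ₀
  -- the two homomorphisms `α ∘ γ'` and `β` are congruent
  let φ : WithConv (C →ₐ[R] A₁) := toConv ((α : A₂ →ₐ[R] A₁).comp (γ' : C →ₐ[R] A₂))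
  let φ' : WithConv (C →ₐ[R] A₁) := toConv (β : C →ₐ[R] A₁)
  have hφ : IsHom₀ φ := isHom₀_of_bialgHom (α.comp γ')
  have hφ' : IsHom₀ φ' := isHom₀_of_bialgHom β
  have hcong : Cong I φ' φ := by
    intro c
    rw [← red_eq_zero_iff, map_sub, sub_eq_zero]
    change (1 : R ⧸ I) ⊗ₜ[R] β c = (1 : R ⧸ I) ⊗ₜ[R] α (γ' c)
    rw [← h0, hγ']
    simp
  obtain ⟨g, hg1, hg⟩ := exists_conj t₁ ht₁ I hI hφ hφ' hcong
  -- conjugate `γ'`
  let γc : WithConv (C →ₐ[R] A₂) :=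
    push (η₀ R A₂) g * toConv (γ' : C →ₐ[R] A₂) * (push (η₀ R A₂) g)⁻¹
  have hγc : IsHom₀ γc := isHom₀_conj (isHom₀_of_bialgHom γ') g
  have hγc1 : Cong I γc (toConv (γ' : C →ₐ[R] A₂)) := by
    have h1 : Cong I (push (η₀ R A₂) g) 1 := by
      have := hg1.push (η₀ R A₂)
      rwa [map_one] at this
    have := (h1.mul (Cong.refl (toConv (γ' : C →ₐ[R] A₂)))).mul h1.inv
    rwa [one_mul, inv_one, mul_one] at this
  have hαη : (α : A₂ →ₐ[R] A₁).comp (η₀ R A₂) = η₀ R A₁ := by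
    apply AlgHom.ext
    intro r
    simp [Algebra.ofId_apply]
  have hα : push (α : A₂ →ₐ[R] A₁) γc = φ' := by
    rw [hg]
    simp only [γc, map_mul, map_inv, push_push, hαη]
    rfl
  refine ⟨toBialgHom γc.ofConv hγc, fun c => ?_, fun c => ?_⟩
  · rw [toBialgHom_apply, hγ']
    have := (red_eq_zero_iff I A₂ _).mpr (hγc1 c)
    rw [map_sub, sub_eq_zero] at this
    exact this.symm
  · rw [toBialgHom_apply]
    have := congrArg (fun k : WithConv (C →ₐ[R] A₁) => k.ofConv c) hα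
    exact this

end Groth.Agent.Lib.Helper58.HL7
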