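import Mathlib
import Groth.Prelude.Def_SGA3x
import Groth.Prelude.Def_AutFam
import Groth.Agent.Lib.Helper58.HomFam

/-!
# Local structure of the scheme of homomorphisms between finite locally diagonalisable groups

Over an affine scheme `Spec R` mapping to trivialising opens of both groups, the base change of a
scheme representing `Hom_gr(G, H)` is `Spec (Hom(N, M) → R)`, hence finite étale.
-/

set_option autoImplicit false

universe u

open CategoryTheory CategoryTheory.Limits AlgebraicGeometry MonoidalCategory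
  CartesianMonoidalCategory MonObj GrpObj

namespace Groth.Agent.Lib.Helper58.HomLocal

open Groth.Agent.Lib.Helper43 Groth.Agent.Lib.Helper58.DiagPts Groth.Agent.Lib.Helper58.DiagTest
  Groth.Agent.Lib.Helper58.HomFam
open Groth.Agent.Lib.Helper58

attribute [local instance] HomFam.fintypeMul HomFam.fintypeΘ

section algebra

variable {I : Type} [Fintype I] {R B : Type u} [CommRing R] [CommRing B] (ρB : R →+* B)
  (e : I → B) (he : CompleteOrthogonalIdempotents e)

/-- the ring hom `(I → R) → B` defined by a complete orthogonal system of idempotents. -/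
noncomputable def sysHom : (I → R) →+* B where
  toFun x := ∑ i, ρB (x i) * e i
  map_one' := by simp [he.complete]
  map_zero' := by simp
  map_add' x y := by simp [add_mul, Finset.sum_add_distrib]
  map_mul' x y := by
    classical
    rw [Finset.sum_mul_sum]
    apply Finset.sum_congr rfl
    intro i _
    rw [Finset.sum_eq_single i]
    · rw [Pi.mul_apply, map_mul]
      calc ρB (x i) * ρB (y i) * e i = ρB (x i) * ρB (y i) * (e i * e i) := by rw [(he.idem i).eq]
        _ = _ := by ring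
    · intro j _ hne
      calc ρB (x i) * e i * (ρB (y j) * e j) = ρB (x i) * ρB (y j) * (e i * e j) := by ring
        _ = 0 := by rw [he.ortho hne.symm, mul_zero]
    · simp

lemma sysHom_apply (x : I → R) : sysHom ρB e he x = ∑ i, ρB (x i) * e i := rfl

lemma sysHom_algebraMap (r : R) : sysHom ρB e he (algebraMap R (I → R) r) = ρB r := by
  rw [sysHom_apply]
  simp only [Pi.algebraMap_apply, Algebra.algebraMap_self, RingHom.id_apply]
  rw [← Finset.mul_sum, he.complete, _root_.mul_one]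

lemma sysHom_single [DecidableEq I] (i : I) : sysHom ρB e he (Pi.single i 1) = e i := by
  rw [sysHom_apply, Finset.sum_eq_single i]
  · rw [Pi.single_eq_same, map_one, _root_.one_mul]
  · intro j _ hne
    rw [Pi.single_eq_of_ne hne, map_zero, zero_mul]
  · simp

lemma eq_sum_single [DecidableEq I] (x : I → R) :
    x = ∑ i, algebraMap R (I → R) (x i) * Pi.single i 1 := by
  funext j
  rw [Finset.sum_apply, Finset.sum_eq_single j]
  · simp
  · intro i _ hne
    simp [Pi.single_eq_of_ne hne.symm]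
  · simp

end algebra

section main

variable {S UG UH : Scheme.{u}} (G H : Over S) [GrpObj G] [GrpObj H] (uG : UG ⟶ S) (uH : UH ⟶ S)
  {M N : Type} [AddCommGroup M] [AddCommGroup N] [Finite M] [Finite N]
  (eG : Grp.mk (Red.bc uG G) ≅ Grp.mk (Red.DS UG M))
  (eH : Grp.mk (Red.bc uH H) ≅ Grp.mk (Red.DS UH N))
  {R : Type u} [CommRing R] (o : Spec (CommRingCat.of R) ⟶ S)
  (oG : Spec (CommRingCat.of R) ⟶ UG) (hoG : oG ≫ uG = o)
  (oH : Spec (CommRingCat.of R) ⟶ UH) (hoH : oH ≫ uH = o)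
  (A : Over S) (υ : G ⊗ A ⟶ H) (hA : AutFam.RepresentsHom G H A υ)

include hA hoG hoH eG eH in
/-- the key local statement: an isomorphism with `Spec (Θ → R)` over `Spec R`. -/
theorem exists_iso_of_isPullback {B : Type u} [CommRing B] {P : Scheme.{u}}
    (ii : P ≅ Spec (CommRingCat.of B)) (p₁ : P ⟶ A.left) (p₂ : P ⟶ Spec (CommRingCat.of R))
    (hP : IsPullback p₁ p₂ A.hom o) :
    ∃ j : P ≅ Spec (CommRingCat.of (Θ M N → R)),
      j.hom ≫ Spec.map (CommRingCat.ofHom (algebraMap R (Θ M N → R))) = p₂ := by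
  classical
  obtain ⟨ρB, hρB⟩ : ∃ ρB : R →+* B, Spec.map (CommRingCat.ofHom ρB) = ii.inv ≫ p₂ :=
    ⟨(Spec.preimage (ii.inv ≫ p₂)).hom, Spec.map_preimage _⟩
  -- the universal family over `B`
  have haB : (ii.inv ≫ p₁) ≫ A.hom = t' o ρB := by
    rw [Category.assoc, hP.w, ← Category.assoc, ← hρB]
  set aB : T (t' o ρB) ⟶ A := Over.homMk (ii.inv ≫ p₁) haB with haB_def
  set φB : G ⊗ T (t' o ρB) ⟶ H := (G ◁ aB) ≫ υ with hφB_def
  have hφB : HomGrpAbs.IsMult G H φB := isMult_whisker G H aB υ hA.1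
  set eB : Θ M N → B := sysφ G H uG uH eG eH (t' o ρB) (Spec.map (CommRingCat.ofHom ρB) ≫ oG)
    (htG' uG o oG hoG ρB) (Spec.map (CommRingCat.ofHom ρB) ≫ oH) (htG' uH o oH hoH ρB) φB with heB_def
  have heB : CompleteOrthogonalIdempotents eB :=
    sysφ_complete G H uG uH eG eH (t' o ρB) _ (htG' uG o oG hoG ρB) _ (htG' uH o oH hoH ρB) φB hφB
  -- the standard family over `Q`
  set ρQ : R →+* (Θ M N → R) := algebraMap R (Θ M N → R) with hρQ_def
  set eQ : Θ M N → (Θ M N → R) := fun θ => Pi.single θ 1 with heQ_def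
  have heQ : CompleteOrthogonalIdempotents eQ := CompleteOrthogonalIdempotents.single _
  set φQ : G ⊗ T (t' o ρQ) ⟶ H := famOf G H uG uH eG eH (t' o ρQ)
    (Spec.map (CommRingCat.ofHom ρQ) ≫ oG) (htG' uG o oG hoG ρQ)
    (Spec.map (CommRingCat.ofHom ρQ) ≫ oH) (htG' uH o oH hoH ρQ) eQ heQ with hφQ_def
  have hφQ : HomGrpAbs.IsMult G H φQ := isMult_famOf G H uG uH eG eH (t' o ρQ) _
    (htG' uG o oG hoG ρQ) _ (htG' uH o oH hoH ρQ) eQ heQ
  have hsysQ : sysφ G H uG uH eG eH (t' o ρQ) (Spec.map (CommRingCat.ofHom ρQ) ≫ oG)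
      (htG' uG o oG hoG ρQ) (Spec.map (CommRingCat.ofHom ρQ) ≫ oH) (htG' uH o oH hoH ρQ) φQ = eQ :=
    sysφ_famOf G H uG uH eG eH (t' o ρQ) _ (htG' uG o oG hoG ρQ) _ (htG' uH o oH hoH ρQ) eQ heQ
  obtain ⟨cQ, hcQ, -⟩ := hA.2 (T (t' o ρQ)) φQ hφQ
  -- the morphism `Spec Q ⟶ P`
  set c' : Spec (CommRingCat.of (Θ M N → R)) ⟶ P :=
    hP.lift cQ.left (Spec.map (CommRingCat.ofHom ρQ)) (Over.w cQ) with hc'_def
  have hc'1 : c' ≫ p₁ = cQ.left := hP.lift_fst _ _ _
  have hc'2 : c' ≫ p₂ = Spec.map (CommRingCat.ofHom ρQ) := hP.lift_snd _ _ _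
  obtain ⟨ρc, hρc⟩ : ∃ ρc : B →+* (Θ M N → R), Spec.map (CommRingCat.ofHom ρc) = c' ≫ ii.hom :=
    ⟨(Spec.preimage (c' ≫ ii.hom)).hom, Spec.map_preimage _⟩
  have hcomp : ρc.comp ρB = ρQ := by
    have h : Spec.map (CommRingCat.ofHom (ρc.comp ρB)) = Spec.map (CommRingCat.ofHom ρQ) := by
      rw [CommRingCat.ofHom_comp, Spec.map_comp, hρc, hρB, Category.assoc, Iso.hom_inv_id_assoc, hc'2]
    exact congrArg CommRingCat.Hom.hom (Spec.map_injective h)
  -- the ring hom `Q → B`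
  set ψ : (Θ M N → R) →+* B := sysHom ρB eB heB with hψ_def
  have hψρ : ψ.comp ρQ = ρB := RingHom.ext (fun r => sysHom_algebraMap ρB eB heB r)
  have hψe : ∀ θ, ψ (eQ θ) = eB θ := fun θ => sysHom_single ρB eB heB θ
  -- (1) `ρc ∘ ψ = id`
  have hr₁ : Spec.map (CommRingCat.ofHom ρc) ≫ t' o ρB = t' o ρQ := by
    change Spec.map (CommRingCat.ofHom ρc) ≫ Spec.map (CommRingCat.ofHom ρB) ≫ o = _
    rw [← Category.assoc, ← Spec.map_comp, ← CommRingCat.ofHom_comp, hcomp]
  have hr₁G : Spec.map (CommRingCat.ofHom ρc) ≫ Spec.map (CommRingCat.ofHom ρB) ≫ oG =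
      Spec.map (CommRingCat.ofHom ρQ) ≫ oG := by
    rw [← Category.assoc, ← Spec.map_comp, ← CommRingCat.ofHom_comp, hcomp]
  have hr₁H : Spec.map (CommRingCat.ofHom ρc) ≫ Spec.map (CommRingCat.ofHom ρB) ≫ oH =
      Spec.map (CommRingCat.ofHom ρQ) ≫ oH := by
    rw [← Category.assoc, ← Spec.map_comp, ← CommRingCat.ofHom_comp, hcomp]
  have hfam₁ : (G ◁ (Over.homMk (Spec.map (CommRingCat.ofHom ρc)) hr₁ :
      T (t' o ρQ) ⟶ T (t' o ρB))) ≫ φB = φQ := by
    rw [← hcQ, hφB_def, ← Category.assoc, ← MonoidalCategory.whiskerLeft_comp]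
    congr 2
    apply Over.OverMorphism.ext
    change Spec.map (CommRingCat.ofHom ρc) ≫ ii.inv ≫ p₁ = cQ.left
    rw [hρc, Category.assoc, Iso.hom_inv_id_assoc, hc'1]
  have h1 : ∀ θ, ρc (eB θ) = eQ θ := by
    intro θ
    have h := sysφ_baseChange G H uG uH eG eH (t' o ρB) _ (htG' uG o oG hoG ρB) _
      (htG' uH o oH hoH ρB) ρc (t' o ρQ) _ (htG' uG o oG hoG ρQ) _ (htG' uH o oH hoH ρQ)
      hr₁ hr₁G hr₁H φB θ
    rw [hfam₁, hsysQ] at h
    exact h.symm
  have h12 : ρc.comp ψ = RingHom.id _ := by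
    refine RingHom.ext (fun x => ?_)
    rw [RingHom.comp_apply, hψ_def, sysHom_apply, map_sum, RingHom.id_apply]
    conv_rhs => rw [eq_sum_single x]
    apply Finset.sum_congr rfl
    intro θ _
    rw [map_mul, h1, ← RingHom.comp_apply, hcomp]
  -- (2) `Spec.map ψ ≫ c' = ii.inv`
  have hr₂ : Spec.map (CommRingCat.ofHom ψ) ≫ t' o ρQ = t' o ρB := by
    change Spec.map (CommRingCat.ofHom ψ) ≫ Spec.map (CommRingCat.ofHom ρQ) ≫ o = _
    rw [← Category.assoc, ← Spec.map_comp, ← CommRingCat.ofHom_comp, hψρ]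
  have hr₂G : Spec.map (CommRingCat.ofHom ψ) ≫ Spec.map (CommRingCat.ofHom ρQ) ≫ oG =
      Spec.map (CommRingCat.ofHom ρB) ≫ oG := by
    rw [← Category.assoc, ← Spec.map_comp, ← CommRingCat.ofHom_comp, hψρ]
  have hr₂H : Spec.map (CommRingCat.ofHom ψ) ≫ Spec.map (CommRingCat.ofHom ρQ) ≫ oH =
      Spec.map (CommRingCat.ofHom ρB) ≫ oH := by
    rw [← Category.assoc, ← Spec.map_comp, ← CommRingCat.ofHom_comp, hψρ]
  set r₂ : T (t' o ρB) ⟶ T (t' o ρQ) := Over.homMk (Spec.map (CommRingCat.ofHom ψ)) hr₂ with hr₂_def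
  have hfam₂ : (G ◁ r₂) ≫ φQ = φB := by
    apply eq_of_sysφ_eq G H uG uH eG eH (t' o ρB) _ (htG' uG o oG hoG ρB) _
      (htG' uH o oH hoH ρB) _ _ (isMult_whisker G H r₂ φQ hφQ) hφB
    funext θ
    have h := sysφ_baseChange G H uG uH eG eH (t' o ρQ) _ (htG' uG o oG hoG ρQ) _
      (htG' uH o oH hoH ρQ) ψ (t' o ρB) _ (htG' uG o oG hoG ρB) _ (htG' uH o oH hoH ρB)
      hr₂ hr₂G hr₂H φQ θ
    rw [hsysQ, hψe] at h
    exact h
  have hcl : r₂ ≫ cQ = aB := by
    obtain ⟨a₀, -, huniq⟩ := hA.2 (T (t' o ρB)) φB hφB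
    have e1 : r₂ ≫ cQ = a₀ := huniq _ (by
      change (G ◁ (r₂ ≫ cQ)) ≫ υ = φB
      rw [MonoidalCategory.whiskerLeft_comp, Category.assoc, hcQ, hfam₂])
    have e2 : aB = a₀ := huniq _ rfl
    rw [e1, e2]
  have h2 : Spec.map (CommRingCat.ofHom ψ) ≫ c' = ii.inv := by
    apply hP.hom_ext
    · rw [Category.assoc, hc'1]
      exact congrArg (fun f => f.left) hcl
    · rw [Category.assoc, hc'2, ← Spec.map_comp, ← CommRingCat.ofHom_comp, hψρ, hρB]
  refine ⟨⟨ii.hom ≫ Spec.map (CommRingCat.ofHom ψ), c', ?_, ?_⟩, ?_⟩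
  · rw [Category.assoc, h2, Iso.hom_inv_id]
  · rw [← Category.assoc, ← hρc, ← Spec.map_comp, ← CommRingCat.ofHom_comp, h12]
    exact Spec.map_id _
  · change (ii.hom ≫ Spec.map (CommRingCat.ofHom ψ)) ≫ Spec.map (CommRingCat.ofHom ρQ) = p₂
    rw [Category.assoc, ← Spec.map_comp, ← CommRingCat.ofHom_comp, hψρ, hρB, Iso.hom_inv_id_assoc]

include hA hoG hoH eG eH in
/-- the base change of the scheme of homomorphisms to a trivialising affine scheme is finite
étale. -/
theorem finite_etale_of_affine [IsAffineHom A.hom] :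
    IsFinite (pullback.snd A.hom o) ∧ Etale (pullback.snd A.hom o) := by
  haveI : IsAffine (pullback A.hom o) := isAffine_of_isAffineHom (pullback.snd A.hom o)
  obtain ⟨j, hj⟩ := exists_iso_of_isPullback G H uG uH eG eH o oG hoG oH hoH A υ hA
    (B := Γ(pullback A.hom o, ⊤)) (pullback A.hom o).isoSpec (pullback.fst A.hom o)
    (pullback.snd A.hom o) (IsPullback.of_hasPullback A.hom o)
  have hfin : IsFinite (Spec.map (CommRingCat.ofHom (algebraMap R (Θ M N → R)))) := by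
    rw [IsFinite.SpecMap_iff]
    exact RingHom.finite_algebraMap.mpr inferInstance
  have het : Etale (Spec.map (CommRingCat.ofHom (algebraMap R (Θ M N → R)))) := by
    rw [HasRingHomProperty.Spec_iff (P := @Etale)]
    exact RingHom.etale_algebraMap.mpr inferInstance
  rw [← hj]
  exact ⟨(MorphismProperty.cancel_left_of_respectsIso @IsFinite j.hom _).mpr hfin,
    (MorphismProperty.cancel_left_of_respectsIso @Etale j.hom _).mpr het⟩

end main

end Groth.Agent.Lib.Helper58.HomLocal
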