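import Mathlib
import Groth.Prelude.Def_SGA3x
import Groth.Prelude.Def_AutFam
import Groth.Agent.Lib.Helper58.HomLocal
import Groth.Agent.Lib.Helper58.TwoCover
import Groth.Agent.Lib.Helper58.DSFinite
import Groth.Agent.Lib.Helper1.AffineAndDescent

/-!
# The scheme of homomorphisms between finite groups of multiplicative type is finite étale
-/

set_option autoImplicit false

universe u

open CategoryTheory CategoryTheory.Limits AlgebraicGeometry MonoidalCategory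
  CartesianMonoidalCategory MonObj GrpObj

namespace Groth.Agent.Lib.Helper58.HomFinEt

open Groth.Agent.Lib.Helper58

variable {S : Scheme.{u}}

/-- a diagonalisable form of a finite group over a nonempty base has a finite character group. -/
lemma finite_of_iso {U : Scheme.{u}} [Nonempty U] (G : Over S) [GrpObj G] [IsFinite G.hom]
    (u : U ⟶ S) (M : Type) [AddCommGroup M]
    (e : Grp.mk (Red.bc u G) ≅ Grp.mk (Red.DS U M)) : Finite M := by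
  apply DSFinite.finite_of_isFinite_DS (U := U) M
  let e' : Red.bc u G ≅ Red.DS U M := (Grp.forget _).mapIso e
  have hw : (Red.DS U M).hom = e'.inv.left ≫ (Red.bc u G).hom := (Over.w e'.inv).symm
  rw [hw]
  have : IsFinite (Red.bc u G).hom := by
    change IsFinite (pullback.snd G.hom u)
    infer_instance
  infer_instance

theorem finite_etale (G H : Over S) [GrpObj G] [GrpObj H]
    (hG : SGA3x.IsMultTypeFT G) [IsFinite G.hom] (hH : SGA3x.IsMultTypeFT H) [IsFinite H.hom]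
    (A : Over S) (υ : G ⊗ A ⟶ H) (hA : AutFam.RepresentsHom G H A υ) [IsAffineHom A.hom] :
    IsFinite A.hom ∧ Etale A.hom := by
  obtain ⟨S₁, f₁, hfl₁, -, hcov₁, hloc₁⟩ := hG
  obtain ⟨S₂, f₂, hfl₂, -, hcov₂, hloc₂⟩ := hH
  choose 𝒰₁ h𝒰₁ hr₁ using hloc₁
  choose 𝒰₂ h𝒰₂ hr₂ using hloc₂
  have key : ∀ (O : Scheme.{u}) [IsAffine O] (s₁ : S₁) (s₂ : S₂) (o₁ : O ⟶ (𝒰₁ s₁ : Scheme.{u}))
      (o₂ : O ⟶ (𝒰₂ s₂ : Scheme.{u})), o₁ ≫ (𝒰₁ s₁).ι ≫ f₁ = o₂ ≫ (𝒰₂ s₂).ι ≫ f₂ →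
        IsFinite (pullback.snd A.hom (o₁ ≫ (𝒰₁ s₁).ι ≫ f₁)) ∧
          Etale (pullback.snd A.hom (o₁ ≫ (𝒰₁ s₁).ι ≫ f₁)) := by
    intro O _ s₁ s₂ o₁ o₂ heq
    obtain ⟨M, instM, -, ⟨eG⟩⟩ := hr₁ s₁
    obtain ⟨N, instN, -, ⟨eH⟩⟩ := hr₂ s₂
    rcases isEmpty_or_nonempty O with hO | hO
    · haveI : IsIso (pullback.snd A.hom (o₁ ≫ (𝒰₁ s₁).ι ≫ f₁)) := isIso_of_isEmpty _
      exact ⟨inferInstance, inferInstance⟩
    · haveI : Nonempty (𝒰₁ s₁ : Scheme.{u}) := ⟨o₁.base (Classical.arbitrary O)⟩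
      haveI : Nonempty (𝒰₂ s₂ : Scheme.{u}) := ⟨o₂.base (Classical.arbitrary O)⟩
      haveI : Finite M := finite_of_iso G ((𝒰₁ s₁).ι ≫ f₁) M eG
      haveI : Finite N := finite_of_iso H ((𝒰₂ s₂).ι ≫ f₂) N eH
      have hloc := HomLocal.finite_etale_of_affine G H ((𝒰₁ s₁).ι ≫ f₁) ((𝒰₂ s₂).ι ≫ f₂) eG eH
        (R := Γ(O, ⊤)) (O.isoSpec.inv ≫ o₁ ≫ (𝒰₁ s₁).ι ≫ f₁) (O.isoSpec.inv ≫ o₁)
        (by rw [Category.assoc]) (O.isoSpec.inv ≫ o₂) (by rw [Category.assoc, heq]) A υ hA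
      have h1 := TwoCover.snd_comp @IsFinite A.hom _ O.isoSpec.hom hloc.1
      have h2 := TwoCover.snd_comp @Etale A.hom _ O.isoSpec.hom hloc.2
      rw [Iso.hom_inv_id_assoc] at h1 h2
      exact ⟨h1, h2⟩
  haveI := hfl₁
  haveI := hfl₂
  constructor
  · haveI := Groth.Agent.Lib.Helper1.descendsAlong_isFinite_fpqc.{u}
    exact TwoCover.of_two_fpqc @IsFinite A.hom f₁ f₂ hcov₁ hcov₂ 𝒰₁ h𝒰₁ 𝒰₂ h𝒰₂
      (fun O _ s₁ s₂ o₁ o₂ heq => (key O s₁ s₂ o₁ o₂ heq).1)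
  · exact TwoCover.of_two_fpqc @Etale A.hom f₁ f₂ hcov₁ hcov₂ 𝒰₁ h𝒰₁ 𝒰₂ h𝒰₂
      (fun O _ s₁ s₂ o₁ o₂ heq => (key O s₁ s₂ o₁ o₂ heq).2)

end Groth.Agent.Lib.Helper58.HomFinEt
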