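import Mathlib

/-!
# The Weil restriction algebra

For a commutative ring `R`, an `R`-algebra `C` which is free with a finite basis `bas`, and an
arbitrary commutative `R`-algebra `B` we construct an `R`-algebra `W bas B` together with an
`R`-algebra map `univ : B →ₐ[R] W bas B ⊗[R] C` which is universal: for every commutative
`R`-algebra `A`, composing with `univ` gives a bijection
`(W bas B →ₐ[R] A) ≃ (B →ₐ[R] A ⊗[R] C)`.
-/

set_option autoImplicit false

universe u v w

open TensorProduct Module

namespace Groth.Agent.Lib.Helper58.WeilAlg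

section coord

variable {R : Type*} [CommRing R] {C : Type*} [CommRing C] [Algebra R C]
  {ι : Type*} (bas : Basis ι R C)

/-- the `i`-th coordinate of `z : A ⊗ C` in the basis `1 ⊗ bas i` -/
noncomputable def coord (A : Type*) [CommRing A] [Algebra R A] (i : ι) (z : A ⊗[R] C) : A :=
  (Algebra.TensorProduct.basis A bas).repr z i

variable {A : Type*} [CommRing A] [Algebra R A] {A' : Type*} [CommRing A'] [Algebra R A']

@[simp]
lemma coord_tmul (i : ι) (a : A) (c : C) :
    coord bas A i (a ⊗ₜ c) = a * algebraMap R A (bas.repr c i) := by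
  unfold coord
  rw [Algebra.TensorProduct.basis_repr_tmul]
  simp

@[simp]
lemma coord_add (i : ι) (z z' : A ⊗[R] C) :
    coord bas A i (z + z') = coord bas A i z + coord bas A i z' := by
  unfold coord
  simp

@[simp]
lemma coord_sub (i : ι) (z z' : A ⊗[R] C) :
    coord bas A i (z - z') = coord bas A i z - coord bas A i z' := by
  unfold coord
  simp

@[simp]
lemma coord_zero (i : ι) : coord bas A i (0 : A ⊗[R] C) = 0 := by
  unfold coord
  simp

lemma coord_map (ψ : A →ₐ[R] A') (i : ι) (z : A ⊗[R] C) :
    coord bas A' i (Algebra.TensorProduct.map ψ (AlgHom.id R C) z) = ψ (coord bas A i z) := by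
  induction z using TensorProduct.induction_on with
  | zero => simp
  | tmul a c => simp
  | add x y hx hy => simp [hx, hy]

lemma eq_zero_of_coord (z : A ⊗[R] C) (h : ∀ i, coord bas A i z = 0) : z = 0 := by
  apply (Algebra.TensorProduct.basis A bas).repr.injective
  ext i
  simpa [coord] using h i

lemma eq_of_coord (z z' : A ⊗[R] C) (h : ∀ i, coord bas A i z = coord bas A i z') : z = z' := by
  rw [← sub_eq_zero]
  apply eq_zero_of_coord bas
  intro i
  rw [coord_sub, h i, sub_self]

lemma sum_coord [Fintype ι] (z : A ⊗[R] C) : ∑ i, coord bas A i z ⊗ₜ[R] bas i = z := by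
  conv_rhs => rw [← (Algebra.TensorProduct.basis A bas).sum_repr z]
  apply Finset.sum_congr rfl
  intro i _
  rw [Algebra.TensorProduct.basis_repr_symm_apply']
  rfl

lemma coord_sum_tmul [Fintype ι] [DecidableEq ι] (x : ι → A) (i : ι) :
    coord bas A i (∑ j, x j ⊗ₜ[R] bas j) = x i := by
  unfold coord
  rw [map_sum, Finsupp.finsetSum_apply]
  simp only [Algebra.TensorProduct.basis_repr_tmul, Basis.repr_self]
  simp [Finsupp.single_apply]

end coord

section construction

variable {R : Type u} [CommRing R] {C : Type u} [CommRing C] [Algebra R C]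
  {ι : Type u} [Fintype ι] [DecidableEq ι] (bas : Basis ι R C)
  (B : Type u) [CommRing B] [Algebra R B]

/-- the polynomial ring on the symbols "`i`-th coordinate of the image of `b`". -/
abbrev Pol (_bas : Basis ι R C) (B : Type u) [CommRing B] [Algebra R B] : Type u :=
  MvPolynomial (B × ι) R

/-- the generic map on `b` -/
noncomputable def gen (b : B) : Pol bas B ⊗[R] C :=
  ∑ i, (MvPolynomial.X (b, i) : Pol bas B) ⊗ₜ[R] bas i

/-- the relations -/
def rels : Set (Pol bas B) :=
  {p | ∃ (b b' : B) (k : ι), p = coord bas (Pol bas B) k (gen bas B (b + b') - gen bas B b - gen bas B b')} ∪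
  {p | ∃ (b b' : B) (k : ι), p = coord bas (Pol bas B) k (gen bas B (b * b') - gen bas B b * gen bas B b')} ∪
  {p | ∃ (r : R) (k : ι), p = coord bas (Pol bas B) k
      (gen bas B (algebraMap R B r) - algebraMap R (Pol bas B ⊗[R] C) r)}

/-- the Weil restriction algebra -/
abbrev W : Type u := Pol bas B ⧸ Ideal.span (rels bas B)

/-- the quotient map -/
noncomputable abbrev π : Pol bas B →ₐ[R] W bas B := Ideal.Quotient.mkₐ R (Ideal.span (rels bas B))

lemma π_rels (p : Pol bas B) (hp : p ∈ rels bas B) : π bas B p = 0 := by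
  change Ideal.Quotient.mk _ p = 0
  rw [Ideal.Quotient.eq_zero_iff_mem]
  exact Ideal.subset_span hp

/-- the universal map as a function -/
noncomputable def univFun (b : B) : W bas B ⊗[R] C :=
  Algebra.TensorProduct.map (π bas B) (AlgHom.id R C) (gen bas B b)

lemma univFun_eq (b : B) :
    univFun bas B b = ∑ i, (π bas B (MvPolynomial.X (b, i))) ⊗ₜ[R] bas i := by
  unfold univFun gen
  rw [map_sum]
  apply Finset.sum_congr rfl
  intro i _
  rw [Algebra.TensorProduct.map_tmul]
  rfl

lemma univFun_add (b b' : B) : univFun bas B (b + b') = univFun bas B b + univFun bas B b' := by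
  rw [← sub_eq_zero, ← sub_sub]
  apply eq_zero_of_coord bas
  intro k
  unfold univFun
  rw [← map_sub, ← map_sub, coord_map]
  apply π_rels
  exact Or.inl (Or.inl ⟨b, b', k, rfl⟩)

lemma univFun_mul (b b' : B) : univFun bas B (b * b') = univFun bas B b * univFun bas B b' := by
  rw [← sub_eq_zero]
  apply eq_zero_of_coord bas
  intro k
  unfold univFun
  rw [← map_mul, ← map_sub, coord_map]
  apply π_rels
  exact Or.inl (Or.inr ⟨b, b', k, rfl⟩)

lemma univFun_algebraMap (r : R) :
    univFun bas B (algebraMap R B r) = (algebraMap R (W bas B) r) ⊗ₜ[R] (1 : C) := by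
  have h1 : (algebraMap R (W bas B) r) ⊗ₜ[R] (1 : C) =
      Algebra.TensorProduct.map (π bas B) (AlgHom.id R C)
      ((algebraMap R (Pol bas B) r) ⊗ₜ[R] (1 : C)) := by
    rw [Algebra.TensorProduct.map_tmul]
    simp
  rw [← sub_eq_zero]
  apply eq_zero_of_coord bas
  intro k
  unfold univFun
  rw [h1, ← map_sub, coord_map]
  apply π_rels
  refine Or.inr ⟨r, k, ?_⟩
  rw [Algebra.TensorProduct.algebraMap_apply]

/-- the universal algebra map `B → W ⊗ C`. -/
noncomputable def univ : B →ₐ[R] W bas B ⊗[R] C where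
  toFun := univFun bas B
  map_one' := by
    have := univFun_algebraMap bas B 1
    simpa [Algebra.TensorProduct.one_def] using this
  map_mul' := univFun_mul bas B
  map_zero' := by
    have := univFun_algebraMap bas B 0
    simpa using this
  map_add' := univFun_add bas B
  commutes' := fun r => by
    rw [univFun_algebraMap, Algebra.TensorProduct.algebraMap_apply]

@[simp]
lemma univ_apply (b : B) : univ bas B b = univFun bas B b := rfl

variable {B}
variable {A : Type u} [CommRing A] [Algebra R A]

/-- the lift on the polynomial ring -/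
noncomputable def liftPol (φ : B →ₐ[R] A ⊗[R] C) : Pol bas B →ₐ[R] A :=
  MvPolynomial.aeval (fun p : B × ι => coord bas A p.2 (φ p.1))

lemma map_liftPol_gen (φ : B →ₐ[R] A ⊗[R] C) (b : B) :
    Algebra.TensorProduct.map (liftPol bas φ) (AlgHom.id R C) (gen bas B b) = φ b := by
  unfold gen
  rw [map_sum]
  conv_rhs => rw [← sum_coord bas (φ b)]
  apply Finset.sum_congr rfl
  intro i _
  rw [Algebra.TensorProduct.map_tmul]
  unfold liftPol
  rw [MvPolynomial.aeval_X]
  rfl

lemma liftPol_rels (φ : B →ₐ[R] A ⊗[R] C) (p : Pol bas B) (hp : p ∈ rels bas B) :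
    liftPol bas φ p = 0 := by
  rcases hp with (⟨b, b', k, rfl⟩ | ⟨b, b', k, rfl⟩) | ⟨r, k, rfl⟩
  · rw [← coord_map, map_sub, map_sub, map_liftPol_gen, map_liftPol_gen, map_liftPol_gen, map_add]
    simp
  · rw [← coord_map, map_sub, map_mul, map_liftPol_gen, map_liftPol_gen, map_liftPol_gen, map_mul]
    simp
  · rw [← coord_map, map_sub, map_liftPol_gen, AlgHom.commutes, AlgHom.commutes]
    simp

/-- the lift of an algebra map `B → A ⊗ C` to `W → A`. -/
noncomputable def lift (φ : B →ₐ[R] A ⊗[R] C) : W bas B →ₐ[R] A :=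
  Ideal.Quotient.liftₐ (Ideal.span (rels bas B)) (liftPol bas φ) (by
    intro a ha
    have : Ideal.span (rels bas B) ≤ RingHom.ker (liftPol bas φ).toRingHom := by
      rw [Ideal.span_le]
      intro p hp
      exact liftPol_rels bas φ p hp
    exact this ha)

lemma lift_comp_π (φ : B →ₐ[R] A ⊗[R] C) : (lift bas φ).comp (π bas B) = liftPol bas φ := by
  ext p
  rfl

lemma map_lift_univ (φ : B →ₐ[R] A ⊗[R] C) (b : B) :
    Algebra.TensorProduct.map (lift bas φ) (AlgHom.id R C) (univ bas B b) = φ b := by
  rw [univ_apply]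
  unfold univFun
  rw [← map_liftPol_gen bas φ b, ← lift_comp_π]
  rw [← AlgHom.comp_apply]
  congr 1
  ext <;> simp

/-- the composite `(ψ ⊗ id) ∘ univ` -/
noncomputable def toHom (ψ : W bas B →ₐ[R] A) : B →ₐ[R] A ⊗[R] C :=
  (Algebra.TensorProduct.map ψ (AlgHom.id R C)).comp (univ bas B)

lemma toHom_apply (ψ : W bas B →ₐ[R] A) (b : B) :
    toHom bas ψ b = Algebra.TensorProduct.map ψ (AlgHom.id R C) (univ bas B b) := rfl

lemma toHom_lift (φ : B →ₐ[R] A ⊗[R] C) : toHom bas (lift bas φ) = φ := by
  ext b
  exact map_lift_univ bas φ b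

lemma coord_toHom (ψ : W bas B →ₐ[R] A) (b : B) (i : ι) :
    coord bas A i (toHom bas ψ b) = ψ (π bas B (MvPolynomial.X (b, i))) := by
  rw [toHom_apply, univ_apply, univFun_eq, map_sum]
  simp only [Algebra.TensorProduct.map_tmul, AlgHom.coe_id, id_eq]
  exact coord_sum_tmul bas (fun j => ψ (π bas B (MvPolynomial.X (b, j)))) i

lemma toHom_injective : Function.Injective (toHom bas : (W bas B →ₐ[R] A) → (B →ₐ[R] A ⊗[R] C)) := by
  intro ψ ψ' h
  have h1 : ψ.comp (π bas B) = ψ'.comp (π bas B) := by
    apply MvPolynomial.algHom_ext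
    rintro ⟨b, i⟩
    change ψ (π bas B (MvPolynomial.X (b, i))) = ψ' (π bas B (MvPolynomial.X (b, i)))
    rw [← coord_toHom, ← coord_toHom, h]
  apply AlgHom.ext
  intro w
  obtain ⟨p, rfl⟩ := Ideal.Quotient.mkₐ_surjective R (Ideal.span (rels bas B)) w
  exact congrArg (fun f => f p) h1

lemma lift_toHom (ψ : W bas B →ₐ[R] A) : lift bas (toHom bas ψ) = ψ :=
  toHom_injective bas (toHom_lift bas _)

/-- The universal property of the Weil restriction algebra. -/
noncomputable def equiv : (W bas B →ₐ[R] A) ≃ (B →ₐ[R] A ⊗[R] C) where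
  toFun := toHom bas
  invFun := lift bas
  left_inv := lift_toHom bas
  right_inv := toHom_lift bas

/-- naturality of `toHom` in `A`. -/
lemma toHom_comp {A' : Type u} [CommRing A'] [Algebra R A'] (ψ : W bas B →ₐ[R] A)
    (θ : A →ₐ[R] A') :
    toHom bas (θ.comp ψ) = (Algebra.TensorProduct.map θ (AlgHom.id R C)).comp (toHom bas ψ) := by
  have h : Algebra.TensorProduct.map (θ.comp ψ) (AlgHom.id R C) =
      (Algebra.TensorProduct.map θ (AlgHom.id R C)).comp
        (Algebra.TensorProduct.map ψ (AlgHom.id R C)) := by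
    ext <;> simp
  ext b
  rw [toHom_apply, AlgHom.comp_apply, toHom_apply, h, AlgHom.comp_apply]

end construction

end Groth.Agent.Lib.Helper58.WeilAlg
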