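import Mathlib
import Groth.Prelude.Def_Flatn

/-!
# Representability of `Flatn.morS g f` can be checked on affine test schemes

For `ev ∈ morS g f (W)`, the map `pull ev T : (T ⟶ W) → morS g f (T)` is bijective for all `T`
as soon as it is bijective for all `T` with `T.left` affine.
-/

set_option autoImplicit false

universe u

open CategoryTheory CategoryTheory.Limits AlgebraicGeometry Opposite

namespace Groth.Agent.Lib.Helper58.WeilLocal

variable {Z X S : Scheme.{u}} (g : Z ⟶ S) (f : X ⟶ S)

/-- pull back a (universal) element along `φ`. -/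
noncomputable def pull {W : Over S} (ev : (Flatn.morS g f).obj (op W)) (T : Over S) (φ : T ⟶ W) :
    (Flatn.morS g f).obj (op T) :=
  (Flatn.morS g f).map φ.op ev

lemma pull_comp {W : Over S} (ev : (Flatn.morS g f).obj (op W)) {T T' : Over S} (ψ : T' ⟶ T)
    (φ : T ⟶ W) :
    pull g f ev T' (ψ ≫ φ) = (Flatn.morS g f).map ψ.op (pull g f ev T φ) := by
  unfold pull
  rw [op_comp, Functor.map_comp]
  rfl

/-- the restriction of `T` to a member of an open cover. -/
noncomputable abbrev res (T : Over S) (𝒰 : T.left.OpenCover) (i : 𝒰.I₀) : Over S :=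
  Over.mk (𝒰.f i ≫ T.hom)

/-- the inclusion of the restriction. -/
noncomputable abbrev resι (T : Over S) (𝒰 : T.left.OpenCover) (i : 𝒰.I₀) : res T 𝒰 i ⟶ T :=
  Over.homMk (𝒰.f i) rfl

lemma openCoverOfLeft_f (T : Over S) (𝒰 : T.left.OpenCover) (i : 𝒰.I₀) :
    (Scheme.Pullback.openCoverOfLeft 𝒰 T.hom g).f i =
      ((Over.pullback g).map (resι T 𝒰 i)).left := by
  apply pullback.hom_ext
  · simp only [Scheme.Pullback.openCoverOfLeft, Over.pullback_map_left]
    erw [pullback.lift_fst]
  · simp only [Scheme.Pullback.openCoverOfLeft, Over.pullback_map_left]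
    erw [pullback.lift_snd]

/-- `morS g f` is separated for the Zariski topology. -/
lemma morS_ext (T : Over S) (𝒰 : T.left.OpenCover) (a b : (Flatn.morS g f).obj (op T))
    (h : ∀ i, (Flatn.morS g f).map (resι T 𝒰 i).op a = (Flatn.morS g f).map (resι T 𝒰 i).op b) :
    a = b := by
  change ((Over.map g).obj ((Over.pullback g).obj T) ⟶ Over.mk f) at a b
  apply Over.OverMorphism.ext
  refine (Scheme.Pullback.openCoverOfLeft 𝒰 T.hom g).hom_ext _ _ (fun i => ?_)
  rw [openCoverOfLeft_f]
  have := congrArg (fun m : (Over.map g).obj ((Over.pullback g).obj (res T 𝒰 i)) ⟶ Over.mk f =>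
    m.left) (h i)
  exact this

theorem injective_of_affine {W : Over S} (ev : (Flatn.morS g f).obj (op W))
    (H : ∀ T : Over S, IsAffine T.left → Function.Injective (pull g f ev T)) (T : Over S) :
    Function.Injective (pull g f ev T) := by
  intro φ φ' h
  apply Over.OverMorphism.ext
  refine T.left.affineCover.hom_ext _ _ (fun i => ?_)
  have h1 : resι T T.left.affineCover i ≫ φ = resι T T.left.affineCover i ≫ φ' := by
    apply H (res T T.left.affineCover i)
      (inferInstanceAs (IsAffine (T.left.affineCover.X i)))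
    rw [pull_comp, pull_comp, h]
  exact congrArg (fun m => m.left) h1

theorem bijective_of_affine {W : Over S} (ev : (Flatn.morS g f).obj (op W))
    (H : ∀ T : Over S, IsAffine T.left → Function.Bijective (pull g f ev T)) (T : Over S) :
    Function.Bijective (pull g f ev T) := by
  have hinj : ∀ T : Over S, Function.Injective (pull g f ev T) :=
    injective_of_affine g f ev (fun T hT => (H T hT).1)
  refine ⟨hinj T, ?_⟩
  intro h
  let 𝒰 := T.left.affineCover
  have hex : ∀ i, ∃ φi : res T 𝒰 i ⟶ W,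
      pull g f ev (res T 𝒰 i) φi = (Flatn.morS g f).map (resι T 𝒰 i).op h := fun i =>
    (H (res T 𝒰 i) (inferInstanceAs (IsAffine (𝒰.X i)))).2 _
  choose φi hφi using hex
  have hcompat : ∀ i j, pullback.fst (𝒰.f i) (𝒰.f j) ≫ (φi i).left =
      pullback.snd (𝒰.f i) (𝒰.f j) ≫ (φi j).left := by
    intro i j
    let Tij : Over S := Over.mk (pullback.fst (𝒰.f i) (𝒰.f j) ≫ 𝒰.f i ≫ T.hom)
    let p₁ : Tij ⟶ res T 𝒰 i := Over.homMk (pullback.fst (𝒰.f i) (𝒰.f j)) rfl
    let p₂ : Tij ⟶ res T 𝒰 j := Over.homMk (pullback.snd (𝒰.f i) (𝒰.f j)) (by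
      change pullback.snd (𝒰.f i) (𝒰.f j) ≫ 𝒰.f j ≫ T.hom = pullback.fst (𝒰.f i) (𝒰.f j) ≫ 𝒰.f i ≫ T.hom
      rw [pullback.condition_assoc])
    have hp : p₁ ≫ resι T 𝒰 i = p₂ ≫ resι T 𝒰 j := by
      apply Over.OverMorphism.ext
      exact pullback.condition
    have h1 : p₁ ≫ φi i = p₂ ≫ φi j := by
      apply hinj Tij
      rw [pull_comp, pull_comp, hφi, hφi]
      change ((Flatn.morS g f).map (resι T 𝒰 i).op ≫ (Flatn.morS g f).map p₁.op) h =
        ((Flatn.morS g f).map (resι T 𝒰 j).op ≫ (Flatn.morS g f).map p₂.op) h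
      rw [← Functor.map_comp, ← Functor.map_comp, ← op_comp, ← op_comp, hp]
    exact congrArg (fun m => m.left) h1
  let φl : T.left ⟶ W.left := 𝒰.glueMorphisms (fun i => (φi i).left) hcompat
  have hφl : ∀ i, 𝒰.f i ≫ φl = (φi i).left := fun i => 𝒰.ι_glueMorphisms _ hcompat i
  have hw : φl ≫ W.hom = T.hom := by
    refine 𝒰.hom_ext _ _ (fun i => ?_)
    rw [← Category.assoc, hφl]
    exact Over.w (φi i)
  let φ : T ⟶ W := Over.homMk φl hw
  have hφ : ∀ i, resι T 𝒰 i ≫ φ = φi i := by
    intro i
    apply Over.OverMorphism.ext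
    exact hφl i
  refine ⟨φ, ?_⟩
  apply morS_ext g f T 𝒰
  intro i
  rw [← pull_comp, hφ, hφi]

/-- The representability statement. -/
noncomputable def representableBy {W : Over S} (ev : (Flatn.morS g f).obj (op W))
    (H : ∀ T : Over S, Function.Bijective (pull g f ev T)) :
    (Flatn.morS g f).RepresentableBy W where
  homEquiv {T} := Equiv.ofBijective (pull g f ev T) (H T)
  homEquiv_comp ψ φ := pull_comp g f ev ψ φ

/-- conversely -/
lemma pull_homEquiv {W : Over S} (e : (Flatn.morS g f).RepresentableBy W) (T : Over S)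
    (φ : T ⟶ W) : pull g f (e.homEquiv (𝟙 W)) T φ = e.homEquiv φ := by
  unfold pull
  rw [← e.homEquiv_comp, Category.comp_id]

end Groth.Agent.Lib.Helper58.WeilLocal
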