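import Mathlib
import Groth.Prelude.Def_Flatn
import Groth.Agent.Lib.Helper58.WeilAlg
import Groth.Agent.Lib.Helper58.WeilLocal

/-!
# `Mor_S(Z, X)` for literal spectra, tested on literal spectra

`S = Spec R`, `Z = Spec C` with `C` finite free over `R`, `X = Spec B`:
the functor `morS` is represented by `Spec (W bas B)` on test objects `Spec A`.
-/

set_option autoImplicit false

universe u

open CategoryTheory CategoryTheory.Limits AlgebraicGeometry Opposite TensorProduct Module

namespace Groth.Agent.Lib.Helper58.WeilSpec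

open Groth.Agent.Lib.Helper58

variable (R : Type u) [CommRing R]

/-- the test object `Spec A` over `Spec R`. -/
noncomputable abbrev TA (A : Type u) [CommRing A] [Algebra R A] :
    Over (Spec (CommRingCat.of R)) :=
  Over.mk (Spec.map (CommRingCat.ofHom (algebraMap R A)))

variable (C B : Type u) [CommRing C] [CommRing B] [Algebra R C] [Algebra R B]

/-- `Spec C ⟶ Spec R` -/
noncomputable abbrev gL : Spec (CommRingCat.of C) ⟶ Spec (CommRingCat.of R) :=
  Spec.map (CommRingCat.ofHom (algebraMap R C))

/-- `Spec B ⟶ Spec R` -/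
noncomputable abbrev fL : Spec (CommRingCat.of B) ⟶ Spec (CommRingCat.of R) :=
  Spec.map (CommRingCat.ofHom (algebraMap R B))

variable {R C B}
variable {A : Type u} [CommRing A] [Algebra R A]

/-- morphisms `Spec A ⟶ Spec A'` over `Spec R` from algebra maps. -/
noncomputable def ofAlgHom {A' : Type u} [CommRing A'] [Algebra R A'] (ψ : A' →ₐ[R] A) :
    TA R A ⟶ TA R A' :=
  Over.homMk (Spec.map (CommRingCat.ofHom ψ.toRingHom)) (by
    change Spec.map (CommRingCat.ofHom ψ.toRingHom) ≫
      Spec.map (CommRingCat.ofHom (algebraMap R A')) = Spec.map (CommRingCat.ofHom (algebraMap R A))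
    rw [← Spec.map_comp]
    congr 1
    ext r
    exact ψ.commutes r)

/-- algebra maps from morphisms over `Spec R` -/
noncomputable def toAlgHom {A' : Type u} [CommRing A'] [Algebra R A'] (φ : TA R A ⟶ TA R A') :
    A' →ₐ[R] A where
  toRingHom := (Spec.preimage φ.left).hom
  commutes' := by
    intro r
    have h1 : Spec.map (CommRingCat.ofHom (algebraMap R A') ≫ Spec.preimage φ.left) =
        Spec.map (CommRingCat.ofHom (algebraMap R A)) := by
      rw [Spec.map_comp, Spec.map_preimage]
      exact Over.w φ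
    have h2 := Spec.map_injective h1
    exact congrArg (fun m => m.hom r) h2

lemma ofAlgHom_toAlgHom {A' : Type u} [CommRing A'] [Algebra R A'] (φ : TA R A ⟶ TA R A') :
    ofAlgHom (toAlgHom φ) = φ := by
  apply Over.OverMorphism.ext
  change Spec.map (CommRingCat.ofHom (Spec.preimage φ.left).hom) = φ.left
  rw [CommRingCat.ofHom_hom, Spec.map_preimage]

/-- elements of `morS` over `Spec A` from algebra maps `B → A ⊗ C`. -/
noncomputable def ofAlgHom₂ (β : B →ₐ[R] A ⊗[R] C) :
    (Flatn.morS (gL R C) (fL R B)).obj (op (TA R A)) :=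
  Over.homMk (U := (Over.map (gL R C)).obj ((Over.pullback (gL R C)).obj (TA R A)))
    (V := Over.mk (fL R B))
    ((pullbackSpecIso R A C).hom ≫ Spec.map (CommRingCat.ofHom β.toRingHom)) (by
    change ((pullbackSpecIso R A C).hom ≫ Spec.map (CommRingCat.ofHom β.toRingHom)) ≫
      Spec.map (CommRingCat.ofHom (algebraMap R B)) =
      pullback.snd (Spec.map (CommRingCat.ofHom (algebraMap R A))) (gL R C) ≫ gL R C
    rw [Category.assoc, ← Spec.map_comp, ← pullbackSpecIso_hom_snd, Category.assoc,
      ← Spec.map_comp]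
    congr 2
    ext r
    change β (algebraMap R B r) = (1 : A) ⊗ₜ[R] (algebraMap R C r)
    rw [β.commutes, Algebra.TensorProduct.algebraMap_apply, Algebra.algebraMap_eq_smul_one,
      Algebra.algebraMap_eq_smul_one, TensorProduct.smul_tmul])

lemma ofAlgHom₂_left (β : B →ₐ[R] A ⊗[R] C) :
    (ofAlgHom₂ β : (Over.map (gL R C)).obj ((Over.pullback (gL R C)).obj (TA R A)) ⟶
      Over.mk (fL R B)).left =
      (pullbackSpecIso R A C).hom ≫ Spec.map (CommRingCat.ofHom β.toRingHom) := rfl

/-- algebra maps `B → A ⊗ C` from elements of `morS` over `Spec A`. -/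
noncomputable def toAlgHom₂ (h : (Flatn.morS (gL R C) (fL R B)).obj (op (TA R A))) :
    B →ₐ[R] A ⊗[R] C where
  toRingHom := (Spec.preimage ((pullbackSpecIso R A C).inv ≫
    (h : (Over.map (gL R C)).obj ((Over.pullback (gL R C)).obj (TA R A)) ⟶
      Over.mk (fL R B)).left)).hom
  commutes' := by
    intro r
    have hw : (h : (Over.map (gL R C)).obj ((Over.pullback (gL R C)).obj (TA R A)) ⟶
      Over.mk (fL R B)).left ≫ fL R B =
      pullback.snd (Spec.map (CommRingCat.ofHom (algebraMap R A))) (gL R C) ≫ gL R C :=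
      Over.w (h : (Over.map (gL R C)).obj ((Over.pullback (gL R C)).obj (TA R A)) ⟶
        Over.mk (fL R B))
    have h1 : Spec.map (CommRingCat.ofHom (algebraMap R B) ≫ Spec.preimage
        ((pullbackSpecIso R A C).inv ≫
        (h : (Over.map (gL R C)).obj ((Over.pullback (gL R C)).obj (TA R A)) ⟶
          Over.mk (fL R B)).left)) =
        Spec.map (CommRingCat.ofHom (algebraMap R (A ⊗[R] C))) := by
      rw [Spec.map_comp, Spec.map_preimage, Category.assoc]
      erw [hw]
      rw [pullbackSpecIso_inv_snd_assoc, ← Spec.map_comp]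
      congr 1
      ext r
      change (1 : A) ⊗ₜ[R] (algebraMap R C r) = algebraMap R (A ⊗[R] C) r
      rw [Algebra.TensorProduct.algebraMap_apply, Algebra.algebraMap_eq_smul_one,
        Algebra.algebraMap_eq_smul_one, TensorProduct.smul_tmul]
    have h2 := Spec.map_injective h1
    exact congrArg (fun m => m.hom r) h2

lemma ofAlgHom₂_toAlgHom₂ (h : (Flatn.morS (gL R C) (fL R B)).obj (op (TA R A))) :
    ofAlgHom₂ (toAlgHom₂ h) = h := by
  apply Over.OverMorphism.ext
  rw [ofAlgHom₂_left]
  change (pullbackSpecIso R A C).hom ≫ Spec.map (CommRingCat.ofHom (Spec.preimage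
    ((pullbackSpecIso R A C).inv ≫ _)).hom) = _
  rw [CommRingCat.ofHom_hom, Spec.map_preimage, Iso.hom_inv_id_assoc]

lemma ofAlgHom₂_injective :
    Function.Injective (ofAlgHom₂ : (B →ₐ[R] A ⊗[R] C) → _) := by
  intro β β' h
  have h1 := congrArg (fun m : (Over.map (gL R C)).obj ((Over.pullback (gL R C)).obj (TA R A)) ⟶
      Over.mk (fL R B) => m.left) h
  simp only [ofAlgHom₂_left] at h1
  rw [cancel_epi] at h1
  have h2 := Spec.map_injective h1
  apply AlgHom.ext
  intro b
  exact congrArg (fun m => m.hom b) h2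

section universal

variable {ι : Type u} [Fintype ι] [DecidableEq ι] (bas : Basis ι R C) (B)

/-- the representing object `Spec (W bas B)` over `Spec R`. -/
noncomputable abbrev WL : Over (Spec (CommRingCat.of R)) := TA R (WeilAlg.W bas B)

/-- the universal element. -/
noncomputable def evL : (Flatn.morS (gL R C) (fL R B)).obj (op (WL B bas)) :=
  ofAlgHom₂ (WeilAlg.univ bas B)

variable {B}

lemma pull_ofAlgHom (ψ : WeilAlg.W bas B →ₐ[R] A) :
    WeilLocal.pull (gL R C) (fL R B) (evL B bas) (TA R A) (ofAlgHom ψ) =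
      ofAlgHom₂ (WeilAlg.toHom bas ψ) := by
  apply Over.OverMorphism.ext
  rw [ofAlgHom₂_left]
  unfold WeilLocal.pull
  rw [Flatn.morS_map]
  change ((Over.pullback (gL R C)).map (ofAlgHom ψ)).left ≫
    ((pullbackSpecIso R (WeilAlg.W bas B) C).hom ≫
      Spec.map (CommRingCat.ofHom (WeilAlg.univ bas B).toRingHom)) = _
  have key : ((Over.pullback (gL R C)).map (ofAlgHom ψ)).left ≫
      (pullbackSpecIso R (WeilAlg.W bas B) C).hom = (pullbackSpecIso R A C).hom ≫
      Spec.map (CommRingCat.ofHom
        (Algebra.TensorProduct.map ψ (AlgHom.id R C)).toRingHom) := by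
    rw [← cancel_mono (pullbackSpecIso R (WeilAlg.W bas B) C).inv, Category.assoc,
      Iso.hom_inv_id, Category.comp_id, Category.assoc]
    apply pullback.hom_ext
    · simp only [Over.pullback_map_left]
      erw [pullback.lift_fst]
      rw [Category.assoc, Category.assoc]
      erw [pullbackSpecIso_inv_fst]
      rw [← Spec.map_comp]
      have hl : pullback.fst (TA R A).hom (gL R C) = (pullbackSpecIso R A C).hom ≫
          Spec.map (CommRingCat.ofHom Algebra.TensorProduct.includeLeftRingHom) :=
        (pullbackSpecIso_hom_fst R A C).symm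
      rw [hl, Category.assoc]
      change _ ≫ Spec.map _ ≫ Spec.map (CommRingCat.ofHom ψ.toRingHom) = _
      rw [← Spec.map_comp]
      congr 2
    · simp only [Over.pullback_map_left]
      erw [pullback.lift_snd]
      rw [Category.assoc, Category.assoc]
      erw [pullbackSpecIso_inv_snd]
      rw [← Spec.map_comp]
      have hl : pullback.snd (TA R A).hom (gL R C) = (pullbackSpecIso R A C).hom ≫
          Spec.map (CommRingCat.ofHom (R := C) (S := A ⊗[R] C)
            (RingHomClass.toRingHom Algebra.TensorProduct.includeRight)) :=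
        (pullbackSpecIso_hom_snd R A C).symm
      rw [hl]
      congr 2
      ext c
      change (1 : A) ⊗ₜ[R] c = Algebra.TensorProduct.map ψ (AlgHom.id R C) (1 ⊗ₜ c)
      simp
  rw [← Category.assoc, key, Category.assoc, ← Spec.map_comp]
  rfl

theorem bijective_pull :
    Function.Bijective (WeilLocal.pull (gL R C) (fL R B) (evL B bas) (TA R A)) := by
  constructor
  · intro φ φ' h
    rw [← ofAlgHom_toAlgHom φ, ← ofAlgHom_toAlgHom φ'] at h ⊢
    rw [pull_ofAlgHom, pull_ofAlgHom] at h
    rw [WeilAlg.toHom_injective bas (ofAlgHom₂_injective h)]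
  · intro h
    refine ⟨ofAlgHom (WeilAlg.lift bas (toAlgHom₂ h)), ?_⟩
    rw [pull_ofAlgHom, WeilAlg.toHom_lift, ofAlgHom₂_toAlgHom₂]

end universal

end Groth.Agent.Lib.Helper58.WeilSpec
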