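import Mathlib
import Groth.Prelude.Def_Flatn
import Groth.Agent.Lib.Helper58.WeilAlg
import Groth.Agent.Lib.Helper58.WeilLocal
import Groth.Agent.Lib.Helper58.WeilSpec
import Groth.Agent.S17079

/-!
# `Mor_S(Z, X)` is representable by an affine scheme for `S`, `Z`, `X` affine, `Z` finite free
-/

set_option autoImplicit false

universe u

open CategoryTheory CategoryTheory.Limits AlgebraicGeometry Opposite TensorProduct Module

namespace Groth.Agent.Lib.Helper58.WeilAffine

open Groth.Agent.Lib.Helper58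

section iso

variable {Z X S : Scheme.{u}} (g : Z ⟶ S) (f : X ⟶ S)

/-- bijectivity of `pull` is invariant under isomorphisms of the test object. -/
lemma bijective_pull_of_iso {W : Over S} (ev : (Flatn.morS g f).obj (op W)) {T T' : Over S}
    (e : T' ≅ T) (h : Function.Bijective (WeilLocal.pull g f ev T')) :
    Function.Bijective (WeilLocal.pull g f ev T) := by
  have hinv : ∀ x : (Flatn.morS g f).obj (op T),
      (Flatn.morS g f).map e.inv.op ((Flatn.morS g f).map e.hom.op x) = x := by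
    intro x
    rw [← Functor.map_comp_apply, ← op_comp, e.inv_hom_id, op_id,
      Functor.map_id_apply]
  constructor
  · intro φ φ' hφ
    have h1 : WeilLocal.pull g f ev T' (e.hom ≫ φ) = WeilLocal.pull g f ev T' (e.hom ≫ φ') := by
      rw [WeilLocal.pull_comp, WeilLocal.pull_comp, hφ]
    have h2 := h.1 h1
    exact (cancel_epi e.hom).mp h2
  · intro x
    obtain ⟨φ', hφ'⟩ := h.2 ((Flatn.morS g f).map e.hom.op x)
    refine ⟨e.inv ≫ φ', ?_⟩
    rw [WeilLocal.pull_comp, hφ', hinv]

end iso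

section literal

variable {R C B : Type u} [CommRing R] [CommRing C] [CommRing B] [Algebra R C] [Algebra R B]
  {ι : Type u} [Fintype ι] [DecidableEq ι] (bas : Basis ι R C)

/-- an affine scheme over `Spec R` is isomorphic to a literal test object. -/
lemma exists_iso_TA (T : Over (Spec (CommRingCat.of R))) [IsAffine T.left] :
    ∃ (A : Type u) (_ : CommRing A) (_ : Algebra R A), Nonempty (WeilSpec.TA R A ≅ T) := by
  let a : R →+* Γ(T.left, ⊤) := ((Scheme.ΓSpecIso (CommRingCat.of R)).inv ≫ T.hom.appTop).hom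
  letI : Algebra R Γ(T.left, ⊤) := a.toAlgebra
  refine ⟨Γ(T.left, ⊤), inferInstance, inferInstance, ⟨(Over.isoMk T.left.isoSpec ?_).symm⟩⟩
  change T.left.isoSpec.hom ≫ Spec.map (CommRingCat.ofHom a) = T.hom
  have ha : CommRingCat.ofHom a = (Scheme.ΓSpecIso (CommRingCat.of R)).inv ≫ T.hom.appTop := rfl
  rw [ha, Spec.map_comp, Scheme.isoSpec_hom_naturality_assoc, Scheme.isoSpec_Spec_hom,
    ← Spec.map_comp, Iso.inv_hom_id, Spec.map_id, Category.comp_id]

/-- the literal case. -/
theorem bijective_pull_literal (T : Over (Spec (CommRingCat.of R))) :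
    Function.Bijective (WeilLocal.pull (WeilSpec.gL R C) (WeilSpec.fL R B) (WeilSpec.evL B bas) T) := by
  apply WeilLocal.bijective_of_affine
  intro T hT
  obtain ⟨A, _, _, ⟨e⟩⟩ := exists_iso_TA (R := R) T
  exact bijective_pull_of_iso _ _ _ e (WeilSpec.bijective_pull bas)

/-- representability in the literal case. -/
noncomputable def representableBy_literal :
    (Flatn.morS (WeilSpec.gL R C) (WeilSpec.fL R B)).RepresentableBy (WeilSpec.WL B bas) :=
  WeilLocal.representableBy _ _ (WeilSpec.evL B bas) (bijective_pull_literal bas)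

end literal

section transport

variable {Z Z' X X' S : Scheme.{u}} (g : Z ⟶ S) (f : X ⟶ S) (g' : Z' ⟶ S) (f' : X' ⟶ S)
  (eZ : Z ≅ Z') (eX : X ≅ X') (hg : eZ.hom ≫ g' = g) (hf : eX.hom ≫ f' = f)

/-- the comparison map `T ×_S Z ⟶ T ×_S Z'`. -/
noncomputable def pbMap (T : Over S) : pullback T.hom g ⟶ pullback T.hom g' :=
  pullback.map T.hom g T.hom g' (𝟙 _) eZ.hom (𝟙 _)
    (by rw [Category.comp_id, Category.id_comp]) (by rw [Category.comp_id, hg])

instance (T : Over S) : IsIso (pbMap g g' eZ hg T) := by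
  unfold pbMap
  infer_instance

lemma pbMap_fst (T : Over S) :
    pbMap g g' eZ hg T ≫ pullback.fst T.hom g' = pullback.fst T.hom g := by
  unfold pbMap
  erw [pullback.lift_fst]
  rw [Category.comp_id]

lemma pbMap_snd (T : Over S) :
    pbMap g g' eZ hg T ≫ pullback.snd T.hom g' = pullback.snd T.hom g ≫ eZ.hom := by
  unfold pbMap
  erw [pullback.lift_snd]

/-- the comparison isomorphism `T ×_S Z ≅ T ×_S Z'` over `S`. -/
noncomputable def pbIso (T : Over S) :
    (Over.map g).obj ((Over.pullback g).obj T) ≅ (Over.map g').obj ((Over.pullback g').obj T) :=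
  Over.isoMk (asIso (pbMap g g' eZ hg T))
    (by
      change pbMap g g' eZ hg T ≫ pullback.snd T.hom g' ≫ g' = pullback.snd T.hom g ≫ g
      rw [← Category.assoc, pbMap_snd, Category.assoc, hg])

lemma pbIso_hom_left (T : Over S) : (pbIso g g' eZ hg T).hom.left = pbMap g g' eZ hg T := rfl

lemma pbIso_naturality {T T' : Over S} (φ : T' ⟶ T) :
    (Over.map g).map ((Over.pullback g).map φ) ≫ (pbIso g g' eZ hg T).hom =
      (pbIso g g' eZ hg T').hom ≫ (Over.map g').map ((Over.pullback g').map φ) := by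
  apply Over.OverMorphism.ext
  simp only [Over.comp_left, Over.map_map_left, Over.pullback_map_left, pbIso_hom_left]
  apply pullback.hom_ext
  · rw [Category.assoc, Category.assoc, pbMap_fst]
    erw [pullback.lift_fst, pullback.lift_fst]
    rw [← Category.assoc, pbMap_fst]
  · rw [Category.assoc, Category.assoc, pbMap_snd]
    erw [pullback.lift_snd, pullback.lift_snd_assoc]
    rw [pbMap_snd]

/-- `Over.mk f ≅ Over.mk f'`. -/
noncomputable def tgtIso : Over.mk f ≅ Over.mk f' := Over.isoMk eX (by simpa using hf)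

/-- the componentwise equivalence -/
noncomputable def morSEquiv (T : Over S) :
    (Flatn.morS g f).obj (op T) ≃ (Flatn.morS g' f').obj (op T) where
  toFun := fun (m : (Over.map g).obj ((Over.pullback g).obj T) ⟶ Over.mk f) =>
    ((pbIso g g' eZ hg T).inv ≫ m ≫ (tgtIso f f' eX hf).hom :
      (Over.map g').obj ((Over.pullback g').obj T) ⟶ Over.mk f')
  invFun := fun (m : (Over.map g').obj ((Over.pullback g').obj T) ⟶ Over.mk f') =>
    ((pbIso g g' eZ hg T).hom ≫ m ≫ (tgtIso f f' eX hf).inv :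
      (Over.map g).obj ((Over.pullback g).obj T) ⟶ Over.mk f)
  left_inv := fun (m : (Over.map g).obj ((Over.pullback g).obj T) ⟶ Over.mk f) => by
    simp
  right_inv := fun (m : (Over.map g').obj ((Over.pullback g').obj T) ⟶ Over.mk f') => by
    simp

/-- `morS` only depends on the isomorphism classes of `Z` and `X` over `S`. -/
noncomputable def morSIso : Flatn.morS g f ≅ Flatn.morS g' f' :=
  NatIso.ofComponents (fun T => (morSEquiv g f g' f' eZ eX hg hf T.unop).toIso)
    (by
      intro T T' φ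
      ext m
      change (pbIso g g' eZ hg T'.unop).inv ≫
          ((Over.map g).map ((Over.pullback g).map φ.unop) ≫ m) ≫ (tgtIso f f' eX hf).hom =
        (Over.map g').map ((Over.pullback g').map φ.unop) ≫
          ((pbIso g g' eZ hg T.unop).inv ≫ m ≫ (tgtIso f f' eX hf).hom)
      rw [Iso.inv_comp_eq]
      simp only [← Category.assoc]
      congr 2
      rw [← pbIso_naturality, Category.assoc, Iso.hom_inv_id, Category.comp_id])

end transport

section main

variable {Z X S : Scheme.{u}} [IsAffine Z] [IsAffine X] [IsAffine S] (g : Z ⟶ S) (f : X ⟶ S)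

/-- `Mor_S(Z, X)` is representable by an affine scheme for `S`, `Z`, `X` affine and `Γ(Z)`
finite free over `Γ(S)`. -/
theorem exists_representableBy_of_affine
    (hfree : letI := (g.appTop).hom.toAlgebra
      Module.Finite Γ(S, ⊤) Γ(Z, ⊤) ∧ Module.Free Γ(S, ⊤) Γ(Z, ⊤)) :
    ∃ W : Over S, IsAffine W.left ∧ Nonempty ((Flatn.morS g f).RepresentableBy W) := by
  letI algC : Algebra Γ(S, ⊤) Γ(Z, ⊤) := (g.appTop).hom.toAlgebra
  letI algB : Algebra Γ(S, ⊤) Γ(X, ⊤) := (f.appTop).hom.toAlgebra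
  obtain ⟨hfin, hfr⟩ := hfree
  classical
  let bas := Module.Free.chooseBasis Γ(S, ⊤) Γ(Z, ⊤)
  have eL := representableBy_literal (R := Γ(S, ⊤)) (C := Γ(Z, ⊤)) (B := Γ(X, ⊤)) bas
  let h : S ⟶ Spec (CommRingCat.of Γ(S, ⊤)) := S.isoSpec.hom
  haveI : IsIso h := inferInstanceAs (IsIso S.isoSpec.hom)
  obtain ⟨e1⟩ := Groth.Agent.S17079.result (WeilSpec.gL Γ(S, ⊤) Γ(Z, ⊤))
    (WeilSpec.fL Γ(S, ⊤) Γ(X, ⊤)) h (WeilSpec.WL Γ(X, ⊤) bas) eL
  -- identify `Z` with the base change of `Spec Γ(Z)`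
  have hZ : IsPullback Z.isoSpec.hom g (WeilSpec.gL Γ(S, ⊤) Γ(Z, ⊤)) h :=
    IsPullback.of_horiz_isIso ⟨Scheme.isoSpec_hom_naturality g⟩
  have hX : IsPullback X.isoSpec.hom f (WeilSpec.fL Γ(S, ⊤) Γ(X, ⊤)) h :=
    IsPullback.of_horiz_isIso ⟨Scheme.isoSpec_hom_naturality f⟩
  let i := morSIso g f (pullback.snd (WeilSpec.gL Γ(S, ⊤) Γ(Z, ⊤)) h)
    (pullback.snd (WeilSpec.fL Γ(S, ⊤) Γ(X, ⊤)) h) hZ.isoPullback hX.isoPullback
    hZ.isoPullback_hom_snd hX.isoPullback_hom_snd
  refine ⟨Over.mk (pullback.snd (WeilSpec.WL Γ(X, ⊤) bas).hom h), ?_, ⟨e1.ofIso i.symm⟩⟩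
  change IsAffine (pullback (WeilSpec.WL Γ(X, ⊤) bas).hom h)
  haveI : IsAffine (WeilSpec.WL Γ(X, ⊤) bas).left :=
    inferInstanceAs (IsAffine (Spec (CommRingCat.of (WeilAlg.W bas Γ(X, ⊤)))))
  exact IsAffine.of_isIso (pullback.fst (WeilSpec.WL Γ(X, ⊤) bas).hom h)

end main

end Groth.Agent.Lib.Helper58.WeilAffine
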