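import Mathlib

/-!
# The Weil restriction algebra, for finite projective `C`

For a commutative ring `R`, an `R`-algebra `C` which is a retract of a finite free module
(a `Frame`), and an arbitrary commutative `R`-algebra `B` we construct an `R`-algebra `W F B`
together with an `R`-algebra map `univ : B →ₐ[R] W F B ⊗[R] C` which is universal: for every
commutative `R`-algebra `A`, composing with `univ` gives a bijection
`(W F B →ₐ[R] A) ≃ (B →ₐ[R] A ⊗[R] C)`.
-/

set_option autoImplicit false

universe u v w

open TensorProduct Module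

namespace Groth.Agent.Lib.Helper58.WeilAlgP

/-- a presentation of `C` as a retract of `R^n`. -/
structure Frame (R : Type u) (C : Type u) [CommRing R] [CommRing C] [Algebra R C] where
  /-- the rank of the free module -/
  n : ℕ
  /-- the projection -/
  p : (Fin n → R) →ₗ[R] C
  /-- the section -/
  s : C →ₗ[R] (Fin n → R)
  /-- section property -/
  hps : ∀ c, p (s c) = c

/-- finite projective modules have frames -/
lemma nonempty_frame (R : Type u) (C : Type u) [CommRing R] [CommRing C] [Algebra R C]
    [Module.Finite R C] [Module.Projective R C] : Nonempty (Frame R C) := by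
  obtain ⟨n, p, hp⟩ := Module.Finite.exists_fin' R C
  obtain ⟨s, hs⟩ := Module.projective_lifting_property p LinearMap.id hp
  exact ⟨⟨n, p, s, fun c => by simpa using LinearMap.congr_fun hs c⟩⟩

section coord

variable {R : Type u} [CommRing R] {C : Type u} [CommRing C] [Algebra R C] (F : Frame R C)

/-- the `k`-th generator of `C`. -/
noncomputable def Frame.e (k : Fin F.n) : C := F.p (fun j => if k = j then 1 else 0)

/-- the `k`-th coordinate functional -/
noncomputable def Frame.l (k : Fin F.n) : C →ₗ[R] R := (LinearMap.proj k) ∘ₗ F.s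

lemma Frame.sum_l_e (c : C) : ∑ k, F.l k c • F.e k = c := by
  conv_rhs => rw [← F.hps c, LinearMap.pi_apply_eq_sum_univ F.p (F.s c)]
  rfl

/-- the `k`-th coordinate of `z : A ⊗ C` -/
noncomputable def coord (A : Type*) [CommRing A] [Algebra R A] (k : Fin F.n) :
    A ⊗[R] C →ₗ[R] A :=
  (TensorProduct.rid R A).toLinearMap ∘ₗ LinearMap.lTensor A (F.l k)

variable {A : Type*} [CommRing A] [Algebra R A] {A' : Type*} [CommRing A'] [Algebra R A']

@[simp]
lemma coord_tmul (k : Fin F.n) (a : A) (c : C) :
    coord F A k (a ⊗ₜ c) = F.l k c • a := by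
  simp [coord]

lemma coord_map (ψ : A →ₐ[R] A') (k : Fin F.n) (z : A ⊗[R] C) :
    coord F A' k (Algebra.TensorProduct.map ψ (AlgHom.id R C) z) = ψ (coord F A k z) := by
  induction z using TensorProduct.induction_on with
  | zero => simp
  | tmul a c => simp
  | add x y hx hy => simp [hx, hy]

lemma sum_coord (z : A ⊗[R] C) : ∑ k, coord F A k z ⊗ₜ[R] F.e k = z := by
  induction z using TensorProduct.induction_on with
  | zero => simp
  | tmul a c =>
    simp only [coord_tmul]
    conv_rhs => rw [← F.sum_l_e c, TensorProduct.tmul_sum]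
    apply Finset.sum_congr rfl
    intro k _
    rw [TensorProduct.smul_tmul]
  | add x y hx hy =>
    simp only [map_add, TensorProduct.add_tmul, Finset.sum_add_distrib, hx, hy]

lemma eq_of_coord (z z' : A ⊗[R] C) (h : ∀ k, coord F A k z = coord F A k z') : z = z' := by
  rw [← sum_coord F z, ← sum_coord F z']
  apply Finset.sum_congr rfl
  intro k _
  rw [h k]

lemma eq_zero_of_coord (z : A ⊗[R] C) (h : ∀ k, coord F A k z = 0) : z = 0 := by
  apply eq_of_coord F
  intro k
  rw [h k, map_zero]

end coord

section construction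

variable {R : Type u} [CommRing R] {C : Type u} [CommRing C] [Algebra R C] (F : Frame R C)
  (B : Type u) [CommRing B] [Algebra R B]

/-- the polynomial ring on the symbols "`k`-th coordinate of the image of `b`". -/
abbrev Pol (F : Frame R C) (B : Type u) [CommRing B] [Algebra R B] : Type u :=
  MvPolynomial (B × Fin F.n) R

/-- the generic map on `b` -/
noncomputable def gen (b : B) : Pol F B ⊗[R] C :=
  ∑ k, (MvPolynomial.X (b, k) : Pol F B) ⊗ₜ[R] F.e k

/-- the relations -/
def rels : Set (Pol F B) :=
  {p | ∃ (b b' : B) (k : Fin F.n), p = coord F (Pol F B) k (gen F B (b + b') - gen F B b - gen F B b')} ∪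
  {p | ∃ (b b' : B) (k : Fin F.n), p = coord F (Pol F B) k (gen F B (b * b') - gen F B b * gen F B b')} ∪
  {p | ∃ (r : R) (k : Fin F.n), p = coord F (Pol F B) k
      (gen F B (algebraMap R B r) - (algebraMap R (Pol F B) r) ⊗ₜ[R] (1 : C))} ∪
  {p | ∃ (b : B) (k : Fin F.n), p = coord F (Pol F B) k (gen F B b) - MvPolynomial.X (b, k)}

/-- the Weil restriction algebra -/
abbrev W : Type u := Pol F B ⧸ Ideal.span (rels F B)

/-- the quotient map -/
noncomputable abbrev mkW : Pol F B →ₐ[R] W F B := Ideal.Quotient.mkₐ R (Ideal.span (rels F B))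

lemma mkW_rels (p : Pol F B) (hp : p ∈ rels F B) : mkW F B p = 0 := by
  change Ideal.Quotient.mk _ p = 0
  rw [Ideal.Quotient.eq_zero_iff_mem]
  exact Ideal.subset_span hp

/-- the universal map as a function -/
noncomputable def univFun (b : B) : W F B ⊗[R] C :=
  Algebra.TensorProduct.map (mkW F B) (AlgHom.id R C) (gen F B b)

lemma univFun_add (b b' : B) : univFun F B (b + b') = univFun F B b + univFun F B b' := by
  rw [← sub_eq_zero, ← sub_sub]
  apply eq_zero_of_coord F
  intro k
  unfold univFun
  rw [← map_sub, ← map_sub, coord_map]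
  apply mkW_rels
  exact Or.inl (Or.inl (Or.inl ⟨b, b', k, rfl⟩))

lemma univFun_mul (b b' : B) : univFun F B (b * b') = univFun F B b * univFun F B b' := by
  rw [← sub_eq_zero]
  apply eq_zero_of_coord F
  intro k
  unfold univFun
  rw [← map_mul, ← map_sub, coord_map]
  apply mkW_rels
  exact Or.inl (Or.inl (Or.inr ⟨b, b', k, rfl⟩))

lemma univFun_algebraMap (r : R) :
    univFun F B (algebraMap R B r) = (algebraMap R (W F B) r) ⊗ₜ[R] (1 : C) := by
  have h1 : (algebraMap R (W F B) r) ⊗ₜ[R] (1 : C) =
      Algebra.TensorProduct.map (mkW F B) (AlgHom.id R C)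
      ((algebraMap R (Pol F B) r) ⊗ₜ[R] (1 : C)) := by
    rw [Algebra.TensorProduct.map_tmul]
    simp
  rw [← sub_eq_zero]
  apply eq_zero_of_coord F
  intro k
  unfold univFun
  rw [h1, ← map_sub, coord_map]
  apply mkW_rels
  exact Or.inl (Or.inr ⟨r, k, rfl⟩)

/-- the universal algebra map `B → W ⊗ C`. -/
noncomputable def univ : B →ₐ[R] W F B ⊗[R] C where
  toFun := univFun F B
  map_one' := by
    have := univFun_algebraMap F B 1
    simpa [Algebra.TensorProduct.one_def] using this
  map_mul' := univFun_mul F B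
  map_zero' := by
    have := univFun_algebraMap F B 0
    simpa using this
  map_add' := univFun_add F B
  commutes' := fun r => by
    rw [univFun_algebraMap, Algebra.TensorProduct.algebraMap_apply]

@[simp]
lemma univ_apply (b : B) : univ F B b = univFun F B b := rfl

variable {B}
variable {A : Type u} [CommRing A] [Algebra R A]

/-- the lift on the polynomial ring -/
noncomputable def liftPol (φ : B →ₐ[R] A ⊗[R] C) : Pol F B →ₐ[R] A :=
  MvPolynomial.aeval (fun p : B × Fin F.n => coord F A p.2 (φ p.1))

lemma map_liftPol_gen (φ : B →ₐ[R] A ⊗[R] C) (b : B) :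
    Algebra.TensorProduct.map (liftPol F φ) (AlgHom.id R C) (gen F B b) = φ b := by
  unfold gen
  rw [map_sum]
  conv_rhs => rw [← sum_coord F (φ b)]
  apply Finset.sum_congr rfl
  intro i _
  rw [Algebra.TensorProduct.map_tmul]
  unfold liftPol
  rw [MvPolynomial.aeval_X]
  rfl

lemma liftPol_rels (φ : B →ₐ[R] A ⊗[R] C) (p : Pol F B) (hp : p ∈ rels F B) :
    liftPol F φ p = 0 := by
  rcases hp with ((⟨b, b', k, rfl⟩ | ⟨b, b', k, rfl⟩) | ⟨r, k, rfl⟩) | ⟨b, k, rfl⟩
  · rw [← coord_map]
    have : Algebra.TensorProduct.map (liftPol F φ) (AlgHom.id R C)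
        (gen F B (b + b') - gen F B b - gen F B b') = 0 := by
      rw [map_sub, map_sub, map_liftPol_gen, map_liftPol_gen, map_liftPol_gen, map_add]
      abel
    rw [this, map_zero]
  · rw [← coord_map]
    have : Algebra.TensorProduct.map (liftPol F φ) (AlgHom.id R C)
        (gen F B (b * b') - gen F B b * gen F B b') = 0 := by
      rw [map_sub, map_mul, map_liftPol_gen, map_liftPol_gen, map_liftPol_gen, map_mul, sub_self]
    rw [this, map_zero]
  · rw [← coord_map]
    have : Algebra.TensorProduct.map (liftPol F φ) (AlgHom.id R C)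
        (gen F B (algebraMap R B r) - (algebraMap R (Pol F B) r) ⊗ₜ[R] (1 : C)) = 0 := by
      rw [map_sub, map_liftPol_gen, Algebra.TensorProduct.map_tmul, AlgHom.commutes,
        AlgHom.commutes, Algebra.TensorProduct.algebraMap_apply]
      simp
    rw [this, map_zero]
  · rw [map_sub, ← coord_map, map_liftPol_gen]
    unfold liftPol
    rw [MvPolynomial.aeval_X, sub_self]

/-- the lift of an algebra map `B → A ⊗ C` to `W → A`. -/
noncomputable def lift (φ : B →ₐ[R] A ⊗[R] C) : W F B →ₐ[R] A :=
  Ideal.Quotient.liftₐ (Ideal.span (rels F B)) (liftPol F φ) (by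
    intro a ha
    have : Ideal.span (rels F B) ≤ RingHom.ker (liftPol F φ).toRingHom := by
      rw [Ideal.span_le]
      intro p hp
      exact liftPol_rels F φ p hp
    exact this ha)

lemma lift_comp_mkW (φ : B →ₐ[R] A ⊗[R] C) : (lift F φ).comp (mkW F B) = liftPol F φ := by
  ext p
  rfl

lemma map_lift_univ (φ : B →ₐ[R] A ⊗[R] C) (b : B) :
    Algebra.TensorProduct.map (lift F φ) (AlgHom.id R C) (univ F B b) = φ b := by
  rw [univ_apply]
  unfold univFun
  rw [← map_liftPol_gen F φ b, ← lift_comp_mkW]
  rw [← AlgHom.comp_apply]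
  congr 1
  ext <;> simp

/-- the composite `(ψ ⊗ id) ∘ univ` -/
noncomputable def toHom (ψ : W F B →ₐ[R] A) : B →ₐ[R] A ⊗[R] C :=
  (Algebra.TensorProduct.map ψ (AlgHom.id R C)).comp (univ F B)

lemma toHom_apply (ψ : W F B →ₐ[R] A) (b : B) :
    toHom F ψ b = Algebra.TensorProduct.map ψ (AlgHom.id R C) (univ F B b) := rfl

lemma toHom_lift (φ : B →ₐ[R] A ⊗[R] C) : toHom F (lift F φ) = φ := by
  ext b
  exact map_lift_univ F φ b

lemma coord_univFun (b : B) (k : Fin F.n) :
    coord F (W F B) k (univFun F B b) = mkW F B (MvPolynomial.X (b, k)) := by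
  unfold univFun
  rw [coord_map, ← sub_eq_zero, ← map_sub]
  apply mkW_rels
  exact Or.inr ⟨b, k, rfl⟩

lemma coord_toHom (ψ : W F B →ₐ[R] A) (b : B) (k : Fin F.n) :
    coord F A k (toHom F ψ b) = ψ (mkW F B (MvPolynomial.X (b, k))) := by
  rw [toHom_apply, univ_apply, coord_map, coord_univFun]

lemma toHom_injective : Function.Injective (toHom F : (W F B →ₐ[R] A) → (B →ₐ[R] A ⊗[R] C)) := by
  intro ψ ψ' h
  have h1 : ψ.comp (mkW F B) = ψ'.comp (mkW F B) := by
    apply MvPolynomial.algHom_ext
    rintro ⟨b, i⟩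
    change ψ (mkW F B (MvPolynomial.X (b, i))) = ψ' (mkW F B (MvPolynomial.X (b, i)))
    rw [← coord_toHom, ← coord_toHom, h]
  apply AlgHom.ext
  intro w
  obtain ⟨p, rfl⟩ := Ideal.Quotient.mkₐ_surjective R (Ideal.span (rels F B)) w
  exact congrArg (fun f => f p) h1

lemma lift_toHom (ψ : W F B →ₐ[R] A) : lift F (toHom F ψ) = ψ :=
  toHom_injective F (toHom_lift F _)

/-- The universal property of the Weil restriction algebra. -/
noncomputable def equiv : (W F B →ₐ[R] A) ≃ (B →ₐ[R] A ⊗[R] C) where
  toFun := toHom F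
  invFun := lift F
  left_inv := lift_toHom F
  right_inv := toHom_lift F

/-- naturality of `toHom` in `A`. -/
lemma toHom_comp {A' : Type u} [CommRing A'] [Algebra R A'] (ψ : W F B →ₐ[R] A)
    (θ : A →ₐ[R] A') :
    toHom F (θ.comp ψ) = (Algebra.TensorProduct.map θ (AlgHom.id R C)).comp (toHom F ψ) := by
  have h : Algebra.TensorProduct.map (θ.comp ψ) (AlgHom.id R C) =
      (Algebra.TensorProduct.map θ (AlgHom.id R C)).comp
        (Algebra.TensorProduct.map ψ (AlgHom.id R C)) := by
    ext <;> simp
  ext b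
  rw [toHom_apply, AlgHom.comp_apply, toHom_apply, h, AlgHom.comp_apply]

end construction

end Groth.Agent.Lib.Helper58.WeilAlgP
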