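import Mathlib
import Groth.Prelude.Def_Flatn
import Groth.Agent.Lib.Helper58.WeilAlgP
import Groth.Agent.Lib.Helper58.WeilLocal
import Groth.Agent.Lib.Helper58.WeilSpec

/-!
# `Mor_S(Z, X)` for literal spectra, tested on literal spectra: `C` finite projective
-/

set_option autoImplicit false

universe u

open CategoryTheory CategoryTheory.Limits AlgebraicGeometry Opposite TensorProduct Module

namespace Groth.Agent.Lib.Helper58.WeilSpecP

open Groth.Agent.Lib.Helper58 Groth.Agent.Lib.Helper58.WeilSpec

variable {R C B : Type u} [CommRing R] [CommRing C] [CommRing B] [Algebra R C] [Algebra R B]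
variable {A : Type u} [CommRing A] [Algebra R A]

section universal

variable (F : WeilAlgP.Frame R C) (B)

/-- the representing object `Spec (W F B)` over `Spec R`. -/
noncomputable abbrev WL : Over (Spec (CommRingCat.of R)) := TA R (WeilAlgP.W F B)

/-- the universal element. -/
noncomputable def evL : (Flatn.morS (gL R C) (fL R B)).obj (op (WL B F)) :=
  ofAlgHom₂ (WeilAlgP.univ F B)

variable {B}

lemma pull_ofAlgHom (ψ : WeilAlgP.W F B →ₐ[R] A) :
    WeilLocal.pull (gL R C) (fL R B) (evL B F) (TA R A) (ofAlgHom ψ) =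
      ofAlgHom₂ (WeilAlgP.toHom F ψ) := by
  apply Over.OverMorphism.ext
  rw [ofAlgHom₂_left]
  unfold WeilLocal.pull
  rw [Flatn.morS_map]
  change ((Over.pullback (gL R C)).map (ofAlgHom ψ)).left ≫
    ((pullbackSpecIso R (WeilAlgP.W F B) C).hom ≫
      Spec.map (CommRingCat.ofHom (WeilAlgP.univ F B).toRingHom)) = _
  have key : ((Over.pullback (gL R C)).map (ofAlgHom ψ)).left ≫
      (pullbackSpecIso R (WeilAlgP.W F B) C).hom = (pullbackSpecIso R A C).hom ≫
      Spec.map (CommRingCat.ofHom
        (Algebra.TensorProduct.map ψ (AlgHom.id R C)).toRingHom) := by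
    rw [← cancel_mono (pullbackSpecIso R (WeilAlgP.W F B) C).inv, Category.assoc,
      Iso.hom_inv_id, Category.comp_id, Category.assoc]
    apply pullback.hom_ext
    · simp only [Over.pullback_map_left]
      erw [pullback.lift_fst]
      rw [Category.assoc, Category.assoc]
      erw [pullbackSpecIso_inv_fst]
      rw [← Spec.map_comp]
      have hl : pullback.fst (TA R A).hom (gL R C) = (pullbackSpecIso R A C).hom ≫
          Spec.map (CommRingCat.ofHom Algebra.TensorProduct.includeLeftRingHom) :=
        (pullbackSpecIso_hom_fst R A C).symm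
      rw [hl, Category.assoc]
      change _ ≫ Spec.map _ ≫ Spec.map (CommRingCat.ofHom ψ.toRingHom) = _
      rw [← Spec.map_comp]
      congr 2
    · simp only [Over.pullback_map_left]
      erw [pullback.lift_snd]
      rw [Category.assoc, Category.assoc]
      erw [pullbackSpecIso_inv_snd]
      rw [← Spec.map_comp]
      have hl : pullback.snd (TA R A).hom (gL R C) = (pullbackSpecIso R A C).hom ≫
          Spec.map (CommRingCat.ofHom (R := C) (S := A ⊗[R] C)
            (RingHomClass.toRingHom Algebra.TensorProduct.includeRight)) :=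
        (pullbackSpecIso_hom_snd R A C).symm
      rw [hl]
      congr 2
      ext c
      change (1 : A) ⊗ₜ[R] c = Algebra.TensorProduct.map ψ (AlgHom.id R C) (1 ⊗ₜ c)
      simp
  rw [← Category.assoc, key, Category.assoc, ← Spec.map_comp]
  rfl

theorem bijective_pull :
    Function.Bijective (WeilLocal.pull (gL R C) (fL R B) (evL B F) (TA R A)) := by
  constructor
  · intro φ φ' h
    rw [← ofAlgHom_toAlgHom φ, ← ofAlgHom_toAlgHom φ'] at h ⊢
    rw [pull_ofAlgHom, pull_ofAlgHom] at h
    rw [WeilAlgP.toHom_injective F (ofAlgHom₂_injective h)]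
  · intro h
    refine ⟨ofAlgHom (WeilAlgP.lift F (toAlgHom₂ h)), ?_⟩
    rw [pull_ofAlgHom, WeilAlgP.toHom_lift, ofAlgHom₂_toAlgHom₂]

end universal

end Groth.Agent.Lib.Helper58.WeilSpecP
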