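import Mathlib
import Groth.Prelude.Def_Flatn
import Groth.Agent.Lib.Helper58.WeilAlgP
import Groth.Agent.Lib.Helper58.WeilLocal
import Groth.Agent.Lib.Helper58.WeilSpecP
import Groth.Agent.Lib.Helper58.WeilAffine
import Groth.Agent.S17079

/-!
# `Mor_S(Z, X)` is representable by an affine scheme for `S`, `Z`, `X` affine, `Z` finite
projective over `S`
-/

set_option autoImplicit false

universe u

open CategoryTheory CategoryTheory.Limits AlgebraicGeometry Opposite TensorProduct Module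

namespace Groth.Agent.Lib.Helper58.WeilAffineP

open Groth.Agent.Lib.Helper58 Groth.Agent.Lib.Helper58.WeilAffine

section literal

variable {R C B : Type u} [CommRing R] [CommRing C] [CommRing B] [Algebra R C] [Algebra R B]
  (F : WeilAlgP.Frame R C)

/-- the literal case. -/
theorem bijective_pull_literal (T : Over (Spec (CommRingCat.of R))) :
    Function.Bijective (WeilLocal.pull (WeilSpec.gL R C) (WeilSpec.fL R B) (WeilSpecP.evL B F) T) := by
  apply WeilLocal.bijective_of_affine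
  intro T hT
  obtain ⟨A, _, _, ⟨e⟩⟩ := exists_iso_TA (R := R) T
  exact bijective_pull_of_iso _ _ _ e (WeilSpecP.bijective_pull F)

/-- representability in the literal case. -/
noncomputable def representableBy_literal :
    (Flatn.morS (WeilSpec.gL R C) (WeilSpec.fL R B)).RepresentableBy (WeilSpecP.WL B F) :=
  WeilLocal.representableBy _ _ (WeilSpecP.evL B F) (bijective_pull_literal F)

end literal

section main

variable {Z X S : Scheme.{u}} [IsAffine Z] [IsAffine X] [IsAffine S] (g : Z ⟶ S) (f : X ⟶ S)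

/-- `Mor_S(Z, X)` is representable by an affine scheme for `S`, `Z`, `X` affine and `Γ(Z)`
finite projective over `Γ(S)`. -/
theorem exists_representableBy_of_affine
    (hproj : letI := (g.appTop).hom.toAlgebra
      Module.Finite Γ(S, ⊤) Γ(Z, ⊤) ∧ Module.Projective Γ(S, ⊤) Γ(Z, ⊤)) :
    ∃ W : Over S, IsAffine W.left ∧ Nonempty ((Flatn.morS g f).RepresentableBy W) := by
  letI algC : Algebra Γ(S, ⊤) Γ(Z, ⊤) := (g.appTop).hom.toAlgebra
  letI algB : Algebra Γ(S, ⊤) Γ(X, ⊤) := (f.appTop).hom.toAlgebra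
  obtain ⟨hfin, hpr⟩ := hproj
  obtain ⟨F⟩ := WeilAlgP.nonempty_frame Γ(S, ⊤) Γ(Z, ⊤)
  have eL := representableBy_literal (R := Γ(S, ⊤)) (C := Γ(Z, ⊤)) (B := Γ(X, ⊤)) F
  let h : S ⟶ Spec (CommRingCat.of Γ(S, ⊤)) := S.isoSpec.hom
  haveI : IsIso h := inferInstanceAs (IsIso S.isoSpec.hom)
  obtain ⟨e1⟩ := Groth.Agent.S17079.result (WeilSpec.gL Γ(S, ⊤) Γ(Z, ⊤))
    (WeilSpec.fL Γ(S, ⊤) Γ(X, ⊤)) h (WeilSpecP.WL Γ(X, ⊤) F) eL
  have hZ : IsPullback Z.isoSpec.hom g (WeilSpec.gL Γ(S, ⊤) Γ(Z, ⊤)) h :=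
    IsPullback.of_horiz_isIso ⟨Scheme.isoSpec_hom_naturality g⟩
  have hX : IsPullback X.isoSpec.hom f (WeilSpec.fL Γ(S, ⊤) Γ(X, ⊤)) h :=
    IsPullback.of_horiz_isIso ⟨Scheme.isoSpec_hom_naturality f⟩
  let i := morSIso g f (pullback.snd (WeilSpec.gL Γ(S, ⊤) Γ(Z, ⊤)) h)
    (pullback.snd (WeilSpec.fL Γ(S, ⊤) Γ(X, ⊤)) h) hZ.isoPullback hX.isoPullback
    hZ.isoPullback_hom_snd hX.isoPullback_hom_snd
  refine ⟨Over.mk (pullback.snd (WeilSpecP.WL Γ(X, ⊤) F).hom h), ?_, ⟨e1.ofIso i.symm⟩⟩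
  change IsAffine (pullback (WeilSpecP.WL Γ(X, ⊤) F).hom h)
  haveI : IsAffine (WeilSpecP.WL Γ(X, ⊤) F).left :=
    inferInstanceAs (IsAffine (Spec (CommRingCat.of (WeilAlgP.W F Γ(X, ⊤)))))
  exact IsAffine.of_isIso (pullback.fst (WeilSpecP.WL Γ(X, ⊤) F).hom h)

end main

end Groth.Agent.Lib.Helper58.WeilAffineP
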