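import Mathlib
import Groth.Agent.Lib.Helper58.WeilAlgP

/-!
# Finiteness properties of the Weil restriction algebra `W F B`
-/

set_option autoImplicit false

universe u

open TensorProduct Module

namespace Groth.Agent.Lib.Helper58.WeilAlgFP

open Groth.Agent.Lib.Helper58.WeilAlgP

variable {R : Type u} [CommRing R] {C : Type u} [CommRing C] [Algebra R C] (F : Frame R C)

section basics

variable (B : Type u) [CommRing B] [Algebra R B]

/-- the canonical generators of `W F B`. -/
noncomputable def γ (b : B) (k : Fin F.n) : W F B := mkW F B (MvPolynomial.X (b, k))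

lemma coord_univ (b : B) (k : Fin F.n) : coord F (W F B) k (univ F B b) = γ F B b k :=
  coord_univFun F b k

lemma univ_eq_sum (b : B) : univ F B b = ∑ k, γ F B b k ⊗ₜ[R] F.e k := by
  rw [← sum_coord F (univ F B b)]
  apply Finset.sum_congr rfl
  intro k _
  rw [coord_univ]

variable {B}
variable {A : Type u} [CommRing A] [Algebra R A]

lemma apply_γ (ψ : W F B →ₐ[R] A) (b : B) (k : Fin F.n) :
    ψ (γ F B b k) = coord F A k (toHom F ψ b) :=
  (coord_toHom F ψ b k).symm

lemma toHom_id : toHom F (AlgHom.id R (W F B)) = univ F B := by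
  ext b
  rw [toHom_apply]
  have : Algebra.TensorProduct.map (AlgHom.id R (W F B)) (AlgHom.id R C) =
      AlgHom.id R (W F B ⊗[R] C) := by
    ext <;> simp
  rw [this]
  rfl

/-- `coord` of an element is determined by the idempotent matrix of the frame. -/
lemma coord_idem (z : A ⊗[R] C) (k : Fin F.n) :
    coord F A k z = ∑ l, F.l k (F.e l) • coord F A l z := by
  conv_lhs => rw [← sum_coord F z, map_sum]
  apply Finset.sum_congr rfl
  intro l _
  rw [coord_tmul]

include F in
lemma map_injective {A' : Type u} [CommRing A'] [Algebra R A'] (ι : A →ₐ[R] A')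
    (hι : Function.Injective ι) :
    Function.Injective (Algebra.TensorProduct.map ι (AlgHom.id R C)) := by
  rw [injective_iff_map_eq_zero]
  intro z hz
  apply eq_zero_of_coord F
  intro k
  apply hι
  rw [← coord_map, hz, map_zero, map_zero]

end basics

section finiteType

variable {B : Type u} [CommRing B] [Algebra R B]

/-- generators of `B` give generators of `W F B`. -/
theorem adjoin_γ_eq_top (G : Set B) (hG : Algebra.adjoin R G = ⊤) :
    Algebra.adjoin R {w : W F B | ∃ b ∈ G, ∃ k, w = γ F B b k} = ⊤ := by
  set W₀ : Subalgebra R (W F B) := Algebra.adjoin R {w : W F B | ∃ b ∈ G, ∃ k, w = γ F B b k}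
    with hW₀
  let ι : W₀ →ₐ[R] W F B := W₀.val
  let ιC : W₀ ⊗[R] C →ₐ[R] W F B ⊗[R] C := Algebra.TensorProduct.map ι (AlgHom.id R C)
  have hinj : Function.Injective ιC := map_injective F ι Subtype.val_injective
  -- `univ` lands in the range
  have hrange : ∀ b : B, univ F B b ∈ ιC.range := by
    have h1 : G ⊆ (ιC.range.comap (univ F B) : Subalgebra R B) := by
      intro b hb
      change univ F B b ∈ ιC.range
      rw [univ_eq_sum]
      refine ⟨∑ k, (⟨γ F B b k, Algebra.subset_adjoin ⟨b, hb, k, rfl⟩⟩ : W₀) ⊗ₜ[R] F.e k, ?_⟩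
      rw [map_sum]
      apply Finset.sum_congr rfl
      intro k _
      change Algebra.TensorProduct.map ι (AlgHom.id R C) _ = _
      rw [Algebra.TensorProduct.map_tmul]
      rfl
    have h2 : (ιC.range.comap (univ F B) : Subalgebra R B) = ⊤ := by
      rw [eq_top_iff, ← hG]
      exact Algebra.adjoin_le h1
    intro b
    have : b ∈ (ιC.range.comap (univ F B) : Subalgebra R B) := by rw [h2]; trivial
    exact this
  let e := AlgEquiv.ofInjective ιC hinj
  let φ₀ : B →ₐ[R] W₀ ⊗[R] C := e.symm.toAlgHom.comp ((univ F B).codRestrict ιC.range hrange)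
  have hφ₀ : ιC.comp φ₀ = univ F B := by
    ext b
    change ιC (e.symm ((univ F B).codRestrict ιC.range hrange b)) = univ F B b
    have := e.apply_symm_apply ((univ F B).codRestrict ιC.range hrange b)
    exact congrArg Subtype.val this
  let r : W F B →ₐ[R] W₀ := lift F φ₀
  have hr : ι.comp r = AlgHom.id R (W F B) := by
    apply toHom_injective F
    rw [toHom_comp, toHom_lift, toHom_id]
    exact hφ₀
  rw [eq_top_iff]
  intro w _
  have : w = ι (r w) := (congrArg (fun f => f w) hr).symm
  rw [this]
  exact (r w).2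

theorem finiteType [Algebra.FiniteType R B] : Algebra.FiniteType R (W F B) := by
  classical
  obtain ⟨s, hs⟩ := (Algebra.FiniteType.out : (⊤ : Subalgebra R B).FG)
  have h := adjoin_γ_eq_top F (s : Set B) hs
  refine ⟨⟨(s ×ˢ (Finset.univ : Finset (Fin F.n))).image (fun p => γ F B p.1 p.2), ?_⟩⟩
  rw [← h]
  congr 1
  ext w
  simp only [Finset.coe_image, Set.mem_image, Finset.mem_coe, Finset.mem_product, Finset.mem_univ,
    and_true, Prod.exists, Set.mem_ofPred_eq]
  constructor
  · rintro ⟨b, k, hb, rfl⟩
    exact ⟨b, hb, k, rfl⟩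
  · rintro ⟨b, hb, k, rfl⟩
    exact ⟨b, k, hb, rfl⟩

end finiteType


section retract

/-- a retract of a finitely presented algebra is finitely presented -/
theorem finitePresentation_of_retract {R Q V : Type*} [CommRing R] [CommRing Q] [CommRing V]
    [Algebra R Q] [Algebra R V] [Algebra.FinitePresentation R Q] (u : V →ₐ[R] Q)
    (v : Q →ₐ[R] V) (h : v.comp u = AlgHom.id R V) : Algebra.FinitePresentation R V := by
  classical
  have hvu : ∀ w, v (u w) = w := fun w => congrArg (fun f => f w) h
  have hsurj : Function.Surjective v := fun w => ⟨u w, hvu w⟩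
  haveI : Algebra.FiniteType R Q := Algebra.FiniteType.of_finitePresentation
  obtain ⟨s, hs⟩ := (Algebra.FiniteType.out : (⊤ : Subalgebra R Q).FG)
  let J : Ideal Q := Ideal.span ((fun x => x - u (v x)) '' (s : Set Q))
  have hJ : ∀ q, q - u (v q) ∈ J := by
    let A : Subalgebra R Q :=
      { carrier := {q | q - u (v q) ∈ J}
        mul_mem' := by
          intro a b ha hb
          change a * b - u (v (a * b)) ∈ J
          have : a * b - u (v (a * b)) = a * (b - u (v b)) + (a - u (v a)) * u (v b) := by
            rw [map_mul, map_mul]; ring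
          rw [this]
          exact J.add_mem (J.mul_mem_left _ hb) (J.mul_mem_right _ ha)
        add_mem' := by
          intro a b ha hb
          change a + b - u (v (a + b)) ∈ J
          have : a + b - u (v (a + b)) = (a - u (v a)) + (b - u (v b)) := by
            rw [map_add, map_add]; ring
          rw [this]
          exact J.add_mem ha hb
        algebraMap_mem' := by
          intro r
          change algebraMap R Q r - u (v (algebraMap R Q r)) ∈ J
          rw [AlgHom.commutes, AlgHom.commutes, sub_self]
          exact J.zero_mem }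
    have hA : A = ⊤ := by
      rw [eq_top_iff, ← hs]
      exact Algebra.adjoin_le (fun x hx => Ideal.subset_span ⟨x, hx, rfl⟩)
    intro q
    have : q ∈ A := by rw [hA]; trivial
    exact this
  have hker : RingHom.ker v.toRingHom = J := by
    apply le_antisymm
    · intro q hq
      have hq' : v q = 0 := hq
      have := hJ q
      rwa [hq', map_zero, sub_zero] at this
    · rw [Ideal.span_le]
      rintro _ ⟨x, _, rfl⟩
      change v (x - u (v x)) = 0
      rw [map_sub, hvu, sub_self]
  refine Algebra.FinitePresentation.of_surjective hsurj ?_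
  rw [hker]
  exact ⟨s.image (fun x => x - u (v x)), by rw [Finset.coe_image]⟩

end retract

section finitePresentation

variable (m : ℕ)

/-- the generic map `R[x_i] → R[x_{i,k}] ⊗ C`. -/
noncomputable def φgen : MvPolynomial (Fin m) R →ₐ[R] MvPolynomial (Fin m × Fin F.n) R ⊗[R] C :=
  MvPolynomial.aeval (fun i => ∑ k, (MvPolynomial.X (i, k) : MvPolynomial (Fin m × Fin F.n) R)
    ⊗ₜ[R] F.e k)

/-- `W F (R[x_i]) → R[x_{i,k}]` -/
noncomputable def uP : W F (MvPolynomial (Fin m) R) →ₐ[R] MvPolynomial (Fin m × Fin F.n) R :=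
  lift F (φgen F m)

/-- `R[x_{i,k}] → W F (R[x_i])` -/
noncomputable def vP : MvPolynomial (Fin m × Fin F.n) R →ₐ[R] W F (MvPolynomial (Fin m) R) :=
  MvPolynomial.aeval (fun p => γ F (MvPolynomial (Fin m) R) (MvPolynomial.X p.1) p.2)

lemma vP_comp_uP : (vP F m).comp (uP F m) = AlgHom.id R _ := by
  apply toHom_injective F
  rw [toHom_comp, toHom_id]
  unfold uP
  rw [toHom_lift]
  apply MvPolynomial.algHom_ext
  intro i
  rw [AlgHom.comp_apply]
  unfold φgen
  rw [MvPolynomial.aeval_X, map_sum, univ_eq_sum]
  apply Finset.sum_congr rfl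
  intro k _
  rw [Algebra.TensorProduct.map_tmul]
  unfold vP
  rw [MvPolynomial.aeval_X]
  rfl

theorem finitePresentation_mvPolynomial :
    Algebra.FinitePresentation R (W F (MvPolynomial (Fin m) R)) :=
  finitePresentation_of_retract (uP F m) (vP F m) (vP_comp_uP F m)

variable {B : Type u} [CommRing B] [Algebra R B]

/-- functoriality of `W F` in the algebra. -/
noncomputable def mapW {P : Type u} [CommRing P] [Algebra R P] (π : P →ₐ[R] B) :
    W F P →ₐ[R] W F B := lift F ((univ F B).comp π)

lemma mapW_γ {P : Type u} [CommRing P] [Algebra R P] (π : P →ₐ[R] B) (p : P) (k : Fin F.n) :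
    mapW F π (γ F P p k) = γ F B (π p) k := by
  unfold mapW
  rw [apply_γ, toHom_lift, AlgHom.comp_apply, coord_univ]

lemma mapW_surjective {P : Type u} [CommRing P] [Algebra R P] (π : P →ₐ[R] B)
    (hπ : Function.Surjective π) : Function.Surjective (mapW F π) := by
  have h1 : ((mapW F π).range.comap (mkW F B) : Subalgebra R (Pol F B)) = ⊤ := by
    rw [eq_top_iff, ← MvPolynomial.adjoin_range_X]
    apply Algebra.adjoin_le
    rintro _ ⟨⟨b, k⟩, rfl⟩
    obtain ⟨p, rfl⟩ := hπ b
    exact ⟨γ F _ p k, mapW_γ F π p k⟩
  intro w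
  obtain ⟨p, rfl⟩ := Ideal.Quotient.mkₐ_surjective R (Ideal.span (rels F B)) w
  have : p ∈ ((mapW F π).range.comap (mkW F B) : Subalgebra R (Pol F B)) := by rw [h1]; trivial
  exact this

/-- a map out of `W F P` killing the `γ g k` for `g` in a generating set of `ker π` kills the
kernel of `mapW π`. -/
lemma ker_mapW_le {P : Type u} [CommRing P] [Algebra R P] (π : P →ₐ[R] B)
    (hπ : Function.Surjective π) (s : Set P) (hs : Ideal.span s = RingHom.ker π.toRingHom)
    {V : Type u} [CommRing V] [Algebra R V] (q : W F P →ₐ[R] V)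
    (hq : ∀ g ∈ s, ∀ k, q (γ F P g k) = 0) :
    RingHom.ker (mapW F π).toRingHom ≤ RingHom.ker q.toRingHom := by
  let φ' : P →ₐ[R] V ⊗[R] C := toHom F q
  have hφ' : RingHom.ker π.toRingHom ≤ RingHom.ker φ'.toRingHom := by
    rw [← hs, Ideal.span_le]
    intro g hg
    change φ' g = 0
    apply eq_zero_of_coord F
    intro k
    change coord F _ k (toHom F q g) = 0
    rw [← apply_γ]
    exact hq g hg k
  let φB : B →ₐ[R] V ⊗[R] C := AlgHom.liftOfSurjective π hπ φ' hφ'
  let t : W F B →ₐ[R] V := lift F φB
  have ht : t.comp (mapW F π) = q := by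
    apply toHom_injective F
    unfold mapW
    rw [toHom_comp, toHom_lift, ← AlgHom.comp_assoc]
    have h2 : (Algebra.TensorProduct.map t (AlgHom.id R C)).comp (univ F B) = toHom F t := rfl
    rw [h2, toHom_lift]
    exact AlgHom.liftOfSurjective_comp π hπ φ' hφ'
  intro w hw
  have hw' : mapW F π w = 0 := hw
  change q w = 0
  rw [← ht, AlgHom.comp_apply, hw', map_zero]

theorem finitePresentation [Algebra.FinitePresentation R B] :
    Algebra.FinitePresentation R (W F B) := by
  classical
  obtain ⟨m, π, hπ, hker⟩ := Algebra.FinitePresentation.out (R := R) (A := B)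
  haveI : Algebra.FinitePresentation R (W F (MvPolynomial (Fin m) R)) :=
    finitePresentation_mvPolynomial F m
  obtain ⟨s, hs⟩ := hker
  let gen : MvPolynomial (Fin m) R × Fin F.n → W F (MvPolynomial (Fin m) R) :=
    fun p => γ F _ p.1 p.2
  let J : Ideal (W F (MvPolynomial (Fin m) R)) :=
    Ideal.span (gen '' ((s ×ˢ (Finset.univ : Finset (Fin F.n)) : Finset _) : Set _))
  have hkerW : RingHom.ker (mapW F π).toRingHom = J := by
    apply le_antisymm
    · have := ker_mapW_le F π hπ (s : Set _) hs (V := W F (MvPolynomial (Fin m) R) ⧸ J)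
        (Ideal.Quotient.mkₐ R J) (by
        intro g hg k
        change Ideal.Quotient.mk J _ = 0
        rw [Ideal.Quotient.eq_zero_iff_mem]
        apply Ideal.subset_span
        exact ⟨(g, k), by simpa using hg, rfl⟩)
      intro w hw
      have h := this hw
      exact (Ideal.Quotient.eq_zero_iff_mem).mp h
    · rw [Ideal.span_le]
      rintro _ ⟨⟨g, k⟩, hg, rfl⟩
      have hg' : g ∈ s := by simpa using hg
      change mapW F π (γ F _ g k) = 0
      rw [mapW_γ]
      have : π g = 0 := by
        have : g ∈ RingHom.ker π.toRingHom := by rw [← hs]; exact Ideal.subset_span hg'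
        exact this
      rw [this, ← coord_univ, map_zero, map_zero]
  refine Algebra.FinitePresentation.of_surjective (mapW_surjective F π hπ) ?_
  rw [hkerW]
  exact ⟨(s ×ˢ (Finset.univ : Finset (Fin F.n))).image gen, by rw [Finset.coe_image]⟩

end finitePresentation

end Groth.Agent.Lib.Helper58.WeilAlgFP
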