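import Mathlib
import Groth.Prelude.Def_Flatn
import Groth.Agent.Lib.Helper58.WeilLocal

/-!
# The absolute version of `Flatn.morS g f`

`absF g f : Schemeᵒᵖ ⥤ Type u` sends `T` to the pairs `(t : T ⟶ S, m ∈ morS g f (T, t))`.
It is a Zariski sheaf, and it is representable iff `morS g f` is.
-/

set_option autoImplicit false

universe u

open CategoryTheory CategoryTheory.Limits AlgebraicGeometry Opposite

namespace Groth.Agent.Lib.Helper58.WeilAbs

open Groth.Agent.Lib.Helper58

variable {Z X S : Scheme.{u}} (g : Z ⟶ S) (f : X ⟶ S)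

/-- elements of the absolute functor over `T`. -/
abbrev El (T : Scheme.{u}) : Type u :=
  Σ t : T ⟶ S, (Flatn.morS g f).obj (op (Over.mk t))

/-- the comparison between `Over.mk t` and `Over.mk t'` for `t = t'` -/
def castOver {T : Scheme.{u}} {t t' : T ⟶ S} (h : t = t') : Over.mk t ⟶ Over.mk t' :=
  Over.homMk (𝟙 T) (by rw [h]; simp)

@[simp]
lemma castOver_left {T : Scheme.{u}} {t t' : T ⟶ S} (h : t = t') : (castOver h).left = 𝟙 T := rfl

variable {g f}

lemma map_congr_left {T₁ T₂ : Over S} (φ φ' : T₁ ⟶ T₂) (h : φ.left = φ'.left)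
    (m : (Flatn.morS g f).obj (op T₂)) :
    (Flatn.morS g f).map φ.op m = (Flatn.morS g f).map φ'.op m := by
  have : φ = φ' := Over.OverMorphism.ext h
  rw [this]

lemma map_map {T₁ T₂ T₃ : Over S} (φ : T₁ ⟶ T₂) (ψ : T₂ ⟶ T₃)
    (m : (Flatn.morS g f).obj (op T₃)) :
    (Flatn.morS g f).map φ.op ((Flatn.morS g f).map ψ.op m) =
      (Flatn.morS g f).map (φ ≫ ψ).op m := by
  rw [op_comp, CategoryTheory.Functor.map_comp_apply]

lemma map_id' {T : Over S} (φ : T ⟶ T) (h : φ.left = 𝟙 _)
    (m : (Flatn.morS g f).obj (op T)) : (Flatn.morS g f).map φ.op m = m := by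
  have : φ = 𝟙 T := Over.OverMorphism.ext h
  rw [this, op_id, CategoryTheory.Functor.map_id_apply]

lemma El.ext' {T : Scheme.{u}} (x y : El g f T) (ht : x.1 = y.1)
    (hm : x.2 = (Flatn.morS g f).map (castOver ht).op y.2) : x = y := by
  obtain ⟨t, m⟩ := x
  obtain ⟨t', m'⟩ := y
  dsimp only at ht
  subst ht
  dsimp only at hm
  rw [hm, map_id' _ rfl]

lemma El.snd_eq {T : Scheme.{u}} {x y : El g f T} (h : x = y) :
    x.2 = (Flatn.morS g f).map (castOver (congrArg Sigma.fst h)).op y.2 := by
  subst h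
  rw [map_id' _ rfl]

variable (g f)

/-- restriction of elements -/
noncomputable def res {T T' : Scheme.{u}} (a : T' ⟶ T) (x : El g f T) : El g f T' :=
  ⟨a ≫ x.1, (Flatn.morS g f).map (Over.homMk a rfl : Over.mk (a ≫ x.1) ⟶ Over.mk x.1).op x.2⟩

variable {g f}

@[simp]
lemma res_fst {T T' : Scheme.{u}} (a : T' ⟶ T) (x : El g f T) : (res g f a x).1 = a ≫ x.1 := rfl

/-- a flexible form of the second component of `res`. -/
lemma res_eq {T T' : Scheme.{u}} (a : T' ⟶ T) (x : El g f T) (t' : T' ⟶ S)
    (φ : Over.mk t' ⟶ Over.mk x.1) (hφ : φ.left = a) :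
    res g f a x = ⟨t', (Flatn.morS g f).map φ.op x.2⟩ := by
  have ht : a ≫ x.1 = t' := by
    rw [← hφ]
    exact Over.w φ
  subst ht
  unfold res
  rw [map_congr_left φ (Over.homMk a rfl) hφ]

lemma res_id {T : Scheme.{u}} (x : El g f T) : res g f (𝟙 T) x = x := by
  rw [res_eq (𝟙 T) x x.1 (𝟙 _) rfl]
  obtain ⟨t, m⟩ := x
  dsimp only
  rw [op_id, CategoryTheory.Functor.map_id_apply]

lemma res_comp {T T' T'' : Scheme.{u}} (a' : T'' ⟶ T') (a : T' ⟶ T) (x : El g f T) :
    res g f (a' ≫ a) x = res g f a' (res g f a x) := by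
  rw [res_eq (a' ≫ a) x (a' ≫ a ≫ x.1)
    ((Over.homMk a' rfl : Over.mk (a' ≫ a ≫ x.1) ⟶ Over.mk (a ≫ x.1)) ≫
      (Over.homMk a rfl : Over.mk (a ≫ x.1) ⟶ Over.mk x.1)) rfl]
  unfold res
  dsimp only
  rw [← map_map]

variable (g f)

/-- the absolute functor -/
noncomputable def absF : Scheme.{u}ᵒᵖ ⥤ Type u where
  obj T := El g f T.unop
  map {T T'} a := ↾(fun x => res g f a.unop x)
  map_id T := by
    refine ConcreteCategory.hom_ext _ _ (fun x => ?_)
    exact res_id x
  map_comp {T T' T''} a b := by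
    refine ConcreteCategory.hom_ext _ _ (fun x => ?_)
    exact res_comp b.unop a.unop x

@[simp]
lemma absF_map_apply {T T' : Scheme.{u}} (a : T' ⟶ T) (x : El g f T) :
    (absF g f).map a.op x = res g f a x := rfl


section bridge

variable {g f}
variable {G : Scheme.{u}} (e : (absF g f).RepresentableBy G)

/-- the universal element -/
noncomputable def univEl : El g f G := e.homEquiv (𝟙 G)

lemma homEquiv_eq {T : Scheme.{u}} (a : T ⟶ G) : e.homEquiv a = res g f a (univEl e) := by
  have := e.homEquiv_comp a (𝟙 G)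
  rw [Category.comp_id] at this
  exact this

/-- the representing object over `S` -/
noncomputable abbrev WG : Over S := Over.mk (univEl e).1

lemma mk_pull (T : Over S) (φ : T ⟶ WG e) :
    (⟨T.hom, WeilLocal.pull g f (univEl e).2 T φ⟩ : El g f T.left) =
      res g f φ.left (univEl e) :=
  (res_eq φ.left (univEl e) T.hom φ rfl).symm

theorem bijective_pull (T : Over S) :
    Function.Bijective (WeilLocal.pull g f (univEl e).2 T) := by
  constructor
  · intro φ φ' h
    have h1 : res g f φ.left (univEl e) = res g f φ'.left (univEl e) := by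
      rw [← mk_pull, ← mk_pull, h]
    rw [← homEquiv_eq, ← homEquiv_eq] at h1
    exact Over.OverMorphism.ext (e.homEquiv.injective h1)
  · intro n
    let x : El g f T.left := ⟨T.hom, n⟩
    let a : T.left ⟶ G := e.homEquiv.symm x
    have ha : res g f a (univEl e) = x := by
      rw [← homEquiv_eq]
      exact e.homEquiv.apply_symm_apply x
    have hw : a ≫ (univEl e).1 = T.hom := congrArg Sigma.fst ha
    let φ : T ⟶ WG e := Over.homMk a hw
    refine ⟨φ, ?_⟩
    have h2 := mk_pull e T φ
    rw [show φ.left = a from rfl, ha] at h2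
    have h3 := El.snd_eq h2
    exact h3.trans (map_id' _ rfl _)

/-- if the absolute functor is representable, so is `morS`. -/
noncomputable def representableBy : (Flatn.morS g f).RepresentableBy (WG e) :=
  WeilLocal.representableBy g f (univEl e).2 (bijective_pull e)

end bridge

end Groth.Agent.Lib.Helper58.WeilAbs
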