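import Mathlib
import Groth.Prelude.Def_Flatn
import Groth.Agent.Lib.Helper58.WeilLocal

/-!
# Gluing sections of `Flatn.morS g f` along an open cover of the test scheme
-/

set_option autoImplicit false

universe u

open CategoryTheory CategoryTheory.Limits AlgebraicGeometry Opposite

namespace Groth.Agent.Lib.Helper58.WeilLocal

variable {Z X S : Scheme.{u}} (g : Z ⟶ S) (f : X ⟶ S)

lemma pbmap_fst {T₁ T₂ : Over S} (φ : T₁ ⟶ T₂) :
    ((Over.pullback g).map φ).left ≫ pullback.fst T₂.hom g = pullback.fst T₁.hom g ≫ φ.left := by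
  simp only [Over.pullback_map_left]
  erw [pullback.lift_fst]

lemma pbmap_snd {T₁ T₂ : Over S} (φ : T₁ ⟶ T₂) :
    ((Over.pullback g).map φ).left ≫ pullback.snd T₂.hom g = pullback.snd T₁.hom g := by
  simp only [Over.pullback_map_left]
  erw [pullback.lift_snd]

/-- the underlying morphism of a section -/
noncomputable abbrev sec {T : Over S} (m : (Flatn.morS g f).obj (op T)) : pullback T.hom g ⟶ X :=
  (m : (Over.map g).obj ((Over.pullback g).obj T) ⟶ Over.mk f).left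

lemma sec_w {T : Over S} (m : (Flatn.morS g f).obj (op T)) :
    sec g f m ≫ f = pullback.snd T.hom g ≫ g :=
  Over.w (m : (Over.map g).obj ((Over.pullback g).obj T) ⟶ Over.mk f)

lemma sec_map {T₁ T₂ : Over S} (φ : T₁ ⟶ T₂) (m : (Flatn.morS g f).obj (op T₂)) :
    sec g f ((Flatn.morS g f).map φ.op m) = ((Over.pullback g).map φ).left ≫ sec g f m := rfl

lemma sec_ext {T : Over S} (m m' : (Flatn.morS g f).obj (op T)) (h : sec g f m = sec g f m') :
    m = m' :=
  Over.OverMorphism.ext h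

/-- build a section from its underlying morphism -/
noncomputable def mkSec {T : Over S} (ml : pullback T.hom g ⟶ X) (hw : ml ≫ f = pullback.snd T.hom g ≫ g) :
    (Flatn.morS g f).obj (op T) :=
  (Over.homMk ml hw : (Over.map g).obj ((Over.pullback g).obj T) ⟶ Over.mk f)

@[simp]
lemma sec_mkSec {T : Over S} (ml : pullback T.hom g ⟶ X)
    (hw : ml ≫ f = pullback.snd T.hom g ≫ g) : sec g f (mkSec g f ml hw) = ml := rfl

/-- the restriction of `T` to the intersection of two members of an open cover. -/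
noncomputable abbrev res₂ (T : Over S) (𝒰 : T.left.OpenCover) (i j : 𝒰.I₀) : Over S :=
  Over.mk (pullback.fst (𝒰.f i) (𝒰.f j) ≫ 𝒰.f i ≫ T.hom)

/-- first projection -/
noncomputable abbrev p₁ (T : Over S) (𝒰 : T.left.OpenCover) (i j : 𝒰.I₀) :
    res₂ T 𝒰 i j ⟶ res T 𝒰 i :=
  Over.homMk (pullback.fst (𝒰.f i) (𝒰.f j)) rfl

/-- second projection -/
noncomputable abbrev p₂ (T : Over S) (𝒰 : T.left.OpenCover) (i j : 𝒰.I₀) :
    res₂ T 𝒰 i j ⟶ res T 𝒰 j :=
  Over.homMk (pullback.snd (𝒰.f i) (𝒰.f j)) (by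
    change pullback.snd (𝒰.f i) (𝒰.f j) ≫ 𝒰.f j ≫ T.hom =
      pullback.fst (𝒰.f i) (𝒰.f j) ≫ 𝒰.f i ≫ T.hom
    rw [pullback.condition_assoc])

lemma p₁_resι (T : Over S) (𝒰 : T.left.OpenCover) (i j : 𝒰.I₀) :
    p₁ T 𝒰 i j ≫ resι T 𝒰 i = p₂ T 𝒰 i j ≫ resι T 𝒰 j := by
  apply Over.OverMorphism.ext
  exact pullback.condition

/-- general form of the compatibility -/
lemma glue_key {T Ti Tj Tij : Over S} (ιi : Ti ⟶ T) (ιj : Tj ⟶ T) (pi : Tij ⟶ Ti) (pj : Tij ⟶ Tj)
    (hpb : IsPullback pi.left pj.left ιi.left ιj.left)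
    (ni : (Flatn.morS g f).obj (op Ti)) (nj : (Flatn.morS g f).obj (op Tj))
    (hn : (Flatn.morS g f).map pi.op ni = (Flatn.morS g f).map pj.op nj)
    {P : Scheme.{u}} (a : P ⟶ pullback Ti.hom g) (b : P ⟶ pullback Tj.hom g)
    (hab : a ≫ ((Over.pullback g).map ιi).left = b ≫ ((Over.pullback g).map ιj).left) :
    a ≫ sec g f ni = b ≫ sec g f nj := by
  have c1 : (a ≫ pullback.fst Ti.hom g) ≫ ιi.left = (b ≫ pullback.fst Tj.hom g) ≫ ιj.left := by
    have := congrArg (fun k => k ≫ pullback.fst T.hom g) hab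
    simp only [Category.assoc] at this
    rw [pbmap_fst, pbmap_fst] at this
    simpa only [Category.assoc] using this
  have c2 : a ≫ pullback.snd Ti.hom g = b ≫ pullback.snd Tj.hom g := by
    have := congrArg (fun k => k ≫ pullback.snd T.hom g) hab
    simp only [Category.assoc] at this
    rw [pbmap_snd, pbmap_snd] at this
    exact this
  let θ₀ : P ⟶ Tij.left := hpb.lift (a ≫ pullback.fst Ti.hom g) (b ≫ pullback.fst Tj.hom g) c1
  have hθ₀1 : θ₀ ≫ pi.left = a ≫ pullback.fst Ti.hom g := hpb.lift_fst _ _ _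
  have hθ₀2 : θ₀ ≫ pj.left = b ≫ pullback.fst Tj.hom g := hpb.lift_snd _ _ _
  let θ : P ⟶ pullback Tij.hom g :=
    pullback.lift θ₀ (a ≫ pullback.snd Ti.hom g) (by
      rw [← Over.w pi, ← Category.assoc, hθ₀1, Category.assoc, Category.assoc,
        pullback.condition])
  have hθ1 : θ ≫ ((Over.pullback g).map pi).left = a := by
    apply pullback.hom_ext
    · rw [Category.assoc, pbmap_fst, ← Category.assoc, pullback.lift_fst, hθ₀1]
    · rw [Category.assoc, pbmap_snd, pullback.lift_snd]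
  have hθ2 : θ ≫ ((Over.pullback g).map pj).left = b := by
    apply pullback.hom_ext
    · rw [Category.assoc, pbmap_fst, ← Category.assoc, pullback.lift_fst, hθ₀2]
    · rw [Category.assoc, pbmap_snd, pullback.lift_snd, c2]
  have h1 := congrArg (sec g f) hn
  rw [sec_map, sec_map] at h1
  rw [← hθ1, Category.assoc, h1, ← Category.assoc, hθ2]

/-- `morS g f` satisfies gluing for the Zariski topology. -/
theorem morS_glue (T : Over S) (𝒰 : T.left.OpenCover)
    (n : ∀ i, (Flatn.morS g f).obj (op (res T 𝒰 i)))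
    (hn : ∀ i j, (Flatn.morS g f).map (p₁ T 𝒰 i j).op (n i) =
      (Flatn.morS g f).map (p₂ T 𝒰 i j).op (n j)) :
    ∃ m : (Flatn.morS g f).obj (op T), ∀ i, (Flatn.morS g f).map (resι T 𝒰 i).op m = n i := by
  let 𝒱 := Scheme.Pullback.openCoverOfLeft 𝒰 T.hom g
  have hvf : ∀ i : 𝒰.I₀, 𝒱.f i = ((Over.pullback g).map (resι T 𝒰 i)).left :=
    fun i => openCoverOfLeft_f g T 𝒰 i
  let nl : ∀ i : 𝒱.I₀, 𝒱.X i ⟶ X := fun i => sec g f (n i)
  have hcompat : ∀ i j : 𝒱.I₀, pullback.fst (𝒱.f i) (𝒱.f j) ≫ nl i =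
      pullback.snd (𝒱.f i) (𝒱.f j) ≫ nl j := by
    intro i j
    refine glue_key g f (resι T 𝒰 i) (resι T 𝒰 j) (p₁ T 𝒰 i j) (p₂ T 𝒰 i j)
      (IsPullback.of_hasPullback (𝒰.f i) (𝒰.f j)) (n i) (n j) (hn i j)
      (pullback.fst (𝒱.f i) (𝒱.f j)) (pullback.snd (𝒱.f i) (𝒱.f j)) ?_
    have := pullback.condition (f := 𝒱.f i) (g := 𝒱.f j)
    rw [hvf, hvf] at this
    exact this
  let ml : pullback T.hom g ⟶ X := 𝒱.glueMorphisms nl hcompat
  have hml : ∀ i, 𝒱.f i ≫ ml = nl i := fun i => 𝒱.ι_glueMorphisms nl hcompat i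
  have hw : ml ≫ f = pullback.snd T.hom g ≫ g := by
    refine 𝒱.hom_ext _ _ (fun i => ?_)
    rw [← Category.assoc, hml]
    change sec g f (n i) ≫ f = _
    rw [sec_w, ← Category.assoc]
    congr 1
    rw [hvf]
    exact (pbmap_snd g (resι T 𝒰 i)).symm
  refine ⟨mkSec g f ml hw, fun i => ?_⟩
  apply sec_ext
  rw [sec_map, sec_mkSec, ← hvf]
  exact hml i

end Groth.Agent.Lib.Helper58.WeilLocal
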