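import Mathlib
import Groth.Prelude.Def_Flatn
import Groth.Agent.Lib.Helper58.WeilGlue
import Groth.Agent.Lib.Helper58.WeilAbs

/-!
# `absF g f` is a Zariski sheaf
-/

set_option autoImplicit false

universe u

open CategoryTheory CategoryTheory.Limits AlgebraicGeometry Opposite

namespace Groth.Agent.Lib.Helper58.WeilAbs

open Groth.Agent.Lib.Helper58 WeilLocal

variable {Z X S : Scheme.{u}} {g : Z ⟶ S} {f : X ⟶ S}

lemma map_eq_of_eq {P : Scheme.{u}} {t t' : P ⟶ S} {m : (Flatn.morS g f).obj (op (Over.mk t))}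
    {m' : (Flatn.morS g f).obj (op (Over.mk t'))}
    (h : (⟨t, m⟩ : El g f P) = ⟨t', m'⟩) {T : Over S}
    (φ : T ⟶ Over.mk t) (ψ : T ⟶ Over.mk t') (hl : φ.left = ψ.left) :
    (Flatn.morS g f).map φ.op m = (Flatn.morS g f).map ψ.op m' := by
  obtain ⟨rfl, h2⟩ := Sigma.mk.inj_iff.mp h
  obtain rfl := eq_of_heq h2
  exact map_congr_left φ ψ hl _

lemma res_mk {T T' : Scheme.{u}} (a : T' ⟶ T) (t : T ⟶ S)
    (m : (Flatn.morS g f).obj (op (Over.mk t))) :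
    res g f a ⟨t, m⟩ = ⟨a ≫ t, (Flatn.morS g f).map
      (Over.homMk a rfl : Over.mk (a ≫ t) ⟶ Over.mk t).op m⟩ := rfl

/-- the basic compatibility lemma -/
lemma compat_map {P Y₁ Y₂ : Scheme.{u}} (x₁ : El g f Y₁) (x₂ : El g f Y₂) (a : P ⟶ Y₁)
    (b : P ⟶ Y₂) (h : res g f a x₁ = res g f b x₂) {T : Over S}
    (φ₁ : T ⟶ Over.mk x₁.1) (φ₂ : T ⟶ Over.mk x₂.1) (c : T.left ⟶ P)
    (h₁ : φ₁.left = c ≫ a) (h₂ : φ₂.left = c ≫ b) :
    (Flatn.morS g f).map φ₁.op x₁.2 = (Flatn.morS g f).map φ₂.op x₂.2 := by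
  obtain ⟨t₁, m₁⟩ := x₁
  obtain ⟨t₂, m₂⟩ := x₂
  rw [res_mk, res_mk] at h
  have e1 : c ≫ (a ≫ t₁) = T.hom := by
    have := Over.w φ₁
    rw [h₁] at this
    simpa using this
  have e2 : c ≫ (b ≫ t₂) = T.hom := by
    have := Over.w φ₂
    rw [h₂] at this
    simpa using this
  have h1 := map_eq_of_eq h (T := T) (Over.homMk c e1) (Over.homMk c e2) rfl
  rw [map_map, map_map] at h1
  dsimp only
  refine (map_congr_left _ _ ?_ _).trans (h1.trans (map_congr_left _ _ ?_ _))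
  · rw [h₁]; rfl
  · rw [h₂]; rfl

/-- `absF` is separated. -/
lemma El.ext_cover {Y : Scheme.{u}} (𝒰 : Y.OpenCover) (y y' : El g f Y)
    (h : ∀ j, res g f (𝒰.f j) y = res g f (𝒰.f j) y') : y = y' := by
  obtain ⟨t, m⟩ := y
  obtain ⟨t', m'⟩ := y'
  have ht : t = t' := by
    refine 𝒰.hom_ext _ _ (fun j => ?_)
    exact congrArg Sigma.fst (h j)
  subst ht
  congr 1
  refine morS_ext g f (Over.mk t) 𝒰 m m' (fun j => ?_)
  have h0 := h j
  rw [res_mk, res_mk] at h0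
  have h1 := map_eq_of_eq h0 (𝟙 _) (𝟙 _) rfl
  rw [map_id' _ rfl, map_id' _ rfl] at h1
  exact h1

/-- `absF` satisfies gluing. -/
lemma El.glue {Y : Scheme.{u}} (𝒰 : Y.OpenCover) (xx : ∀ j, El g f (𝒰.X j))
    (hcomp : ∀ i j, res g f (pullback.fst (𝒰.f i) (𝒰.f j)) (xx i) =
      res g f (pullback.snd (𝒰.f i) (𝒰.f j)) (xx j)) :
    ∃ y : El g f Y, ∀ j, res g f (𝒰.f j) y = xx j := by
  obtain ⟨t, ht⟩ : ∃ t : Y ⟶ S, ∀ j, 𝒰.f j ≫ t = (xx j).1 :=
    ⟨𝒰.glueMorphisms (fun j => (xx j).1) (fun i j => congrArg Sigma.fst (hcomp i j)),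
      fun j => 𝒰.ι_glueMorphisms _ _ j⟩
  let c : ∀ j, WeilLocal.res (Over.mk t) 𝒰 j ⟶ Over.mk (xx j).1 := fun j =>
    Over.homMk (𝟙 _) ((Category.id_comp _).trans (ht j).symm)
  let n : ∀ j, (Flatn.morS g f).obj (op (WeilLocal.res (Over.mk t) 𝒰 j)) := fun j =>
    (Flatn.morS g f).map (c j).op (xx j).2
  have hn : ∀ i j, (Flatn.morS g f).map (p₁ (Over.mk t) 𝒰 i j).op (n i) =
      (Flatn.morS g f).map (p₂ (Over.mk t) 𝒰 i j).op (n j) := by
    intro i j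
    change (Flatn.morS g f).map (p₁ (Over.mk t) 𝒰 i j).op ((Flatn.morS g f).map (c i).op (xx i).2) =
      (Flatn.morS g f).map (p₂ (Over.mk t) 𝒰 i j).op ((Flatn.morS g f).map (c j).op (xx j).2)
    rw [map_map, map_map]
    exact compat_map (xx i) (xx j) _ _ (hcomp i j) _ _ (𝟙 _)
      ((Category.comp_id _).trans (Category.id_comp _).symm)
      ((Category.comp_id _).trans (Category.id_comp _).symm)
  obtain ⟨m, hm⟩ := morS_glue g f (Over.mk t) 𝒰 n hn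
  refine ⟨⟨t, m⟩, fun j => ?_⟩
  refine El.ext' _ _ (ht j) ?_
  refine (hm j).trans ?_
  exact map_congr_left _ _ rfl _

theorem isSheaf_absF : Presieve.IsSheaf Scheme.zariskiTopology (absF g f) := by
  rw [Precoverage.isSheaf_toGrothendieck_iff_of_isStableUnderBaseChange]
  rintro Y R hR x hx
  obtain ⟨(𝓤 : Scheme.OpenCover Y), rfl⟩ := Scheme.exists_cover_of_mem_pretopology hR
  -- the local data
  let xx : ∀ j, El g f (𝓤.X j) := fun j => x (𝓤.f j) (.mk j)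
  have hcomp : ∀ (i j : 𝓤.I₀), res g f (pullback.fst (𝓤.f i) (𝓤.f j)) (xx i) =
      res g f (pullback.snd (𝓤.f i) (𝓤.f j)) (xx j) := by
    intro i j
    exact hx _ _ (.mk i) (.mk j) pullback.condition
  obtain ⟨y, hy⟩ := El.glue 𝓤 xx hcomp
  refine ⟨y, ?_, ?_⟩
  · rintro P a ⟨j⟩
    exact hy j
  · intro y' hy'
    refine El.ext_cover 𝓤 _ _ (fun j => ?_)
    rw [hy j]
    exact hy' (𝓤.f j) (.mk j)

/-- `absF` as a sheaf. -/
noncomputable def absSheaf (g : Z ⟶ S) (f : X ⟶ S) : Sheaf Scheme.zariskiTopology.{u} (Type u) :=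
  ⟨absF g f, (isSheaf_iff_isSheaf_of_type _ _).mpr isSheaf_absF⟩

end Groth.Agent.Lib.Helper58.WeilAbs
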