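import Mathlib
import Groth.Prelude.Def_Flatn
import Groth.Agent.Lib.Helper58.WeilSheaf
import Groth.Agent.Lib.Helper58.LocRep

/-!
# Representability of `Flatn.morS g f` by open charts
-/

set_option autoImplicit false

universe u

open CategoryTheory CategoryTheory.Limits AlgebraicGeometry Opposite

namespace Groth.Agent.Lib.Helper58.WeilChart

open Groth.Agent.Lib.Helper58 WeilLocal WeilAbs

variable {Z X S : Scheme.{u}} (g : Z ⟶ S) (f : X ⟶ S)

/-- An open chart of `morS g f`: an open subfunctor (cut out by the condition `Q`) which is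
representable by `W` with universal element `ev`. -/
structure Chart where
  /-- the representing object -/
  W : Over S
  /-- the universal element -/
  ev : (Flatn.morS g f).obj (op W)
  /-- the condition cutting out the subfunctor -/
  Q : ∀ T : Over S, (Flatn.morS g f).obj (op T) → Prop
  Q_ev : Q W ev
  Q_map : ∀ {T T' : Over S} (φ : T' ⟶ T) (m : (Flatn.morS g f).obj (op T)),
    Q T m → Q T' ((Flatn.morS g f).map φ.op m)
  exists_pull : ∀ (T : Over S) (m : (Flatn.morS g f).obj (op T)), Q T m →
    ∃ φ : T ⟶ W, pull g f ev T φ = m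
  pull_inj : ∀ (T : Over S) (φ φ' : T ⟶ W), pull g f ev T φ = pull g f ev T φ' → φ = φ'
  /-- the open locus where the condition holds -/
  U : ∀ (T : Over S), (Flatn.morS g f).obj (op T) → T.left.Opens
  mem_U_iff : ∀ {T T' : Over S} (φ : T' ⟶ T) (m : (Flatn.morS g f).obj (op T)),
    Q T' ((Flatn.morS g f).map φ.op m) ↔ ∀ y : T'.left, φ.left y ∈ U T m

variable {g f}

theorem isRepresentable_of_charts {ι : Type u} (c : ι → Chart g f)
    (hcov : ∀ (T : Over S) (m : (Flatn.morS g f).obj (op T)) (y : T.left),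
      ∃ i, y ∈ (c i).U T m) :
    (Flatn.morS g f).IsRepresentable := by
  have hF : Presheaf.IsSheaf Scheme.zariskiTopology (absF g f) :=
    (isSheaf_iff_isSheaf_of_type _ _).mpr isSheaf_absF
  have key : (absF g f).IsRepresentable := by
    refine LocRep.isRepresentable_of_charts hF (fun i => (c i).W.left)
      (fun i => (⟨(c i).W.hom, (c i).ev⟩ : El g f (c i).W.left))
      (fun i T x => (c i).U (Over.mk (x : El g f T).1) (x : El g f T).2) ?_ ?_ ?_ ?_
    · -- hU₁
      intro i T T' x a b h y
      change res g f b (⟨(c i).W.hom, (c i).ev⟩ : El g f (c i).W.left) = res g f a x at h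
      have hQ : ∀ z : El g f T', z = res g f b (⟨(c i).W.hom, (c i).ev⟩ : El g f (c i).W.left) →
          (c i).Q (Over.mk z.1) z.2 := by
        rintro z rfl
        exact (c i).Q_map (Over.homMk b rfl : Over.mk (b ≫ (c i).W.hom) ⟶ (c i).W) (c i).ev
          (c i).Q_ev
      have h2 := hQ _ h.symm
      exact ((c i).mem_U_iff (Over.homMk a rfl : Over.mk (a ≫ (x : El g f T).1) ⟶
        Over.mk (x : El g f T).1) (x : El g f T).2).mp h2 y
    · -- hU₂
      intro i T x
      let x' : El g f T := x
      let V : T.Opens := (c i).U (Over.mk x'.1) x'.2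
      let φV : Over.mk (V.ι ≫ x'.1) ⟶ Over.mk x'.1 := Over.homMk V.ι rfl
      have hQ : (c i).Q (Over.mk (V.ι ≫ x'.1)) ((Flatn.morS g f).map φV.op x'.2) := by
        refine ((c i).mem_U_iff φV x'.2).mpr (fun y => ?_)
        change V.ι y ∈ V
        have : V.ι y ∈ Set.range V.ι := ⟨y, rfl⟩
        rwa [Scheme.Opens.range_ι] at this
      obtain ⟨φ, hφ⟩ := (c i).exists_pull _ _ hQ
      refine ⟨φ.left, ?_⟩
      change res g f φ.left (⟨(c i).W.hom, (c i).ev⟩ : El g f (c i).W.left) = res g f V.ι x'
      rw [res_eq φ.left (⟨(c i).W.hom, (c i).ev⟩ : El g f (c i).W.left) (V.ι ≫ x'.1) φ rfl]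
      change _ = (⟨V.ι ≫ x'.1, (Flatn.morS g f).map φV.op x'.2⟩ : El g f V.toScheme)
      congr 1
    · -- hinj
      intro i T' b b' h
      change res g f b (⟨(c i).W.hom, (c i).ev⟩ : El g f (c i).W.left) =
        res g f b' (⟨(c i).W.hom, (c i).ev⟩ : El g f (c i).W.left) at h
      have h1 : b ≫ (c i).W.hom = b' ≫ (c i).W.hom := congrArg Sigma.fst h
      let β : Over.mk (b ≫ (c i).W.hom) ⟶ (c i).W := Over.homMk b rfl
      let β' : Over.mk (b ≫ (c i).W.hom) ⟶ (c i).W := Over.homMk b' h1.symm
      have h2 : pull g f (c i).ev _ β = pull g f (c i).ev _ β' := by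
        have h3 := compat_map (⟨(c i).W.hom, (c i).ev⟩ : El g f (c i).W.left)
          (⟨(c i).W.hom, (c i).ev⟩ : El g f (c i).W.left) b b' h β β' (𝟙 _)
          (Category.id_comp _).symm (Category.id_comp _).symm
        exact h3
      have h4 := (c i).pull_inj _ β β' h2
      exact congrArg (fun k => k.left) h4
    · -- hcov
      intro T x y
      exact hcov (Over.mk (x : El g f T).1) (x : El g f T).2 y
  obtain ⟨G, ⟨e⟩⟩ := key
  exact ⟨WG e, ⟨WeilAbs.representableBy e⟩⟩

end Groth.Agent.Lib.Helper58.WeilChart
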