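import Mathlib
import Groth.Prelude.Def_Flatn
import Groth.Agent.Lib.Helper58.WeilChart

/-!
# Representability of `Flatn.morS g f` is local on the base
-/

set_option autoImplicit false

universe u

open CategoryTheory CategoryTheory.Limits AlgebraicGeometry Opposite

namespace Groth.Agent.Lib.Helper58.WeilBase

open Groth.Agent.Lib.Helper58 WeilLocal WeilAbs WeilChart

variable {Z X S S' : Scheme.{u}} (g : Z ⟶ S) (f : X ⟶ S) (h : S' ⟶ S)

/-- the restricted functor on `Over S'` -/
noncomputable abbrev resF : (Over S')ᵒᵖ ⥤ Type u := (Over.map h).op ⋙ Flatn.morS g f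

variable {g f h}

lemma homEquiv_eq {W₀ : Over S'} (e : (resF g f h).RepresentableBy W₀) {T₀ : Over S'}
    (a : T₀ ⟶ W₀) :
    e.homEquiv a = (Flatn.morS g f).map ((Over.map h).map a).op (e.homEquiv (𝟙 W₀)) := by
  have := e.homEquiv_comp a (𝟙 W₀)
  rw [Category.comp_id] at this
  exact this

/-- the comparison iso `T ≅ (Over.map h).obj (Over.mk t₀)` when `T.hom = t₀ ≫ h`. -/
noncomputable def cmp (T : Over S) (t₀ : T.left ⟶ S') (ht : t₀ ≫ h = T.hom) :
    T ≅ (Over.map h).obj (Over.mk t₀) :=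
  Over.isoMk (Iso.refl _) (by simpa using ht)

@[simp] lemma cmp_hom_left (T : Over S) (t₀ : T.left ⟶ S') (ht : t₀ ≫ h = T.hom) :
    (cmp T t₀ ht).hom.left = 𝟙 _ := rfl

@[simp] lemma cmp_inv_left (T : Over S) (t₀ : T.left ⟶ S') (ht : t₀ ≫ h = T.hom) :
    (cmp T t₀ ht).inv.left = 𝟙 _ := rfl

lemma map_hom_inv {T T' : Over S} (c : T ≅ T') (m : (Flatn.morS g f).obj (op T)) :
    (Flatn.morS g f).map c.hom.op ((Flatn.morS g f).map c.inv.op m) = m := by
  rw [map_map, map_id' _ (by simp)]

lemma map_inv_hom {T T' : Over S} (c : T ≅ T') (m : (Flatn.morS g f).obj (op T')) :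
    (Flatn.morS g f).map c.inv.op ((Flatn.morS g f).map c.hom.op m) = m := by
  rw [map_map, map_id' _ (by simp)]

/-- The chart associated with a representable restriction to an open subscheme of the base. -/
noncomputable def baseChart [IsOpenImmersion h] (W₀ : Over S')
    (e : (resF g f h).RepresentableBy W₀) : Chart g f where
  W := (Over.map h).obj W₀
  ev := e.homEquiv (𝟙 W₀)
  Q T _ := ∀ y : T.left, T.hom y ∈ Set.range h
  Q_ev := by
    intro y
    exact ⟨W₀.hom y, rfl⟩
  Q_map := by
    intro T T' φ m hQ y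
    have : T'.hom = φ.left ≫ T.hom := (Over.w φ).symm
    rw [this]
    exact hQ (φ.left y)
  exists_pull := by
    intro T m hQ
    have hr : Set.range T.hom ⊆ Set.range h := by
      rintro _ ⟨y, rfl⟩
      exact hQ y
    let t₀ : T.left ⟶ S' := IsOpenImmersion.lift h T.hom hr
    have ht : t₀ ≫ h = T.hom := IsOpenImmersion.lift_fac _ _ _
    let c := cmp T t₀ ht
    let m₀ : (resF g f h).obj (op (Over.mk t₀)) := (Flatn.morS g f).map c.inv.op m
    let φ₀ : Over.mk t₀ ⟶ W₀ := e.homEquiv.symm m₀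
    refine ⟨c.hom ≫ (Over.map h).map φ₀, ?_⟩
    rw [pull_comp]
    unfold pull
    rw [← homEquiv_eq e φ₀]
    change (Flatn.morS g f).map c.hom.op (e.homEquiv (e.homEquiv.symm m₀)) = m
    rw [Equiv.apply_symm_apply]
    exact map_hom_inv c m
  pull_inj := by
    intro T φ φ' hp
    let t₀ : T.left ⟶ S' := φ.left ≫ W₀.hom
    have ht : t₀ ≫ h = T.hom := by
      have := Over.w φ
      simpa [t₀] using this
    have ht' : φ'.left ≫ W₀.hom = t₀ := by
      rw [← cancel_mono h, ht]
      have := Over.w φ'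
      simpa using this
    let c := cmp T t₀ ht
    let φ₀ : Over.mk t₀ ⟶ W₀ := Over.homMk φ.left rfl
    let φ₀' : Over.mk t₀ ⟶ W₀ := Over.homMk φ'.left ht'
    have e1 : φ = c.hom ≫ (Over.map h).map φ₀ := by
      apply Over.OverMorphism.ext
      simp [c, φ₀]
    have e2 : φ' = c.hom ≫ (Over.map h).map φ₀' := by
      apply Over.OverMorphism.ext
      simp [c, φ₀']
    rw [e1, e2, pull_comp, pull_comp] at hp
    unfold pull at hp
    rw [← homEquiv_eq e φ₀, ← homEquiv_eq e φ₀'] at hp
    have hp2 := congrArg ((Flatn.morS g f).map c.inv.op) hp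
    rw [map_inv_hom, map_inv_hom] at hp2
    have h3 : φ₀ = φ₀' := e.homEquiv.injective hp2
    rw [e1, e2, h3]
  U T _ := T.hom ⁻¹ᵁ h.opensRange
  mem_U_iff := by
    intro T T' φ m
    have : T'.hom = φ.left ≫ T.hom := (Over.w φ).symm
    constructor
    · intro hQ y
      have := hQ y
      rw [‹T'.hom = φ.left ≫ T.hom›] at this
      exact this
    · intro hU y
      rw [this]
      exact hU y

end Groth.Agent.Lib.Helper58.WeilBase

namespace Groth.Agent.Lib.Helper58.WeilBase

open Groth.Agent.Lib.Helper58 WeilLocal WeilAbs WeilChart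

variable {Z X S S' : Scheme.{u}} {g : Z ⟶ S} {f : X ⟶ S}

/-- Representability of `morS g f` is Zariski-local on the base. -/
theorem isRepresentable_of_openCover (𝒰 : Scheme.OpenCover.{u} S)
    (H : ∀ i, (resF g f (𝒰.f i)).IsRepresentable) : (Flatn.morS g f).IsRepresentable := by
  choose W₀ e using fun i => (H i).has_representation
  refine isRepresentable_of_charts (fun i => baseChart (W₀ i) (e i).some) ?_
  intro T m y
  obtain ⟨i, z, hz⟩ := 𝒰.exists_eq (T.hom y)
  exact ⟨i, z, hz⟩

end Groth.Agent.Lib.Helper58.WeilBase
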