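import Mathlib
import Groth.Prelude.Def_Flatn
import Groth.Agent.S17079
import Groth.Agent.Lib.Helper58.WeilBase

/-!
# Base change for `Flatn.morS g f`: the restriction to `Over S'` is `morS` of the base changes.
(the construction follows `Groth.Agent.S17079.result`)
-/

set_option autoImplicit false

universe u

open CategoryTheory CategoryTheory.Limits AlgebraicGeometry Opposite

namespace Groth.Agent.Lib.Helper58.WeilBase

open Groth.Agent.S17079

variable {Z X S S' : Scheme.{u}} (g : Z ⟶ S) (f : X ⟶ S) (h : S' ⟶ S)

/-- the componentwise bijection -/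
noncomputable def bcEquiv (T' : Over S') :
    (resF g f h).obj (op T') ≃
      (Flatn.morS (pullback.snd g h) (pullback.snd f h)).obj (op T') :=
  let adj := Over.mapPullbackAdj h
  { toFun := fun (β : (Over.map g).obj ((Over.pullback g).obj ((Over.map h).obj T')) ⟶
        Over.mk f) => adj.homEquiv _ (Over.mk f) ((gammaIso g h T').hom ≫ β)
    invFun := fun (α : (Over.map (pullback.snd g h)).obj
        ((Over.pullback (pullback.snd g h)).obj T') ⟶ (Over.pullback h).obj (Over.mk f)) =>
      (gammaIso g h T').inv ≫ (adj.homEquiv _ (Over.mk f)).symm α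
    left_inv := fun (β : (Over.map g).obj ((Over.pullback g).obj ((Over.map h).obj T')) ⟶
        Over.mk f) => by simp <;> rfl
    right_inv := fun (α : (Over.map (pullback.snd g h)).obj
        ((Over.pullback (pullback.snd g h)).obj T') ⟶ (Over.pullback h).obj (Over.mk f)) => by
      simp <;> rfl }

/-- the base change isomorphism -/
noncomputable def bcIso : resF g f h ≅ Flatn.morS (pullback.snd g h) (pullback.snd f h) :=
  NatIso.ofComponents (fun T' => (bcEquiv g f h T'.unop).toIso) (by
    intro A B k
    ext β
    let adj := Over.mapPullbackAdj h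
    change adj.homEquiv _ (Over.mk f) ((gammaIso g h B.unop).hom ≫
        ((Over.map g).map ((Over.pullback g).map ((Over.map h).map k.unop)) ≫ β)) =
      (Over.map (pullback.snd g h)).map ((Over.pullback (pullback.snd g h)).map k.unop) ≫
        adj.homEquiv _ (Over.mk f) ((gammaIso g h A.unop).hom ≫ β)
    exact ((congrArg (adj.homEquiv _ (Over.mk f))
      ((Category.assoc _ _ _).symm.trans ((congrArg (· ≫ β)
        (gammaIso_naturality g h k.unop).symm).trans (Category.assoc _ _ _)))).trans
      (adj.homEquiv_naturality_left _ _)))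

variable {g f}

/-- Representability of `morS g f` is Zariski-local on the base, second form. -/
theorem isRepresentable_of_openCover' (𝒰 : Scheme.OpenCover.{u} S)
    (H : ∀ i, (Flatn.morS (pullback.snd g (𝒰.f i)) (pullback.snd f (𝒰.f i))).IsRepresentable) :
    (Flatn.morS g f).IsRepresentable := by
  refine isRepresentable_of_openCover 𝒰 (fun i => ?_)
  obtain ⟨W, ⟨e⟩⟩ := (H i).has_representation
  exact ⟨W, ⟨e.ofIso (bcIso g f (𝒰.f i)).symm⟩⟩

end Groth.Agent.Lib.Helper58.WeilBase
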