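import Mathlib
import Groth.Prelude.Def_Flatn
import Groth.Prelude.Def_Mor2
import Groth.Agent.Lib.Helper58.WeilAffineP
import Groth.Agent.Lib.Helper58.WeilBC

/-!
# `Mor_S(Z, X)` for `Z` finite locally free and `X` affine over `S`
-/

set_option autoImplicit false

universe u

open CategoryTheory CategoryTheory.Limits AlgebraicGeometry Opposite

namespace Groth.Agent.Lib.Helper58.WeilFLF

variable {Z X S : Scheme.{u}}

/-- finite locally free over an affine base: global sections are finite projective -/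
lemma hproj_of_isFinLocFree [IsAffine S] [IsAffine Z] (g : Z ⟶ S) (hg : Mor2.IsFinLocFree g) :
    letI := (g.appTop).hom.toAlgebra
    Module.Finite Γ(S, ⊤) Γ(Z, ⊤) ∧ Module.Projective Γ(S, ⊤) Γ(Z, ⊤) := by
  obtain ⟨h1, h2, h3⟩ := hg
  have h1' : RingHom.Finite g.appTop.hom := ((HasAffineProperty.iff_of_isAffine (P := @IsFinite)).mp h1).2
  have h2' : RingHom.Flat g.appTop.hom := (HasRingHomProperty.iff_of_isAffine (P := @Flat)).mp h2
  have h3' : RingHom.FinitePresentation g.appTop.hom :=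
    (HasRingHomProperty.iff_of_isAffine (P := @LocallyOfFinitePresentation)).mp h3
  algebraize [g.appTop.hom]
  have : Module.FinitePresentation Γ(S, ⊤) Γ(Z, ⊤) :=
    Module.FinitePresentation.of_finite_of_finitePresentation _ _
  exact ⟨inferInstance, Module.Flat.projective_of_finitePresentation⟩

lemma isFinLocFree_pullback_snd {S' : Scheme.{u}} (g : Z ⟶ S) (hg : Mor2.IsFinLocFree g)
    (h : S' ⟶ S) : Mor2.IsFinLocFree (pullback.snd g h) := by
  obtain ⟨h1, h2, h3⟩ := hg
  exact ⟨MorphismProperty.pullback_snd _ _ h1, MorphismProperty.pullback_snd _ _ h2,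
    MorphismProperty.pullback_snd _ _ h3⟩

end Groth.Agent.Lib.Helper58.WeilFLF

namespace Groth.Agent.Lib.Helper58.WeilFLF

open Groth.Agent.Lib.Helper58

variable {Z X S : Scheme.{u}}

/-- local statement over an affine base -/
theorem exists_affine_representableBy [IsAffine S] (g : Z ⟶ S) (f : X ⟶ S)
    (hg : Mor2.IsFinLocFree g) [IsAffineHom f] :
    ∃ W : Over S, IsAffine W.left ∧ Nonempty ((Flatn.morS g f).RepresentableBy W) := by
  haveI : IsFinite g := hg.1
  haveI : IsAffine Z := isAffine_of_isAffineHom g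
  haveI : IsAffine X := isAffine_of_isAffineHom f
  exact WeilAffineP.exists_representableBy_of_affine g f (hproj_of_isFinLocFree g hg)

/-- S7194 -/
theorem exists_affineHom_representableBy (g : Z ⟶ S) (f : X ⟶ S)
    (hg : Mor2.IsFinLocFree g) [IsAffineHom f] :
    ∃ W : Over S, IsAffineHom W.hom ∧ Nonempty ((Flatn.morS g f).RepresentableBy W) := by
  let 𝒰 : Scheme.OpenCover.{u} S := S.affineCover
  have hloc : ∀ i, ∃ Wi : Over (𝒰.X i), IsAffine Wi.left ∧
      Nonempty ((Flatn.morS (pullback.snd g (𝒰.f i)) (pullback.snd f (𝒰.f i))).RepresentableBy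
        Wi) := by
    intro i
    haveI : IsAffine (𝒰.X i) := inferInstanceAs (IsAffine (S.affineCover.X i))
    exact exists_affine_representableBy (pullback.snd g (𝒰.f i)) (pullback.snd f (𝒰.f i))
      (isFinLocFree_pullback_snd g hg (𝒰.f i))
  have hrep : (Flatn.morS g f).IsRepresentable :=
    WeilBase.isRepresentable_of_openCover' 𝒰 (fun i => by
      obtain ⟨Wi, _, hWi⟩ := hloc i
      exact ⟨Wi, hWi⟩)
  obtain ⟨W, ⟨e⟩⟩ := hrep.has_representation
  refine ⟨W, ?_, ⟨e⟩⟩
  refine IsZariskiLocalAtTarget.of_openCover (P := @IsAffineHom) 𝒰 (fun i => ?_)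
  obtain ⟨Wi, hWi, ⟨ei⟩⟩ := hloc i
  obtain ⟨e'⟩ := Groth.Agent.S17079.result g f (𝒰.f i) W e
  let iso : Over.mk (pullback.snd W.hom (𝒰.f i)) ≅ Wi := e'.uniqueUpToIso ei
  haveI : IsAffine (𝒰.X i) := inferInstanceAs (IsAffine (S.affineCover.X i))
  haveI : IsAffine Wi.left := hWi
  haveI : IsAffine (pullback W.hom (𝒰.f i)) :=
    IsAffine.of_isIso (Y := Wi.left) iso.hom.left
  change IsAffineHom (pullback.snd W.hom (𝒰.f i))
  infer_instance

end Groth.Agent.Lib.Helper58.WeilFLF
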