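import Mathlib
import Groth.Prelude.Def_Flatn
import Groth.Prelude.Def_Mor2
import Groth.Agent.Lib.Helper58.WeilAlgFP
import Groth.Agent.Lib.Helper58.WeilAffineP
import Groth.Agent.Lib.Helper58.WeilFLF

/-!
# Finiteness properties of the scheme `Mor_S(Z, X)` for `Z` finite locally free, `X` affine over `S`
-/

set_option autoImplicit false

universe u

open CategoryTheory CategoryTheory.Limits AlgebraicGeometry Opposite TensorProduct Module

namespace Groth.Agent.Lib.Helper58.WeilFP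

open Groth.Agent.Lib.Helper58 Groth.Agent.Lib.Helper58.WeilAffine

section main

variable {Z X S : Scheme.{u}} [IsAffine Z] [IsAffine X] [IsAffine S] (g : Z ⟶ S) (f : X ⟶ S)

/-- refined version of `WeilAffineP.exists_representableBy_of_affine`, keeping track of
finiteness properties. -/
theorem exists_representableBy_of_affine
    (hproj : letI := (g.appTop).hom.toAlgebra
      Module.Finite Γ(S, ⊤) Γ(Z, ⊤) ∧ Module.Projective Γ(S, ⊤) Γ(Z, ⊤)) :
    ∃ W : Over S, IsAffine W.left ∧ Nonempty ((Flatn.morS g f).RepresentableBy W) ∧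
      (LocallyOfFiniteType f → LocallyOfFiniteType W.hom) ∧
      (LocallyOfFinitePresentation f → LocallyOfFinitePresentation W.hom) := by
  letI algC : Algebra Γ(S, ⊤) Γ(Z, ⊤) := (g.appTop).hom.toAlgebra
  letI algB : Algebra Γ(S, ⊤) Γ(X, ⊤) := (f.appTop).hom.toAlgebra
  obtain ⟨hfin, hpr⟩ := hproj
  obtain ⟨F⟩ := WeilAlgP.nonempty_frame Γ(S, ⊤) Γ(Z, ⊤)
  have eL := WeilAffineP.representableBy_literal (R := Γ(S, ⊤)) (C := Γ(Z, ⊤)) (B := Γ(X, ⊤)) F
  let h : S ⟶ Spec (CommRingCat.of Γ(S, ⊤)) := S.isoSpec.hom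
  haveI : IsIso h := inferInstanceAs (IsIso S.isoSpec.hom)
  obtain ⟨e1⟩ := Groth.Agent.S17079.result (WeilSpec.gL Γ(S, ⊤) Γ(Z, ⊤))
    (WeilSpec.fL Γ(S, ⊤) Γ(X, ⊤)) h (WeilSpecP.WL Γ(X, ⊤) F) eL
  have hZ : IsPullback Z.isoSpec.hom g (WeilSpec.gL Γ(S, ⊤) Γ(Z, ⊤)) h :=
    IsPullback.of_horiz_isIso ⟨Scheme.isoSpec_hom_naturality g⟩
  have hX : IsPullback X.isoSpec.hom f (WeilSpec.fL Γ(S, ⊤) Γ(X, ⊤)) h :=
    IsPullback.of_horiz_isIso ⟨Scheme.isoSpec_hom_naturality f⟩
  let i := morSIso g f (pullback.snd (WeilSpec.gL Γ(S, ⊤) Γ(Z, ⊤)) h)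
    (pullback.snd (WeilSpec.fL Γ(S, ⊤) Γ(X, ⊤)) h) hZ.isoPullback hX.isoPullback
    hZ.isoPullback_hom_snd hX.isoPullback_hom_snd
  refine ⟨Over.mk (pullback.snd (WeilSpecP.WL Γ(X, ⊤) F).hom h), ?_, ⟨e1.ofIso i.symm⟩, ?_, ?_⟩
  · change IsAffine (pullback (WeilSpecP.WL Γ(X, ⊤) F).hom h)
    haveI : IsAffine (WeilSpecP.WL Γ(X, ⊤) F).left :=
      inferInstanceAs (IsAffine (Spec (CommRingCat.of (WeilAlgP.W F Γ(X, ⊤)))))
    exact IsAffine.of_isIso (pullback.fst (WeilSpecP.WL Γ(X, ⊤) F).hom h)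
  · intro hf
    have h3' : RingHom.FiniteType f.appTop.hom :=
      (HasRingHomProperty.iff_of_isAffine (P := @LocallyOfFiniteType)).mp hf
    haveI : Algebra.FiniteType Γ(S, ⊤) Γ(X, ⊤) := h3'
    haveI : Algebra.FiniteType Γ(S, ⊤) (WeilAlgP.W F Γ(X, ⊤)) := WeilAlgFP.finiteType F
    have h4 : LocallyOfFiniteType (WeilSpecP.WL Γ(X, ⊤) F).hom := by
      change LocallyOfFiniteType (Spec.map (CommRingCat.ofHom (algebraMap _ _)))
      rw [HasRingHomProperty.Spec_iff (P := @LocallyOfFiniteType)]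
      exact RingHom.finiteType_algebraMap.mpr inferInstance
    change LocallyOfFiniteType (pullback.snd (WeilSpecP.WL Γ(X, ⊤) F).hom h)
    exact MorphismProperty.pullback_snd _ _ h4
  · intro hf
    have h3' : RingHom.FinitePresentation f.appTop.hom :=
      (HasRingHomProperty.iff_of_isAffine (P := @LocallyOfFinitePresentation)).mp hf
    haveI : Algebra.FinitePresentation Γ(S, ⊤) Γ(X, ⊤) := h3'
    haveI : Algebra.FinitePresentation Γ(S, ⊤) (WeilAlgP.W F Γ(X, ⊤)) :=
      WeilAlgFP.finitePresentation F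
    have h4 : LocallyOfFinitePresentation (WeilSpecP.WL Γ(X, ⊤) F).hom := by
      change LocallyOfFinitePresentation (Spec.map (CommRingCat.ofHom (algebraMap _ _)))
      rw [HasRingHomProperty.Spec_iff (P := @LocallyOfFinitePresentation)]
      exact RingHom.finitePresentation_algebraMap.mpr inferInstance
    change LocallyOfFinitePresentation (pullback.snd (WeilSpecP.WL Γ(X, ⊤) F).hom h)
    exact MorphismProperty.pullback_snd _ _ h4

end main

variable {Z X S : Scheme.{u}}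

/-- local statement over an affine base -/
theorem exists_affine_representableBy [IsAffine S] (g : Z ⟶ S) (f : X ⟶ S)
    (hg : Mor2.IsFinLocFree g) [IsAffineHom f] :
    ∃ W : Over S, IsAffine W.left ∧ Nonempty ((Flatn.morS g f).RepresentableBy W) ∧
      (LocallyOfFiniteType f → LocallyOfFiniteType W.hom) ∧
      (LocallyOfFinitePresentation f → LocallyOfFinitePresentation W.hom) := by
  haveI : IsFinite g := hg.1
  haveI : IsAffine Z := isAffine_of_isAffineHom g
  haveI : IsAffine X := isAffine_of_isAffineHom f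
  exact exists_representableBy_of_affine g f (WeilFLF.hproj_of_isFinLocFree g hg)

/-- S7194 with finiteness properties -/
theorem exists_affineHom_representableBy (g : Z ⟶ S) (f : X ⟶ S)
    (hg : Mor2.IsFinLocFree g) [IsAffineHom f] :
    ∃ W : Over S, IsAffineHom W.hom ∧ Nonempty ((Flatn.morS g f).RepresentableBy W) ∧
      (LocallyOfFiniteType f → LocallyOfFiniteType W.hom) ∧
      (LocallyOfFinitePresentation f → LocallyOfFinitePresentation W.hom) := by
  let 𝒰 : Scheme.OpenCover.{u} S := S.affineCover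
  have hloc : ∀ i, ∃ Wi : Over (𝒰.X i), IsAffine Wi.left ∧
      Nonempty ((Flatn.morS (pullback.snd g (𝒰.f i)) (pullback.snd f (𝒰.f i))).RepresentableBy
        Wi) ∧
      (LocallyOfFiniteType (pullback.snd f (𝒰.f i)) → LocallyOfFiniteType Wi.hom) ∧
      (LocallyOfFinitePresentation (pullback.snd f (𝒰.f i)) →
        LocallyOfFinitePresentation Wi.hom) := by
    intro i
    haveI : IsAffine (𝒰.X i) := inferInstanceAs (IsAffine (S.affineCover.X i))
    exact exists_affine_representableBy (pullback.snd g (𝒰.f i)) (pullback.snd f (𝒰.f i))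
      (WeilFLF.isFinLocFree_pullback_snd g hg (𝒰.f i))
  have hrep : (Flatn.morS g f).IsRepresentable :=
    WeilBase.isRepresentable_of_openCover' 𝒰 (fun i => by
      obtain ⟨Wi, _, hWi, _⟩ := hloc i
      exact ⟨Wi, hWi⟩)
  obtain ⟨W, ⟨e⟩⟩ := hrep.has_representation
  have hiso : ∀ i, ∃ Wi : Over (𝒰.X i), IsAffine Wi.left ∧
      (LocallyOfFiniteType (pullback.snd f (𝒰.f i)) → LocallyOfFiniteType Wi.hom) ∧
      (LocallyOfFinitePresentation (pullback.snd f (𝒰.f i)) →
        LocallyOfFinitePresentation Wi.hom) ∧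
      Nonempty (Over.mk (pullback.snd W.hom (𝒰.f i)) ≅ Wi) := by
    intro i
    obtain ⟨Wi, hWi, ⟨ei⟩, h1, h2⟩ := hloc i
    obtain ⟨e'⟩ := Groth.Agent.S17079.result g f (𝒰.f i) W e
    exact ⟨Wi, hWi, h1, h2, ⟨e'.uniqueUpToIso ei⟩⟩
  refine ⟨W, ?_, ⟨e⟩, ?_, ?_⟩
  · refine IsZariskiLocalAtTarget.of_openCover (P := @IsAffineHom) 𝒰 (fun i => ?_)
    obtain ⟨Wi, hWi, _, _, ⟨iso⟩⟩ := hiso i
    haveI : IsAffine (𝒰.X i) := inferInstanceAs (IsAffine (S.affineCover.X i))
    haveI : IsAffine Wi.left := hWi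
    haveI : IsAffine (pullback W.hom (𝒰.f i)) :=
      IsAffine.of_isIso (Y := Wi.left) iso.hom.left
    change IsAffineHom (pullback.snd W.hom (𝒰.f i))
    infer_instance
  · intro hf
    refine IsZariskiLocalAtTarget.of_openCover (P := @LocallyOfFiniteType) 𝒰 (fun i => ?_)
    obtain ⟨Wi, hWi, h1, _, ⟨iso⟩⟩ := hiso i
    have h1' := h1 (MorphismProperty.pullback_snd _ _ hf)
    change LocallyOfFiniteType (pullback.snd W.hom (𝒰.f i))
    have hw : pullback.snd W.hom (𝒰.f i) = iso.hom.left ≫ Wi.hom := (Over.w iso.hom).symm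
    rw [hw]
    infer_instance
  · intro hf
    refine IsZariskiLocalAtTarget.of_openCover (P := @LocallyOfFinitePresentation) 𝒰 (fun i => ?_)
    obtain ⟨Wi, hWi, _, h2, ⟨iso⟩⟩ := hiso i
    have h2' := h2 (MorphismProperty.pullback_snd _ _ hf)
    change LocallyOfFinitePresentation (pullback.snd W.hom (𝒰.f i))
    have hw : pullback.snd W.hom (𝒰.f i) = iso.hom.left ≫ Wi.hom := (Over.w iso.hom).symm
    rw [hw]
    infer_instance

end Groth.Agent.Lib.Helper58.WeilFP
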