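import Mathlib
import Groth.Prelude.Def_Flatn
import Groth.Prelude.Def_Mor2
import Groth.Agent.Lib.Helper58.WeilGlue
import Groth.Agent.Lib.Helper58.WeilFP

/-!
# Hom schemes in cartesian monoidal form

From a representing object of `Flatn.morS X.hom Y.hom` we get `(M, ev : X ⊗ M ⟶ Y)` universal
among families `X ⊗ T ⟶ Y`.
-/

set_option autoImplicit false

universe u

open CategoryTheory CategoryTheory.Limits AlgebraicGeometry Opposite MonoidalCategory
  CartesianMonoidalCategory

namespace Groth.Agent.Lib.Helper58.HomMon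

open Groth.Agent.Lib.Helper58

variable {S : Scheme.{u}} (X : Over S)

/-- `X ⊗ T ≅ T ×_S X` over `S`. -/
noncomputable def σ (T : Over S) : X ⊗ T ≅ (Over.map X.hom).obj ((Over.pullback X.hom).obj T) :=
  Over.isoMk (pullbackSymmetry X.hom T.hom) (by
    change (pullbackSymmetry X.hom T.hom).hom ≫ pullback.snd T.hom X.hom ≫ X.hom =
      pullback.fst X.hom T.hom ≫ X.hom
    rw [← Category.assoc, pullbackSymmetry_hom_comp_snd])

lemma σ_hom_left (T : Over S) : (σ X T).hom.left = (pullbackSymmetry X.hom T.hom).hom := rfl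

lemma σ_natural {T T' : Over S} (v : T ⟶ T') :
    (X ◁ v) ≫ (σ X T').hom = (σ X T).hom ≫ (Over.map X.hom).map ((Over.pullback X.hom).map v) := by
  apply Over.OverMorphism.ext
  change (X ◁ v).left ≫ (pullbackSymmetry X.hom T'.hom).hom =
    (pullbackSymmetry X.hom T.hom).hom ≫ ((Over.pullback X.hom).map v).left
  apply pullback.hom_ext
  · rw [Category.assoc, Category.assoc, pullbackSymmetry_hom_comp_fst, WeilLocal.pbmap_fst,
      ← Category.assoc, pullbackSymmetry_hom_comp_fst]
    exact Over.whiskerLeft_left_snd v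
  · rw [Category.assoc, Category.assoc, pullbackSymmetry_hom_comp_snd, WeilLocal.pbmap_snd,
      pullbackSymmetry_hom_comp_snd]
    exact Over.whiskerLeft_left_fst v

variable {X} {Y : Over S}

/-- the universal family attached to a representation of `morS`. -/
noncomputable def ev {M : Over S} (e : (Flatn.morS X.hom Y.hom).RepresentableBy M) : X ⊗ M ⟶ Y :=
  (σ X M).hom ≫ (e.homEquiv (𝟙 M) : (Over.map X.hom).obj ((Over.pullback X.hom).obj M) ⟶
    Over.mk Y.hom)

lemma whiskerLeft_ev {M : Over S} (e : (Flatn.morS X.hom Y.hom).RepresentableBy M) {T : Over S}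
    (v : T ⟶ M) :
    (X ◁ v) ≫ ev e = (σ X T).hom ≫ (e.homEquiv v :
      (Over.map X.hom).obj ((Over.pullback X.hom).obj T) ⟶ Over.mk Y.hom) := by
  unfold ev
  rw [← Category.assoc, σ_natural, Category.assoc]
  congr 1
  have h := e.homEquiv_comp v (𝟙 M)
  rw [Category.comp_id] at h
  rw [h]
  rfl

theorem existsUnique_of_representableBy {M : Over S}
    (e : (Flatn.morS X.hom Y.hom).RepresentableBy M) (T : Over S) (φ : X ⊗ T ⟶ Y) :
    ∃! v : T ⟶ M, (X ◁ v) ≫ ev e = φ := by
  let φ' : (Flatn.morS X.hom Y.hom).obj (op T) :=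
    ((σ X T).inv ≫ φ : (Over.map X.hom).obj ((Over.pullback X.hom).obj T) ⟶ Over.mk Y.hom)
  refine ⟨e.homEquiv.symm φ', ?_, ?_⟩
  · change (X ◁ _) ≫ ev e = φ
    rw [whiskerLeft_ev, Equiv.apply_symm_apply]
    change (σ X T).hom ≫ (σ X T).inv ≫ φ = φ
    rw [Iso.hom_inv_id_assoc]
  · intro v hv
    change (X ◁ v) ≫ ev e = φ at hv
    rw [whiskerLeft_ev] at hv
    apply e.homEquiv.injective
    rw [Equiv.apply_symm_apply]
    change _ = (σ X T).inv ≫ φ
    rw [← hv, Iso.inv_hom_id_assoc]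

/-- The Hom scheme in monoidal form, for `X` finite locally free and `Y` affine over `S`. -/
theorem exists_homScheme (X Y : Over S) (hX : Mor2.IsFinLocFree X.hom) [IsAffineHom Y.hom] :
    ∃ (M : Over S) (ev : X ⊗ M ⟶ Y), IsAffineHom M.hom ∧
      (LocallyOfFiniteType Y.hom → LocallyOfFiniteType M.hom) ∧
      (LocallyOfFinitePresentation Y.hom → LocallyOfFinitePresentation M.hom) ∧
      ∀ (T : Over S) (φ : X ⊗ T ⟶ Y), ∃! v : T ⟶ M, (X ◁ v) ≫ ev = φ := by
  obtain ⟨M, hM, ⟨e⟩, h1, h2⟩ := WeilFP.exists_affineHom_representableBy X.hom Y.hom hX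
  exact ⟨M, ev e, hM, h1, h2, existsUnique_of_representableBy e⟩

end Groth.Agent.Lib.Helper58.HomMon
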