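import Mathlib
import Groth.Prelude.Def_Flatn
import Groth.Prelude.Def_Mor2
import Groth.Agent.Lib.Helper58.HomMon
import Groth.Agent.Lib.Helper58.HomGrpAbs

/-!
# The scheme of group homomorphisms `Hom_gr(G, G')` for `G` finite locally free and `G'` affine
-/

set_option autoImplicit false

universe u

open CategoryTheory CategoryTheory.Limits AlgebraicGeometry Opposite MonoidalCategory
  CartesianMonoidalCategory MonObj

namespace Groth.Agent.Lib.Helper58.HomGrpSch

open Groth.Agent.Lib.Helper58

/-- If `f ≫ g` is locally of finite presentation and `g` is locally of finite type, then `f` is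
locally of finite presentation. (Same proof as helper13's `LimDescent.locallyOfFinitePresentation_of_comp`,
modelled on Mathlib's `HasRingHomProperty.of_comp`.) -/
theorem locallyOfFinitePresentation_of_comp {X Y Z : Scheme.{u}} (f : X ⟶ Y) (g : Y ⟶ Z)
    (h : LocallyOfFinitePresentation (f ≫ g)) (hg : LocallyOfFiniteType g) :
    LocallyOfFinitePresentation f := by
  wlog hZ : IsAffine Z generalizing X Y Z
  · rw [IsZariskiLocalAtTarget.iff_of_iSup_eq_top (P := @LocallyOfFinitePresentation) _
      (g.iSup_preimage_eq_top (iSup_affineOpens_eq_top Z))]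
    intro U
    have H := IsZariskiLocalAtTarget.restrict h U.1
    rw [morphismRestrict_comp] at H
    exact this _ _ H (IsZariskiLocalAtTarget.restrict hg U.1) inferInstance
  wlog hY : IsAffine Y generalizing X Y
  · rw [IsZariskiLocalAtTarget.iff_of_iSup_eq_top (P := @LocallyOfFinitePresentation) _
      (iSup_affineOpens_eq_top Y)]
    intro U
    have H := HasRingHomProperty.comp_of_isOpenImmersion @LocallyOfFinitePresentation
      (f ⁻¹ᵁ U.1).ι (f ≫ g) h
    rw [← morphismRestrict_ι_assoc] at H
    have hg' : LocallyOfFiniteType (U.1.ι ≫ g) := inferInstance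
    exact this _ _ H hg' inferInstance
  wlog hX : IsAffine X generalizing X
  · rw [IsZariskiLocalAtSource.iff_of_iSup_eq_top (P := @LocallyOfFinitePresentation) _
      (iSup_affineOpens_eq_top X)]
    intro U
    have H := HasRingHomProperty.comp_of_isOpenImmersion @LocallyOfFinitePresentation
      U.1.ι (f ≫ g) h
    rw [← Category.assoc] at H
    exact this _ H inferInstance
  rw [HasRingHomProperty.iff_of_isAffine (P := @LocallyOfFinitePresentation)] at h ⊢
  rw [HasRingHomProperty.iff_of_isAffine (P := @LocallyOfFiniteType)] at hg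
  rw [Scheme.Hom.comp_appTop, CommRingCat.hom_comp] at h
  exact RingHom.FinitePresentation.of_comp_finiteType _ h hg

/-- the diagonal of a morphism locally of finite type is locally of finite presentation. -/
lemma locallyOfFinitePresentation_diagonal {X Y : Scheme.{u}} (f : X ⟶ Y)
    [LocallyOfFiniteType f] : LocallyOfFinitePresentation (pullback.diagonal f) := by
  apply locallyOfFinitePresentation_of_comp (pullback.diagonal f) (pullback.fst f f)
  · rw [pullback.diagonal_fst]
    infer_instance
  · infer_instance

set_option backward.isDefEq.respectTransparency false in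
/-- the equalizer of two maps into a scheme locally of finite type over `S` is locally of finite
presentation over the source. -/
lemma locallyOfFinitePresentation_equalizer_ι_left {S : Scheme.{u}} {X Y : Over S}
    [LocallyOfFiniteType Y.hom] (f g : X ⟶ Y) :
    LocallyOfFinitePresentation (equalizer.ι f g).left := by
  refine MorphismProperty.of_isPullback
    ((Limits.isPullback_equalizer_prod f g).map (Over.forget _)).flip ?_
  rw [← MorphismProperty.cancel_right_of_respectsIso @LocallyOfFinitePresentation _
    (Over.prodLeftIsoPullback Y Y).hom]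
  convert! (locallyOfFinitePresentation_diagonal Y.hom)
  ext1 <;> simp [← Over.comp_left]

variable {S : Scheme.{u}}

lemma isFinLocFree_tensor (G : Over S) (hG : Mor2.IsFinLocFree G.hom) :
    Mor2.IsFinLocFree (G ⊗ G).hom := by
  obtain ⟨h1, h2, h3⟩ := hG
  change Mor2.IsFinLocFree (pullback.fst G.hom G.hom ≫ G.hom)
  have h1' : IsFinite (pullback.fst G.hom G.hom) := MorphismProperty.pullback_fst _ _ h1
  have h2' : Flat (pullback.fst G.hom G.hom) := MorphismProperty.pullback_fst _ _ h2
  have h3' : LocallyOfFinitePresentation (pullback.fst G.hom G.hom) :=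
    MorphismProperty.pullback_fst _ _ h3
  exact ⟨inferInstance, inferInstance, inferInstance⟩

/-- The scheme of group homomorphisms. -/
theorem exists_homGrpScheme (G G' : Over S) [MonObj G] [MonObj G']
    (hG : Mor2.IsFinLocFree G.hom) [IsAffineHom G'.hom] :
    ∃ (E : Over S) (ev : G ⊗ E ⟶ G'), IsAffineHom E.hom ∧
      (LocallyOfFiniteType G'.hom → LocallyOfFiniteType E.hom) ∧
      (LocallyOfFinitePresentation G'.hom → LocallyOfFinitePresentation E.hom) ∧
      HomGrpAbs.IsMult G G' ev ∧
      ∀ (T : Over S) (φ : G ⊗ T ⟶ G'), HomGrpAbs.IsMult G G' φ →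
        ∃! v : T ⟶ E, (G ◁ v) ≫ ev = φ := by
  obtain ⟨M, ev, hMa, hM1, hM2, hM⟩ := HomMon.exists_homScheme G G' hG
  obtain ⟨M₂, ev₂, hM₂a, hM₂1, hM₂2, hM₂⟩ :=
    HomMon.exists_homScheme (G ⊗ G) G' (isFinLocFree_tensor G hG)
  obtain ⟨a, b, hab⟩ := HomGrpAbs.exists_pair ev ev₂ hM₂
  obtain ⟨hmult, huniv⟩ := HomGrpAbs.universal_of_pair ev hM a b hab (equalizer.ι a b)
    (equalizer.condition a b) (fun T v hv => ⟨equalizer.lift v hv, equalizer.lift_ι _ _,
      fun u hu => equalizer.hom_ext (by rw [hu, equalizer.lift_ι])⟩)
  have hw : (equalizer a b).hom = (equalizer.ι a b).left ≫ M.hom := (Over.w (equalizer.ι a b)).symm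
  haveI : IsSeparated M₂.hom := inferInstance
  refine ⟨equalizer a b, (G ◁ equalizer.ι a b) ≫ ev, ?_, ?_, ?_, hmult, huniv⟩
  · rw [hw]
    infer_instance
  · intro h
    haveI := hM1 h
    rw [hw]
    infer_instance
  · intro h
    haveI := hM2 h
    haveI : LocallyOfFiniteType M₂.hom :=
      hM₂1 (inferInstance : LocallyOfFiniteType G'.hom)
    haveI := locallyOfFinitePresentation_equalizer_ι_left a b
    rw [hw]
    infer_instance

end Groth.Agent.Lib.Helper58.HomGrpSch
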