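import Mathlib
import Groth.Prelude.Def_W4sfdMinVersal
import Groth.Agent.Lib.Helper65.CRingTangent
import Groth.Agent.Lib.Helper65.CRingMinVersal
import Groth.Agent.Lib.Helper58.FormalLift
import Groth.Agent.Lib.Helper58.PSRel
import Groth.Agent.S12716
import Groth.Agent.S12720

/-!
# A family over a power series ring which is bijective on tangent spaces is miniversal,
when a hull exists
-/

set_option autoImplicit false
universe u v
open CategoryTheory

namespace Groth.Agent.Lib.Helper58.HullPS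

open ArtFun ArtFun.Art IsLocalRing Groth.Agent.Lib.Helper65 Groth.Agent.Lib.Helper58.FormalLift

variable {Λ : Type u} {k : Type u} [CommRing Λ] [Field k] [Algebra Λ k]

section Surj

variable [IsNoetherianRing Λ] [Module.Finite Λ k]

/-- injectivity of restriction on tangent vectors implies surjectivity -/
theorem surjective_of_dual_injective (R' R : CRing Λ k) (f : R'.carrier →ₐ[Λ] R.carrier)
    (hf : R.res.comp f = R'.res)
    (hinj : ∀ ψ₁ ψ₂ : HomSet R.carrier R.res (dual Λ k), ψ₁.1.comp f = ψ₂.1.comp f → ψ₁ = ψ₂) :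
    Function.Surjective f := by
  classical
  letI : Algebra R.carrier k := R.res.toRingHom.toAlgebra
  haveI : IsScalarTower Λ R.carrier k :=
    IsScalarTower.of_algebraMap_eq (fun r => (R.res.commutes r).symm)
  haveI := R.isAdicComplete
  refine Groth.Agent.S12716.result R' R.carrier R.res_surjective f ?_ ?_
  · apply AlgHom.ext
    intro r
    exact congrArg (fun t : R'.carrier →ₐ[Λ] k => t r) hf
  · intro D₁ D₂ hD
    let ψ₁ := homOfDer R.res (fun _ => rfl) D₁
    let ψ₂ := homOfDer R.res (fun _ => rfl) D₂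
    have hcomp : ψ₁.1.comp f = ψ₂.1.comp f := by
      apply AlgHom.ext
      intro r
      apply TrivSqZeroExt.ext
      · rfl
      · exact hD r
    have h2 : ψ₁ = ψ₂ := hinj ψ₁ ψ₂ hcomp
    ext s
    exact congrArg (fun t : HomSet R.carrier R.res (Art.dual Λ k) =>
      TrivSqZeroExt.snd (t.1 s : TrivSqZeroExt k k)) h2

end Surj

section Triv

/-- the one-point functor -/
def triv (Λ k : Type u) [CommRing Λ] [Field k] [Algebra Λ k] : Art Λ k ⥤ Type v :=
  (Functor.const _).obj PUnit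

/-- the unique family of the one-point functor -/
def trivFam (R : Type u) [CommRing R] [Algebra Λ R] (resR : R →ₐ[Λ] k) :
    Family R resR (triv.{u, v} Λ k) :=
  { app := fun _ _ => PUnit.unit
    natural := fun _ _ => rfl }

theorem isVersal_trivFam (R : Type u) [CommRing R] [Algebra Λ R] (resR : R →ₐ[Λ] k)
    (hsm : IsSmoothFunctor (hR R resR)) : IsVersal (trivFam.{u, v} R resR) := by
  intro B A μ hμ φ y _
  obtain ⟨ψ, hψ⟩ := hsm μ hμ φ
  exact ⟨ψ, hψ, rfl⟩

variable [IsNoetherianRing Λ] [Module.Finite Λ k]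

/-- maps out of a coefficient ring with smooth `h_R` lift along surjections of coefficient rings -/
theorem exists_lift_of_isSmoothFunctor (R : CRing Λ k)
    (hsm : IsSmoothFunctor (hR R.carrier R.res))
    (A' A : CRing Λ k) (g : A'.carrier →ₐ[Λ] A.carrier) (hg : A.res.comp g = A'.res)
    (hgs : Function.Surjective g) (φ : R.carrier →ₐ[Λ] A.carrier) (hφ : A.res.comp φ = R.res) :
    ∃ (ψ : R.carrier →ₐ[Λ] A'.carrier) (_ : A'.res.comp ψ = R.res), g.comp ψ = φ := by
  let η' : FormalElt (triv.{u, 0} Λ k) A' :=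
    { elt := fun _ => PUnit.unit
      compat := fun _ => rfl }
  obtain ⟨ψ, hψ, h1, -⟩ := exists_lift_of_isVersal (F := triv.{u, 0} Λ k)
    (fun _ _ _ _ _ _ _ _ _ _ _ _ _ => rfl)
    R (trivFam R.carrier R.res) (isVersal_trivFam R.carrier R.res hsm) A' A g hg hgs η' φ hφ
    (FormalElt.ext' fun _ => rfl)
  exact ⟨ψ, hψ, h1⟩

end Triv

section Main

variable [IsNoetherianRing Λ] [Module.Finite Λ k] {F : Art Λ k ⥤ Type v}

/-- a functor with a hull has a single point over `k` -/
theorem h0_of_hull (P : Hull F) : H0 F := by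
  obtain ⟨H, ζ, hv, hb⟩ := P
  let pt : HomSet H.carrier H.res (base Λ k) := ⟨H.res, AlgHom.id_comp _⟩
  have key : ∀ z : F.obj (base Λ k), z = ζ.app _ pt := by
    intro z
    obtain ⟨ψ, hψ⟩ := hb.2 (F.map baseToDual z)
    have e1 : baseToDual ≫ toBase (dual Λ k) = 𝟙 (base Λ k) := by
      rw [eq_toBase (baseToDual ≫ toBase (dual Λ k)), eq_toBase (𝟙 (base Λ k))]
    have e2 : z = F.map (toBase (dual Λ k)) (F.map baseToDual z) := by
      rw [← Functor.map_comp_apply, e1, Functor.map_id_apply]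
    rw [e2, ← hψ, ← ζ.natural]
    congr 1
    exact homSet_base_subsingleton _ _ _
  refine ⟨⟨ζ.app _ pt⟩, ⟨fun x y => ?_⟩⟩
  rw [key x, key y]

/-- if `F` has a hull, a family over a ring with smooth `h_R` which is bijective on tangent
spaces is miniversal -/
theorem isMiniversal_of_isSmoothFunctor (hF : HasHull F)
    (R : CRing Λ k) (hsm : IsSmoothFunctor (hR R.carrier R.res))
    (ξ : Family R.carrier R.res F) (hξ : Function.Bijective (ξ.app (dual Λ k))) :
    IsMiniversal ξ := by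
  obtain ⟨P⟩ := hF
  have h0 := h0_of_hull P
  obtain ⟨H, ζ, hζv, hζb⟩ := P
  obtain ⟨u, hu, huξ⟩ := Groth.Agent.S12720.result h0 H ζ hζv R ξ.toFormalElt
  have hfam : ∀ (A : Art Λ k) (φ : HomSet R.carrier R.res A),
      (ζ.along u hu).app A φ = ξ.app A φ :=
    family_ext_of_toFormalElt R _ _ huξ
  -- restriction along `u` on tangent vectors is bijective
  let ru : HomSet R.carrier R.res (dual Λ k) → HomSet H.carrier H.res (dual Λ k) :=
    fun ψ => ⟨ψ.1.comp u, by rw [← AlgHom.comp_assoc, ψ.2, hu]⟩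
  have hru : ∀ ψ, ζ.app _ (ru ψ) = ξ.app _ ψ := fun ψ => hfam _ ψ
  have hru_inj : Function.Injective ru := by
    intro ψ₁ ψ₂ h
    apply hξ.1
    rw [← hru, ← hru, h]
  have hru_surj : Function.Surjective ru := by
    intro χ
    obtain ⟨ψ, hψ⟩ := hξ.2 (ζ.app _ χ)
    refine ⟨ψ, hζb.1 ?_⟩
    rw [hru, hψ]
  -- `u` is surjective
  have hus : Function.Surjective u :=
    surjective_of_dual_injective H R u hu (fun ψ₁ ψ₂ h => hru_inj (Subtype.ext h))
  -- a section of `u`
  obtain ⟨v, hv, huv⟩ := exists_lift_of_isSmoothFunctor R hsm H R u hu hus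
    (AlgHom.id Λ R.carrier) (AlgHom.comp_id _)
  have huv' : ∀ r, u (v r) = r := fun r =>
    congrArg (fun t : R.carrier →ₐ[Λ] R.carrier => t r) huv
  have hvs : Function.Surjective v := by
    apply surjective_of_dual_injective R H v hv
    intro χ₁ χ₂ h
    obtain ⟨ψ₁, rfl⟩ := hru_surj χ₁
    obtain ⟨ψ₂, rfl⟩ := hru_surj χ₂
    have h12 : ψ₁ = ψ₂ := by
      apply Subtype.ext
      apply AlgHom.ext
      intro r
      have h1 := congrArg (fun t : R.carrier →ₐ[Λ] (dual Λ k).carrier => t r) h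
      change ψ₁.1 (u (v r)) = ψ₂.1 (u (v r)) at h1
      rwa [huv'] at h1
    rw [h12]
  have hvu : ∀ h, v (u h) = h := by
    intro h
    obtain ⟨r, rfl⟩ := hvs h
    rw [huv']
  refine ⟨?_, hξ⟩
  intro B A μ hμ φ y hy
  let φ' : HomSet H.carrier H.res A := ⟨φ.1.comp u, by rw [← AlgHom.comp_assoc, φ.2, hu]⟩
  have hy' : F.map μ y = ζ.app A φ' := hy.trans (hfam A φ).symm
  obtain ⟨ψ', hψ'1, hψ'2⟩ := hζv μ hμ φ' y hy'
  refine ⟨⟨ψ'.1.comp v, by rw [← AlgHom.comp_assoc, ψ'.2, hv]⟩, ?_, ?_⟩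
  · apply Subtype.ext
    apply AlgHom.ext
    intro r
    have h1 := congrArg (fun t : HomSet H.carrier H.res A => t.1 (v r)) hψ'1
    change μ (ψ'.1 (v r)) = φ.1 (u (v r)) at h1
    rw [huv'] at h1
    exact h1
  · rw [← hfam, ← hψ'2]
    change ζ.app B ⟨(ψ'.1.comp v).comp u, _⟩ = ζ.app B ψ'
    congr 1
    apply Subtype.ext
    apply AlgHom.ext
    intro h
    change ψ'.1 (v (u h)) = ψ'.1 h
    rw [hvu]

end Main

end Groth.Agent.Lib.Helper58.HullPS
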