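/-
Helper library (helper58): a "prime avoidance" statement for the fibre of an integral ring map:
if `B → C` is integral, `p` is a prime of `B`, `φ : A' → C` is a ring map and `J` is an ideal of
`A'` such that no prime of `C` over `p` contains `φ(J)`, then a single element of `J` avoids all
primes of `C` over `p`.
-/
import Mathlib

set_option autoImplicit false
universe u

open TensorProduct

namespace Groth.Agent.Lib.Helper58.IntegralAvoid

variable {A' B C : Type u} [CommRing A'] [CommRing B] [CommRing C] [Algebra B C]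
  [Algebra.IsIntegral B C]

theorem exists_mem_forall_notMem (φ : A' →+* C) (p : PrimeSpectrum B) (J : Ideal A')
    (hJ : ∀ q : PrimeSpectrum C, PrimeSpectrum.comap (algebraMap B C) q = p →
      ∃ f ∈ J, φ f ∉ q.asIdeal) :
    ∃ f ∈ J, ∀ q : PrimeSpectrum C, PrimeSpectrum.comap (algebraMap B C) q = p →
      φ f ∉ q.asIdeal := by
  classical
  let κ := p.asIdeal.ResidueField
  let K := p.asIdeal.Fiber C
  let ι : C →+* K := (Algebra.TensorProduct.includeRight : C →ₐ[B] κ ⊗[B] C).toRingHom
  let ψ : A' →+* K := ι.comp φ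
  -- every prime of `C` over `p` comes from a prime of `K`
  have hfib : ∀ q : PrimeSpectrum C, PrimeSpectrum.comap (algebraMap B C) q = p →
      ∃ q' : PrimeSpectrum K, q.asIdeal = q'.asIdeal.comap ι := by
    intro q hq
    let x : (PrimeSpectrum.comap (algebraMap B C) ⁻¹' {p} : Set (PrimeSpectrum C)) := ⟨q, hq⟩
    refine ⟨PrimeSpectrum.preimageEquivFiber B C p x, ?_⟩
    have := (PrimeSpectrum.preimageEquivFiber B C p).left_inv x
    exact congrArg (fun y : (PrimeSpectrum.comap (algebraMap B C) ⁻¹' {p} :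
      Set (PrimeSpectrum C)) => y.1.asIdeal) this.symm
  -- Step 1: the image of `J` generates the unit ideal of `K`
  have h1 : J.map ψ = ⊤ := by
    by_contra hne
    obtain ⟨m, hm, hle⟩ := Ideal.exists_le_maximal _ hne
    let q' : PrimeSpectrum K := ⟨m, hm.isPrime⟩
    let q := (PrimeSpectrum.preimageEquivFiber B C p).symm q'
    obtain ⟨f, hfJ, hf⟩ := hJ q.1 q.2
    apply hf
    change ι (φ f) ∈ m
    exact hle (Ideal.mem_map_of_mem ψ hfJ)
  -- Step 2: finitely many elements suffice
  have h1' : (1 : K) ∈ Ideal.span (ψ '' (J : Set A')) := by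
    have : (1 : K) ∈ J.map ψ := by rw [h1]; trivial
    exact this
  obtain ⟨t, ht, h1t⟩ := Submodule.mem_span_finite_of_mem_span h1'
  have hex : ∀ y : (t : Set K), ∃ f ∈ J, ψ f = y.1 := fun y => ht y.2
  choose g hgJ hg using hex
  -- Step 3: the finite subalgebra
  let Kt : Subalgebra κ K := Algebra.adjoin κ (t : Set K)
  have hfin : Module.Finite κ Kt := by
    have : (Algebra.adjoin κ (t : Set K)).toSubmodule.FG :=
      fg_adjoin_of_finite t.finite_toSet (fun x _ => Algebra.IsIntegral.isIntegral x)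
    exact Module.Finite.of_fg this
  haveI : IsArtinianRing Kt := IsArtinianRing.of_finite κ Kt
  haveI : Finite (PrimeSpectrum Kt) := inferInstance
  haveI : Fintype (PrimeSpectrum Kt) := Fintype.ofFinite _
  haveI : Algebra.IsIntegral Kt K := by
    refine ⟨fun x => ?_⟩
    exact (Algebra.IsIntegral.isIntegral (R := κ) x).tower_top
  -- Step 4: the polynomial ring
  let σ := (t : Set K)
  let θ : MvPolynomial σ ℤ →+* Kt :=
    MvPolynomial.eval₂Hom (Int.castRingHom Kt) (fun y => ⟨y.1, Algebra.subset_adjoin y.2⟩)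
  let ev : MvPolynomial σ ℤ →+* A' := MvPolynomial.eval₂Hom (Int.castRingHom A') g
  have hcomp : ∀ F, ψ (ev F) = (θ F : K) := by
    intro F
    have : ψ.comp ev = (Kt.val.toRingHom).comp θ := by
      apply MvPolynomial.ringHom_ext
      · intro r
        simp [ev, θ]
      · intro y
        simp only [RingHom.comp_apply, ev, θ, MvPolynomial.eval₂Hom_X']
        exact hg y
    exact congrArg (fun ρ => ρ F) this
  let Jt : Ideal (MvPolynomial σ ℤ) := Ideal.span (Set.range MvPolynomial.X)
  have hevJ : ∀ F ∈ Jt, ev F ∈ J := by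
    intro F hF
    have : Jt.map ev ≤ J := by
      rw [Ideal.map_span, Ideal.span_le]
      rintro _ ⟨_, ⟨y, rfl⟩, rfl⟩
      simp only [ev, MvPolynomial.eval₂Hom_X']
      exact hgJ y
    exact this (Ideal.mem_map_of_mem ev hF)
  -- no prime of `Kt` contains all of `t`
  have hnot : ∀ m : PrimeSpectrum Kt, ¬ Jt ≤ m.asIdeal.comap θ := by
    intro m hle
    obtain ⟨Q, -, hQprime, hQover⟩ := Ideal.exists_ideal_over_prime_of_isIntegral
      (S := K) m.asIdeal (⊥ : Ideal K) (by
        intro x hx
        have hx' : algebraMap Kt K x = 0 := hx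
        have : x = 0 := Subtype.ext hx'
        rw [this]
        exact Ideal.zero_mem _)
    have htQ : (t : Set K) ⊆ Q := by
      intro y hy
      have h2 : (MvPolynomial.X (⟨y, hy⟩ : σ) : MvPolynomial σ ℤ) ∈ Jt :=
        Ideal.subset_span ⟨_, rfl⟩
      have h3 := hle h2
      have h4 : θ (MvPolynomial.X (⟨y, hy⟩ : σ)) ∈ m.asIdeal := h3
      simp only [θ, MvPolynomial.eval₂Hom_X'] at h4
      rw [← hQover] at h4
      exact h4
    have : (1 : K) ∈ Q := by
      have : Ideal.span (t : Set K) ≤ Q := Ideal.span_le.2 htQ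
      exact this h1t
    exact hQprime.ne_top ((Ideal.eq_top_iff_one _).2 this)
  -- Step 5: prime avoidance
  have havoid : ∃ F ∈ Jt, ∀ m : PrimeSpectrum Kt, θ F ∉ m.asIdeal := by
    by_contra hcon
    push Not at hcon
    have hsub : (Jt : Set (MvPolynomial σ ℤ)) ⊆
        ⋃ m ∈ ((Finset.univ : Finset (PrimeSpectrum Kt)) : Set (PrimeSpectrum Kt)),
          ((m.asIdeal.comap θ : Ideal (MvPolynomial σ ℤ)) : Set (MvPolynomial σ ℤ)) := by
      intro F hF
      obtain ⟨m, hm⟩ := hcon F hF
      exact Set.mem_biUnion (by simp) hm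
    by_cases hne : Nonempty (PrimeSpectrum Kt)
    · obtain ⟨m₀⟩ := hne
      obtain ⟨m, -, hm⟩ := (Ideal.subset_union_prime (s := Finset.univ)
        (f := fun m : PrimeSpectrum Kt => m.asIdeal.comap θ) m₀ m₀
        (fun m _ _ _ => Ideal.comap_isPrime θ m.asIdeal)).1 hsub
      exact hnot m hm
    · rw [not_nonempty_iff] at hne
      have h0 : (0 : MvPolynomial σ ℤ) ∈ Jt := Jt.zero_mem
      obtain ⟨m, -⟩ := hcon 0 h0
      exact hne.elim m
  obtain ⟨F, hFJ, hF⟩ := havoid
  refine ⟨ev F, hevJ F hFJ, ?_⟩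
  -- Step 6: `θ F` is a unit
  have hunit : IsUnit (θ F) := by
    by_contra hnu
    obtain ⟨m, hm, hFm⟩ := exists_max_ideal_of_mem_nonunits hnu
    exact hF ⟨m, hm.isPrime⟩ hFm
  have hunitK : IsUnit (ψ (ev F)) := by
    rw [hcomp]
    exact hunit.map Kt.val
  intro q hq hmem
  obtain ⟨q', hq'⟩ := hfib q hq
  rw [hq'] at hmem
  have : ψ (ev F) ∈ q'.asIdeal := hmem
  exact q'.2.ne_top (Ideal.eq_top_of_isUnit_mem _ this hunitK)

end Groth.Agent.Lib.Helper58.IntegralAvoid
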