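/-
Helper library (helper58): properties of a morphism `p : P ⟶ Y` which can be checked after
composing with a jointly surjective pair `a : X ⟶ P`, `b : T ⟶ P`.
-/
import Mathlib

set_option autoImplicit false
universe u

open AlgebraicGeometry CategoryTheory Limits

namespace Groth.Agent.Lib.Helper58.JointSurj

variable {X T P Y : Scheme.{u}} (a : X ⟶ P) (b : T ⟶ P) (p : P ⟶ Y)
  (hab : ∀ ξ : P, ξ ∈ Set.range a ∨ ξ ∈ Set.range b)

include hab in
theorem quasiCompact [QuasiCompact (a ≫ p)] [QuasiCompact (b ≫ p)] : QuasiCompact p := by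
  constructor
  intro U hU hc
  have h1 : IsCompact ((a ≫ p) ⁻¹' U) := QuasiCompact.isCompact_preimage U hU hc
  have h2 : IsCompact ((b ≫ p) ⁻¹' U) := QuasiCompact.isCompact_preimage U hU hc
  have e : p ⁻¹' U = a '' ((a ≫ p) ⁻¹' U) ∪ b '' ((b ≫ p) ⁻¹' U) := by
    ext ξ
    constructor
    · intro hξ
      rcases hab ξ with ⟨x, rfl⟩ | ⟨τ, rfl⟩
      · exact Or.inl ⟨x, hξ, rfl⟩
      · exact Or.inr ⟨τ, hξ, rfl⟩
    · rintro (⟨x, hx, rfl⟩ | ⟨τ, hτ, rfl⟩)
      · exact hx
      · exact hτ
  rw [e]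
  exact (h1.image a.continuous).union (h2.image b.continuous)

include hab in
theorem universallyClosed [UniversallyClosed (a ≫ p)] [UniversallyClosed (b ≫ p)] :
    UniversallyClosed p := by
  constructor
  intro P' Y' i₁ i₂ p' H
  -- the base changes of `a` and `b`
  have HX : IsPullback (pullback.snd a i₁ ≫ p') (pullback.fst a i₁) i₂ (a ≫ p) :=
    (IsPullback.of_hasPullback a i₁).flip.paste_horiz H
  have HT : IsPullback (pullback.snd b i₁ ≫ p') (pullback.fst b i₁) i₂ (b ≫ p) :=
    (IsPullback.of_hasPullback b i₁).flip.paste_horiz H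
  have cX : IsClosedMap (pullback.snd a i₁ ≫ p') :=
    UniversallyClosed.universally_isClosedMap _ _ _ HX
  have cT : IsClosedMap (pullback.snd b i₁ ≫ p') :=
    UniversallyClosed.universally_isClosedMap _ _ _ HT
  intro S hS
  have e : p' '' S = (pullback.snd a i₁ ≫ p') '' ((pullback.snd a i₁) ⁻¹' S) ∪
      (pullback.snd b i₁ ≫ p') '' ((pullback.snd b i₁) ⁻¹' S) := by
    ext y
    constructor
    · rintro ⟨ξ, hξ, rfl⟩
      rcases hab (i₁ ξ) with ⟨x, hx⟩ | ⟨τ, hτ⟩
      · obtain ⟨z, -, hz⟩ := Scheme.Pullback.exists_preimage_pullback x ξ hx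
        refine Or.inl ⟨z, ?_, ?_⟩
        · change pullback.snd a i₁ z ∈ S
          rw [hz]
          exact hξ
        · rw [Scheme.Hom.comp_apply, hz]
      · obtain ⟨z, -, hz⟩ := Scheme.Pullback.exists_preimage_pullback τ ξ hτ
        refine Or.inr ⟨z, ?_, ?_⟩
        · change pullback.snd b i₁ z ∈ S
          rw [hz]
          exact hξ
        · rw [Scheme.Hom.comp_apply, hz]
    · rintro (⟨z, hz, rfl⟩ | ⟨z, hz, rfl⟩)
      · exact ⟨pullback.snd a i₁ z, hz, (Scheme.Hom.comp_apply _ _ _).symm⟩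
      · exact ⟨pullback.snd b i₁ z, hz, (Scheme.Hom.comp_apply _ _ _).symm⟩
  change IsClosed (p' '' S)
  rw [e]
  exact (cX _ (hS.preimage (pullback.snd a i₁).continuous)).union
    (cT _ (hS.preimage (pullback.snd b i₁).continuous))

include hab in
theorem isSeparated [UniversallyClosed a] [UniversallyClosed b] [IsSeparated (a ≫ p)]
    [IsSeparated (b ≫ p)] : IsSeparated p := by
  let aa : pullback (a ≫ p) (a ≫ p) ⟶ pullback p p :=
    pullback.map (a ≫ p) (a ≫ p) p p a a (𝟙 Y) (Category.comp_id _) (Category.comp_id _)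
  let bb : pullback (b ≫ p) (b ≫ p) ⟶ pullback p p :=
    pullback.map (b ≫ p) (b ≫ p) p p b b (𝟙 Y) (Category.comp_id _) (Category.comp_id _)
  haveI : UniversallyClosed aa :=
    MorphismProperty.pullbackMap (P := @UniversallyClosed) inferInstance inferInstance rfl rfl
  haveI : UniversallyClosed bb :=
    MorphismProperty.pullbackMap (P := @UniversallyClosed) inferInstance inferInstance rfl rfl
  have ea : pullback.diagonal (a ≫ p) ≫ aa = a ≫ pullback.diagonal p := by
    apply pullback.hom_ext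
    · rw [Category.assoc, Category.assoc, pullback.lift_fst, pullback.diagonal_fst_assoc,
        pullback.diagonal_fst, Category.comp_id]
    · rw [Category.assoc, Category.assoc, pullback.lift_snd, pullback.diagonal_snd_assoc,
        pullback.diagonal_snd, Category.comp_id]
  have eb : pullback.diagonal (b ≫ p) ≫ bb = b ≫ pullback.diagonal p := by
    apply pullback.hom_ext
    · rw [Category.assoc, Category.assoc, pullback.lift_fst, pullback.diagonal_fst_assoc,
        pullback.diagonal_fst, Category.comp_id]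
    · rw [Category.assoc, Category.assoc, pullback.lift_snd, pullback.diagonal_snd_assoc,
        pullback.diagonal_snd, Category.comp_id]
  have hrange : Set.range (pullback.diagonal p) =
      aa '' Set.range (pullback.diagonal (a ≫ p)) ∪ bb '' Set.range (pullback.diagonal (b ≫ p)) := by
    ext ζ
    constructor
    · rintro ⟨ξ, rfl⟩
      rcases hab ξ with ⟨x, rfl⟩ | ⟨τ, rfl⟩
      · refine Or.inl ⟨_, ⟨x, rfl⟩, ?_⟩
        rw [← Scheme.Hom.comp_apply, ea, Scheme.Hom.comp_apply]
      · refine Or.inr ⟨_, ⟨τ, rfl⟩, ?_⟩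
        rw [← Scheme.Hom.comp_apply, eb, Scheme.Hom.comp_apply]
    · rintro (⟨_, ⟨x, rfl⟩, rfl⟩ | ⟨_, ⟨τ, rfl⟩, rfl⟩)
      · exact ⟨a x, by rw [← Scheme.Hom.comp_apply, ← ea, Scheme.Hom.comp_apply]⟩
      · exact ⟨b τ, by rw [← Scheme.Hom.comp_apply, ← eb, Scheme.Hom.comp_apply]⟩
  have hclosed : IsClosed (Set.range (pullback.diagonal p)) := by
    rw [hrange]
    exact (aa.isClosedMap _ (pullback.diagonal (a ≫ p)).isClosedEmbedding.isClosed_range).union
      (bb.isClosedMap _ (pullback.diagonal (b ≫ p)).isClosedEmbedding.isClosed_range)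
  exact ⟨IsClosedImmersion.of_isPreimmersion _ hclosed⟩

end Groth.Agent.Lib.Helper58.JointSurj
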