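/-
Helper library (helper58): quasi-separatedness of a morphism `p : P ⟶ Y` can be checked after
composing with a jointly surjective pair of quasi-compact morphisms.
-/
import Mathlib
import Groth.Agent.Lib.Helper58.JointSurj

set_option autoImplicit false
universe u

open AlgebraicGeometry CategoryTheory Limits

namespace Groth.Agent.Lib.Helper58.JointSurj

variable {X T P Y : Scheme.{u}} (a : X ⟶ P) (b : T ⟶ P) (p : P ⟶ Y)
  (hab : ∀ ξ : P, ξ ∈ Set.range a ∨ ξ ∈ Set.range b)

include hab in
theorem quasiSeparated [QuasiCompact a] [QuasiCompact b] [QuasiSeparated (a ≫ p)]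
    [QuasiSeparated (b ≫ p)] : QuasiSeparated p := by
  let aa : pullback (a ≫ p) (a ≫ p) ⟶ pullback p p :=
    pullback.map (a ≫ p) (a ≫ p) p p a a (𝟙 Y) (Category.comp_id _) (Category.comp_id _)
  let bb : pullback (b ≫ p) (b ≫ p) ⟶ pullback p p :=
    pullback.map (b ≫ p) (b ≫ p) p p b b (𝟙 Y) (Category.comp_id _) (Category.comp_id _)
  haveI : QuasiCompact aa :=
    MorphismProperty.pullbackMap (P := @QuasiCompact) inferInstance inferInstance rfl rfl
  haveI : QuasiCompact bb :=
    MorphismProperty.pullbackMap (P := @QuasiCompact) inferInstance inferInstance rfl rfl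
  have ea : pullback.diagonal (a ≫ p) ≫ aa = a ≫ pullback.diagonal p := by
    apply pullback.hom_ext
    · rw [Category.assoc, Category.assoc, pullback.lift_fst, pullback.diagonal_fst_assoc,
        pullback.diagonal_fst, Category.comp_id]
    · rw [Category.assoc, Category.assoc, pullback.lift_snd, pullback.diagonal_snd_assoc,
        pullback.diagonal_snd, Category.comp_id]
  have eb : pullback.diagonal (b ≫ p) ≫ bb = b ≫ pullback.diagonal p := by
    apply pullback.hom_ext
    · rw [Category.assoc, Category.assoc, pullback.lift_fst, pullback.diagonal_fst_assoc,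
        pullback.diagonal_fst, Category.comp_id]
    · rw [Category.assoc, Category.assoc, pullback.lift_snd, pullback.diagonal_snd_assoc,
        pullback.diagonal_snd, Category.comp_id]
  haveI : QuasiCompact (a ≫ pullback.diagonal p) := by rw [← ea]; infer_instance
  haveI : QuasiCompact (b ≫ pullback.diagonal p) := by rw [← eb]; infer_instance
  exact ⟨quasiCompact a b (pullback.diagonal p) hab⟩

end Groth.Agent.Lib.Helper58.JointSurj
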