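/-
Helper library (helper58): the local Milnor square condition passes to smaller affine opens.
-/
import Mathlib
import Groth.Agent.Lib.Helper58.LocalPushout
import Groth.Agent.Lib.Helper58.FibSqFlatGen

set_option autoImplicit false
universe u

open AlgebraicGeometry CategoryTheory Limits

namespace Groth.Agent.Lib.Helper58.LocalPushout

open Groth.Agent.Lib.Helper61 Groth.Agent.Lib.Helper58.UnionPushout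
open Groth.Agent.Lib.Helper58.FibSqFlat

variable {X Y Z Q : Scheme.{u}} {i : Z ⟶ X} {j : Z ⟶ Y} {a : X ⟶ Q} {b : Y ⟶ Q}

/-- The local Milnor square condition over an affine open passes to smaller affine opens. -/
theorem fibSq_mono (w : i ≫ a = j ≫ b) {O O' : Q.Opens} (hO : IsAffineOpen O)
    (hO' : IsAffineOpen O') (hle : O' ≤ O)
    (hX : IsAffineOpen (a ⁻¹ᵁ O)) (hY : IsAffineOpen (b ⁻¹ᵁ O))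
    (hZ : IsAffineOpen (i ⁻¹ᵁ a ⁻¹ᵁ O))
    (h : FibSq (a.appLE O (a ⁻¹ᵁ O) le_rfl).hom (b.appLE O (b ⁻¹ᵁ O) le_rfl).hom
      (i.appLE (a ⁻¹ᵁ O) (i ⁻¹ᵁ a ⁻¹ᵁ O) le_rfl).hom
      (j.appLE (b ⁻¹ᵁ O) (i ⁻¹ᵁ a ⁻¹ᵁ O) (preimage_le w O)).hom) :
    FibSq (a.appLE O' (a ⁻¹ᵁ O') le_rfl).hom (b.appLE O' (b ⁻¹ᵁ O') le_rfl).hom
      (i.appLE (a ⁻¹ᵁ O') (i ⁻¹ᵁ a ⁻¹ᵁ O') le_rfl).hom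
      (j.appLE (b ⁻¹ᵁ O') (i ⁻¹ᵁ a ⁻¹ᵁ O') (preimage_le w O')).hom := by
  have hle' : O' ≤ (𝟙 Q) ⁻¹ᵁ O := hle
  have hXle : a ⁻¹ᵁ O' ≤ a ⁻¹ᵁ O := fun x hx => hle hx
  have hYle : b ⁻¹ᵁ O' ≤ b ⁻¹ᵁ O := fun x hx => hle hx
  have hZle : i ⁻¹ᵁ a ⁻¹ᵁ O' ≤ i ⁻¹ᵁ a ⁻¹ᵁ O := fun x hx => hle hx
  have hUX : a ⁻¹ᵁ O' = (𝟙 X) ⁻¹ᵁ (a ⁻¹ᵁ O) ⊓ a ⁻¹ᵁ O' :=
    (inf_eq_right.2 (show a ⁻¹ᵁ O' ≤ (𝟙 X) ⁻¹ᵁ (a ⁻¹ᵁ O) from hXle)).symm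
  have hUY : b ⁻¹ᵁ O' = (𝟙 Y) ⁻¹ᵁ (b ⁻¹ᵁ O) ⊓ b ⁻¹ᵁ O' :=
    (inf_eq_right.2 (show b ⁻¹ᵁ O' ≤ (𝟙 Y) ⁻¹ᵁ (b ⁻¹ᵁ O) from hYle)).symm
  have hUZ : i ⁻¹ᵁ a ⁻¹ᵁ O' = (𝟙 Z) ⁻¹ᵁ (i ⁻¹ᵁ a ⁻¹ᵁ O) ⊓ (i ≫ a) ⁻¹ᵁ O' :=
    (inf_eq_right.2 (show (i ≫ a) ⁻¹ᵁ O' ≤ (𝟙 Z) ⁻¹ᵁ (i ⁻¹ᵁ a ⁻¹ᵁ O) from hZle)).symm
  have HX : IsPullback (𝟙 X) a a (𝟙 Q) := IsPullback.of_id_fst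
  have HY : IsPullback (𝟙 Y) b b (𝟙 Q) := IsPullback.of_id_fst
  have HZ : IsPullback (𝟙 Z) (i ≫ a) (i ≫ a) (𝟙 Q) := IsPullback.of_id_fst
  have pB := (isIso_pushoutSection_iff HX hle' (le_refl (a ⁻¹ᵁ O)) hUX).1
    (isIso_pushoutSection_of_isAffineOpen HX hle' (le_refl (a ⁻¹ᵁ O)) hUX hO hO' hX)
  have pA' := (isIso_pushoutSection_iff HY hle' (le_refl (b ⁻¹ᵁ O)) hUY).1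
    (isIso_pushoutSection_of_isAffineOpen HY hle' (le_refl (b ⁻¹ᵁ O)) hUY hO hO' hY)
  have pA := (isIso_pushoutSection_iff HZ hle' (le_refl ((i ≫ a) ⁻¹ᵁ O)) hUZ).1
    (isIso_pushoutSection_of_isAffineOpen HZ hle' (le_refl ((i ≫ a) ⁻¹ᵁ O)) hUZ hO hO' hZ)
  have hd : (Scheme.Hom.appLE (𝟙 Q) O O' hle').hom.Flat :=
    HasRingHomProperty.appLE (P := @Flat) (𝟙 Q) inferInstance ⟨O, hO⟩ ⟨O', hO'⟩ hle'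
  have e1 : (i ≫ a).appLE O ((i ≫ a) ⁻¹ᵁ O) le_rfl =
      a.appLE O (a ⁻¹ᵁ O) le_rfl ≫ i.appLE (a ⁻¹ᵁ O) (i ⁻¹ᵁ a ⁻¹ᵁ O) le_rfl := by
    rw [Scheme.Hom.appLE_comp_appLE]
    rfl
  have e2 : (i ≫ a).appLE O' (i ⁻¹ᵁ a ⁻¹ᵁ O') le_rfl =
      a.appLE O' (a ⁻¹ᵁ O') le_rfl ≫ i.appLE (a ⁻¹ᵁ O') (i ⁻¹ᵁ a ⁻¹ᵁ O') le_rfl := by
    rw [Scheme.Hom.appLE_comp_appLE]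
  have e3 : a.appLE O' (a ⁻¹ᵁ O') le_rfl ≫ i.appLE (a ⁻¹ᵁ O') (i ⁻¹ᵁ a ⁻¹ᵁ O') le_rfl =
      b.appLE O' (b ⁻¹ᵁ O') le_rfl ≫
        j.appLE (b ⁻¹ᵁ O') (i ⁻¹ᵁ a ⁻¹ᵁ O') (preimage_le w O') := by
    rw [Scheme.Hom.appLE_comp_appLE, Scheme.Hom.appLE_comp_appLE]
    congr 1
  have e4 : Scheme.Hom.appLE (𝟙 Y) (b ⁻¹ᵁ O) (b ⁻¹ᵁ O') hYle ≫
        j.appLE (b ⁻¹ᵁ O') (i ⁻¹ᵁ a ⁻¹ᵁ O') (preimage_le w O') =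
      j.appLE (b ⁻¹ᵁ O) (i ⁻¹ᵁ a ⁻¹ᵁ O) (preimage_le w O) ≫
        Scheme.Hom.appLE (𝟙 Z) (i ⁻¹ᵁ a ⁻¹ᵁ O) (i ⁻¹ᵁ a ⁻¹ᵁ O') hZle := by
    rw [Scheme.Hom.appLE_comp_appLE, Scheme.Hom.appLE_comp_appLE]
    congr 1
  rw [e1] at pA
  have pA2 : IsPushout (a.appLE O (a ⁻¹ᵁ O) le_rfl ≫ i.appLE (a ⁻¹ᵁ O) (i ⁻¹ᵁ a ⁻¹ᵁ O) le_rfl)
      (Scheme.Hom.appLE (𝟙 Q) O O' hle') (Scheme.Hom.appLE (𝟙 Z) (i ⁻¹ᵁ a ⁻¹ᵁ O) (i ⁻¹ᵁ a ⁻¹ᵁ O') hZle)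
      (a.appLE O' (a ⁻¹ᵁ O') le_rfl ≫ i.appLE (a ⁻¹ᵁ O') (i ⁻¹ᵁ a ⁻¹ᵁ O') le_rfl) := by
    rw [← e2]
    exact pA
  exact fibSq_of_isPushout_flat_gen h hd pB pA' pA2 e3 e4

end Groth.Agent.Lib.Helper58.LocalPushout
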