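import Mathlib

set_option autoImplicit false
universe u
open AlgebraicGeometry CategoryTheory IsLocalRing

namespace Groth.Agent.Lib.Helper58.SpecLocal

variable {M : Scheme.{u}}

theorem exists_factor_fromSpecStalk {A : CommRingCat.{u}} [IsLocalRing A] (g : Spec A ⟶ M) (x : M)
    (hx : g (closedPoint A) = x) :
    ∃ f : M.presheaf.stalk x ⟶ A, IsLocalHom f.hom ∧ g = Spec.map f ≫ M.fromSpecStalk x := by
  subst hx
  exact ⟨Scheme.stalkClosedPointTo g, inferInstance,
    (Scheme.Spec_stalkClosedPointTo_fromSpecStalk g).symm⟩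

theorem cancel_fromSpecStalk {A : CommRingCat.{u}} [IsLocalRing A] (x : M)
    (f₁ f₂ : M.presheaf.stalk x ⟶ A) (h₁ : IsLocalHom f₁.hom) (h₂ : IsLocalHom f₂.hom)
    (h : Spec.map f₁ ≫ M.fromSpecStalk x = Spec.map f₂ ≫ M.fromSpecStalk x) : f₁ = f₂ := by
  have h3 : (SpecToEquivOfLocalRing M A).symm ⟨x, f₁, h₁⟩ =
      (SpecToEquivOfLocalRing M A).symm ⟨x, f₂, h₂⟩ := h
  have h4 := (SpecToEquivOfLocalRing M A).symm.injective h3
  simpa using h4

end Groth.Agent.Lib.Helper58.SpecLocal
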