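import Mathlib
import Groth.Prelude.Def_ArtFun4
import Groth.Agent.Lib.Helper58.SpecLocal
import Groth.Agent.Lib.Helper58.ComplExt
import Groth.Agent.S0543

set_option autoImplicit false
universe u
open AlgebraicGeometry CategoryTheory IsLocalRing ArtFun ArtFun.Art

namespace Groth.Agent.Lib.Helper58.LocalFunctorRep

open Groth.Agent.Lib.Helper58.SpecLocal Groth.Agent.Lib.Helper58.ComplExt

section

variable {k : Type u} [Field k] (M : Scheme.{u}) (m : M ⟶ Spec (CommRingCat.of k))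
  [IsLocallyNoetherian M] (x₀ : Spec (CommRingCat.of k) ⟶ M)

/-- the image point -/
noncomputable abbrev pt : M := x₀ (closedPoint (CommRingCat.of k))

/-- the local ring at the point -/
noncomputable abbrev Ox : CommRingCat.{u} := M.presheaf.stalk (pt M x₀)

/-- the structure map `k → O_x` -/
noncomputable def ρ : CommRingCat.of k ⟶ Ox M x₀ := Spec.preimage (M.fromSpecStalk (pt M x₀) ≫ m)

theorem map_ρ : Spec.map (ρ M m x₀) = M.fromSpecStalk (pt M x₀) ≫ m := Spec.map_preimage _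

/-- the augmentation `O_x → k` -/
noncomputable def f₀ : Ox M x₀ ⟶ CommRingCat.of k := Scheme.stalkClosedPointTo x₀

instance : IsLocalHom (f₀ M x₀).hom := Scheme.isLocalHom_stalkClosedPointTo' x₀

theorem map_f₀ : Spec.map (f₀ M x₀) ≫ M.fromSpecStalk (pt M x₀) = x₀ :=
  Scheme.Spec_stalkClosedPointTo_fromSpecStalk x₀

variable (hx₀ : x₀ ≫ m = 𝟙 _)

include hx₀ in
theorem ρ_f₀ : ρ M m x₀ ≫ f₀ M x₀ = 𝟙 _ := by
  apply Spec.map_injective
  rw [Spec.map_comp, map_ρ, ← Category.assoc, map_f₀, hx₀, Spec.map_id]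

end

section Ring

variable {k : Type u} [Field k] (M : Scheme.{u}) (m : M ⟶ Spec (CommRingCat.of k))
  [IsLocallyNoetherian M] (x₀ : Spec (CommRingCat.of k) ⟶ M) (hx₀ : x₀ ≫ m = 𝟙 _)

/-- `O_x` as a `k`-algebra -/
noncomputable abbrev algO : Algebra k (Ox M x₀) := (ρ M m x₀).hom.toAlgebra

theorem f₀_mem (a : Ox M x₀) (ha : a ∈ maximalIdeal (Ox M x₀) ^ 1) : (f₀ M x₀).hom a = 0 := by
  rw [pow_one] at ha
  by_contra hne
  have h1 : IsUnit ((f₀ M x₀).hom a) := isUnit_iff_ne_zero.2 hne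
  have h2 : IsUnit a := IsLocalHom.map_nonunit (f := (f₀ M x₀).hom) a h1
  exact (IsLocalRing.mem_maximalIdeal _).1 ha h2

/-- the completed local ring -/
noncomputable abbrev Rc : Type u := AdicCompletion (maximalIdeal (Ox M x₀)) (Ox M x₀)

/-- the augmentation of the completed local ring, as a ring map -/
noncomputable def resRing : Rc M x₀ →+* k :=
  extend (maximalIdeal (Ox M x₀)) (f₀ M x₀).hom 1 (f₀_mem M x₀)

theorem resRing_of (o : Ox M x₀) :
    resRing M x₀ (AdicCompletion.of (maximalIdeal (Ox M x₀)) (Ox M x₀) o) = (f₀ M x₀).hom o :=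
  extend_of _ _ _ _ o

include hx₀ in
theorem f₀_ρ (c : k) : (f₀ M x₀).hom ((ρ M m x₀).hom c) = c := by
  have h := ρ_f₀ M m x₀ hx₀
  exact congrArg (fun t : CommRingCat.of k ⟶ CommRingCat.of k => t.hom c) h

/-- the completion map as a ring map -/
noncomputable abbrev ιR' : Ox M x₀ →+* Rc M x₀ := algebraMap (Ox M x₀) (Rc M x₀)

/-- the completed local ring as a coefficient ring -/
noncomputable def ring : CRing k k :=
  letI := algO M m x₀
  { carrier := Rc M x₀
    commRing := inferInstance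
    algebra := inferInstance
    isLocalRing := inferInstance
    isNoetherianRing := Groth.Agent.S0543.result _ _
    res :=
      { toRingHom := resRing M x₀
        commutes' := fun c => by
          change resRing M x₀ (AdicCompletion.of _ _ ((ρ M m x₀).hom c)) = c
          rw [resRing_of, f₀_ρ M m x₀ hx₀] }
    res_surjective := fun c => ⟨AdicCompletion.of _ _ ((ρ M m x₀).hom c), by
      change resRing M x₀ (AdicCompletion.of _ _ ((ρ M m x₀).hom c)) = c
      rw [resRing_of, f₀_ρ M m x₀ hx₀]⟩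
    isAdicComplete := inferInstance }

end Ring

section Forward

variable {k : Type u} [Field k] (M : Scheme.{u}) (m : M ⟶ Spec (CommRingCat.of k))
  [IsLocallyNoetherian M] (x₀ : Spec (CommRingCat.of k) ⟶ M) (hx₀ : x₀ ≫ m = 𝟙 _)

/-- the completion map as a ring map -/
noncomputable def ιC : Ox M x₀ →+* (ring M m x₀ hx₀).carrier :=
  (algebraMap (Ox M x₀) (Rc M x₀) : Ox M x₀ →+* Rc M x₀)

/-- the completion map, with values in the carrier of the coefficient ring -/
noncomputable def ofC (o : Ox M x₀) : (ring M m x₀ hx₀).carrier :=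
  (AdicCompletion.of (maximalIdeal (Ox M x₀)) (Ox M x₀) o : Rc M x₀)

theorem ιC_apply (o : Ox M x₀) : ιC M m x₀ hx₀ o = ofC M m x₀ hx₀ o := rfl

theorem algebraMap_ring (c : k) :
    algebraMap k (ring M m x₀ hx₀).carrier c = ofC M m x₀ hx₀ ((ρ M m x₀).hom c) := rfl

theorem res_ofC (o : Ox M x₀) :
    (ring M m x₀ hx₀).res (ofC M m x₀ hx₀ o) = (f₀ M x₀).hom o := resRing_of M x₀ o

variable (A : Art k k)

/-- the ring map `O_x → A` attached to an element of `h_R(A)` -/
noncomputable def toStalkHom (φ : HomSet (ring M m x₀ hx₀).carrier (ring M m x₀ hx₀).res A) :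
    Ox M x₀ ⟶ CommRingCat.of A.carrier :=
  CommRingCat.ofHom ((φ.1 : (ring M m x₀ hx₀).carrier →+* A.carrier).comp (ιC M m x₀ hx₀))

theorem toStalkHom_apply (φ : HomSet (ring M m x₀ hx₀).carrier (ring M m x₀ hx₀).res A)
    (o : Ox M x₀) : (toStalkHom M m x₀ hx₀ A φ).hom o = φ.1 (ofC M m x₀ hx₀ o) := rfl

theorem ρ_toStalkHom (φ : HomSet (ring M m x₀ hx₀).carrier (ring M m x₀ hx₀).res A) :
    ρ M m x₀ ≫ toStalkHom M m x₀ hx₀ A φ =
      CommRingCat.ofHom (ofBase A).toAlgHom.toRingHom := by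
  apply CommRingCat.hom_ext
  apply RingHom.ext
  intro c
  change φ.1 (ofC M m x₀ hx₀ ((ρ M m x₀).hom c)) = algebraMap k A.carrier c
  rw [← algebraMap_ring]
  exact φ.1.commutes c

theorem toStalkHom_res (φ : HomSet (ring M m x₀ hx₀).carrier (ring M m x₀ hx₀).res A) :
    toStalkHom M m x₀ hx₀ A φ ≫ CommRingCat.ofHom A.res.toRingHom = f₀ M x₀ := by
  apply CommRingCat.hom_ext
  apply RingHom.ext
  intro o
  change A.res (φ.1 (ofC M m x₀ hx₀ o)) = (f₀ M x₀).hom o
  have h := congrArg (fun t : (ring M m x₀ hx₀).carrier →ₐ[k] k => t (ofC M m x₀ hx₀ o)) φ.2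
  change A.res (φ.1 (ofC M m x₀ hx₀ o)) = (ring M m x₀ hx₀).res (ofC M m x₀ hx₀ o) at h
  rw [h, res_ofC]

/-- the morphism `Spec A → M` attached to an element of `h_R(A)` -/
noncomputable def fwd (φ : HomSet (ring M m x₀ hx₀).carrier (ring M m x₀ hx₀).res A) :
    spec A ⟶ M :=
  Spec.map (toStalkHom M m x₀ hx₀ A φ) ≫ M.fromSpecStalk (pt M x₀)

theorem fwd_m (φ : HomSet (ring M m x₀ hx₀).carrier (ring M m x₀ hx₀).res A) :
    fwd M m x₀ hx₀ A φ ≫ m = specMap (ofBase A) := by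
  rw [fwd, Category.assoc, ← map_ρ, ← Spec.map_comp, ρ_toStalkHom]
  rfl

theorem specRes_fwd (φ : HomSet (ring M m x₀ hx₀).carrier (ring M m x₀ hx₀).res A) :
    specRes A ≫ fwd M m x₀ hx₀ A φ = x₀ := by
  rw [fwd, ← Category.assoc]
  change (Spec.map (CommRingCat.ofHom A.res.toRingHom) ≫ Spec.map (toStalkHom M m x₀ hx₀ A φ)) ≫ _ = _
  rw [← Spec.map_comp, toStalkHom_res, map_f₀]

theorem fwd_natural {A B : Art k k} (h : A ⟶ B)
    (φ : HomSet (ring M m x₀ hx₀).carrier (ring M m x₀ hx₀).res A) :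
    fwd M m x₀ hx₀ B (HomSet.map h φ) = specMap h ≫ fwd M m x₀ hx₀ A φ := by
  rw [fwd, fwd, ← Category.assoc]
  change _ = (Spec.map (CommRingCat.ofHom h.toAlgHom.toRingHom) ≫ Spec.map (toStalkHom M m x₀ hx₀ A φ)) ≫ _
  rw [← Spec.map_comp]
  rfl

end Forward

section Bijective

variable {k : Type u} [Field k] (M : Scheme.{u}) (m : M ⟶ Spec (CommRingCat.of k))
  [IsLocallyNoetherian M] (x₀ : Spec (CommRingCat.of k) ⟶ M) (hx₀ : x₀ ≫ m = 𝟙 _) (A : Art k k)

theorem isLocalHom_toStalkHom (φ : HomSet (ring M m x₀ hx₀).carrier (ring M m x₀ hx₀).res A) :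
    IsLocalHom (toStalkHom M m x₀ hx₀ A φ).hom := by
  constructor
  intro o ho
  have h1 : IsUnit (A.res.toRingHom ((toStalkHom M m x₀ hx₀ A φ).hom o)) := ho.map _
  have h2 : A.res.toRingHom ((toStalkHom M m x₀ hx₀ A φ).hom o) = (f₀ M x₀).hom o :=
    congrArg (fun t : Ox M x₀ ⟶ CommRingCat.of k => t.hom o) (toStalkHom_res M m x₀ hx₀ A φ)
  rw [h2] at h1
  exact IsLocalHom.map_nonunit (f := (f₀ M x₀).hom) o h1

/-- a ring map `O_x → A` compatible with the augmentations sends the maximal ideal into the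
maximal ideal -/
theorem map_pow_eq_zero (f : Ox M x₀ →+* A.carrier)
    (hf : ∀ o, A.res (f o) = (f₀ M x₀).hom o) (N : ℕ)
    (hN : maximalIdeal A.carrier ^ N = ⊥) : ∀ a ∈ maximalIdeal (Ox M x₀) ^ N, f a = 0 := by
  intro a ha
  have h1 : Ideal.map f (maximalIdeal (Ox M x₀)) ≤ maximalIdeal A.carrier := by
    rw [Ideal.map_le_iff_le_comap]
    intro b hb
    rw [Ideal.mem_comap, Art.mem_maximalIdeal_iff, hf]
    exact f₀_mem M x₀ b (by rwa [pow_one])
  have h2 : f a ∈ Ideal.map f (maximalIdeal (Ox M x₀)) ^ N := by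
    rw [← Ideal.map_pow]
    exact Ideal.mem_map_of_mem f ha
  have h3 := Ideal.pow_right_mono h1 N h2
  rw [hN] at h3
  exact h3

theorem fwd_injective : Function.Injective (fwd M m x₀ hx₀ A) := by
  intro φ₁ φ₂ h
  have h1 : toStalkHom M m x₀ hx₀ A φ₁ = toStalkHom M m x₀ hx₀ A φ₂ :=
    cancel_fromSpecStalk (pt M x₀) _ _ (isLocalHom_toStalkHom M m x₀ hx₀ A φ₁)
      (isLocalHom_toStalkHom M m x₀ hx₀ A φ₂) h
  have h2 : ∀ o, φ₁.1 (ofC M m x₀ hx₀ o) = φ₂.1 (ofC M m x₀ hx₀ o) := fun o =>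
    congrArg (fun t : Ox M x₀ ⟶ CommRingCat.of A.carrier => t.hom o) h1
  obtain ⟨N, hN⟩ := (isArtinianRing_iff_isNilpotent_maximalIdeal A.carrier).1 A.isArtinianRing
  let ψ₁ : Rc M x₀ →+* A.carrier := (φ₁.1 : (ring M m x₀ hx₀).carrier →+* A.carrier)
  let ψ₂ : Rc M x₀ →+* A.carrier := (φ₂.1 : (ring M m x₀ hx₀).carrier →+* A.carrier)
  have hres : ∀ o, A.res (ψ₁ (AdicCompletion.of _ _ o)) = (f₀ M x₀).hom o := fun o =>
    congrArg (fun t : Ox M x₀ ⟶ CommRingCat.of k => t.hom o) (toStalkHom_res M m x₀ hx₀ A φ₁)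
  have h3 : ψ₁ = ψ₂ := by
    apply ringHom_ext (maximalIdeal (Ox M x₀)) (IsNoetherian.noetherian _) ψ₁ ψ₂ N h2
    exact map_pow_eq_zero M x₀ A (ψ₁.comp (ιR' M x₀)) hres N hN
  apply Subtype.ext
  apply AlgHom.ext
  intro r
  exact congrArg (fun t : Rc M x₀ →+* A.carrier => t r) h3

theorem isLocalHom_res : IsLocalHom (CommRingCat.ofHom A.res.toRingHom).hom := by
  constructor
  intro a ha
  by_contra hna
  have h1 : a ∈ maximalIdeal A.carrier := (IsLocalRing.mem_maximalIdeal _).2 hna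
  rw [Art.mem_maximalIdeal_iff] at h1
  have h2 : A.res a = 0 := h1
  have h3 : IsUnit (A.res a) := ha
  rw [h2] at h3
  exact not_isUnit_zero h3

theorem fwd_surjective (g : spec A ⟶ M) (hg1 : g ≫ m = specMap (ofBase A))
    (hg2 : specRes A ≫ g = x₀) : ∃ φ, fwd M m x₀ hx₀ A φ = g := by
  classical
  haveI := isLocalHom_res A
  have hx : g (closedPoint (CommRingCat.of A.carrier)) = pt M x₀ := by
    have h1 : (specRes A) (closedPoint (CommRingCat.of k)) = closedPoint (CommRingCat.of A.carrier) :=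
      Spec_closedPoint (f := CommRingCat.ofHom A.res.toRingHom)
    rw [← h1]
    change (specRes A ≫ g) (closedPoint (CommRingCat.of k)) = _
    rw [hg2]
  obtain ⟨f, hfloc, hgf⟩ := exists_factor_fromSpecStalk g (pt M x₀) hx
  -- compatibility with the augmentations
  have hfres : f ≫ CommRingCat.ofHom A.res.toRingHom = f₀ M x₀ := by
    haveI := hfloc
    apply cancel_fromSpecStalk (pt M x₀) _ _ (CommRingCat.isLocalHom_comp _ _) inferInstance
    rw [Spec.map_comp, Category.assoc, ← hgf, map_f₀]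
    exact hg2
  -- compatibility with the structure maps
  have hfρ : ρ M m x₀ ≫ f = CommRingCat.ofHom (ofBase A).toAlgHom.toRingHom := by
    apply Spec.map_injective
    rw [Spec.map_comp, map_ρ, ← Category.assoc, ← hgf, hg1]
    rfl
  have hfres' : ∀ o, A.res (f.hom o) = (f₀ M x₀).hom o := fun o =>
    congrArg (fun t : Ox M x₀ ⟶ CommRingCat.of k => t.hom o) hfres
  have hfρ' : ∀ c : k, f.hom ((ρ M m x₀).hom c) = algebraMap k A.carrier c := fun c =>
    congrArg (fun t : CommRingCat.of k ⟶ CommRingCat.of A.carrier => t.hom c) hfρ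
  obtain ⟨N, hN⟩ := (isArtinianRing_iff_isNilpotent_maximalIdeal A.carrier).1 A.isArtinianRing
  have hfN := map_pow_eq_zero M x₀ A f.hom hfres' N hN
  let φr : Rc M x₀ →+* A.carrier := extend (maximalIdeal (Ox M x₀)) f.hom N hfN
  have hφr : ∀ o, φr (AdicCompletion.of _ _ o) = f.hom o := extend_of _ _ _ _
  let φ : (ring M m x₀ hx₀).carrier →ₐ[k] A.carrier :=
    { toRingHom := φr
      commutes' := fun c => by
        change φr (AdicCompletion.of _ _ ((ρ M m x₀).hom c)) = algebraMap k A.carrier c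
        rw [hφr, hfρ'] }
  have hφres : A.res.comp φ = (ring M m x₀ hx₀).res := by
    have h1 : (A.res.toRingHom.comp φr : Rc M x₀ →+* k) = resRing M x₀ := by
      apply ringHom_ext (maximalIdeal (Ox M x₀)) (IsNoetherian.noetherian _) _ _ 1
      · intro o
        change A.res (φr (AdicCompletion.of _ _ o)) = resRing M x₀ (AdicCompletion.of _ _ o)
        rw [hφr, hfres', resRing_of]
      · intro a ha
        change A.res (φr (AdicCompletion.of _ _ a)) = 0
        rw [hφr, hfres']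
        exact f₀_mem M x₀ a ha
    apply AlgHom.ext
    intro r
    exact congrArg (fun t : Rc M x₀ →+* k => t r) h1
  refine ⟨⟨φ, hφres⟩, ?_⟩
  have h2 : toStalkHom M m x₀ hx₀ A ⟨φ, hφres⟩ = f := by
    apply CommRingCat.hom_ext
    apply RingHom.ext
    intro o
    exact hφr o
  rw [fwd, h2, hgf]

end Bijective

end Groth.Agent.Lib.Helper58.LocalFunctorRep
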