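import Mathlib

/-!
# Sections of a first-order deformation of a formally smooth algebra with marked points (helper58)

`k` a field, `A = k[ε]` the dual numbers, `B` an `A`-algebra, `q : B → B₀` a surjection of
`k`-algebras with kernel `εB` onto a formally smooth `k`-algebra, `ρ_j : B₀ → k` finitely many
distinct `k`-points and `π_j : B → A` sections (`A`-algebra maps) lifting them.  Then `q` has a
`k`-algebra section `s` with `π_j ∘ s = (k → A) ∘ ρ_j` for all `j`.

* `exists_forall_apply_eq`: Chinese remainder theorem for distinct `k`-points.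
* `exists_section`: the statement above.
-/

set_option autoImplicit false
universe u v

namespace Groth.Agent.Lib.Helper58.MarkedSection

variable {k : Type u} [Field k] {B₀ : Type u} [CommRing B₀] [Algebra k B₀] {ι : Type v} [Finite ι]

/-- Chinese remainder theorem for finitely many distinct `k`-points of a `k`-algebra. -/
theorem exists_forall_apply_eq (ρ : ι → (B₀ →ₐ[k] k)) (hρ : Function.Injective ρ) (c : ι → k) :
    ∃ b : B₀, ∀ j, ρ j b = c j := by
  have hmax : ∀ j, (RingHom.ker (ρ j : B₀ →+* k)).IsMaximal := fun j =>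
    RingHom.ker_isMaximal_of_surjective _ (fun x => ⟨algebraMap k B₀ x, (ρ j).commutes x⟩)
  have hcop : Pairwise (Function.onFun IsCoprime fun j => RingHom.ker (ρ j : B₀ →+* k)) := by
    intro i j hij
    rw [Function.onFun, Ideal.isCoprime_iff_sup_eq]
    apply (hmax i).coprime_of_ne (hmax j)
    intro h
    apply hij
    apply hρ
    apply AlgHom.ext
    intro b
    have h1 : b - algebraMap k B₀ (ρ i b) ∈ RingHom.ker (ρ i : B₀ →+* k) := by
      rw [RingHom.mem_ker, map_sub]
      change ρ i b - ρ i (algebraMap k B₀ (ρ i b)) = 0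
      rw [(ρ i).commutes]
      exact sub_self _
    rw [h, RingHom.mem_ker, map_sub] at h1
    change ρ j b - ρ j (algebraMap k B₀ (ρ i b)) = 0 at h1
    rw [(ρ j).commutes] at h1
    exact (sub_eq_zero.mp h1).symm
  obtain ⟨r, hr⟩ := Ideal.exists_forall_sub_mem_ideal hcop (fun j => algebraMap k B₀ (c j))
  refine ⟨r, fun j => ?_⟩
  have := hr j
  rw [RingHom.mem_ker, map_sub] at this
  change ρ j r - ρ j (algebraMap k B₀ (c j)) = 0 at this
  rw [(ρ j).commutes] at this
  exact sub_eq_zero.mp this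

section Main

variable {B : Type u} [CommRing B] [Algebra k B] [Algebra (DualNumber k) B]
  [IsScalarTower k (DualNumber k) B]

open TrivSqZeroExt

/-- the two maps whose equalizer is the fibre product `B₀ ×_{k^ι} A^ι` -/
noncomputable def φ₁ (ρ : ι → (B₀ →ₐ[k] k)) : (B₀ × (ι → DualNumber k)) →ₐ[k] (ι → k) :=
  AlgHom.pi fun j => (ρ j).comp (AlgHom.fst k B₀ (ι → DualNumber k))

noncomputable def φ₂ : (B₀ × (ι → DualNumber k)) →ₐ[k] (ι → k) :=
  AlgHom.pi fun j => (fstHom k k k).comp
    ((Pi.evalAlgHom k (fun _ : ι => DualNumber k) j).comp (AlgHom.snd k B₀ (ι → DualNumber k)))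

/-- the fibre product `B₀ ×_{k^ι} A^ι` -/
noncomputable def F (ρ : ι → (B₀ →ₐ[k] k)) : Subalgebra k (B₀ × (ι → DualNumber k)) :=
  AlgHom.equalizer (φ₁ ρ) (φ₂ (B₀ := B₀) (ι := ι))

theorem mem_F (ρ : ι → (B₀ →ₐ[k] k)) (x : B₀ × (ι → DualNumber k)) :
    x ∈ F ρ ↔ ∀ j, ρ j x.1 = (x.2 j).fst := by
  rw [F, AlgHom.mem_equalizer]
  constructor
  · intro h j
    exact congrFun h j
  · intro h
    funext j
    exact h j

theorem eps_mul (x : DualNumber k) : (DualNumber.eps : DualNumber k) * x = inr x.fst := by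
  apply TrivSqZeroExt.ext
  · rw [fst_mul, DualNumber.fst_eps, zero_mul, fst_inr]
  · rw [snd_mul, DualNumber.fst_eps, zero_smul, DualNumber.snd_eps, zero_add, snd_inr]
    simp

/-- A `k`-algebra section of `q` compatible with finitely many marked sections. -/
theorem exists_section [Algebra.FormallySmooth k B₀] (q : B →ₐ[k] B₀) (hq : Function.Surjective q)
    (hker : RingHom.ker (q : B →+* B₀) =
      Ideal.span {algebraMap (DualNumber k) B DualNumber.eps})
    (hqA : ∀ a : DualNumber k, q (algebraMap (DualNumber k) B a) = algebraMap k B₀ a.fst)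
    (ρ : ι → (B₀ →ₐ[k] k)) (hρ : Function.Injective ρ)
    (π : ι → (B →ₐ[DualNumber k] DualNumber k))
    (hπ : ∀ j b, (π j b).fst = ρ j (q b)) :
    ∃ s : B₀ →ₐ[k] B, (∀ b, q (s b) = b) ∧
      ∀ j b, π j (s b) = algebraMap k (DualNumber k) (ρ j b) := by
  classical
  set ε' : B := algebraMap (DualNumber k) B DualNumber.eps with hε'
  have hεε : ε' * ε' = 0 := by
    rw [hε', ← map_mul, DualNumber.eps_mul_eps, map_zero]
  have hqε : q ε' = 0 := by
    rw [hε', hqA, DualNumber.fst_eps, map_zero]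
  -- the comparison map `Ψ : B → F`
  let Ψ₀ : B →ₐ[k] (B₀ × (ι → DualNumber k)) :=
    AlgHom.prod q (AlgHom.pi fun j => (π j).restrictScalars k)
  have hΨ₀ : ∀ b, Ψ₀ b ∈ F ρ := by
    intro b
    rw [mem_F]
    intro j
    exact (hπ j b).symm
  let Ψ : B →ₐ[k] F ρ := Ψ₀.codRestrict (F ρ) hΨ₀
  have hΨ1 : ∀ b, (Ψ b : B₀ × (ι → DualNumber k)).1 = q b := fun b => rfl
  have hΨ2 : ∀ b j, (Ψ b : B₀ × (ι → DualNumber k)).2 j = π j b := fun b j => rfl
  have hsurj : Function.Surjective Ψ := by
    rintro ⟨⟨b₀, a⟩, hx⟩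
    rw [mem_F] at hx
    obtain ⟨b, rfl⟩ := hq b₀
    obtain ⟨b₁, hb₁⟩ := exists_forall_apply_eq ρ hρ (fun j => (a j).snd - (π j b).snd)
    obtain ⟨b', rfl⟩ := hq b₁
    refine ⟨b + ε' * b', ?_⟩
    apply Subtype.ext
    apply Prod.ext
    · change q (b + ε' * b') = q b
      rw [map_add, map_mul, hqε, zero_mul, add_zero]
    · funext j
      change π j (b + ε' * b') = a j
      have h1 : π j (ε' * b') = inr (ρ j (q b')) := by
        rw [hε', ← Algebra.smul_def, map_smul, smul_eq_mul, eps_mul, hπ]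
      rw [map_add, h1]
      apply TrivSqZeroExt.ext
      · rw [fst_add, fst_inr, add_zero, hπ]
        exact hx j
      · rw [snd_add, snd_inr, hb₁ j]
        ring
  have hnil : IsNilpotent (RingHom.ker (Ψ : B →+* F ρ)) := by
    refine ⟨2, ?_⟩
    have hle : RingHom.ker (Ψ : B →+* F ρ) ≤ RingHom.ker (q : B →+* B₀) := by
      intro b hb
      rw [RingHom.mem_ker] at hb ⊢
      have := congrArg (fun x : F ρ => (x : B₀ × (ι → DualNumber k)).1) hb
      exact this
    rw [Ideal.zero_eq_bot, eq_bot_iff]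
    refine (Ideal.pow_right_mono hle 2).trans ?_
    rw [hker, Ideal.span_singleton_pow, sq, hεε]
    simp
  -- the map to lift
  let f₀ : B₀ →ₐ[k] (B₀ × (ι → DualNumber k)) :=
    AlgHom.prod (AlgHom.id k B₀) (AlgHom.pi fun j => (Algebra.ofId k (DualNumber k)).comp (ρ j))
  have hf₀ : ∀ b, f₀ b ∈ F ρ := by
    intro b
    rw [mem_F]
    intro j
    change ρ j b = (algebraMap k (DualNumber k) (ρ j b)).fst
    rw [TrivSqZeroExt.algebraMap_eq_inl, fst_inl]
  let f : B₀ →ₐ[k] F ρ := f₀.codRestrict (F ρ) hf₀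
  let s : B₀ →ₐ[k] B := Algebra.FormallySmooth.liftOfSurjective f Ψ hsurj hnil
  have hs : ∀ b, Ψ (s b) = f b := Algebra.FormallySmooth.liftOfSurjective_apply f Ψ hsurj hnil
  refine ⟨s, fun b => ?_, fun j b => ?_⟩
  · have := congrArg (fun x : F ρ => (x : B₀ × (ι → DualNumber k)).1) (hs b)
    exact this
  · have := congrArg (fun x : F ρ => (x : B₀ × (ι → DualNumber k)).2 j) (hs b)
    exact this

end Main

end Groth.Agent.Lib.Helper58.MarkedSection
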