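import Mathlib
import Groth.Prelude.Def_W4sfdMinVersal
import Groth.Agent.S12720
import Groth.Agent.Lib.Helper58.FittingLim
import Groth.Agent.Lib.Helper58.CRingQuot
import Groth.Agent.Lib.Helper65.CRingMinVersal
import Groth.Agent.Lib.Helper65.CRingBasic
import Groth.Agent.Lib.Helper65.ArtBasic

/-!
# Minimal versal retracts of a versal family
-/

set_option autoImplicit false
universe u v
open CategoryTheory

namespace Groth.Agent.Lib.Helper58.MinRet

open ArtFun IsLocalRing Groth.Agent.Lib.Helper65 Groth.Agent.Lib.Helper58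

variable {Λ : Type u} {k : Type u} [CommRing Λ] [Field k] [Algebra Λ k]

section Pre

variable {R S T : CRing Λ k}

/-- precomposition -/
def pre (g : R.carrier →ₐ[Λ] S.carrier) (hg : S.res.comp g = R.res) {A : Art Λ k}
    (ψ : HomSet S.carrier S.res A) : HomSet R.carrier R.res A :=
  ⟨ψ.1.comp g, by rw [← AlgHom.comp_assoc, ψ.2, hg]⟩

theorem pre_val (g : R.carrier →ₐ[Λ] S.carrier) (hg : S.res.comp g = R.res) {A : Art Λ k}
    (ψ : HomSet S.carrier S.res A) (r : R.carrier) : (pre g hg ψ).1 r = ψ.1 (g r) := rfl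

theorem along_app {F : Art Λ k ⥤ Type v} (ξ : Family R.carrier R.res F)
    (g : R.carrier →ₐ[Λ] S.carrier) (hg : S.res.comp g = R.res) (A : Art Λ k)
    (ψ : HomSet S.carrier S.res A) : (ξ.along g hg).app A ψ = ξ.app A (pre g hg ψ) := rfl

theorem res_comp (g : R.carrier →ₐ[Λ] S.carrier) (hg : S.res.comp g = R.res)
    (h : S.carrier →ₐ[Λ] T.carrier) (hh : T.res.comp h = S.res) : T.res.comp (h.comp g) = R.res := by
  rw [← AlgHom.comp_assoc, hh, hg]

theorem hom_kills (A : Art Λ k) (ψ : HomSet R.carrier R.res A) (n : ℕ)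
    (hn : maximalIdeal A ^ n = ⊥) (a : R.carrier) (ha : a ∈ maximalIdeal R.carrier ^ n) :
    ψ.1 a = 0 := by
  have hle : Ideal.map ψ.1 (maximalIdeal R.carrier) ≤ maximalIdeal A := by
    rw [Ideal.map_le_iff_le_comap]
    intro a ha
    rw [Ideal.mem_comap, Art.mem_maximalIdeal_iff]
    have : A.res (ψ.1 a) = R.res a := congrArg (fun t : R.carrier →ₐ[Λ] k => t a) ψ.2
    rw [this]
    exact (CRing.mem_maximalIdeal_iff R a).1 ha
  have h2 : ψ.1 a ∈ Ideal.map ψ.1 (maximalIdeal R.carrier ^ n) := Ideal.mem_map_of_mem _ ha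
  rw [Ideal.map_pow] at h2
  have h3 := Ideal.pow_right_mono hle n h2
  rw [hn] at h3
  exact h3

end Pre

section Inv

variable {F : Art Λ k ⥤ Type v} (R : CRing Λ k) (ξ : Family R.carrier R.res F)

/-- `θ` preserves the family `ξ` -/
def Inv (θ : R.carrier →ₐ[Λ] R.carrier) (hθ : R.res.comp θ = R.res) : Prop :=
  ∀ (A : Art Λ k) (ψ : HomSet R.carrier R.res A), ξ.app A (pre θ hθ ψ) = ξ.app A ψ

theorem Inv.comp {θ₁ θ₂ : R.carrier →ₐ[Λ] R.carrier} {h₁ : R.res.comp θ₁ = R.res}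
    {h₂ : R.res.comp θ₂ = R.res} (i₁ : Inv R ξ θ₁ h₁) (i₂ : Inv R ξ θ₂ h₂) :
    Inv R ξ (θ₁.comp θ₂) (res_comp θ₂ h₂ θ₁ h₁) := by
  intro A ψ
  have h : pre (θ₁.comp θ₂) (res_comp θ₂ h₂ θ₁ h₁) ψ = pre θ₂ h₂ (pre θ₁ h₁ ψ) :=
    Subtype.ext (AlgHom.ext fun _ => rfl)
  rw [h, i₂, i₁]

theorem res_pow {θ : R.carrier →ₐ[Λ] R.carrier} (hθ : R.res.comp θ = R.res) (N : ℕ) :
    R.res.comp (θ ^ N) = R.res :=
  AlgHom.ext fun r => FitLim.res_pow_apply R θ hθ N r

theorem Inv.pow {θ : R.carrier →ₐ[Λ] R.carrier} {hθ : R.res.comp θ = R.res} (i : Inv R ξ θ hθ) (N : ℕ) :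
    Inv R ξ (θ ^ N) (res_pow R hθ N) := by
  induction N with
  | zero =>
    intro A ψ
    congr 1
  | succ N ih =>
    intro A ψ
    have h : pre (θ ^ (N + 1)) (res_pow R hθ (N + 1)) ψ = pre θ hθ (pre (θ ^ N) (res_pow R hθ N) ψ) := by
      apply Subtype.ext
      apply AlgHom.ext
      intro r
      change ψ.1 ((θ ^ (N + 1)) r) = ψ.1 ((θ ^ N) (θ r))
      rw [pow_succ, AlgHom.mul_apply]
    rw [h, i, ih]

/-- invariance passes to the Fitting idempotent -/
theorem inv_idem {θ : R.carrier →ₐ[Λ] R.carrier} {hθ : R.res.comp θ = R.res} (i : Inv R ξ θ hθ)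
    (e : R.carrier →ₐ[Λ] R.carrier) (he : R.res.comp e = R.res)
    (h3 : ∀ n, ∃ N, ∀ r, e ((θ ^ N) r) - (θ ^ N) r ∈ maximalIdeal R.carrier ^ n) :
    Inv R ξ e he := by
  intro A ψ
  obtain ⟨n, hn⟩ := art_maximalIdeal_nilpotent A
  obtain ⟨N, hN⟩ := h3 n
  have h : pre (θ ^ N) (res_pow R hθ N) (pre e he ψ) = pre (θ ^ N) (res_pow R hθ N) ψ := by
    apply Subtype.ext
    apply AlgHom.ext
    intro r
    change ψ.1 (e ((θ ^ N) r)) = ψ.1 ((θ ^ N) r)
    rw [← sub_eq_zero, ← map_sub]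
    exact hom_kills A ψ n hn _ (hN r)
  rw [← (i.pow R ξ N) A (pre e he ψ), h, (i.pow R ξ N) A ψ]

end Inv

section Main

variable [IsNoetherianRing Λ] [Module.Finite Λ k]
variable {F : Art Λ k ⥤ Type v}

/-- a versal family has a minimal versal retract -/
theorem exists_minimal_retract (h0 : H0 F) (R : CRing Λ k) (ξ : Family R.carrier R.res F)
    (hξ : IsVersal ξ) :
    ∃ (R' : CRing Λ k) (g : R'.carrier →ₐ[Λ] R.carrier) (hg : R.res.comp g = R'.res)
      (ρ : R.carrier →ₐ[Λ] R'.carrier) (hρ : R'.res.comp ρ = R.res),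
      ρ.comp g = AlgHom.id Λ R'.carrier ∧ Inv R ξ (g.comp ρ) (res_comp ρ hρ g hg) ∧
      (ξ.along ρ hρ).IsMinimalVersal := by
  classical
  -- the set of kernels of invariant idempotents
  let 𝒮 : Set (Ideal R.carrier) := {J | ∃ (e : R.carrier →ₐ[Λ] R.carrier) (he : R.res.comp e = R.res),
    e.comp e = e ∧ Inv R ξ e he ∧ RingHom.ker e = J}
  have hne : 𝒮.Nonempty := by
    refine ⟨RingHom.ker (AlgHom.id Λ R.carrier), AlgHom.id Λ R.carrier, AlgHom.comp_id _, rfl, ?_, rfl⟩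
    intro A ψ
    congr 1
  obtain ⟨J, ⟨e, he, hidem, hinv, rfl⟩, hmax⟩ :=
    (set_has_maximal_iff_noetherian (R := R.carrier) (M := R.carrier)).2 inferInstance 𝒮 hne
  have hee : ∀ r, e (e r) = e r := fun r => congrArg (fun t : R.carrier →ₐ[Λ] R.carrier => t r) hidem
  have hres : ∀ r, R.res (e r) = R.res r := fun r => congrArg (fun t : R.carrier →ₐ[Λ] k => t r) he
  have hK : RingHom.ker e ≤ maximalIdeal R.carrier := by
    intro a ha
    rw [CRing.mem_maximalIdeal_iff, ← hres, RingHom.mem_ker.1 ha, map_zero]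
  set K := RingHom.ker e with hKdef
  let R' : CRing Λ k := CRQ.quot R K hK
  let ρ : R.carrier →ₐ[Λ] R'.carrier := CRQ.quotMk R K hK
  have hρ : R'.res.comp ρ = R.res := CRQ.quotMk_res R K hK
  obtain ⟨g, hg, hgρ⟩ := CRQ.exists_lift R K hK R e he (fun a ha => RingHom.mem_ker.1 ha)
  have hgρ' : ∀ r, g (ρ r) = e r := fun r => congrArg (fun t : R.carrier →ₐ[Λ] R.carrier => t r) hgρ
  have hρe : ∀ r, ρ (e r) = ρ r := by
    intro r
    rw [← sub_eq_zero, ← map_sub, CRQ.quotMk_eq_zero_iff, hKdef, RingHom.mem_ker, map_sub, hee, sub_self]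
  have hρg : ρ.comp g = AlgHom.id Λ R'.carrier := by
    apply CRQ.hom_ext R K hK
    apply AlgHom.ext
    intro r
    change ρ (g (ρ r)) = ρ r
    rw [hgρ', hρe]
  have hρg' : ∀ a, ρ (g a) = a := fun a => congrArg (fun t : R'.carrier →ₐ[Λ] R'.carrier => t a) hρg
  have hinv' : Inv R ξ (g.comp ρ) (res_comp ρ hρ g hg) := by
    intro A ψ
    have h : pre (g.comp ρ) (res_comp ρ hρ g hg) ψ = pre e he ψ :=
      Subtype.ext (AlgHom.ext fun r => congrArg ψ.1 (hgρ' r))
    rw [h, hinv]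
  let ξ' : Family R'.carrier R'.res F := ξ.along ρ hρ
  -- versality of the retract
  have hversal : IsVersal ξ' := by
    intro B A μ hμ φ' y hy
    obtain ⟨ψ, hψ₁, hψ₂⟩ := hξ μ hμ (pre ρ hρ φ') y hy
    refine ⟨pre g hg ψ, ?_, ?_⟩
    · apply Subtype.ext
      apply AlgHom.ext
      intro a
      have h1 := congrArg (fun t : HomSet R.carrier R.res A => t.1 (g a)) hψ₁
      change μ (ψ.1 (g a)) = φ'.1 a
      have h2 : μ (ψ.1 (g a)) = φ'.1 (ρ (g a)) := h1
      rw [h2, hρg']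
    · change ξ.app B (pre ρ hρ (pre g hg ψ)) = y
      have h : pre ρ hρ (pre g hg ψ) = pre (g.comp ρ) (res_comp ρ hρ g hg) ψ :=
        Subtype.ext (AlgHom.ext fun _ => rfl)
      rw [h, hinv', hψ₂]
  -- endomorphisms preserving the retract are surjective
  have hsurj : ∀ (θ' : R'.carrier →ₐ[Λ] R'.carrier) (hθ' : R'.res.comp θ' = R'.res),
      Inv R' ξ' θ' hθ' → Function.Surjective θ' := by
    intro θ' hθ' iθ'
    have hθ'res : ∀ a, R'.res (θ' a) = R'.res a := fun a =>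
      congrArg (fun t : R'.carrier →ₐ[Λ] k => t a) hθ'
    let θ : R.carrier →ₐ[Λ] R.carrier := g.comp (θ'.comp ρ)
    have hθ : R.res.comp θ = R.res := res_comp (θ'.comp ρ) (res_comp ρ hρ θ' hθ') g hg
    have iθ : Inv R ξ θ hθ := by
      intro A ψ
      have h1 : pre θ hθ ψ = pre ρ hρ (pre θ' hθ' (pre g hg ψ)) :=
        Subtype.ext (AlgHom.ext fun _ => rfl)
      have h2 : ξ.app A (pre ρ hρ (pre θ' hθ' (pre g hg ψ))) = ξ'.app A (pre θ' hθ' (pre g hg ψ)) := rfl
      have h3 : ξ'.app A (pre g hg ψ) = ξ.app A (pre (g.comp ρ) (res_comp ρ hρ g hg) ψ) := by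
        change ξ.app A (pre ρ hρ (pre g hg ψ)) = _
        congr 1
      rw [h1, h2, iθ', h3, hinv']
    obtain ⟨e₂, he₂, hidem₂, h3, h4, h5⟩ := FitLim.exists_idem R θ hθ
    have ie₂ : Inv R ξ e₂ he₂ := inv_idem R ξ iθ e₂ he₂ h3
    have hle : K ≤ RingHom.ker e₂ := by
      intro a ha
      rw [RingHom.mem_ker]
      have hθa : (θ ^ 1) a = 0 := by
        rw [pow_one]
        change g (θ' (ρ a)) = 0
        rw [(CRQ.quotMk_eq_zero_iff R K hK a).2 ha, map_zero, map_zero]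
      have hmem : ∀ n, e₂ a ∈ maximalIdeal R.carrier ^ n := by
        intro n
        apply h4 n 1 a
        rw [hθa]
        exact Ideal.zero_mem _
      have hinf : e₂ a ∈ ⨅ n, maximalIdeal R.carrier ^ n := by
        rw [Ideal.mem_iInf]
        exact hmem
      rw [Ideal.iInf_pow_eq_bot_of_isLocalRing _ (maximalIdeal.isMaximal R.carrier).ne_top] at hinf
      exact hinf
    have hKeq : RingHom.ker e₂ = K := by
      have hmem : RingHom.ker e₂ ∈ 𝒮 := ⟨e₂, he₂, hidem₂, ie₂, rfl⟩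
      have := hmax _ hmem
      exact (eq_of_le_of_not_lt hle this).symm
    have hee₂ : ∀ r, e (e₂ r) = e r := by
      intro r
      rw [← sub_eq_zero, ← map_sub]
      have h1 : e₂ r - r ∈ RingHom.ker e₂ := by
        rw [RingHom.mem_ker, map_sub]
        have := congrArg (fun t : R.carrier →ₐ[Λ] R.carrier => t r) hidem₂
        change e₂ (e₂ r) = e₂ r at this
        rw [this, sub_self]
      rw [hKeq] at h1
      exact RingHom.mem_ker.1 h1
    apply cring_surjective_of_cotangent R' R' θ' hθ'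
    apply le_antisymm
    · apply sup_le (cring_map_maximalIdeal_le R' R' θ' hθ')
      exact Ideal.pow_le_self (by norm_num)
    · intro a' ha'
      obtain ⟨c, hc⟩ := h5 2 1 (g a')
      rw [pow_one] at hc
      set z := e₂ (g a') - θ c with hz
      have h1 : e₂ (g a') = θ c + z := by rw [hz]; ring
      have h2 : a' = θ' (ρ c) + ρ z := by
        have h3 : ρ (e (e₂ (g a'))) = a' := by rw [hee₂, hρe, hρg']
        rw [← h3, h1, hρe, map_add]
        congr 1
        change ρ (g (θ' (ρ c))) = _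
        rw [hρg']
      have hρz : ρ z ∈ maximalIdeal R'.carrier ^ 2 := by
        have h3 : ρ z ∈ Ideal.map ρ (maximalIdeal R.carrier ^ 2) := Ideal.mem_map_of_mem _ hc
        rw [Ideal.map_pow] at h3
        exact Ideal.pow_right_mono (cring_map_maximalIdeal_le R R' ρ hρ) 2 h3
      have hρc : ρ c ∈ maximalIdeal R'.carrier := by
        rw [CRing.mem_maximalIdeal_iff, ← hθ'res]
        have h3 : R'.res a' = 0 := (CRing.mem_maximalIdeal_iff R' a').1 ha'
        have h4 : R'.res (ρ z) = 0 :=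
          (CRing.mem_maximalIdeal_iff R' _).1 (Ideal.pow_le_self (by norm_num) hρz)
        rw [h2, map_add, h4, add_zero] at h3
        exact h3
      rw [h2]
      exact Ideal.add_mem _ (Ideal.mem_sup_left (Ideal.mem_map_of_mem _ hρc)) (Ideal.mem_sup_right hρz)
  refine ⟨R', g, hg, ρ, hρ, hρg, hinv', hversal, ?_⟩
  intro R'' u f hf hu
  obtain ⟨s, hs, hsu⟩ := Groth.Agent.S12720.result h0 R' ξ' hversal R'' u
  have iθ' : Inv R' ξ' (f.comp s) (res_comp s hs f hf) := by
    intro A ψ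
    let ζ : Family R'.carrier R'.res F := (ξ'.along s hs).along f hf
    have hζ : ζ.toFormalElt = ξ'.toFormalElt := by
      rw [along_toFormalElt, hsu, hu]
    have h1 := family_ext_of_toFormalElt R' ζ ξ' hζ A ψ
    rw [← h1]
    change ξ'.app A _ = ξ'.app A _
    congr 1
  exact Function.Surjective.of_comp (hsurj _ _ iθ')

end Main

end Groth.Agent.Lib.Helper58.MinRet
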