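import Mathlib
import Groth.Prelude.Def_W4sfdMinVersal
import Groth.Agent.Lib.Helper65.ArtFibre
import Groth.Agent.Lib.Helper65.ArtFinite
import Groth.Agent.Lib.Helper65.CRingLift
import Groth.Agent.Lib.Helper65.CRingBasic
import Groth.Agent.Lib.Helper65.CRingMinVersal
import Groth.Agent.Lib.Helper58.FormalLift

/-!
# A minimal versal family is injective on tangent spaces

(when `k` has no nonzero `Λ`-derivations, and the functor satisfies `H0` and `Heps`)
-/

set_option autoImplicit false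
universe u v
open CategoryTheory

namespace Groth.Agent.Lib.Helper58.MinVT

open ArtFun ArtFun.Art IsLocalRing Groth.Agent.Lib.Helper65 Groth.Agent.Lib.Helper58.FormalLift

variable {Λ : Type u} {k : Type u} [CommRing Λ] [Field k] [Algebra Λ k]

section Lift

variable {F : Art Λ k ⥤ Type v}

/-- formal lifting from a versal family, with prescribed first-order part -/
theorem exists_lift_of_trunc_one (R : CRing Λ k) (ξ : Family R.carrier R.res F) (hξ : IsVersal ξ)
    (S : CRing Λ k) (η : FormalElt F S) (ψ₁ : HomSet R.carrier R.res (S.trunc 1))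
    (h₁ : ξ.app _ ψ₁ = η.elt 1) :
    ∃ (g : R.carrier →ₐ[Λ] S.carrier) (hg : S.res.comp g = R.res),
      (ξ.along g hg).toFormalElt = η ∧ (S.truncHom 1).1.comp g = ψ₁.1 := by
  classical
  have step : ∀ (n : ℕ) (ψ : HomSet R.carrier R.res (S.trunc (n + 1))), ξ.app _ ψ = η.elt (n + 1) →
      ∃ ψ' : HomSet R.carrier R.res (S.trunc (n + 1 + 1)),
        HomSet.map (S.truncMap (n + 1)) ψ' = ψ ∧ ξ.app _ ψ' = η.elt (n + 1 + 1) := by
    intro n ψ hψ
    exact hξ (S.truncMap (n + 1)) (cring_truncMap_surjective S (n + 1)) ψ (η.elt (n + 1 + 1))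
      ((η.compat (n + 1)).trans hψ.symm)
  let T : ℕ → Type u := fun n =>
    {ψ : HomSet R.carrier R.res (S.trunc (n + 1)) // ξ.app _ ψ = η.elt (n + 1)}
  let seq : ∀ n : ℕ, T n := fun n => Nat.rec (motive := T) ⟨ψ₁, h₁⟩
      (fun n p => ⟨(step n p.1 p.2).choose, (step n p.1 p.2).choose_spec.2⟩) n
  have hseq : ∀ n, HomSet.map (S.truncMap (n + 1)) (seq (n + 1)).1 = (seq n).1 :=
    fun n => (step n (seq n).1 (seq n).2).choose_spec.1
  let full : ∀ n : ℕ, HomSet R.carrier R.res (S.trunc n) := fun n =>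
    Nat.casesOn (motive := fun n => HomSet R.carrier R.res (S.trunc n)) n
      (HomSet.map (S.truncMap 0) ψ₁) (fun m => (seq m).1)
  have hfull : ∀ n, HomSet.map (S.truncMap n) (full (n + 1)) = full n := by
    intro n
    cases n with
    | zero => rfl
    | succ m => exact hseq m
  have hfullξ : ∀ n, ξ.app _ (full n) = η.elt n := by
    intro n
    cases n with
    | zero =>
      change ξ.app _ (HomSet.map (S.truncMap 0) ψ₁) = η.elt 0
      rw [ξ.natural, h₁, η.compat]
    | succ m => exact (seq m).2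
  obtain ⟨g, hg, hgn⟩ := cring_exists_lift R.res S full hfull
  refine ⟨g, hg, ?_, hgn 1⟩
  apply FormalElt.ext'
  intro n
  change ξ.app _ ⟨(S.truncHom n).1.comp g, _⟩ = η.elt n
  rw [← hfullξ n]
  congr 1
  exact Subtype.ext (hgn n)

end Lift

section DualCoords

variable (Λ k)

/-- the `ε`-coefficient of an element of `k[ε]` -/
def sndD (x : (dual Λ k).carrier) : k := TrivSqZeroExt.snd (x : TrivSqZeroExt k k)

variable {Λ k}

theorem sndD_one : sndD Λ k 1 = 0 := rfl

theorem sndD_zero : sndD Λ k 0 = 0 := rfl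

theorem sndD_add (x y : (dual Λ k).carrier) : sndD Λ k (x + y) = sndD Λ k x + sndD Λ k y := rfl

theorem sndD_sub (x y : (dual Λ k).carrier) : sndD Λ k (x - y) = sndD Λ k x - sndD Λ k y := rfl

theorem snd_mul_aux (x y : TrivSqZeroExt k k) :
    (x * y).snd = x.fst * y.snd + y.fst * x.snd := by
  rw [TrivSqZeroExt.snd_mul, op_smul_eq_smul, smul_eq_mul, smul_eq_mul]

theorem sndD_mul (x y : (dual Λ k).carrier) :
    sndD Λ k (x * y) = (dual Λ k).res x * sndD Λ k y + (dual Λ k).res y * sndD Λ k x :=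
  snd_mul_aux (k := k) x y

theorem sndD_algebraMap (l : Λ) : sndD Λ k (algebraMap Λ (dual Λ k).carrier l) = 0 := by
  change TrivSqZeroExt.snd (algebraMap Λ (TrivSqZeroExt k k) l) = 0
  rw [TrivSqZeroExt.algebraMap_eq_inl', TrivSqZeroExt.snd_inl]

theorem dual_ext (x y : (dual Λ k).carrier) (h1 : (dual Λ k).res x = (dual Λ k).res y)
    (h2 : sndD Λ k x = sndD Λ k y) : x = y :=
  TrivSqZeroExt.ext h1 h2

end DualCoords

section Translate

/-- translation by a socle-type element: for `w ∈ m_A` with `m_A w = 0` and maps `p' : B → A`,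
`p'' : B → k[ε]` the map `b ↦ p'(b) - (ε-part of p''(b)) • w` is a morphism -/
theorem exists_translate (A : Art Λ k) (w : A.carrier)
    (hw : ∀ x ∈ maximalIdeal A.carrier, x * w = 0) (hwm : w ∈ maximalIdeal A.carrier)
    {B : Art Λ k} (p' : B ⟶ A) (p'' : B ⟶ dual Λ k) :
    ∃ (τ : k → A.carrier) (σ : B ⟶ A), (∀ x : A.carrier, τ (A.res x) = x * w) ∧
      ∀ b : B.carrier, σ b = p' b - τ (sndD Λ k (p'' b)) := by
  classical
  let s : k → A.carrier := Function.surjInv A.res_surjective
  have hs : ∀ c, A.res (s c) = c := Function.surjInv_eq A.res_surjective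
  let τ : k → A.carrier := fun c => s c * w
  have hτ : ∀ x : A.carrier, τ (A.res x) = x * w := by
    intro x
    have h1 : x - s (A.res x) ∈ maximalIdeal A.carrier := by
      rw [Art.mem_maximalIdeal_iff, map_sub, hs, sub_self]
    have h2 := hw _ h1
    rw [sub_mul, sub_eq_zero] at h2
    exact h2.symm
  have hτ0 : τ 0 = 0 := by
    have := hτ 0
    rwa [map_zero, zero_mul] at this
  have hτadd : ∀ c c', τ (c + c') = τ c + τ c' := by
    intro c c'
    have := hτ (s c + s c')
    rw [map_add, hs, hs, add_mul] at this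
    exact this
  have hτmul : ∀ (x : A.carrier) (c : k), τ (A.res x * c) = x * τ c := by
    intro x c
    have := hτ (x * s c)
    rw [map_mul, hs, mul_assoc] at this
    exact this
  have hww : w * w = 0 := hw w hwm
  have hττ : ∀ c c', τ c * τ c' = 0 := by
    intro c c'
    change s c * w * (s c' * w) = 0
    have : s c * w * (s c' * w) = s c * s c' * (w * w) := by ring
    rw [this, hww, mul_zero]
  have hτres : ∀ c, A.res (τ c) = 0 := by
    intro c
    change A.res (s c * w) = 0
    rw [map_mul, (Art.mem_maximalIdeal_iff A w).1 hwm, mul_zero]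
  have hfst : ∀ b : B.carrier, (dual Λ k).res (p'' b) = A.res (p' b) := by
    intro b
    rw [Art.res_app p'' b, Art.res_app p' b]
  let σ₀ : B.carrier →ₐ[Λ] A.carrier :=
    { toFun := fun b => p' b - τ (sndD Λ k (p'' b))
      map_one' := by
        have h1 : p'' (1 : B.carrier) = 1 := map_one p''.toAlgHom
        rw [h1, sndD_one, hτ0, sub_zero]
        exact map_one p'.toAlgHom
      map_mul' := fun b b' => by
        have h1 : p'' (b * b') = p'' b * p'' b' := map_mul p''.toAlgHom b b'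
        have h2 : p' (b * b') = p' b * p' b' := map_mul p'.toAlgHom b b'
        rw [h1, h2, sndD_mul, hfst, hfst, hτadd, hτmul, hτmul]
        have h4 := hττ (sndD Λ k (p'' b)) (sndD Λ k (p'' b'))
        linear_combination -h4
      map_zero' := by
        have h1 : p'' (0 : B.carrier) = 0 := map_zero p''.toAlgHom
        rw [h1, sndD_zero, hτ0, sub_zero]
        exact map_zero p'.toAlgHom
      map_add' := fun b b' => by
        have h1 : p'' (b + b') = p'' b + p'' b' := map_add p''.toAlgHom b b'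
        have h2 : p' (b + b') = p' b + p' b' := map_add p'.toAlgHom b b'
        rw [h1, h2, sndD_add, hτadd]
        ring
      commutes' := fun l => by
        have h1 : p'' (algebraMap Λ B.carrier l) = algebraMap Λ (dual Λ k).carrier l :=
          p''.toAlgHom.commutes l
        have h2 : p' (algebraMap Λ B.carrier l) = algebraMap Λ A.carrier l := p'.toAlgHom.commutes l
        change p' (algebraMap Λ B.carrier l) - τ (sndD Λ k (p'' (algebraMap Λ B.carrier l))) = _
        rw [h1, h2, sndD_algebraMap, hτ0, sub_zero] }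
  refine ⟨τ, ⟨σ₀, ?_⟩, hτ, fun b => rfl⟩
  apply AlgHom.ext
  intro b
  change A.res (p' b - τ (sndD Λ k (p'' b))) = B.res b
  rw [map_sub, hτres, sub_zero]
  exact Art.res_app p' b

end Translate

section Main

variable [IsNoetherianRing Λ] [Module.Finite Λ k] {F : Art Λ k ⥤ Type v}

/-- the zero tangent vector of `h_R` -/
def zeroT (R : CRing Λ k) : HomSet R.carrier R.res (dual Λ k) :=
  HomSet.map baseToDual ⟨R.res, AlgHom.id_comp _⟩

theorem sndD_zeroT (R : CRing Λ k) (r : R.carrier) : sndD Λ k ((zeroT R).1 r) = 0 := rfl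

theorem res_zeroT (R : CRing Λ k) (r : R.carrier) : (dual Λ k).res ((zeroT R).1 r) = R.res r := rfl

/-- `(a, b₁, b₂) ↦ a + (b₁ - b₂) ε` -/
def minus : dual2 Λ k ⟶ dual Λ k :=
  ⟨tszeMap (LinearMap.fst k k k - LinearMap.snd k k k), AlgHom.ext fun _ => rfl⟩

theorem sndD_minus (x : (dual2 Λ k).carrier) :
    sndD Λ k (minus x) = sndD Λ k (pr₁ x) - sndD Λ k (pr₂ x) := rfl

/-- a tangent vector of a minimal versal family with the same image as the zero vector is zero -/
theorem eq_zeroT_of_isMinimalVersal (hk : Subsingleton (Derivation Λ k k)) (h2 : Heps F)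
    {R : CRing Λ k} (ξ : Family R.carrier R.res F) (hξ : ξ.IsMinimalVersal)
    (ψ : HomSet R.carrier R.res (dual Λ k)) (hψ : ξ.app _ ψ = ξ.app _ (zeroT R)) :
    ψ = zeroT R := by
  classical
  by_contra hne
  have hres : ∀ r, (dual Λ k).res (ψ.1 r) = R.res r := fun r =>
    congrArg (fun t : R.carrier →ₐ[Λ] k => t r) ψ.2
  let D : R.carrier →+ k :=
    { toFun := fun r => sndD Λ k (ψ.1 r)
      map_zero' := by rw [map_zero]; rfl
      map_add' := fun a b => by rw [map_add]; rfl }
  have hD : ∀ r, D r = sndD Λ k (ψ.1 r) := fun _ => rfl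
  have hDmul : ∀ a b, D (a * b) = R.res a * D b + R.res b * D a := by
    intro a b
    rw [hD, map_mul, sndD_mul, hres, hres]
    rfl
  have hDalg : ∀ l, D (algebraMap Λ R.carrier l) = 0 := by
    intro l
    rw [hD, AlgHom.commutes, sndD_algebraMap]
  have hDne : ∃ r, D r ≠ 0 := by
    by_contra hall
    push Not at hall
    apply hne
    apply Subtype.ext
    apply AlgHom.ext
    intro r
    apply dual_ext
    · rw [hres, res_zeroT]
    · rw [sndD_zeroT]; exact hall r
  -- `D` kills `m²`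
  have hDm2 : ∀ x ∈ maximalIdeal R.carrier ^ 2, D x = 0 := by
    intro x hx
    rw [pow_two] at hx
    refine Submodule.mul_induction_on hx ?_ ?_
    · intro a ha b hb
      rw [hDmul, (CRing.mem_maximalIdeal_iff R a).1 ha, (CRing.mem_maximalIdeal_iff R b).1 hb,
        zero_mul, zero_mul, add_zero]
    · intro x y hx hy
      rw [map_add, hx, hy, add_zero]
  let s : k → R.carrier := Function.surjInv R.res_surjective
  have hs : ∀ c, R.res (s c) = c := Function.surjInv_eq R.res_surjective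
  -- `D` is nonzero on `m`
  have hDm : ∃ w ∈ maximalIdeal R.carrier, D w ≠ 0 := by
    by_contra hall
    push Not at hall
    have hDres : ∀ r r', R.res r = R.res r' → D r = D r' := by
      intro r r' h
      have h1 : r - r' ∈ maximalIdeal R.carrier := by
        rw [CRing.mem_maximalIdeal_iff, map_sub, h, sub_self]
      have h2 := hall _ h1
      rwa [map_sub, sub_eq_zero] at h2
    let dl : k →ₗ[Λ] k :=
      { toFun := fun c => D (s c)
        map_add' := fun c c' => by
          rw [← map_add]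
          apply hDres
          rw [map_add, hs, hs, hs]
        map_smul' := fun l c => by
          have h1 : D (s (l • c)) = D (algebraMap Λ R.carrier l * s c) := by
            apply hDres
            rw [hs, map_mul, hs, AlgHom.commutes, Algebra.smul_def]
          rw [h1, hDmul, hDalg, mul_zero, add_zero, AlgHom.commutes, RingHom.id_apply,
            Algebra.smul_def] }
    let d : Derivation Λ k k := Derivation.mk' dl (fun a b => by
      change D (s (a * b)) = a • D (s b) + b • D (s a)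
      have h1 : D (s (a * b)) = D (s a * s b) := by
        apply hDres
        rw [hs, map_mul, hs, hs]
      rw [h1, hDmul, hs, hs, smul_eq_mul, smul_eq_mul])
    have hd0 : d = 0 := Subsingleton.elim _ _
    obtain ⟨r, hr⟩ := hDne
    apply hr
    have h1 : D r = D (s (R.res r)) := hDres _ _ (hs _).symm
    rw [h1]
    have h2 : d (R.res r) = 0 := by rw [hd0]; rfl
    exact h2
  obtain ⟨w₁, hw₁m, hw₁⟩ := hDm
  -- normalise
  let w₀ : R.carrier := s ((D w₁)⁻¹) * w₁
  have hw₀m : w₀ ∈ maximalIdeal R.carrier := Ideal.mul_mem_left _ _ hw₁m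
  have hw₀ : D w₀ = 1 := by
    change D (s ((D w₁)⁻¹) * w₁) = 1
    rw [hDmul, hs, (CRing.mem_maximalIdeal_iff R w₁).1 hw₁m, zero_mul, add_zero,
      inv_mul_cancel₀ hw₁]
  -- the first-order truncation
  let R₁ : Art Λ k := R.trunc 1
  let w' : R₁.carrier := Ideal.Quotient.mk (CRing.mpow R 1) w₀
  have hR₁res : ∀ a : R.carrier, R₁.res (Ideal.Quotient.mk (CRing.mpow R 1) a) = R.res a :=
    fun a => rfl
  have hw' : ∀ x ∈ maximalIdeal R₁.carrier, x * w' = 0 := by
    intro x hx
    obtain ⟨a, rfl⟩ := Ideal.Quotient.mk_surjective x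
    rw [Art.mem_maximalIdeal_iff, hR₁res] at hx
    have ha : a ∈ maximalIdeal R.carrier := (CRing.mem_maximalIdeal_iff R a).2 hx
    have h1 : (Ideal.Quotient.mk (CRing.mpow R 1) (a * w₀) : R.carrier ⧸ CRing.mpow R 1) = 0 := by
      rw [Ideal.Quotient.eq_zero_iff_mem]
      change a * w₀ ∈ maximalIdeal R.carrier ^ (1 + 1)
      rw [pow_succ, pow_one]
      exact Ideal.mul_mem_mul ha hw₀m
    exact (map_mul (Ideal.Quotient.mk (CRing.mpow R 1)) a w₀).symm.trans h1
  have hw'm : w' ∈ maximalIdeal R₁.carrier := by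
    rw [Art.mem_maximalIdeal_iff, hR₁res]
    exact (CRing.mem_maximalIdeal_iff R w₀).1 hw₀m
  obtain ⟨B, p', p'', hB⟩ := art_exists_isFibreProd (toBase R₁) (toBase (dual Λ k))
    (dual Λ k).res_surjective
  obtain ⟨τ, σ, hτ, hσ⟩ := exists_translate R₁ w' hw' hw'm p' p''
  have hτ0 : τ 0 = 0 := by
    have := hτ 0
    rwa [map_zero, zero_mul] at this
  let π₁ : HomSet R.carrier R.res R₁ := R.truncHom 1
  obtain ⟨β₀, hβ₀1, hβ₀2⟩ := isFibreProd_lift hB π₁ (zeroT R) (homSet_base_subsingleton _ _ _)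
  obtain ⟨β, hβ1, hβ2⟩ := isFibreProd_lift hB π₁ ψ (homSet_base_subsingleton _ _ _)
  have hββ₀ : ξ.app B β = ξ.app B β₀ := by
    apply (h2 p' p'' hB).1
    apply FibProd.ext
    · change F.map p' (ξ.app B β) = F.map p' (ξ.app B β₀)
      rw [← ξ.natural, ← ξ.natural, hβ1, hβ₀1]
    · change F.map p'' (ξ.app B β) = F.map p'' (ξ.app B β₀)
      rw [← ξ.natural, ← ξ.natural, hβ2, hβ₀2, hψ]
  let f₁ : HomSet R.carrier R.res R₁ := HomSet.map σ β
  have hσβ₀ : HomSet.map σ β₀ = π₁ := by
    apply Subtype.ext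
    apply AlgHom.ext
    intro r
    change σ (β₀.1 r) = π₁.1 r
    rw [hσ]
    have e1 : p' (β₀.1 r) = π₁.1 r :=
      congrArg (fun t : HomSet R.carrier R.res R₁ => t.1 r) hβ₀1
    have e2 : p'' (β₀.1 r) = (zeroT R).1 r :=
      congrArg (fun t : HomSet R.carrier R.res (dual Λ k) => t.1 r) hβ₀2
    rw [e1, e2, sndD_zeroT, hτ0, sub_zero]
  have hf₁ : ξ.app _ f₁ = ξ.toFormalElt.elt 1 := by
    change ξ.app _ (HomSet.map σ β) = ξ.app _ (R.truncHom 1)
    rw [ξ.natural, hββ₀, ← ξ.natural, hσβ₀]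
  obtain ⟨f, hf, hfξ, hf1⟩ := exists_lift_of_trunc_one R ξ hξ.1 R ξ.toFormalElt f₁ hf₁
  have hfs : Function.Surjective f :=
    hξ.2 R ξ.toFormalElt f hf (by rw [← along_toFormalElt]; exact hfξ)
  have hDf : ∀ r, D (f r) = 0 := by
    intro r
    have e0 : (R.truncHom 1).1 (f r) = f₁.1 r :=
      congrArg (fun t : R.carrier →ₐ[Λ] R₁.carrier => t r) hf1
    have e1 : p' (β.1 r) = (R.truncHom 1).1 r :=
      congrArg (fun t : HomSet R.carrier R.res R₁ => t.1 r) hβ1
    have e2 : p'' (β.1 r) = ψ.1 r :=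
      congrArg (fun t : HomSet R.carrier R.res (dual Λ k) => t.1 r) hβ2
    have e3 : f₁.1 r = (R.truncHom 1).1 r - τ (D r) := by
      change σ (β.1 r) = _
      rw [hσ, e1, e2]
      rfl
    have e4 : τ (D r) = (R.truncHom 1).1 (s (D r) * w₀) := by
      have h1 := hτ ((R.truncHom 1).1 (s (D r)))
      have h2 : R₁.res ((R.truncHom 1).1 (s (D r))) = D r := (hR₁res _).trans (hs _)
      rw [h2] at h1
      rw [h1]
      exact (map_mul (R.truncHom 1).1 _ _).symm
    have e5 : (R.truncHom 1).1 (f r - (r - s (D r) * w₀)) = 0 := by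
      rw [map_sub, map_sub, e0, e3, e4, sub_self]
    have e6 : f r - (r - s (D r) * w₀) ∈ maximalIdeal R.carrier ^ 2 := by
      have h1 : (Ideal.Quotient.mk (CRing.mpow R 1) (f r - (r - s (D r) * w₀)) :
          R.carrier ⧸ CRing.mpow R 1) = 0 := e5
      exact Ideal.Quotient.eq_zero_iff_mem.1 h1
    have e7 := hDm2 _ e6
    rw [map_sub, sub_eq_zero] at e7
    rw [e7, map_sub, hDmul, hs, hw₀, (CRing.mem_maximalIdeal_iff R w₀).1 hw₀m, zero_mul,
      add_zero, mul_one, sub_self]
  obtain ⟨r, hr⟩ := hDne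
  obtain ⟨r', rfl⟩ := hfs r
  exact hr (hDf r')

/-- a minimal versal family is miniversal, when `k` has no `Λ`-derivations -/
theorem isMiniversal_of_isMinimalVersal (hk : Subsingleton (Derivation Λ k k)) (h0 : H0 F)
    (h2 : Heps F) {R : CRing Λ k} (ξ : Family R.carrier R.res F) (hξ : ξ.IsMinimalVersal) :
    IsMiniversal ξ := by
  refine ⟨hξ.1, ?_, versal_app_surjective h0 ξ hξ.1 _⟩
  intro ψ₁ ψ₂ h12
  obtain ⟨γ, hγ1, hγ2⟩ := isFibreProd_lift (isFibreProd_dual2 (Λ := Λ) (k := k)) ψ₁ ψ₂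
    (homSet_base_subsingleton _ _ _)
  obtain ⟨γ', hγ'1, hγ'2⟩ := isFibreProd_lift (isFibreProd_dual2 (Λ := Λ) (k := k)) ψ₂ ψ₂
    (homSet_base_subsingleton _ _ _)
  have hγγ' : ξ.app _ γ = ξ.app _ γ' := by
    apply (h2 pr₁ pr₂ isFibreProd_dual2).1
    apply FibProd.ext
    · change F.map pr₁ (ξ.app _ γ) = F.map pr₁ (ξ.app _ γ')
      rw [← ξ.natural, ← ξ.natural, hγ1, hγ'1, h12]
    · change F.map pr₂ (ξ.app _ γ) = F.map pr₂ (ξ.app _ γ')
      rw [← ξ.natural, ← ξ.natural, hγ2, hγ'2]
  have hres : ∀ (ψ : HomSet R.carrier R.res (dual Λ k)) r, (dual Λ k).res (ψ.1 r) = R.res r :=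
    fun ψ r => congrArg (fun t : R.carrier →ₐ[Λ] k => t r) ψ.2
  have h3 : HomSet.map minus γ' = zeroT R := by
    apply Subtype.ext
    apply AlgHom.ext
    intro r
    apply dual_ext
    · rw [hres, res_zeroT]
    · change sndD Λ k (minus (γ'.1 r)) = _
      have e1 : pr₁ (γ'.1 r) = ψ₂.1 r :=
        congrArg (fun t : HomSet R.carrier R.res (dual Λ k) => t.1 r) hγ'1
      have e2 : pr₂ (γ'.1 r) = ψ₂.1 r :=
        congrArg (fun t : HomSet R.carrier R.res (dual Λ k) => t.1 r) hγ'2
      rw [sndD_minus, e1, e2, sub_self, sndD_zeroT]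
  have h4 : ξ.app _ (HomSet.map minus γ) = ξ.app _ (zeroT R) := by
    rw [ξ.natural, hγγ', ← ξ.natural, h3]
  have h5 := eq_zeroT_of_isMinimalVersal hk h2 ξ hξ _ h4
  apply Subtype.ext
  apply AlgHom.ext
  intro r
  apply dual_ext
  · rw [hres, hres]
  · have e0 : sndD Λ k (minus (γ.1 r)) = 0 :=
      (congrArg (fun t : HomSet R.carrier R.res (dual Λ k) => sndD Λ k (t.1 r)) h5).trans
        (sndD_zeroT R r)
    have e1 : pr₁ (γ.1 r) = ψ₁.1 r :=
      congrArg (fun t : HomSet R.carrier R.res (dual Λ k) => t.1 r) hγ1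
    have e2 : pr₂ (γ.1 r) = ψ₂.1 r :=
      congrArg (fun t : HomSet R.carrier R.res (dual Λ k) => t.1 r) hγ2
    rw [sndD_minus, e1, e2, sub_eq_zero] at e0
    exact e0

end Main

end Groth.Agent.Lib.Helper58.MinVT
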