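import Mathlib
import Groth.Prelude.Def_W4sfdMinVersal
import Groth.Agent.Lib.Helper58.MinVersalTangent
import Groth.Agent.Lib.Helper65.CRingTangent

/-!
# A minimal versal family is injective on tangent spaces, II

(when the derivations of `k` act freely on the base point; the functor satisfies `Heps`)
-/

set_option autoImplicit false
universe u v
open CategoryTheory

namespace Groth.Agent.Lib.Helper58.MinVT2

open ArtFun ArtFun.Art IsLocalRing Groth.Agent.Lib.Helper65 Groth.Agent.Lib.Helper58.FormalLift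
  Groth.Agent.Lib.Helper58.MinVT

variable {Λ : Type u} {k : Type u} [CommRing Λ] [Field k] [Algebra Λ k]

/-- the algebra map `k → k[ε]` of a derivation -/
noncomputable def derAlg (d : Derivation Λ k k) : k →ₐ[Λ] (dual Λ k).carrier :=
  algHomOfDer (S := k) d

/-- the morphism `k → k[ε]` of a derivation -/
noncomputable def derHom (d : Derivation Λ k k) : base Λ k ⟶ dual Λ k :=
  let f : k →ₐ[Λ] (dual Λ k).carrier := derAlg d
  ⟨f, AlgHom.ext fun _ => rfl⟩

theorem sndD_derHom (d : Derivation Λ k k) (c : k) : sndD Λ k (derHom d c) = d c := rfl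

theorem res_derHom (d : Derivation Λ k k) (c : k) : (dual Λ k).res (derHom d c) = c := rfl

theorem sndD_baseToDual (c : k) : sndD Λ k ((baseToDual : base Λ k ⟶ dual Λ k) c) = 0 := rfl

section Main

variable [IsNoetherianRing Λ] [Module.Finite Λ k] {F : Art Λ k ⥤ Type v}

/-- a tangent vector of a minimal versal family with the same image as the zero vector is zero -/
theorem eq_zeroT_of_isMinimalVersal_of_inj (h2 : Heps F)
    {R : CRing Λ k} (ξ : Family R.carrier R.res F) (hξ : ξ.IsMinimalVersal)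
    (hinj : ∀ σ : base Λ k ⟶ dual Λ k,
      F.map σ (ξ.app (base Λ k) ⟨R.res, AlgHom.id_comp _⟩) =
        F.map baseToDual (ξ.app (base Λ k) ⟨R.res, AlgHom.id_comp _⟩) → σ = baseToDual)
    (ψ : HomSet R.carrier R.res (dual Λ k)) (hψ : ξ.app _ ψ = ξ.app _ (zeroT R)) :
    ψ = zeroT R := by
  classical
  by_contra hne
  have hres : ∀ r, (dual Λ k).res (ψ.1 r) = R.res r := fun r =>
    congrArg (fun t : R.carrier →ₐ[Λ] k => t r) ψ.2
  let D : R.carrier →+ k :=
    { toFun := fun r => sndD Λ k (ψ.1 r)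
      map_zero' := by rw [map_zero]; rfl
      map_add' := fun a b => by rw [map_add]; rfl }
  have hD : ∀ r, D r = sndD Λ k (ψ.1 r) := fun _ => rfl
  have hDmul : ∀ a b, D (a * b) = R.res a * D b + R.res b * D a := by
    intro a b
    rw [hD, map_mul, sndD_mul, hres, hres]
    rfl
  have hDalg : ∀ l, D (algebraMap Λ R.carrier l) = 0 := by
    intro l
    rw [hD, AlgHom.commutes, sndD_algebraMap]
  have hDne : ∃ r, D r ≠ 0 := by
    by_contra hall
    push Not at hall
    apply hne
    apply Subtype.ext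
    apply AlgHom.ext
    intro r
    apply dual_ext
    · rw [hres, res_zeroT]
    · rw [sndD_zeroT]; exact hall r
  -- `D` kills `m²`
  have hDm2 : ∀ x ∈ maximalIdeal R.carrier ^ 2, D x = 0 := by
    intro x hx
    rw [pow_two] at hx
    refine Submodule.mul_induction_on hx ?_ ?_
    · intro a ha b hb
      rw [hDmul, (CRing.mem_maximalIdeal_iff R a).1 ha, (CRing.mem_maximalIdeal_iff R b).1 hb,
        zero_mul, zero_mul, add_zero]
    · intro x y hx hy
      rw [map_add, hx, hy, add_zero]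
  let s : k → R.carrier := Function.surjInv R.res_surjective
  have hs : ∀ c, R.res (s c) = c := Function.surjInv_eq R.res_surjective
  -- `D` is nonzero on `m`
  have hDm : ∃ w ∈ maximalIdeal R.carrier, D w ≠ 0 := by
    by_contra hall
    push Not at hall
    have hDres : ∀ r r', R.res r = R.res r' → D r = D r' := by
      intro r r' h
      have h1 : r - r' ∈ maximalIdeal R.carrier := by
        rw [CRing.mem_maximalIdeal_iff, map_sub, h, sub_self]
      have h2 := hall _ h1
      rwa [map_sub, sub_eq_zero] at h2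
    let dl : k →ₗ[Λ] k :=
      { toFun := fun c => D (s c)
        map_add' := fun c c' => by
          rw [← map_add]
          apply hDres
          rw [map_add, hs, hs, hs]
        map_smul' := fun l c => by
          have h1 : D (s (l • c)) = D (algebraMap Λ R.carrier l * s c) := by
            apply hDres
            rw [hs, map_mul, hs, AlgHom.commutes, Algebra.smul_def]
          rw [h1, hDmul, hDalg, mul_zero, add_zero, AlgHom.commutes, RingHom.id_apply,
            Algebra.smul_def] }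
    let d : Derivation Λ k k := Derivation.mk' dl (fun a b => by
      change D (s (a * b)) = a • D (s b) + b • D (s a)
      have h1 : D (s (a * b)) = D (s a * s b) := by
        apply hDres
        rw [hs, map_mul, hs, hs]
      rw [h1, hDmul, hs, hs, smul_eq_mul, smul_eq_mul])
    have hdapp : ∀ c, d c = D (s c) := fun _ => rfl
    let r₀ : HomSet R.carrier R.res (base Λ k) := ⟨R.res, AlgHom.id_comp _⟩
    have hψd : ψ = HomSet.map (derHom d) r₀ := by
      apply Subtype.ext
      apply AlgHom.ext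
      intro r
      apply dual_ext
      · rw [hres]
        exact (res_derHom d (R.res r)).symm
      · change sndD Λ k (ψ.1 r) = sndD Λ k (derHom d (R.res r))
        rw [sndD_derHom, hdapp, ← hD]
        exact hDres _ _ (hs _).symm
    have hσ : derHom d = baseToDual := by
      apply hinj
      rw [← ξ.natural, ← ξ.natural, ← hψd]
      exact hψ
    obtain ⟨r, hr⟩ := hDne
    apply hr
    have h1 : D r = D (s (R.res r)) := hDres _ _ (hs _).symm
    rw [h1, ← hdapp, ← sndD_derHom, hσ, sndD_baseToDual]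
  obtain ⟨w₁, hw₁m, hw₁⟩ := hDm
  -- normalise
  let w₀ : R.carrier := s ((D w₁)⁻¹) * w₁
  have hw₀m : w₀ ∈ maximalIdeal R.carrier := Ideal.mul_mem_left _ _ hw₁m
  have hw₀ : D w₀ = 1 := by
    change D (s ((D w₁)⁻¹) * w₁) = 1
    rw [hDmul, hs, (CRing.mem_maximalIdeal_iff R w₁).1 hw₁m, zero_mul, add_zero,
      inv_mul_cancel₀ hw₁]
  -- the first-order truncation
  let R₁ : Art Λ k := R.trunc 1
  let w' : R₁.carrier := Ideal.Quotient.mk (CRing.mpow R 1) w₀
  have hR₁res : ∀ a : R.carrier, R₁.res (Ideal.Quotient.mk (CRing.mpow R 1) a) = R.res a :=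
    fun a => rfl
  have hw' : ∀ x ∈ maximalIdeal R₁.carrier, x * w' = 0 := by
    intro x hx
    obtain ⟨a, rfl⟩ := Ideal.Quotient.mk_surjective x
    rw [Art.mem_maximalIdeal_iff, hR₁res] at hx
    have ha : a ∈ maximalIdeal R.carrier := (CRing.mem_maximalIdeal_iff R a).2 hx
    have h1 : (Ideal.Quotient.mk (CRing.mpow R 1) (a * w₀) : R.carrier ⧸ CRing.mpow R 1) = 0 := by
      rw [Ideal.Quotient.eq_zero_iff_mem]
      change a * w₀ ∈ maximalIdeal R.carrier ^ (1 + 1)
      rw [pow_succ, pow_one]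
      exact Ideal.mul_mem_mul ha hw₀m
    exact (map_mul (Ideal.Quotient.mk (CRing.mpow R 1)) a w₀).symm.trans h1
  have hw'm : w' ∈ maximalIdeal R₁.carrier := by
    rw [Art.mem_maximalIdeal_iff, hR₁res]
    exact (CRing.mem_maximalIdeal_iff R w₀).1 hw₀m
  obtain ⟨B, p', p'', hB⟩ := art_exists_isFibreProd (toBase R₁) (toBase (dual Λ k))
    (dual Λ k).res_surjective
  obtain ⟨τ, σ, hτ, hσ⟩ := exists_translate R₁ w' hw' hw'm p' p''
  have hτ0 : τ 0 = 0 := by
    have := hτ 0
    rwa [map_zero, zero_mul] at this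
  let π₁ : HomSet R.carrier R.res R₁ := R.truncHom 1
  obtain ⟨β₀, hβ₀1, hβ₀2⟩ := isFibreProd_lift hB π₁ (zeroT R) (homSet_base_subsingleton _ _ _)
  obtain ⟨β, hβ1, hβ2⟩ := isFibreProd_lift hB π₁ ψ (homSet_base_subsingleton _ _ _)
  have hββ₀ : ξ.app B β = ξ.app B β₀ := by
    apply (h2 p' p'' hB).1
    apply FibProd.ext
    · change F.map p' (ξ.app B β) = F.map p' (ξ.app B β₀)
      rw [← ξ.natural, ← ξ.natural, hβ1, hβ₀1]
    · change F.map p'' (ξ.app B β) = F.map p'' (ξ.app B β₀)
      rw [← ξ.natural, ← ξ.natural, hβ2, hβ₀2, hψ]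
  let f₁ : HomSet R.carrier R.res R₁ := HomSet.map σ β
  have hσβ₀ : HomSet.map σ β₀ = π₁ := by
    apply Subtype.ext
    apply AlgHom.ext
    intro r
    change σ (β₀.1 r) = π₁.1 r
    rw [hσ]
    have e1 : p' (β₀.1 r) = π₁.1 r :=
      congrArg (fun t : HomSet R.carrier R.res R₁ => t.1 r) hβ₀1
    have e2 : p'' (β₀.1 r) = (zeroT R).1 r :=
      congrArg (fun t : HomSet R.carrier R.res (dual Λ k) => t.1 r) hβ₀2
    rw [e1, e2, sndD_zeroT, hτ0, sub_zero]
  have hf₁ : ξ.app _ f₁ = ξ.toFormalElt.elt 1 := by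
    change ξ.app _ (HomSet.map σ β) = ξ.app _ (R.truncHom 1)
    rw [ξ.natural, hββ₀, ← ξ.natural, hσβ₀]
  obtain ⟨f, hf, hfξ, hf1⟩ := exists_lift_of_trunc_one R ξ hξ.1 R ξ.toFormalElt f₁ hf₁
  have hfs : Function.Surjective f :=
    hξ.2 R ξ.toFormalElt f hf (by rw [← along_toFormalElt]; exact hfξ)
  have hDf : ∀ r, D (f r) = 0 := by
    intro r
    have e0 : (R.truncHom 1).1 (f r) = f₁.1 r :=
      congrArg (fun t : R.carrier →ₐ[Λ] R₁.carrier => t r) hf1
    have e1 : p' (β.1 r) = (R.truncHom 1).1 r :=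
      congrArg (fun t : HomSet R.carrier R.res R₁ => t.1 r) hβ1
    have e2 : p'' (β.1 r) = ψ.1 r :=
      congrArg (fun t : HomSet R.carrier R.res (dual Λ k) => t.1 r) hβ2
    have e3 : f₁.1 r = (R.truncHom 1).1 r - τ (D r) := by
      change σ (β.1 r) = _
      rw [hσ, e1, e2]
      rfl
    have e4 : τ (D r) = (R.truncHom 1).1 (s (D r) * w₀) := by
      have h1 := hτ ((R.truncHom 1).1 (s (D r)))
      have h2 : R₁.res ((R.truncHom 1).1 (s (D r))) = D r := (hR₁res _).trans (hs _)
      rw [h2] at h1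
      rw [h1]
      exact (map_mul (R.truncHom 1).1 _ _).symm
    have e5 : (R.truncHom 1).1 (f r - (r - s (D r) * w₀)) = 0 := by
      rw [map_sub, map_sub, e0, e3, e4, sub_self]
    have e6 : f r - (r - s (D r) * w₀) ∈ maximalIdeal R.carrier ^ 2 := by
      have h1 : (Ideal.Quotient.mk (CRing.mpow R 1) (f r - (r - s (D r) * w₀)) :
          R.carrier ⧸ CRing.mpow R 1) = 0 := e5
      exact Ideal.Quotient.eq_zero_iff_mem.1 h1
    have e7 := hDm2 _ e6
    rw [map_sub, sub_eq_zero] at e7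
    rw [e7, map_sub, hDmul, hs, hw₀, (CRing.mem_maximalIdeal_iff R w₀).1 hw₀m, zero_mul,
      add_zero, mul_one, sub_self]
  obtain ⟨r, hr⟩ := hDne
  obtain ⟨r', rfl⟩ := hfs r
  exact hr (hDf r')


/-- a minimal versal family is miniversal, when the derivations of `k` act freely -/
theorem isMiniversal_of_isMinimalVersal_of_inj (h0 : H0 F)
    (h2 : Heps F) {R : CRing Λ k} (ξ : Family R.carrier R.res F) (hξ : ξ.IsMinimalVersal)
    (hinj : ∀ σ : base Λ k ⟶ dual Λ k,
      F.map σ (ξ.app (base Λ k) ⟨R.res, AlgHom.id_comp _⟩) =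
        F.map baseToDual (ξ.app (base Λ k) ⟨R.res, AlgHom.id_comp _⟩) → σ = baseToDual) :
    IsMiniversal ξ := by
  refine ⟨hξ.1, ?_, versal_app_surjective h0 ξ hξ.1 _⟩
  intro ψ₁ ψ₂ h12
  obtain ⟨γ, hγ1, hγ2⟩ := isFibreProd_lift (isFibreProd_dual2 (Λ := Λ) (k := k)) ψ₁ ψ₂
    (homSet_base_subsingleton _ _ _)
  obtain ⟨γ', hγ'1, hγ'2⟩ := isFibreProd_lift (isFibreProd_dual2 (Λ := Λ) (k := k)) ψ₂ ψ₂
    (homSet_base_subsingleton _ _ _)
  have hγγ' : ξ.app _ γ = ξ.app _ γ' := by
    apply (h2 pr₁ pr₂ isFibreProd_dual2).1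
    apply FibProd.ext
    · change F.map pr₁ (ξ.app _ γ) = F.map pr₁ (ξ.app _ γ')
      rw [← ξ.natural, ← ξ.natural, hγ1, hγ'1, h12]
    · change F.map pr₂ (ξ.app _ γ) = F.map pr₂ (ξ.app _ γ')
      rw [← ξ.natural, ← ξ.natural, hγ2, hγ'2]
  have hres : ∀ (ψ : HomSet R.carrier R.res (dual Λ k)) r, (dual Λ k).res (ψ.1 r) = R.res r :=
    fun ψ r => congrArg (fun t : R.carrier →ₐ[Λ] k => t r) ψ.2
  have h3 : HomSet.map minus γ' = zeroT R := by
    apply Subtype.ext
    apply AlgHom.ext
    intro r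
    apply dual_ext
    · rw [hres, res_zeroT]
    · change sndD Λ k (minus (γ'.1 r)) = _
      have e1 : pr₁ (γ'.1 r) = ψ₂.1 r :=
        congrArg (fun t : HomSet R.carrier R.res (dual Λ k) => t.1 r) hγ'1
      have e2 : pr₂ (γ'.1 r) = ψ₂.1 r :=
        congrArg (fun t : HomSet R.carrier R.res (dual Λ k) => t.1 r) hγ'2
      rw [sndD_minus, e1, e2, sub_self, sndD_zeroT]
  have h4 : ξ.app _ (HomSet.map minus γ) = ξ.app _ (zeroT R) := by
    rw [ξ.natural, hγγ', ← ξ.natural, h3]
  have h5 := eq_zeroT_of_isMinimalVersal_of_inj h2 ξ hξ hinj _ h4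
  apply Subtype.ext
  apply AlgHom.ext
  intro r
  apply dual_ext
  · rw [hres, hres]
  · have e0 : sndD Λ k (minus (γ.1 r)) = 0 :=
      (congrArg (fun t : HomSet R.carrier R.res (dual Λ k) => sndD Λ k (t.1 r)) h5).trans
        (sndD_zeroT R r)
    have e1 : pr₁ (γ.1 r) = ψ₁.1 r :=
      congrArg (fun t : HomSet R.carrier R.res (dual Λ k) => t.1 r) hγ1
    have e2 : pr₂ (γ.1 r) = ψ₂.1 r :=
      congrArg (fun t : HomSet R.carrier R.res (dual Λ k) => t.1 r) hγ2
    rw [sndD_minus, e1, e2, sub_eq_zero] at e0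
    exact e0


end Main

end Groth.Agent.Lib.Helper58.MinVT2
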