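import Mathlib
import Groth.Agent.Lib.Helper58.ModApprox
import Groth.Agent.Lib.Helper58.FPModel

set_option autoImplicit false
universe u

open CategoryTheory CategoryTheory.Limits AlgebraicGeometry TopologicalSpace Opposite TensorProduct

namespace Groth.Agent.Lib.Helper58.ModApprox

open Groth.Agent.Lib.Helper49

theorem module_approx {X S : Scheme.{u}} (f : X ⟶ S) [IsAffine X] [IsAffine S]
    [LocallyOfFinitePresentation f] (F : X.Modules) [F.IsQuasicoherent]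
    (hF : SheafOfModules.IsFinitePresentation (R := X.ringCatSheaf) F) :
    ∃ (X₀ S₀ : Scheme.{u}) (f₀ : X₀ ⟶ S₀) (g : S ⟶ S₀) (g' : X ⟶ X₀), IsAffine X₀ ∧ IsAffine S₀ ∧
      IsPullback g' f f₀ g ∧
      Algebra.FiniteType ℤ Γ(S₀, ⊤) ∧ LocallyOfFiniteType f₀ ∧
      ∃ F₀ : X₀.Modules, Coh.IsCoh F₀ ∧
        Nonempty ((Scheme.Modules.pullback g').obj F₀ ≅ F) := by
  classical
  have hfp : f.appTop.hom.FinitePresentation :=
    (HasRingHomProperty.iff_of_isAffine (P := @LocallyOfFinitePresentation)).mp inferInstance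
  letI alg : Algebra Γ(S, ⊤) Γ(X, ⊤) := f.appTop.hom.toAlgebra
  haveI : Algebra.FinitePresentation Γ(S, ⊤) Γ(X, ⊤) := hfp
  letI modA : Module Γ(S, ⊤) Γ(F, ⊤) := Module.compHom _ f.appTop.hom
  haveI : IsScalarTower Γ(S, ⊤) Γ(X, ⊤) Γ(F, ⊤) := IsScalarTower.of_compHom _ _ _
  have hU : IsAffineOpen (⊤ : X.Opens) := isAffineOpen_top X
  haveI : Module.FinitePresentation Γ(X, ⊤) Γ(F, ⊤) :=
    finitePresentation_sections_of_isFinitePresentation F hF hU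
  obtain ⟨A₀, _, _, B₀, _, _, _, _, _, _, M₀, _, _, _, _, _, _, φ, hft, hft', hfin, hpo, hbc⟩ :=
    Groth.Agent.Lib.Helper58.FPModel.exists_fp_model Γ(S, ⊤) Γ(X, ⊤) Γ(F, ⊤)
  have hpush := CommRingCat.isPushout_of_isPushout A₀ Γ(S, ⊤) B₀ Γ(X, ⊤)
  have hpull := (isPullback_SpecMap_of_isPushout _ _ _ _ hpush).flip
  have hfa : CommRingCat.ofHom (algebraMap Γ(S, ⊤) Γ(X, ⊤)) = f.appTop := rfl
  refine ⟨Spec (CommRingCat.of B₀), Spec (CommRingCat.of A₀),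
    Spec.map (CommRingCat.ofHom (algebraMap A₀ B₀)),
    S.isoSpec.hom ≫ Spec.map (CommRingCat.ofHom (algebraMap A₀ Γ(S, ⊤))),
    X.isoSpec.hom ≫ Spec.map (CommRingCat.ofHom (algebraMap B₀ Γ(X, ⊤))),
    inferInstance, inferInstance, ?_, ?_, ?_, tilde (ModuleCat.of B₀ M₀), ?_, ?_⟩
  · refine hpull.of_iso X.isoSpec.symm (Iso.refl _) S.isoSpec.symm (Iso.refl _) ?_ ?_ ?_ ?_
    · simp
    · rw [Iso.symm_hom, Iso.symm_hom, hfa]
      exact Scheme.isoSpec_inv_naturality f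
    · simp
    · simp
  · exact hft.equiv (Scheme.ΓSpecIso (CommRingCat.of A₀)).symm.commRingCatIsoToRingEquiv.toIntAlgEquiv
  · rw [HasRingHomProperty.Spec_iff (P := @LocallyOfFiniteType)]
    exact RingHom.finiteType_algebraMap.mpr hft'
  · exact ⟨inferInstance, isFiniteType_tilde_of_finite (CommRingCat.of B₀) (ModuleCat.of B₀ M₀)⟩
  · obtain ⟨ed⟩ := nonempty_iso_pullback_tilde F
    obtain ⟨eb⟩ := Groth.Agent.Lib.Helper11.nonempty_pullback_tilde_iso B₀ Γ(X, ⊤) M₀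
    let ec : tilde (ModuleCat.of Γ(X, ⊤) (Γ(X, ⊤) ⊗[B₀] M₀)) ≅
        tilde (ModuleCat.of Γ(X, ⊤) Γ(F, ⊤)) :=
      (tilde.functor Γ(X, ⊤)).mapIso hbc.equiv.toModuleIso
    let ea := ((Scheme.Modules.pullbackComp X.isoSpec.hom
      (Spec.map (CommRingCat.ofHom (algebraMap B₀ Γ(X, ⊤))))).app
        (tilde (ModuleCat.of B₀ M₀))).symm
    exact ⟨ea ≪≫ (Scheme.Modules.pullback X.isoSpec.hom).mapIso (eb ≪≫ ec) ≪≫ ed.symm⟩

end Groth.Agent.Lib.Helper58.ModApprox
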