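/-
Helper library (helper58): Ferrand-type pinching. Setting: `i : Z ⟶ X` an affine morphism and
`j : Z ⟶ Y` a closed immersion. Point-level facts about the affine charts
`Spec (Γ(X, U) ×_{Γ(Z, W)} Γ(Y, V))` attached to good pairs `(U, V)`.
-/
import Mathlib
import Groth.Agent.Lib.Helper58.ClPushoutOpen

set_option autoImplicit false
universe u

open AlgebraicGeometry CategoryTheory Limits

namespace Groth.Agent.Lib.Helper61.FibSq

variable {C B A' A : Type u} [CommRing C] [CommRing B] [CommRing A'] [CommRing A]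
  {f : C →+* B} {s : C →+* A'} {q : B →+* A} {p : A' →+* A}

/-- `Spec A' → Spec C` is injective away from `Spec B`. -/
theorem comap_s_injOn (h : FibSq f s q p) (y y' : PrimeSpectrum A') (c₀ : C) (hc : f c₀ = 0)
    (hn : c₀ ∉ (PrimeSpectrum.comap s y).asIdeal)
    (e : PrimeSpectrum.comap s y = PrimeSpectrum.comap s y') : y = y' := by
  let _ : Algebra C B := f.toAlgebra
  let _ : Algebra C A' := s.toAlgebra
  let _ : Algebra B A := q.toAlgebra
  let _ : Algebra A' A := p.toAlgebra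
  let _ : Algebra C A := (q.comp f).toAlgebra
  have : IsScalarTower C B A := IsScalarTower.of_algebraMap_eq (fun _ => rfl)
  have : IsScalarTower C A' A := IsScalarTower.of_algebraMap_eq (fun c => h.comm c)
  have hsq : EtMil.IsFibreSquare C B A' A := by
    refine ⟨h.surj, fun b a' hba => ?_⟩
    obtain ⟨c, hc1, hc2⟩ := h.lift b a' hba
    exact ⟨c, ⟨hc1, hc2⟩, fun c' hc' => h.inj _ _ (hc'.1.trans hc1.symm) (hc'.2.trans hc2.symm)⟩
  exact Groth.Agent.H76.MilnorSpec.comap_q_injOn hsq y y' c₀ hc hn e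

/-- The topology of `Spec C` is the quotient topology. -/
theorem isClosed_of_preimages (h : FibSq f s q p) (T : Set (PrimeSpectrum C))
    (h1 : IsClosed (PrimeSpectrum.comap f ⁻¹' T)) (h2 : IsClosed (PrimeSpectrum.comap s ⁻¹' T)) :
    IsClosed T := by
  let _ : Algebra C B := f.toAlgebra
  let _ : Algebra C A' := s.toAlgebra
  let _ : Algebra B A := q.toAlgebra
  let _ : Algebra A' A := p.toAlgebra
  let _ : Algebra C A := (q.comp f).toAlgebra
  have : IsScalarTower C B A := IsScalarTower.of_algebraMap_eq (fun _ => rfl)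
  have : IsScalarTower C A' A := IsScalarTower.of_algebraMap_eq (fun c => h.comm c)
  have hsq : EtMil.IsFibreSquare C B A' A := by
    refine ⟨h.surj, fun b a' hba => ?_⟩
    obtain ⟨c, hc1, hc2⟩ := h.lift b a' hba
    exact ⟨c, ⟨hc1, hc2⟩, fun c' hc' => h.inj _ _ (hc'.1.trans hc1.symm) (hc'.2.trans hc2.symm)⟩
  exact Groth.Agent.H76.MilnorSpec.isClosed_of_preimages hsq T h1 h2

end Groth.Agent.Lib.Helper61.FibSq

namespace Groth.Agent.Lib.Helper58.Pinch

open Groth.Agent.Lib.Helper61 Groth.Agent.Lib.Helper58.ClPushout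
open Groth.Agent.Lib.Helper58.ClPushout.GoodPair

variable {X Y Z : Scheme.{u}} {i : Z ⟶ X} {j : Z ⟶ Y} [IsAffineHom i] [IsClosedImmersion j]

theorem fst_surjective (k : GoodPair i j) : Function.Surjective (FP.fst k.q k.p) :=
  k.fibSq.f_surjective

instance isClosedImmersion_aS (k : GoodPair i j) : IsClosedImmersion k.aS :=
  IsClosedImmersion.spec_of_surjective _ (fst_surjective k)

theorem ax_injective (k : GoodPair i j) {x x' : X} {hx : x ∈ k.U} {hx' : x' ∈ k.U}
    (h : k.ax x hx = k.ax x' hx') : x = x' := by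
  have h1 := (Scheme.Hom.isClosedEmbedding k.aS).injective h
  have h2 := congrArg k.hU.fromSpec h1
  rwa [k.hU.fromSpec_primeIdealOf, k.hU.fromSpec_primeIdealOf] at h2

omit [IsClosedImmersion j] in
theorem W_isAffineOpen (k : GoodPair i j) : IsAffineOpen k.W :=
  k.hU.preimage i

/-- Points of `U` and `V` with the same image in the chart come from a point of `Z`. -/
theorem exists_of_ax_eq_by (k : GoodPair i j) {x : X} {hx : x ∈ k.U} {y : Y} {hy : y ∈ k.V}
    (h : k.ax x hx = k.by' y hy) : ∃ z : Z, i z = x ∧ j z = y := by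
  obtain ⟨w, hw1, hw2⟩ := k.fibSq.exists_of_comap_eq _ _ h
  refine ⟨(W_isAffineOpen k).fromSpec w, ?_, ?_⟩
  · have h1 : Spec.map (i.appLE k.U k.W le_rfl) w = k.hU.primeIdealOf ⟨x, hx⟩ := hw1
    have h2 := congrArg k.hU.fromSpec h1
    rw [k.hU.fromSpec_primeIdealOf, ← Scheme.Hom.comp_apply,
      IsAffineOpen.SpecMap_appLE_fromSpec i k.hU (W_isAffineOpen k)] at h2
    exact h2
  · have h1 : Spec.map (j.appLE k.V k.W k.h.le) w = k.hV.primeIdealOf ⟨y, hy⟩ := hw2
    have h2 := congrArg k.hV.fromSpec h1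
    rw [k.hV.fromSpec_primeIdealOf, ← Scheme.Hom.comp_apply,
      IsAffineOpen.SpecMap_appLE_fromSpec j k.hV (W_isAffineOpen k)] at h2
    exact h2

omit [IsAffineHom i] [IsClosedImmersion j] in
theorem zS_comm (k : GoodPair i j) :
    Spec.map (CommRingCat.ofHom k.q) ≫ k.aS = Spec.map (CommRingCat.ofHom k.p) ≫ k.bS := by
  change Spec.map _ ≫ Spec.map _ = Spec.map _ ≫ Spec.map _
  rw [← Spec.map_comp, ← Spec.map_comp, ← CommRingCat.ofHom_comp, ← CommRingCat.ofHom_comp]
  congr 2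
  ext c
  exact FP.comm k.q k.p c

omit [IsClosedImmersion j] in
/-- Conversely the two images of a point of `Z` agree in the chart. -/
theorem ax_eq_by (k : GoodPair i j) (z : Z) (hz : i z ∈ k.U) :
    k.ax (i z) hz = k.by' (j z) (show z ∈ j ⁻¹ᵁ k.V from k.h ▸ hz) := by
  have hzW : z ∈ k.W := hz
  have e1 := IsAffineOpen.comap_primeIdealOf_appLE (f := i) k.U k.hU k.W (W_isAffineOpen k) le_rfl hzW
  have e2 := IsAffineOpen.comap_primeIdealOf_appLE (f := j) k.V k.hV k.W (W_isAffineOpen k) k.h.le hzW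
  have e1' : Spec.map (CommRingCat.ofHom k.q) ((W_isAffineOpen k).primeIdealOf ⟨z, hzW⟩) =
      k.hU.primeIdealOf ⟨i z, hz⟩ := e1
  have e2' : Spec.map (CommRingCat.ofHom k.p) ((W_isAffineOpen k).primeIdealOf ⟨z, hzW⟩) =
      k.hV.primeIdealOf ⟨j z, k.h.le hzW⟩ := e2
  unfold ax by'
  rw [← e1', ← e2', ← Scheme.Hom.comp_apply, ← Scheme.Hom.comp_apply, zS_comm]

/-- Every point of the chart comes from `U`, or from a unique point of `V` and is not in the
image of `U`. -/
theorem exists_ax_or_by (k : GoodPair i j) (ξ : (F i j).obj k) :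
    (∃ (x : X) (hx : x ∈ k.U), k.ax x hx = ξ) ∨
      (∃ (y : Y) (hy : y ∈ k.V), k.by' y hy = ξ ∧ (∀ (x : X) (hx : x ∈ k.U), k.ax x hx ≠ ξ) ∧
        ∀ (y' : Y) (hy' : y' ∈ k.V), k.by' y' hy' = ξ → y' = y) := by
  rcases k.fibSq.exists_prime ξ with ⟨u, hu⟩ | ⟨v, c₀, hc₀, hc₀ξ, hv⟩
  · left
    obtain ⟨x, hx, rfl⟩ := primeIdealOf_surjective k.hU u
    exact ⟨x, hx, hu⟩
  · right
    obtain ⟨y, hy, rfl⟩ := primeIdealOf_surjective k.hV v
    refine ⟨y, hy, hv, ?_, ?_⟩
    · intro x hx hx'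
      apply hc₀ξ
      rw [← hx']
      change FP.fst k.q k.p c₀ ∈ (k.hU.primeIdealOf ⟨x, hx⟩).asIdeal
      rw [hc₀]
      exact Ideal.zero_mem _
    · intro y' hy' e
      have e' : PrimeSpectrum.comap (FP.snd k.q k.p) (k.hV.primeIdealOf ⟨y, hy⟩) =
          PrimeSpectrum.comap (FP.snd k.q k.p) (k.hV.primeIdealOf ⟨y', hy'⟩) := hv.trans e.symm
      have h1 := k.fibSq.comap_s_injOn _ _ c₀ hc₀ (by rw [hv]; exact hc₀ξ) e'
      have h2 := congrArg k.hV.fromSpec h1
      rw [k.hV.fromSpec_primeIdealOf, k.hV.fromSpec_primeIdealOf] at h2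
      exact h2.symm

/-- Description of when two points of `V` have the same image in the chart. -/
theorem by_eq_by (k : GoodPair i j) {y y' : Y} {hy : y ∈ k.V} {hy' : y' ∈ k.V}
    (h : k.by' y hy = k.by' y' hy') :
    y = y' ∨ ∃ z z' : Z, j z = y ∧ j z' = y' ∧ i z = i z' := by
  rcases exists_ax_or_by k (k.by' y hy) with ⟨x, hx, e⟩ | ⟨y₀, hy₀, -, -, huniq⟩
  · right
    obtain ⟨z, hz1, hz2⟩ := exists_of_ax_eq_by k e
    obtain ⟨z', hz'1, hz'2⟩ := exists_of_ax_eq_by k (e.trans h)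
    exact ⟨z, z', hz2, hz'2, hz1.trans hz'1.symm⟩
  · left
    rw [huniq y hy rfl, huniq y' hy' h.symm]

end Groth.Agent.Lib.Helper58.Pinch
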