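/-
Helper library (helper58): Ferrand-type pinching: the hypothesis that there are enough good affine
pairs, and its consequences.
-/
import Mathlib
import Groth.Agent.Lib.Helper58.PinchChart

set_option autoImplicit false
universe u

open AlgebraicGeometry CategoryTheory Limits

namespace Groth.Agent.Lib.Helper58.Pinch

open Groth.Agent.Lib.Helper61 Groth.Agent.Lib.Helper58.ClPushout
open Groth.Agent.Lib.Helper58.ClPushout.GoodPair

variable {X Y Z : Scheme.{u}} (i : Z ⟶ X) (j : Z ⟶ Y)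

/-- There are enough good affine pairs: around every point of `X`, inside every pair of opens with
the same trace on `Z`. -/
class Enough : Prop where
  exists_goodPair : ∀ (U₀ : X.Opens) (V₀ : Y.Opens), i ⁻¹ᵁ U₀ = j ⁻¹ᵁ V₀ → ∀ x ∈ U₀,
    ∃ k : GoodPair i j, x ∈ k.U ∧ k.U ≤ U₀ ∧ k.V ≤ V₀

variable {i j} [IsAffineHom i] [IsClosedImmersion j] [Enough i j]

omit [IsAffineHom i] [IsClosedImmersion j] in
theorem exists_goodPair_of_mem_X (U₀ : X.Opens) (V₀ : Y.Opens) (h₀ : i ⁻¹ᵁ U₀ = j ⁻¹ᵁ V₀) (x : X)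
    (hx : x ∈ U₀) : ∃ k : GoodPair i j, x ∈ k.U ∧ k.U ≤ U₀ ∧ k.V ≤ V₀ :=
  Enough.exists_goodPair U₀ V₀ h₀ x hx

omit [IsAffineHom i] in
theorem exists_goodPair_of_mem_Y (U₀ : X.Opens) (V₀ : Y.Opens) (h₀ : i ⁻¹ᵁ U₀ = j ⁻¹ᵁ V₀) (y : Y)
    (hy : y ∈ V₀) : ∃ k : GoodPair i j, y ∈ k.V ∧ k.U ≤ U₀ ∧ k.V ≤ V₀ := by
  by_cases hyj : y ∈ Set.range j
  · obtain ⟨z, rfl⟩ := hyj
    have hzU : i z ∈ U₀ := by
      have : z ∈ j ⁻¹ᵁ V₀ := hy
      rw [← h₀] at this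
      exact this
    obtain ⟨k, h1, h2, h3⟩ := exists_goodPair_of_mem_X U₀ V₀ h₀ (i z) hzU
    refine ⟨k, ?_, h2, h3⟩
    have : z ∈ i ⁻¹ᵁ k.U := h1
    rw [k.h] at this
    exact this
  · have hopen : IsOpen ((V₀ : Set Y) ∩ (Set.range j)ᶜ) :=
      V₀.isOpen.inter (Scheme.Hom.isClosedEmbedding j).isClosed_range.isOpen_compl
    obtain ⟨_, ⟨V₁, hV₁ : IsAffineOpen V₁, rfl⟩, hyV₁, hV₁V₀⟩ :=
      Y.isBasis_affineOpens.exists_subset_of_mem_open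
        (show y ∈ (V₀ : Set Y) ∩ (Set.range j)ᶜ from ⟨hy, hyj⟩) hopen
    refine ⟨⟨⊥, V₁, isAffineOpen_bot X, hV₁, ?_⟩, hyV₁, bot_le, fun y hy => (hV₁V₀ hy).1⟩
    ext z
    simp only [TopologicalSpace.Opens.map_coe, Set.mem_preimage, SetLike.mem_coe,
      TopologicalSpace.Opens.coe_bot, Set.mem_empty_iff_false, false_iff]
    intro hz
    exact (hV₁V₀ hz).2 ⟨z, rfl⟩

omit [IsAffineHom i] [IsClosedImmersion j] in
theorem inf_trace (k l : GoodPair i j) : i ⁻¹ᵁ (k.U ⊓ l.U) = j ⁻¹ᵁ (k.V ⊓ l.V) := by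
  ext z
  have e1 := congrArg (fun W : Z.Opens => z ∈ W) k.h
  have e2 := congrArg (fun W : Z.Opens => z ∈ W) l.h
  simp only [eq_iff_iff] at e1 e2
  exact and_congr e1 e2

omit [IsAffineHom i] [IsClosedImmersion j] in
/-- Common refinement of two good pairs around a point of `X`. -/
theorem exists_goodPair_le_le_of_mem_X (k l : GoodPair i j) (x : X) (hk : x ∈ k.U) (hl : x ∈ l.U) :
    ∃ m : GoodPair i j, m ≤ k ∧ m ≤ l ∧ x ∈ m.U := by
  obtain ⟨m, h1, h2, h3⟩ := exists_goodPair_of_mem_X (i := i) (j := j) (k.U ⊓ l.U) (k.V ⊓ l.V)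
    (inf_trace k l) x ⟨hk, hl⟩
  exact ⟨m, ⟨h2.trans inf_le_left, h3.trans inf_le_left⟩,
    ⟨h2.trans inf_le_right, h3.trans inf_le_right⟩, h1⟩

omit [IsAffineHom i] in
/-- Common refinement of two good pairs around a point of `Y`. -/
theorem exists_goodPair_le_le_of_mem_Y (k l : GoodPair i j) (y : Y) (hk : y ∈ k.V) (hl : y ∈ l.V) :
    ∃ m : GoodPair i j, m ≤ k ∧ m ≤ l ∧ y ∈ m.V := by
  obtain ⟨m, h1, h2, h3⟩ := exists_goodPair_of_mem_Y (i := i) (j := j) (k.U ⊓ l.U) (k.V ⊓ l.V)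
    (inf_trace k l) y ⟨hk, hl⟩
  exact ⟨m, ⟨h2.trans inf_le_left, h3.trans inf_le_left⟩,
    ⟨h2.trans inf_le_right, h3.trans inf_le_right⟩, h1⟩

end Groth.Agent.Lib.Helper58.Pinch
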