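/-
Helper library (helper58): Ferrand-type pinching: the key localization lemma and the transition
maps between affine charts are open immersions.
-/
import Mathlib
import Groth.Agent.Lib.Helper58.PinchRefine

set_option autoImplicit false
universe u

open AlgebraicGeometry CategoryTheory Limits

namespace Groth.Agent.Lib.Helper58.Pinch

open Groth.Agent.Lib.Helper61 Groth.Agent.Lib.Helper58.ClPushout
open Groth.Agent.Lib.Helper58.ClPushout.GoodPair

variable {X Y Z : Scheme.{u}} {i : Z ⟶ X} {j : Z ⟶ Y} [IsAffineHom i] [IsClosedImmersion j]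

/-- Key localization lemma: the ring of the basic chart `D(c)` is the localization at `c`. -/
theorem isLocalization_basic (k : GoodPair i j) (c : k.C) :
    @IsLocalization.Away k.C _ c (k.basic c).C _ (res (k.basic_le c)).toAlgebra := by
  refine isLocalizationAway_of_fibSq k.fibSq (k.basic c).fibSq (res (k.basic_le c))
    (X.presheaf.map (homOfLE (k.basic_le c).1).op).hom
    (Y.presheaf.map (homOfLE (k.basic_le c).2).op).hom
    (Z.presheaf.map (homOfLE (W_le_of_le (k.basic_le c))).op).hom ?_ ?_ ?_ ?_ c ?_ ?_ ?_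
  · rfl
  · rfl
  · unfold q
    rw [← CommRingCat.hom_comp, ← CommRingCat.hom_comp, Scheme.Hom.map_appLE,
      Scheme.Hom.appLE_map]
  · unfold p
    rw [← CommRingCat.hom_comp, ← CommRingCat.hom_comp, Scheme.Hom.map_appLE,
      Scheme.Hom.appLE_map]
  · exact k.hU.isLocalization_of_eq_basicOpen (FP.fst k.q k.p c) (homOfLE (k.basic_le c).1) rfl
  · exact k.hV.isLocalization_of_eq_basicOpen (FP.snd k.q k.p c) (homOfLE (k.basic_le c).2) rfl
  · exact (W_isAffineOpen k).isLocalization_of_eq_basicOpen (k.q (FP.fst k.q k.p c))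
      (homOfLE (W_le_of_le (k.basic_le c))) (k.basic_W c)

/-- The transition map from a basic chart is an open immersion. -/
theorem isOpenImmersion_map_of_eq_basic (k : GoodPair i j) (c : k.C) (m : GoodPair i j)
    (hm : m = k.basic c) (h : m ⟶ k) : IsOpenImmersion ((F i j).map h) := by
  subst hm
  letI := (res (k.basic_le c)).toAlgebra
  haveI := isLocalization_basic k c
  exact IsOpenImmersion.of_isLocalization (R := k.C) (S := (k.basic c).C) c

omit [IsAffineHom i] [IsClosedImmersion j] in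
theorem ax_mem_basicOpen_iff (k : GoodPair i j) (c : k.C) (x : X) (hx : x ∈ k.U) :
    k.ax x hx ∈ PrimeSpectrum.basicOpen c ↔ x ∈ X.basicOpen (FP.fst k.q k.p c) := by
  have h1 : k.ax x hx ∈ PrimeSpectrum.basicOpen c ↔
      k.hU.primeIdealOf ⟨x, hx⟩ ∈ PrimeSpectrum.basicOpen (FP.fst k.q k.p c) := Iff.rfl
  rw [h1, ← k.hU.fromSpec_preimage_basicOpen]
  change k.hU.fromSpec (k.hU.primeIdealOf ⟨x, hx⟩) ∈ X.basicOpen _ ↔ _
  rw [k.hU.fromSpec_primeIdealOf]

omit [IsAffineHom i] [IsClosedImmersion j] in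
theorem by_mem_basicOpen_iff (k : GoodPair i j) (c : k.C) (y : Y) (hy : y ∈ k.V) :
    k.by' y hy ∈ PrimeSpectrum.basicOpen c ↔ y ∈ Y.basicOpen (FP.snd k.q k.p c) := by
  have h1 : k.by' y hy ∈ PrimeSpectrum.basicOpen c ↔
      k.hV.primeIdealOf ⟨y, hy⟩ ∈ PrimeSpectrum.basicOpen (FP.snd k.q k.p c) := Iff.rfl
  rw [h1, ← k.hV.fromSpec_preimage_basicOpen]
  change k.hV.fromSpec (k.hV.primeIdealOf ⟨y, hy⟩) ∈ Y.basicOpen _ ↔ _
  rw [k.hV.fromSpec_primeIdealOf]

omit [IsAffineHom i] [IsClosedImmersion j] in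
theorem mem_V_of_mem_U (k : GoodPair i j) (z : Z) (hz : i z ∈ k.U) : j z ∈ k.V := by
  have : z ∈ i ⁻¹ᵁ k.U := hz
  rw [k.h] at this
  exact this

omit [IsAffineHom i] [IsClosedImmersion j] in
theorem mem_U_of_mem_V (k : GoodPair i j) (z : Z) (hz : j z ∈ k.V) : i z ∈ k.U := by
  have : z ∈ j ⁻¹ᵁ k.V := hz
  rw [← k.h] at this
  exact this

omit [IsAffineHom i] [IsClosedImmersion j] in
theorem ax_congr' (k : GoodPair i j) {x x' : X} (e : x = x') (hx : x ∈ k.U) :
    k.ax x hx = k.ax x' (e ▸ hx) := by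
  subst e
  rfl

/-- If the images of two points of a smaller chart agree in a bigger chart, they agree. -/
theorem by_eq_by_of_le {k l : GoodPair i j} (h : k ≤ l) {y y' : Y} (hy : y ∈ k.V) (hy' : y' ∈ k.V)
    (e : l.by' y (h.2 hy) = l.by' y' (h.2 hy')) : k.by' y hy = k.by' y' hy' := by
  rcases by_eq_by l e with rfl | ⟨z, z', rfl, rfl, hzz'⟩
  · rfl
  · have h1 : i z ∈ k.U := mem_U_of_mem_V k z hy
    have h2 : i z' ∈ k.U := mem_U_of_mem_V k z' hy'
    rw [← ax_eq_by k z h1, ← ax_eq_by k z' h2]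
    exact ax_congr' k hzz' h1

theorem map_injective {k l : GoodPair i j} (h : k ⟶ l) : Function.Injective ((F i j).map h) := by
  intro ξ ξ' e
  rcases exists_ax_or_by k ξ with ⟨x, hx, rfl⟩ | ⟨y, hy, rfl, -, -⟩ <;>
    rcases exists_ax_or_by k ξ' with ⟨x', hx', rfl⟩ | ⟨y', hy', rfl, -, -⟩
  · rw [map_ax, map_ax] at e
    have := ax_injective l e
    subst this
    rfl
  · rw [map_ax, map_by] at e
    obtain ⟨z, rfl, rfl⟩ := exists_of_ax_eq_by l e
    exact ax_eq_by k z hx
  · rw [map_by, map_ax] at e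
    obtain ⟨z, rfl, rfl⟩ := exists_of_ax_eq_by l e.symm
    exact (ax_eq_by k z hx').symm
  · rw [map_by, map_by] at e
    exact by_eq_by_of_le h.le hy hy' e

/-- The subset of the chart `l` of points outside the smaller chart `k`. -/
def outside (k l : GoodPair i j) : Set ((F i j).obj l) :=
  l.aS '' (l.hU.fromSpec ⁻¹' ((k.U : Set X)ᶜ)) ∪ l.bS '' (l.hV.fromSpec ⁻¹' ((k.V : Set Y)ᶜ))

omit [IsAffineHom i] [IsClosedImmersion j] in
theorem ax_mem_outside {k l : GoodPair i j} (x : X) (hx : x ∈ l.U) (hxk : x ∉ k.U) :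
    l.ax x hx ∈ outside k l := by
  left
  refine ⟨l.hU.primeIdealOf ⟨x, hx⟩, ?_, rfl⟩
  change l.hU.fromSpec _ ∉ (k.U : Set X)
  rwa [l.hU.fromSpec_primeIdealOf]

omit [IsAffineHom i] [IsClosedImmersion j] in
theorem by_mem_outside {k l : GoodPair i j} (y : Y) (hy : y ∈ l.V) (hyk : y ∉ k.V) :
    l.by' y hy ∈ outside k l := by
  right
  refine ⟨l.hV.primeIdealOf ⟨y, hy⟩, ?_, rfl⟩
  change l.hV.fromSpec _ ∉ (k.V : Set Y)
  rwa [l.hV.fromSpec_primeIdealOf]

omit [IsAffineHom i] [IsClosedImmersion j] in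
theorem mem_outside_iff {k l : GoodPair i j} (ξ : (F i j).obj l) :
    ξ ∈ outside k l ↔ (∃ (x : X) (hx : x ∈ l.U), x ∉ k.U ∧ l.ax x hx = ξ) ∨
      (∃ (y : Y) (hy : y ∈ l.V), y ∉ k.V ∧ l.by' y hy = ξ) := by
  constructor
  · rintro (⟨u, hu, rfl⟩ | ⟨v, hv, rfl⟩)
    · left
      obtain ⟨x, hx, rfl⟩ := primeIdealOf_surjective l.hU u
      refine ⟨x, hx, ?_, rfl⟩
      have : l.hU.fromSpec _ ∉ (k.U : Set X) := hu
      rwa [l.hU.fromSpec_primeIdealOf] at this
    · right
      obtain ⟨y, hy, rfl⟩ := primeIdealOf_surjective l.hV v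
      refine ⟨y, hy, ?_, rfl⟩
      have : l.hV.fromSpec _ ∉ (k.V : Set Y) := hv
      rwa [l.hV.fromSpec_primeIdealOf] at this
  · rintro (⟨x, hx, hxk, rfl⟩ | ⟨y, hy, hyk, rfl⟩)
    · exact ax_mem_outside x hx hxk
    · exact by_mem_outside y hy hyk

theorem ax_mem_outside_iff {k l : GoodPair i j} (x : X) (hx : x ∈ l.U) :
    l.ax x hx ∈ outside k l ↔ x ∉ k.U := by
  constructor
  · rw [mem_outside_iff]
    rintro (⟨x', hx', hx'k, e⟩ | ⟨y', hy', hy'k, e⟩)
    · have := ax_injective l e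
      subst this
      exact hx'k
    · obtain ⟨z, rfl, rfl⟩ := exists_of_ax_eq_by l e.symm
      intro hxk
      exact hy'k (mem_V_of_mem_U k z hxk)
  · exact ax_mem_outside x hx

theorem by_mem_outside_iff {k l : GoodPair i j} (y : Y) (hy : y ∈ l.V) :
    l.by' y hy ∈ outside k l ↔ y ∉ k.V := by
  constructor
  · rw [mem_outside_iff]
    rintro (⟨x', hx', hx'k, e⟩ | ⟨y', hy', hy'k, e⟩)
    · obtain ⟨z, rfl, rfl⟩ := exists_of_ax_eq_by l e
      intro hyk
      exact hx'k (mem_U_of_mem_V k z hyk)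
    · rcases by_eq_by l e with rfl | ⟨z', z, rfl, rfl, hzz'⟩
      · exact hy'k
      · intro hyk
        apply hy'k
        apply mem_V_of_mem_U k z'
        rw [hzz']
        exact mem_U_of_mem_V k z hyk
  · exact by_mem_outside y hy

theorem isClosed_outside (k l : GoodPair i j) : IsClosed (outside k l) := by
  refine l.fibSq.isClosed_of_preimages (outside k l) ?_ ?_
  · have : PrimeSpectrum.comap (FP.fst l.q l.p) ⁻¹' outside k l =
        l.hU.fromSpec ⁻¹' ((k.U : Set X)ᶜ) := by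
      ext u
      obtain ⟨x, hx, rfl⟩ := primeIdealOf_surjective l.hU u
      have h1 : l.hU.primeIdealOf ⟨x, hx⟩ ∈ PrimeSpectrum.comap (FP.fst l.q l.p) ⁻¹' outside k l ↔
          l.ax x hx ∈ outside k l := Iff.rfl
      rw [h1, ax_mem_outside_iff]
      change _ ↔ l.hU.fromSpec _ ∉ (k.U : Set X)
      rw [l.hU.fromSpec_primeIdealOf]
      rfl
    rw [this]
    exact k.U.isOpen.isClosed_compl.preimage l.hU.fromSpec.continuous
  · have : PrimeSpectrum.comap (FP.snd l.q l.p) ⁻¹' outside k l =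
        l.hV.fromSpec ⁻¹' ((k.V : Set Y)ᶜ) := by
      ext v
      obtain ⟨y, hy, rfl⟩ := primeIdealOf_surjective l.hV v
      have h1 : l.hV.primeIdealOf ⟨y, hy⟩ ∈ PrimeSpectrum.comap (FP.snd l.q l.p) ⁻¹' outside k l ↔
          l.by' y hy ∈ outside k l := Iff.rfl
      rw [h1, by_mem_outside_iff]
      change _ ↔ l.hV.fromSpec _ ∉ (k.V : Set Y)
      rw [l.hV.fromSpec_primeIdealOf]
      rfl
    rw [this]
    exact k.V.isOpen.isClosed_compl.preimage l.hV.fromSpec.continuous

theorem map_notMem_outside {k l : GoodPair i j} (h : k ⟶ l) (ξ : (F i j).obj k) :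
    (F i j).map h ξ ∉ outside k l := by
  rcases exists_ax_or_by k ξ with ⟨x, hx, rfl⟩ | ⟨y, hy, rfl, -, -⟩
  · rw [map_ax, ax_mem_outside_iff]
    exact fun hn => hn hx
  · rw [map_by, by_mem_outside_iff]
    exact fun hn => hn hy

/-- The transition maps between the affine charts are open immersions. -/
theorem isOpenImmersion_map {k l : GoodPair i j} (h : k ⟶ l) :
    IsOpenImmersion ((F i j).map h) := by
  refine IsOpenImmersion.of_forall_source_exists _ (map_injective h) fun ξ => ?_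
  -- choose `c` with `map ξ ∈ D(c)` disjoint from `outside k l`
  obtain ⟨_, ⟨_, ⟨c, rfl⟩, rfl⟩, hξc, hc⟩ :=
    PrimeSpectrum.isBasis_basic_opens.exists_subset_of_mem_open
    (show (F i j).map h ξ ∈ (outside k l)ᶜ from map_notMem_outside h ξ)
    (isClosed_outside k l).isOpen_compl
  have hmk : l.basic c ≤ k := by
    constructor
    · intro x hx
      have hxl : x ∈ l.U := X.basicOpen_le _ hx
      by_contra hxk
      exact hc ((ax_mem_basicOpen_iff l c x hxl).mpr hx) (ax_mem_outside x hxl hxk)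
    · intro y hy
      have hyl : y ∈ l.V := Y.basicOpen_le _ hy
      by_contra hyk
      exact hc ((by_mem_basicOpen_iff l c y hyl).mpr hy) (by_mem_outside y hyl hyk)
  have hcomp : (F i j).map (homOfLE hmk) ≫ (F i j).map h = (F i j).map (homOfLE (l.basic_le c)) := by
    rw [← (F i j).map_comp]
    rfl
  have ho1 : IsOpenImmersion ((F i j).map (homOfLE (l.basic_le c))) :=
    isOpenImmersion_map_of_eq_basic l c _ rfl _
  have hm' : l.basic c = k.basic (res h.le c) := by
    apply ext'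
    · change X.basicOpen _ = X.basicOpen (X.presheaf.map (homOfLE h.le.1).op _)
      rw [Scheme.basicOpen_res]
      exact (inf_eq_right.mpr hmk.1).symm
    · change Y.basicOpen _ = Y.basicOpen (Y.presheaf.map (homOfLE h.le.2).op _)
      rw [Scheme.basicOpen_res]
      exact (inf_eq_right.mpr hmk.2).symm
  have ho2 : IsOpenImmersion ((F i j).map (homOfLE hmk)) :=
    isOpenImmersion_map_of_eq_basic k (res h.le c) _ hm' _
  refine ⟨_, (F i j).map (homOfLE hmk), ho2, ?_, hcomp ▸ ho1⟩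
  -- `ξ` lies in the image
  rcases exists_ax_or_by k ξ with ⟨x, hx, rfl⟩ | ⟨y, hy, rfl, -, -⟩
  · rw [map_ax] at hξc
    have hxm : x ∈ (l.basic c).U := (ax_mem_basicOpen_iff l c x (h.le.1 hx)).mp hξc
    exact ⟨(l.basic c).ax x hxm, map_ax (homOfLE hmk) x hxm⟩
  · rw [map_by] at hξc
    have hym : y ∈ (l.basic c).V := (by_mem_basicOpen_iff l c y (h.le.2 hy)).mp hξc
    exact ⟨(l.basic c).by' y hym, map_by (homOfLE hmk) y hym⟩

end Groth.Agent.Lib.Helper58.Pinch
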