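/-
Helper library (helper58): Ferrand-type pinching: properties of the pushout of an affine morphism
`i : Z ⟶ X` and a closed immersion `j : Z ⟶ Y`: the map `a : X ⟶ P` is a closed immersion, the map
`b : Y ⟶ P` is affine (finite if `i` is), and the square is cartesian.
-/
import Mathlib
import Groth.Agent.Lib.Helper58.PinchGlue

set_option autoImplicit false
universe u

open AlgebraicGeometry CategoryTheory Limits

namespace Groth.Agent.Lib.Helper58.Pinch

open Groth.Agent.Lib.Helper61 Groth.Agent.Lib.Helper58.UnionPushout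
open Groth.Agent.Lib.Helper58.ClPushout
open Groth.Agent.Lib.Helper58.ClPushout.GoodPair

section ring

variable {B A' A : Type*} [CommRing B] [CommRing A'] [CommRing A] (q : B →+* A) (p : A' →+* A)

/-- If `q : B → A` is finite and `p : A' → A` is surjective, then `B ×_A A' → A'` is finite. -/
theorem snd_finite (hq : q.Finite) (hp : Function.Surjective p) : (FP.snd q p).Finite := by
  classical
  letI := q.toAlgebra
  letI := (FP.snd q p).toAlgebra
  have hq' : Module.Finite B A := hq
  obtain ⟨s, hs⟩ := hq'.fg_top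
  have hfst : Function.Surjective (FP.fst q p) := (fibSq_FP q p hp).f_surjective
  choose g hg using hp
  change Module.Finite (FP q p) A'
  refine ⟨⟨insert 1 (s.image g), ?_⟩⟩
  rw [eq_top_iff]
  rintro a' -
  have key : ∀ a ∈ Submodule.span B (s : Set A),
      ∃ m ∈ Submodule.span (FP q p) ((s.image g : Finset A') : Set A'), p m = a := by
    intro a ha
    induction ha using Submodule.span_induction with
    | mem a ha =>
      exact ⟨g a, Submodule.subset_span (Finset.mem_coe.2 (Finset.mem_image_of_mem g ha)), hg a⟩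
    | zero => exact ⟨0, Submodule.zero_mem _, map_zero p⟩
    | add a₁ a₂ _ _ h₁ h₂ =>
      obtain ⟨m₁, hm₁, e₁⟩ := h₁
      obtain ⟨m₂, hm₂, e₂⟩ := h₂
      exact ⟨m₁ + m₂, Submodule.add_mem _ hm₁ hm₂, by rw [map_add, e₁, e₂]⟩
    | smul b a _ h =>
      obtain ⟨m, hm, e⟩ := h
      obtain ⟨c, rfl⟩ := hfst b
      refine ⟨c • m, Submodule.smul_mem _ c hm, ?_⟩
      change p (FP.snd q p c * m) = q (FP.fst q p c) * a
      rw [map_mul, e, FP.comm]
  obtain ⟨m, hm, e⟩ := key (p a') (hs ▸ Submodule.mem_top)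
  have hc : (0, a' - m) ∈ FP q p := by
    change q 0 = p (a' - m)
    rw [map_zero, map_sub, e, sub_self]
  have h1 : a' = m + (⟨(0, a' - m), hc⟩ : FP q p) • (1 : A') := by
    change a' = m + (a' - m) * 1
    ring
  rw [h1]
  refine Submodule.add_mem _ ?_ ?_
  · refine Submodule.span_mono ?_ hm
    intro x hx
    simp only [Finset.coe_insert, Set.mem_insert_iff]
    exact Or.inr hx
  · refine Submodule.smul_mem _ _ (Submodule.subset_span ?_)
    simp

end ring

variable {X Y Z : Scheme.{u}} (i : Z ⟶ X) (j : Z ⟶ Y) [IsAffineHom i] [IsClosedImmersion j]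
  [Enough i j]

theorem a_apply (k : GoodPair i j) (x : X) (hx : x ∈ k.U) :
    a i j x = chart i j k (k.ax x hx) := by
  have h : (k.hU.fromSpec ≫ a i j) (k.hU.primeIdealOf ⟨x, hx⟩) =
      (k.aS ≫ chart i j k) (k.hU.primeIdealOf ⟨x, hx⟩) := by rw [fromSpec_a]
  rw [Scheme.Hom.comp_apply, Scheme.Hom.comp_apply, k.hU.fromSpec_primeIdealOf] at h
  exact h

theorem b_apply (k : GoodPair i j) (y : Y) (hy : y ∈ k.V) :
    b i j y = chart i j k (k.by' y hy) := by
  have h : (k.hV.fromSpec ≫ b i j) (k.hV.primeIdealOf ⟨y, hy⟩) =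
      (k.bS ≫ chart i j k) (k.hV.primeIdealOf ⟨y, hy⟩) := by rw [fromSpec_b]
  rw [Scheme.Hom.comp_apply, Scheme.Hom.comp_apply, k.hV.fromSpec_primeIdealOf] at h
  exact h

theorem a_mem_range_chart_iff (k : GoodPair i j) (x : X) :
    a i j x ∈ Set.range (chart i j k) ↔ x ∈ k.U := by
  constructor
  · rintro ⟨ξ, hξ⟩
    obtain ⟨k₁, hx₁, -, -⟩ := exists_goodPair_of_mem_X (i := i) (j := j) ⊤ ⊤ rfl x trivial
    rw [a_apply i j k₁ x hx₁] at hξ
    obtain ⟨m, f, g, ζ, h1, h2⟩ := (chart_eq_chart_iff i j).1 hξ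
    rcases exists_ax_or_by m ζ with ⟨x', hx', rfl⟩ | ⟨y', hy', rfl, -, -⟩
    · rw [map_ax] at h2
      have := ax_injective k₁ h2
      subst this
      exact f.le.1 hx'
    · rw [map_by] at h2
      obtain ⟨z, rfl, rfl⟩ := exists_of_ax_eq_by k₁ h2.symm
      exact f.le.1 (mem_U_of_mem_V m z hy')
  · intro hx
    exact ⟨_, (a_apply i j k x hx).symm⟩

theorem b_mem_range_chart_iff (k : GoodPair i j) (y : Y) :
    b i j y ∈ Set.range (chart i j k) ↔ y ∈ k.V := by
  constructor
  · rintro ⟨ξ, hξ⟩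
    obtain ⟨k₁, hy₁, -, -⟩ := exists_goodPair_of_mem_Y (i := i) (j := j) ⊤ ⊤ rfl y trivial
    rw [b_apply i j k₁ y hy₁] at hξ
    obtain ⟨m, f, g, ζ, h1, h2⟩ := (chart_eq_chart_iff i j).1 hξ
    rcases exists_ax_or_by m ζ with ⟨x', hx', rfl⟩ | ⟨y', hy', rfl, -, -⟩
    · rw [map_ax] at h2
      obtain ⟨z, rfl, rfl⟩ := exists_of_ax_eq_by k₁ h2
      exact f.le.2 (mem_V_of_mem_U m z hx')
    · rw [map_by] at h2
      rcases by_eq_by k₁ h2 with rfl | ⟨z, z', rfl, rfl, hzz'⟩
      · exact f.le.2 hy'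
      · apply f.le.2
        apply mem_V_of_mem_U m z'
        rw [← hzz']
        exact mem_U_of_mem_V m z hy'
  · intro hy
    exact ⟨_, (b_apply i j k y hy).symm⟩

theorem a_preimage_opensRange_chart (k : GoodPair i j) :
    (a i j) ⁻¹ᵁ (chart i j k).opensRange = k.hU.fromSpec.opensRange := by
  rw [k.hU.opensRange_fromSpec]
  ext x
  exact a_mem_range_chart_iff i j k x

theorem b_preimage_opensRange_chart (k : GoodPair i j) :
    (b i j) ⁻¹ᵁ (chart i j k).opensRange = k.hV.fromSpec.opensRange := by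
  rw [k.hV.opensRange_fromSpec]
  ext y
  exact b_mem_range_chart_iff i j k y

theorem isPullback_a (k : GoodPair i j) :
    IsPullback k.aS k.hU.fromSpec (chart i j k) (a i j) :=
  IsOpenImmersion.isPullback _ _ _ _ (fromSpec_a i j k) (a_preimage_opensRange_chart i j k)

theorem isPullback_b (k : GoodPair i j) :
    IsPullback k.bS k.hV.fromSpec (chart i j k) (b i j) :=
  IsOpenImmersion.isPullback _ _ _ _ (fromSpec_b i j k) (b_preimage_opensRange_chart i j k)

/-- The affine charts form an open cover of the pushout. -/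
noncomputable def chartCover : (P i j).OpenCover where
  I₀ := GoodPair i j
  X k := (F i j).obj k
  f k := chart i j k
  mem₀ := by
    rw [Scheme.presieve₀_mem_precoverage_iff]
    exact ⟨fun ξ => (exists_chart_eq i j ξ), inferInstance⟩

instance isClosedImmersion_a : IsClosedImmersion (a i j) := by
  refine IsZariskiLocalAtTarget.of_openCover (P := @IsClosedImmersion) (chartCover i j) ?_
  intro k
  change IsClosedImmersion (pullback.snd (a i j) (chart i j k))
  rw [← (isPullback_a i j k).flip.isoPullback_inv_snd]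
  infer_instance

instance isAffineHom_b : IsAffineHom (b i j) := by
  refine IsZariskiLocalAtTarget.of_openCover (P := @IsAffineHom) (chartCover i j) ?_
  intro k
  change IsAffineHom (pullback.snd (b i j) (chart i j k))
  rw [← (isPullback_b i j k).flip.isoPullback_inv_snd]
  have : IsAffineHom k.bS := by
    change IsAffineHom (Spec.map (CommRingCat.ofHom (FP.snd k.q k.p)))
    infer_instance
  infer_instance

omit [Enough i j] in
theorem isFinite_bS [IsFinite i] (k : GoodPair i j) : IsFinite k.bS := by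
  change IsFinite (Spec.map (CommRingCat.ofHom (FP.snd k.q k.p)))
  rw [IsFinite.SpecMap_iff]
  refine snd_finite k.q k.p ?_ k.p_surjective
  have : k.q = (i.app k.U).hom := by
    unfold q
    rw [Scheme.Hom.appLE_eq_app]
  rw [this]
  exact IsFinite.finite_app i k.U k.hU

theorem isFinite_b [IsFinite i] : IsFinite (b i j) := by
  refine IsZariskiLocalAtTarget.of_openCover (P := @IsFinite) (chartCover i j) ?_
  intro k
  change IsFinite (pullback.snd (b i j) (chart i j k))
  rw [← (isPullback_b i j k).flip.isoPullback_inv_snd]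
  have : IsFinite k.bS := isFinite_bS i j k
  infer_instance

/-- If `j` is surjective, so is `a`. -/
theorem a_surjective (hj : Function.Surjective j) : Function.Surjective (a i j) := by
  intro ξ
  obtain ⟨k, ξ', rfl⟩ := exists_chart_eq i j ξ
  rcases exists_ax_or_by k ξ' with ⟨x, hx, rfl⟩ | ⟨y, hy, rfl, -, -⟩
  · exact ⟨x, a_apply i j k x hx⟩
  · obtain ⟨z, rfl⟩ := hj y
    have hx : i z ∈ k.U := mem_U_of_mem_V k z hy
    refine ⟨i z, ?_⟩
    rw [a_apply i j k (i z) hx]
    exact congrArg _ (ax_eq_by k z hx)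

section

variable {T : Scheme.{u}} (g : T ⟶ X) (h : T ⟶ Y) (w : g ≫ a i j = h ≫ b i j)

include w in
theorem preimage_eq_of_comm (m : GoodPair i j) : g ⁻¹ᵁ m.U = h ⁻¹ᵁ m.V := by
  ext t
  change g t ∈ m.U ↔ h t ∈ m.V
  rw [← a_mem_range_chart_iff i j m, ← b_mem_range_chart_iff i j m, ← Scheme.Hom.comp_apply,
    ← Scheme.Hom.comp_apply, w]

include w in
theorem appLE_fst_eq_appLE_snd (m : GoodPair i j) (W' : T.Opens) (hW' : IsAffineOpen W')
    (e : W' ≤ g ⁻¹ᵁ m.U) (e' : W' ≤ h ⁻¹ᵁ m.V) (c : m.C) :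
    g.appLE m.U W' e (FP.fst m.q m.p c) = h.appLE m.V W' e' (FP.snd m.q m.p c) := by
  have h1 : Spec.map (g.appLE m.U W' e) ≫ m.aS ≫ chart i j m =
      Spec.map (h.appLE m.V W' e') ≫ m.bS ≫ chart i j m := by
    rw [← fromSpec_a, ← fromSpec_b, ← Category.assoc, ← Category.assoc,
      IsAffineOpen.SpecMap_appLE_fromSpec g m.hU hW' e,
      IsAffineOpen.SpecMap_appLE_fromSpec h m.hV hW' e', Category.assoc, Category.assoc, w]
  rw [← Category.assoc, ← Category.assoc, cancel_mono] at h1
  have h2 : Spec.map (CommRingCat.ofHom (FP.fst m.q m.p) ≫ g.appLE m.U W' e) =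
      Spec.map (CommRingCat.ofHom (FP.snd m.q m.p) ≫ h.appLE m.V W' e') := by
    rw [Spec.map_comp, Spec.map_comp]
    exact h1
  have h3 := Spec.map_injective h2
  exact congrArg (fun φ => φ.hom c) h3

include w in
/-- If `h` is affine, then `h` kills the kernel of `j`. -/
theorem ker_le_of_comm [IsAffineHom h] : j.ker ≤ h.ker := by
  have hcov : ⨆ m : GoodPair i j, ((⟨m.V, m.hV⟩ : Y.affineOpens) : Y.Opens) = ⊤ := by
    rw [eq_top_iff]
    intro y _
    obtain ⟨m, hm, -, -⟩ := exists_goodPair_of_mem_Y (i := i) (j := j) ⊤ ⊤ rfl y trivial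
    exact TopologicalSpace.Opens.mem_iSup.mpr ⟨m, hm⟩
  refine Scheme.IdealSheafData.le_of_iSup_eq_top (fun m : GoodPair i j => ⟨m.V, m.hV⟩) hcov ?_
  intro m r hr
  rw [Scheme.Hom.ker_apply] at hr ⊢
  have hr' : j.app m.V r = 0 := hr
  change h.app m.V r = 0
  have hW' : IsAffineOpen (h ⁻¹ᵁ m.V) := m.hV.preimage h
  have e : h ⁻¹ᵁ m.V ≤ g ⁻¹ᵁ m.U := (preimage_eq_of_comm i j g h w m).ge
  have hq : m.q 0 = m.p r := by
    rw [map_zero]
    unfold p
    rw [Scheme.Hom.appLE, CommRingCat.hom_comp, RingHom.comp_apply]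
    change 0 = (Z.presheaf.map _) (j.app m.V r)
    rw [hr', map_zero]
  have h1 := appLE_fst_eq_appLE_snd i j g h w m (h ⁻¹ᵁ m.V) hW' e le_rfl ⟨(0, r), hq⟩
  change g.appLE m.U (h ⁻¹ᵁ m.V) e 0 = h.appLE m.V (h ⁻¹ᵁ m.V) le_rfl r at h1
  rw [map_zero, Scheme.Hom.appLE_eq_app] at h1
  exact h1.symm

end

/-- The pushout square is cartesian. -/
theorem isPullback : IsPullback i j (a i j) (b i j) := by
  have hker : j.ker ≤ (pullback.snd (a i j) (b i j)).ker :=
    ker_le_of_comm i j (pullback.fst (a i j) (b i j)) (pullback.snd (a i j) (b i j))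
      pullback.condition
  let l₀ : pullback (a i j) (b i j) ⟶ Z := IsClosedImmersion.lift j _ hker
  have hl₀j : l₀ ≫ j = pullback.snd (a i j) (b i j) := IsClosedImmersion.lift_fac _ _ _
  have hl₀i : l₀ ≫ i = pullback.fst (a i j) (b i j) := by
    rw [← cancel_mono (a i j), Category.assoc, comm, ← Category.assoc, hl₀j, pullback.condition]
  refine IsPullback.of_isLimit' ⟨comm i j⟩ ?_
  refine PullbackCone.IsLimit.mk _
    (fun t => pullback.lift t.fst t.snd t.condition ≫ l₀)
    (fun t => ?_) (fun t => ?_) (fun t m _ h2 => ?_)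
  · rw [Category.assoc, hl₀i, pullback.lift_fst]
  · rw [Category.assoc, hl₀j, pullback.lift_snd]
  · rw [← cancel_mono j, Category.assoc, hl₀j, pullback.lift_snd]
    exact h2

end Groth.Agent.Lib.Helper58.Pinch
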