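/-
Helper library (helper58): Ferrand-type pinching commutes with a base change as soon as the
base-changed structure sheaf injects into the product of the two pieces (locally on suitable affine
opens).
-/
import Mathlib
import Groth.Agent.Lib.Helper58.PinchFlat
import Groth.Agent.Lib.Helper58.FibSqInj
import Groth.Agent.Lib.Helper58.LocFibRes

set_option autoImplicit false
universe u

open AlgebraicGeometry CategoryTheory Limits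

namespace Groth.Agent.Lib.Helper58.Pinch

open Groth.Agent.Lib.Helper61 Groth.Agent.Lib.Helper58.UnionPushout
open Groth.Agent.Lib.Helper58.FibSqFlat Groth.Agent.Lib.Helper58.LocalPushout
open Groth.Agent.Lib.Helper58.ClPushout
open Groth.Agent.Lib.Helper58.ClPushout.GoodPair

variable {X Y Z : Scheme.{u}} (i : Z ⟶ X) (j : Z ⟶ Y) [IsAffineHom i] [IsClosedImmersion j]
  [Enough i j]

section BaseChange

variable {Q X' Y' Z' : Scheme.{u}} (π : Q ⟶ P i j)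
  (πX : X' ⟶ X) (a' : X' ⟶ Q) (hX : IsPullback πX a' (a i j) π)
  (πY : Y' ⟶ Y) (b' : Y' ⟶ Q) (hY : IsPullback πY b' (b i j) π)
  (πZ : Z' ⟶ Z) (i' : Z' ⟶ X') (hZ : IsPullback πZ i' i πX)
  (j' : Z' ⟶ Y') (w' : i' ≫ a' = j' ≫ b') (wj : j' ≫ πY = πZ ≫ j)

include hX hY hZ wj in
/-- The base change of the pinching is a Milnor square over an affine open lying over a chart, as
soon as the sections inject into the product of the sections of the two pieces. -/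
theorem fibSq_of_injective (k : GoodPair i j) (O : Q.Opens) (hO : IsAffineOpen O)
    (hle : O ≤ π ⁻¹ᵁ chartOpen i j k)
    (hinj : ∀ x : Γ(Q, O), (a'.appLE O (a' ⁻¹ᵁ O) le_rfl).hom x = 0 →
      (b'.appLE O (b' ⁻¹ᵁ O) le_rfl).hom x = 0 → x = 0) :
    FibSq (a'.appLE O (a' ⁻¹ᵁ O) le_rfl).hom (b'.appLE O (b' ⁻¹ᵁ O) le_rfl).hom
      (i'.appLE (a' ⁻¹ᵁ O) (i' ⁻¹ᵁ a' ⁻¹ᵁ O) le_rfl).hom
      (j'.appLE (b' ⁻¹ᵁ O) (i' ⁻¹ᵁ a' ⁻¹ᵁ O) (preimage_le w' O)).hom := by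
  have hZQ : IsPullback πZ (i' ≫ a') (i ≫ a i j) π := hZ.paste_vert hX
  have hOk := isAffineOpen_chartOpen i j k
  -- inclusions of opens
  have eX : a' ⁻¹ᵁ O ≤ πX ⁻¹ᵁ k.U := by
    intro x hx
    apply mem_U_of_a_mem i j k
    change (πX ≫ a i j) x ∈ _
    rw [hX.w]
    exact hle hx
  have eY : b' ⁻¹ᵁ O ≤ πY ⁻¹ᵁ k.V := by
    intro y hy
    apply mem_V_of_b_mem i j k
    change (πY ≫ b i j) y ∈ _
    rw [hY.w]
    exact hle hy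
  have eZ : i' ⁻¹ᵁ a' ⁻¹ᵁ O ≤ πZ ⁻¹ᵁ k.W := by
    intro z hz
    change i (πZ z) ∈ k.U
    have : (πZ ≫ i) z = (i' ≫ πX) z := by rw [hZ.w]
    change (πZ ≫ i) z ∈ k.U
    rw [this]
    exact eX hz
  have hUYX : a' ⁻¹ᵁ O = πX ⁻¹ᵁ k.U ⊓ a' ⁻¹ᵁ O := (inf_eq_right.2 eX).symm
  have hUYY : b' ⁻¹ᵁ O = πY ⁻¹ᵁ k.V ⊓ b' ⁻¹ᵁ O := (inf_eq_right.2 eY).symm
  have hUYZ : i' ⁻¹ᵁ a' ⁻¹ᵁ O = πZ ⁻¹ᵁ k.W ⊓ (i' ≫ a') ⁻¹ᵁ O := (inf_eq_right.2 eZ).symm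
  have hkW : k.W ≤ (i ≫ a i j) ⁻¹ᵁ chartOpen i j k := fun z hz => U_le i j k hz
  -- the three pushout squares of rings
  have pB := (isIso_pushoutSection_iff hX hle (U_le i j k) hUYX).1
    (isIso_pushoutSection_of_isAffineOpen hX hle (U_le i j k) hUYX hOk hO k.hU)
  have pA' := (isIso_pushoutSection_iff hY hle (V_le i j k) hUYY).1
    (isIso_pushoutSection_of_isAffineOpen hY hle (V_le i j k) hUYY hOk hO k.hV)
  have pA := (isIso_pushoutSection_iff hZQ hle hkW hUYZ).1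
    (isIso_pushoutSection_of_isAffineOpen hZQ hle hkW hUYZ hOk hO (W_isAffineOpen k))
  have e1 : (i ≫ a i j).appLE (chartOpen i j k) k.W hkW =
      (a i j).appLE (chartOpen i j k) k.U (U_le i j k) ≫ i.appLE k.U k.W le_rfl := by
    rw [Scheme.Hom.appLE_comp_appLE]
  have e2 : (i' ≫ a').appLE O (i' ⁻¹ᵁ a' ⁻¹ᵁ O) le_rfl =
      a'.appLE O (a' ⁻¹ᵁ O) le_rfl ≫ i'.appLE (a' ⁻¹ᵁ O) (i' ⁻¹ᵁ a' ⁻¹ᵁ O) le_rfl := by
    rw [Scheme.Hom.appLE_comp_appLE]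
  have e3 : a'.appLE O (a' ⁻¹ᵁ O) le_rfl ≫ i'.appLE (a' ⁻¹ᵁ O) (i' ⁻¹ᵁ a' ⁻¹ᵁ O) le_rfl =
      b'.appLE O (b' ⁻¹ᵁ O) le_rfl ≫
        j'.appLE (b' ⁻¹ᵁ O) (i' ⁻¹ᵁ a' ⁻¹ᵁ O) (preimage_le w' O) := by
    rw [Scheme.Hom.appLE_comp_appLE, Scheme.Hom.appLE_comp_appLE]
    congr 1
  have e4 : πY.appLE k.V (b' ⁻¹ᵁ O) eY ≫
        j'.appLE (b' ⁻¹ᵁ O) (i' ⁻¹ᵁ a' ⁻¹ᵁ O) (preimage_le w' O) =
      j.appLE k.V k.W k.h.le ≫ πZ.appLE k.W (i' ⁻¹ᵁ a' ⁻¹ᵁ O) eZ := by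
    rw [Scheme.Hom.appLE_comp_appLE, Scheme.Hom.appLE_comp_appLE]
    congr 1
  rw [e1] at pA
  have pA2 : IsPushout ((a i j).appLE (chartOpen i j k) k.U (U_le i j k) ≫ i.appLE k.U k.W le_rfl)
      (π.appLE (chartOpen i j k) O hle) (πZ.appLE k.W (i' ⁻¹ᵁ a' ⁻¹ᵁ O) eZ)
      (a'.appLE O (a' ⁻¹ᵁ O) le_rfl ≫ i'.appLE (a' ⁻¹ᵁ O) (i' ⁻¹ᵁ a' ⁻¹ᵁ O) le_rfl) := by
    rw [← e2]
    exact pA
  exact fibSq_of_isPushout_of_injective (fibSq_chart i j k) pB pA' pA2 e3 e4 hinj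

include hX hY hZ w' wj in
/-- Ferrand-type pinching commutes with a base change as soon as, on a cover by affine opens lying
over charts, the sections inject into the product of the sections of the two pieces. -/
theorem isPushout_of_injective (𝓔 : Set Q.Opens)
    (h𝓔 : ∀ O ∈ 𝓔, IsAffineOpen O ∧ (∃ k : GoodPair i j, O ≤ π ⁻¹ᵁ chartOpen i j k) ∧
      ∀ x : Γ(Q, O), (a'.appLE O (a' ⁻¹ᵁ O) le_rfl).hom x = 0 →
        (b'.appLE O (b' ⁻¹ᵁ O) le_rfl).hom x = 0 → x = 0)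
    (hcov : ∀ q : Q, ∃ O ∈ 𝓔, q ∈ O) : IsPushout i' j' a' b' := by
  haveI : IsClosedImmersion a' := MorphismProperty.of_isPullback hX inferInstance
  haveI : IsAffineHom b' := MorphismProperty.of_isPullback hY inferInstance
  haveI : IsAffineHom i' := MorphismProperty.of_isPullback hZ inferInstance
  let 𝓑 : Set Q.Opens := {O | IsAffineOpen O ∧ ∃ OE ∈ 𝓔, O ≤ OE}
  refine isPushout_of_locFib w' 𝓑 (fun O hO => hO.1) ?_ ?_ ?_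
  · intro q
    obtain ⟨OE, hOE, hq⟩ := hcov q
    exact ⟨OE, ⟨(h𝓔 OE hOE).1, OE, hOE, le_rfl⟩, hq⟩
  · intro O₁ hO₁ O₂ hO₂ q hq1 hq2
    obtain ⟨_, ⟨O, hO : IsAffineOpen O, rfl⟩, hqO, hOle⟩ :=
      Q.isBasis_affineOpens.exists_subset_of_mem_open (show q ∈ O₁ ⊓ O₂ from ⟨hq1, hq2⟩)
        (O₁ ⊓ O₂).isOpen
    obtain ⟨OE, hOE, hle⟩ := hO₁.2
    have h1 : O ≤ O₁ := fun x hx => (hOle hx).1
    have h2 : O ≤ O₂ := fun x hx => (hOle hx).2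
    exact ⟨O, ⟨hO, OE, hOE, h1.trans hle⟩, hqO, h1, h2⟩
  · rintro O ⟨hO, OE, hOE, hle⟩
    obtain ⟨hOEaff, ⟨k, hk⟩, hinj⟩ := h𝓔 OE hOE
    exact fibSq_mono w' hOEaff hO hle (hOEaff.preimage a') (hOEaff.preimage b')
      ((hOEaff.preimage a').preimage i')
      (fibSq_of_injective i j π πX a' hX πY b' hY πZ i' hZ j' w' wj k OE hOEaff hk hinj)

end BaseChange

end Groth.Agent.Lib.Helper58.Pinch
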