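/-
Helper library (helper58): Ferrand-type pinching commutes with arbitrary base change `S' → S` as
soon as the Milnor squares of the charts are universally injective over affine opens of `S`.
-/
import Mathlib
import Groth.Agent.Lib.Helper58.PinchInj
import Groth.Agent.Lib.Helper58.FibSqBC

set_option autoImplicit false
universe u

open AlgebraicGeometry CategoryTheory Limits

namespace Groth.Agent.Lib.Helper58.Pinch

open Groth.Agent.Lib.Helper61 Groth.Agent.Lib.Helper58.UnionPushout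
open Groth.Agent.Lib.Helper58.FibSqFlat Groth.Agent.Lib.Helper58.LocalPushout
open Groth.Agent.Lib.Helper58.ClPushout
open Groth.Agent.Lib.Helper58.ClPushout.GoodPair

variable {X Y Z : Scheme.{u}} (i : Z ⟶ X) (j : Z ⟶ Y) [IsAffineHom i] [IsClosedImmersion j]
  [Enough i j]

section BaseChange

variable {Q X' Y' Z' : Scheme.{u}} (π : Q ⟶ P i j)
  (πX : X' ⟶ X) (a' : X' ⟶ Q) (hX : IsPullback πX a' (a i j) π)
  (πY : Y' ⟶ Y) (b' : Y' ⟶ Q) (hY : IsPullback πY b' (b i j) π)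
  (πZ : Z' ⟶ Z) (i' : Z' ⟶ X') (hZ : IsPullback πZ i' i πX)
  (j' : Z' ⟶ Y') (w' : i' ≫ a' = j' ≫ b') (wj : j' ≫ πY = πZ ≫ j)
  {S S' : Scheme.{u}} (r : P i j ⟶ S) (g : S' ⟶ S) (ρ : Q ⟶ S') (hQ : IsPullback π ρ r g)

include hX hY hZ w' wj hQ in
/-- Ferrand-type pinching commutes with a base change `S' → S` as soon as the Milnor squares of a
family of charts covering the pushout are universally injective over affine opens of `S`. -/
theorem isPushout_of_univInj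
    (hloc : ∀ ξ : P i j, ∃ (k : GoodPair i j) (US : S.Opens) (hle : chartOpen i j k ≤ r ⁻¹ᵁ US),
      IsAffineOpen US ∧ ξ ∈ chartOpen i j k ∧
      UnivInj (r.appLE US (chartOpen i j k) hle)
        ((a i j).appLE (chartOpen i j k) k.U (U_le i j k))
        ((b i j).appLE (chartOpen i j k) k.V (V_le i j k))) :
    IsPushout i' j' a' b' := by
  let 𝓔 : Set Q.Opens := {O | ∃ (k : GoodPair i j) (US : S.Opens)
    (hle : chartOpen i j k ≤ r ⁻¹ᵁ US) (US' : S'.Opens), IsAffineOpen US ∧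
      UnivInj (r.appLE US (chartOpen i j k) hle)
        ((a i j).appLE (chartOpen i j k) k.U (U_le i j k))
        ((b i j).appLE (chartOpen i j k) k.V (V_le i j k)) ∧
      IsAffineOpen US' ∧ US' ≤ g ⁻¹ᵁ US ∧ O = π ⁻¹ᵁ chartOpen i j k ⊓ ρ ⁻¹ᵁ US'}
  refine isPushout_of_injective i j π πX a' hX πY b' hY πZ i' hZ j' w' wj 𝓔 ?_ ?_
  · rintro O ⟨k, US, hle, US', hUS, huniv, hUS', hle', rfl⟩
    have hOk := isAffineOpen_chartOpen i j k
    have hOle : π ⁻¹ᵁ chartOpen i j k ⊓ ρ ⁻¹ᵁ US' ≤ π ⁻¹ᵁ chartOpen i j k := inf_le_left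
    have hO : IsAffineOpen (π ⁻¹ᵁ chartOpen i j k ⊓ ρ ⁻¹ᵁ US') := by
      have h1 : IsAffine US := hUS
      have h2 : IsAffine US' := hUS'
      have h3 : IsAffine (chartOpen i j k) := hOk
      exact .of_isIso (Scheme.Hom.isPullback_resLE hQ hle' hle rfl).isoPullback.hom
    refine ⟨hO, ⟨k, hOle⟩, ?_⟩
    set O := π ⁻¹ᵁ chartOpen i j k ⊓ ρ ⁻¹ᵁ US' with hOdef
    have hE := (isIso_pushoutSection_iff hQ hle' hle hOdef).1
      (isIso_pushoutSection_of_isAffineOpen hQ hle' hle hOdef hUS hUS' hOk)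
    have eX : a' ⁻¹ᵁ O ≤ πX ⁻¹ᵁ k.U := by
      intro x hx
      apply mem_U_of_a_mem i j k
      change (πX ≫ a i j) x ∈ _
      rw [hX.w]
      exact hOle hx
    have eY : b' ⁻¹ᵁ O ≤ πY ⁻¹ᵁ k.V := by
      intro y hy
      apply mem_V_of_b_mem i j k
      change (πY ≫ b i j) y ∈ _
      rw [hY.w]
      exact hOle hy
    have hUYX : a' ⁻¹ᵁ O = πX ⁻¹ᵁ k.U ⊓ a' ⁻¹ᵁ O := (inf_eq_right.2 eX).symm
    have hUYY : b' ⁻¹ᵁ O = πY ⁻¹ᵁ k.V ⊓ b' ⁻¹ᵁ O := (inf_eq_right.2 eY).symm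
    have pB := (isIso_pushoutSection_iff hX hOle (U_le i j k) hUYX).1
      (isIso_pushoutSection_of_isAffineOpen hX hOle (U_le i j k) hUYX hOk hO k.hU)
    have pA' := (isIso_pushoutSection_iff hY hOle (V_le i j k) hUYY).1
      (isIso_pushoutSection_of_isAffineOpen hY hOle (V_le i j k) hUYY hOk hO k.hV)
    exact huniv hE pB pA'
  · intro q
    obtain ⟨k, US, hle, hUS, hξ, huniv⟩ := hloc (π q)
    have hq : ρ q ∈ g ⁻¹ᵁ US := by
      change (ρ ≫ g) q ∈ US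
      rw [← hQ.w]
      exact hle hξ
    obtain ⟨_, ⟨US', hUS' : IsAffineOpen US', rfl⟩, hqU, hU'le⟩ :=
      S'.isBasis_affineOpens.exists_subset_of_mem_open hq (g ⁻¹ᵁ US).isOpen
    exact ⟨π ⁻¹ᵁ chartOpen i j k ⊓ ρ ⁻¹ᵁ US', ⟨k, US, hle, US', hUS, huniv, hUS', hU'le, rfl⟩,
      ⟨hξ, hqU⟩⟩

end BaseChange

end Groth.Agent.Lib.Helper58.Pinch
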