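/-
Helper library (helper58): Ferrand-type pinching: the pushout is locally of finite type over a
locally Noetherian base if the two pieces are and `i` is finite; joint surjectivity of the two
maps into the pushout.
-/
import Mathlib
import Groth.Agent.Lib.Helper58.PinchFlat
import Groth.Agent.Lib.Helper58.FibSqFT
import Groth.Agent.Lib.Helper58.JointSurj

set_option autoImplicit false
universe u

open AlgebraicGeometry CategoryTheory Limits

namespace Groth.Agent.Lib.Helper58.Pinch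

open Groth.Agent.Lib.Helper61 Groth.Agent.Lib.Helper58.UnionPushout
open Groth.Agent.Lib.Helper58.ClPushout
open Groth.Agent.Lib.Helper58.ClPushout.GoodPair

variable {X Y Z : Scheme.{u}} (i : Z ⟶ X) (j : Z ⟶ Y) [IsAffineHom i] [IsClosedImmersion j]
  [Enough i j]

/-- Every point of the pushout comes from `X` or from `Y`. -/
theorem mem_range_a_or_b (ξ : P i j) : ξ ∈ Set.range (a i j) ∨ ξ ∈ Set.range (b i j) := by
  obtain ⟨k, ξ', rfl⟩ := exists_chart_eq i j ξ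
  rcases exists_ax_or_by k ξ' with ⟨x, hx, rfl⟩ | ⟨y, hy, rfl, -, -⟩
  · exact Or.inl ⟨x, a_apply i j k x hx⟩
  · exact Or.inr ⟨y, b_apply i j k y hy⟩

/-- The points of a chart. -/
theorem mem_chartOpen_iff (k : GoodPair i j) (ξ : P i j) :
    ξ ∈ chartOpen i j k ↔ (∃ x ∈ k.U, a i j x = ξ) ∨ (∃ y ∈ k.V, b i j y = ξ) := by
  constructor
  · rintro ⟨ξ', rfl⟩
    rcases exists_ax_or_by k ξ' with ⟨x, hx, rfl⟩ | ⟨y, hy, rfl, -, -⟩
    · exact Or.inl ⟨x, hx, a_apply i j k x hx⟩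
    · exact Or.inr ⟨y, hy, b_apply i j k y hy⟩
  · rintro (⟨x, hx, rfl⟩ | ⟨y, hy, rfl⟩)
    · exact U_le i j k hx
    · exact V_le i j k hy

/-- Charts inside the preimage of an open of a scheme under the pushout. -/
theorem exists_chartOpen_le {S : Scheme.{u}} (r : P i j ⟶ S) (O : S.Opens) (ξ : P i j)
    (hξ : r ξ ∈ O) : ∃ k : GoodPair i j, ξ ∈ chartOpen i j k ∧ chartOpen i j k ≤ r ⁻¹ᵁ O := by
  have h₀ : i ⁻¹ᵁ ((a i j ≫ r) ⁻¹ᵁ O) = j ⁻¹ᵁ ((b i j ≫ r) ⁻¹ᵁ O) := by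
    ext z
    change (a i j ≫ r) (i z) ∈ O ↔ (b i j ≫ r) (j z) ∈ O
    rw [← Scheme.Hom.comp_apply, ← Scheme.Hom.comp_apply, ← Category.assoc, ← Category.assoc, comm]
  have hle : ∀ k : GoodPair i j, k.U ≤ (a i j ≫ r) ⁻¹ᵁ O → k.V ≤ (b i j ≫ r) ⁻¹ᵁ O →
      chartOpen i j k ≤ r ⁻¹ᵁ O := by
    intro k h1 h2 ζ hζ
    rcases (mem_chartOpen_iff i j k ζ).1 hζ with ⟨x, hx, rfl⟩ | ⟨y, hy, rfl⟩
    · exact h1 hx
    · exact h2 hy
  rcases mem_range_a_or_b i j ξ with ⟨x, rfl⟩ | ⟨y, rfl⟩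
  · obtain ⟨k, hk1, hk2, hk3⟩ := exists_goodPair_of_mem_X (i := i) (j := j) _ _ h₀ x hξ
    exact ⟨k, U_le i j k hk1, hle k hk2 hk3⟩
  · obtain ⟨k, hk1, hk2, hk3⟩ := exists_goodPair_of_mem_Y (i := i) (j := j) _ _ h₀ y hξ
    exact ⟨k, V_le i j k hk1, hle k hk2 hk3⟩

/-- The pushout is locally of finite type over a locally Noetherian base if the two pieces are
and `i` is finite. -/
theorem locallyOfFiniteType {S : Scheme.{u}} [IsLocallyNoetherian S] (r : P i j ⟶ S) [IsFinite i]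
    [LocallyOfFiniteType (a i j ≫ r)] [LocallyOfFiniteType (b i j ≫ r)] :
    LocallyOfFiniteType r := by
  rw [HasRingHomProperty.iff_exists_appLE (P := @LocallyOfFiniteType)
    (RingHom.finiteType_stableUnderComposition.stableUnderCompositionWithLocalizationAway
      RingHom.finiteType_holdsForLocalizationAway).1]
  intro ξ
  obtain ⟨_, ⟨US, hUS : IsAffineOpen US, rfl⟩, hξUS, -⟩ :=
    S.isBasis_affineOpens.exists_subset_of_mem_open (Set.mem_univ (r ξ)) isOpen_univ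
  obtain ⟨k, hξk, hkle⟩ := exists_chartOpen_le i j r US ξ hξUS
  refine ⟨⟨US, hUS⟩, ⟨chartOpen i j k, isAffineOpen_chartOpen i j k⟩, hξk, hkle, ?_⟩
  haveI : IsNoetherianRing Γ(S, US) := IsLocallyNoetherian.component_noetherian ⟨US, hUS⟩
  have eU : k.U ≤ (a i j ≫ r) ⁻¹ᵁ US := fun x hx => hkle (U_le i j k hx)
  have eV : k.V ≤ (b i j ≫ r) ⁻¹ᵁ US := fun y hy => hkle (V_le i j k hy)
  refine (fibSq_chart i j k).finiteType (r.appLE US (chartOpen i j k) hkle).hom ?_ ?_ ?_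
  · rw [← CommRingCat.hom_comp, Scheme.Hom.appLE_comp_appLE]
    exact HasRingHomProperty.appLE (P := @LocallyOfFiniteType) (a i j ≫ r) inferInstance
      ⟨US, hUS⟩ ⟨k.U, k.hU⟩ eU
  · rw [← CommRingCat.hom_comp, Scheme.Hom.appLE_comp_appLE]
    exact HasRingHomProperty.appLE (P := @LocallyOfFiniteType) (b i j ≫ r) inferInstance
      ⟨US, hUS⟩ ⟨k.V, k.hV⟩ eV
  · have : k.q = (i.app k.U).hom := by
      unfold q
      rw [Scheme.Hom.appLE_eq_app]
    rw [this]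
    exact IsFinite.finite_app i k.U k.hU

end Groth.Agent.Lib.Helper58.Pinch
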