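/-
Helper library (helper58): Ferrand-type pinching along an integral morphism: if `i : Z ⟶ X` is
integral, `j : Z ⟶ Y` is a closed immersion and every fibre of `i` is contained in the preimage
of an affine open of `Y`, then there are enough good affine pairs.
-/
import Mathlib
import Groth.Agent.Lib.Helper58.PinchProps
import Groth.Agent.Lib.Helper58.ClPushoutFinite
import Groth.Agent.Lib.Helper58.IntegralAvoid
import Groth.Agent.Lib.Helper58.FibSqInt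

set_option autoImplicit false
universe u

open AlgebraicGeometry CategoryTheory Limits

namespace Groth.Agent.Lib.Helper58.Pinch

open Groth.Agent.Lib.Helper61 Groth.Agent.Lib.Helper58.ClPushout
open Groth.Agent.Lib.Helper58.ClPushout.GoodPair

variable {X Y Z : Scheme.{u}} (i : Z ⟶ X) (j : Z ⟶ Y) [IsIntegralHom i] [IsClosedImmersion j]

theorem enough_of_integral
    (haff : ∀ x : X, ∃ V : Y.Opens, IsAffineOpen V ∧ i ⁻¹' {x} ⊆ j ⁻¹' (V : Set Y)) :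
    Enough i j := by
  constructor
  intro U₀ V₀ h₀ x hx
  obtain ⟨VY, hVY, hfib⟩ := haff x
  have hjinj : Function.Injective j := (Scheme.Hom.isClosedEmbedding j).injective
  -- Stage A: shrink `X`
  have hK₁ : IsClosed (i '' ((j ⁻¹ᵁ (VY ⊓ V₀) : Set Z)ᶜ)) :=
    i.isClosedMap _ (j ⁻¹ᵁ (VY ⊓ V₀)).isOpen.isClosed_compl
  have hxK₁ : x ∉ i '' ((j ⁻¹ᵁ (VY ⊓ V₀) : Set Z)ᶜ) := by
    rintro ⟨z, hz, rfl⟩
    apply hz
    refine ⟨hfib rfl, ?_⟩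
    have : z ∈ i ⁻¹ᵁ U₀ := hx
    rw [h₀] at this
    exact this
  obtain ⟨_, ⟨U₁, hU₁ : IsAffineOpen U₁, rfl⟩, hxU₁, hU₁le⟩ :=
    X.isBasis_affineOpens.exists_subset_of_mem_open
      (show x ∈ (U₀ : Set X) ∩ (i '' ((j ⁻¹ᵁ (VY ⊓ V₀) : Set Z)ᶜ))ᶜ from ⟨hx, hxK₁⟩)
      (U₀.isOpen.inter hK₁.isOpen_compl)
  have hW₁le : i ⁻¹ᵁ U₁ ≤ j ⁻¹ᵁ (VY ⊓ V₀) := by
    intro z hz
    by_contra hn
    exact (hU₁le hz).2 ⟨z, hn, rfl⟩
  have hW₁ : IsAffineOpen (i ⁻¹ᵁ U₁) := hU₁.preimage i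
  have e₁ : i ⁻¹ᵁ U₁ ≤ j ⁻¹ᵁ VY := fun z hz => (hW₁le hz).1
  -- Stage B: a function on `VY`
  letI : Algebra Γ(X, U₁) Γ(Z, i ⁻¹ᵁ U₁) := (i.app U₁).hom.toAlgebra
  haveI : Algebra.IsIntegral Γ(X, U₁) Γ(Z, i ⁻¹ᵁ U₁) := ⟨IsIntegralHom.isIntegral_app i U₁ hU₁⟩
  let φ : Γ(Y, VY) →+* Γ(Z, i ⁻¹ᵁ U₁) := (j.appLE VY (i ⁻¹ᵁ U₁) e₁).hom
  let p : PrimeSpectrum Γ(X, U₁) := hU₁.primeIdealOf ⟨x, hxU₁⟩
  let SY : Set Y := (V₀ : Set Y)ᶜ ∪ j '' ((i ⁻¹ᵁ U₁ : Set Z)ᶜ)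
  have hSY : IsClosed SY := V₀.isOpen.isClosed_compl.union
    ((Scheme.Hom.isClosedEmbedding j).isClosedMap _ (i ⁻¹ᵁ U₁).isOpen.isClosed_compl)
  let S : Set (PrimeSpectrum Γ(Y, VY)) := hVY.fromSpec ⁻¹' SY
  have hS : IsClosed S := hSY.preimage hVY.fromSpec.continuous
  let J : Ideal Γ(Y, VY) := PrimeSpectrum.vanishingIdeal S
  -- points of `W₁` and primes
  have hpt : ∀ q : PrimeSpectrum Γ(Z, i ⁻¹ᵁ U₁),
      j (hW₁.fromSpec q) = hVY.fromSpec (PrimeSpectrum.comap φ q) := by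
    intro q
    change _ = hVY.fromSpec (Spec.map (j.appLE VY (i ⁻¹ᵁ U₁) e₁) q)
    rw [← Scheme.Hom.comp_apply, ← Scheme.Hom.comp_apply,
      IsAffineOpen.SpecMap_appLE_fromSpec j hVY hW₁ e₁]
  have hpt' : ∀ q : PrimeSpectrum Γ(Z, i ⁻¹ᵁ U₁),
      i (hW₁.fromSpec q) =
        hU₁.fromSpec (PrimeSpectrum.comap (algebraMap Γ(X, U₁) Γ(Z, i ⁻¹ᵁ U₁)) q) := by
    intro q
    have : (algebraMap Γ(X, U₁) Γ(Z, i ⁻¹ᵁ U₁)) = (i.appLE U₁ (i ⁻¹ᵁ U₁) le_rfl).hom := by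
      rw [Scheme.Hom.appLE_eq_app]
      rfl
    rw [this]
    change _ = hU₁.fromSpec (Spec.map (i.appLE U₁ (i ⁻¹ᵁ U₁) le_rfl) q)
    rw [← Scheme.Hom.comp_apply, ← Scheme.Hom.comp_apply,
      IsAffineOpen.SpecMap_appLE_fromSpec i hU₁ hW₁ le_rfl]
  have hmemW : ∀ q : PrimeSpectrum Γ(Z, i ⁻¹ᵁ U₁), hW₁.fromSpec q ∈ i ⁻¹ᵁ U₁ := by
    intro q
    have : hW₁.fromSpec q ∈ Set.range hW₁.fromSpec := ⟨q, rfl⟩
    rwa [hW₁.range_fromSpec] at this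
  have hJ : ∀ q : PrimeSpectrum Γ(Z, i ⁻¹ᵁ U₁),
      PrimeSpectrum.comap (algebraMap Γ(X, U₁) Γ(Z, i ⁻¹ᵁ U₁)) q = p →
      ∃ f ∈ J, φ f ∉ q.asIdeal := by
    intro q hq
    have hnS : PrimeSpectrum.comap φ q ∉ S := by
      change hVY.fromSpec (PrimeSpectrum.comap φ q) ∉ SY
      rw [← hpt]
      rintro (h1 | ⟨z', hz', e⟩)
      · exact h1 (hW₁le (hmemW q)).2
      · rw [hjinj e] at hz'
        exact hz' (hmemW q)
    rw [← hS.closure_eq, ← PrimeSpectrum.zeroLocus_vanishingIdeal_eq_closure,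
      PrimeSpectrum.mem_zeroLocus, Set.not_subset] at hnS
    obtain ⟨f, hfJ, hf⟩ := hnS
    exact ⟨f, hfJ, hf⟩
  obtain ⟨f, hfJ, hf⟩ := IntegralAvoid.exists_mem_forall_notMem φ p J hJ
  -- properties of `V₂ = D(f)`
  have hV₂ : IsAffineOpen (Y.basicOpen f) := hVY.basicOpen f
  have hfS : ∀ y (hy : y ∈ VY), y ∈ SY → y ∉ Y.basicOpen f := by
    intro y hy hyS hyf
    have h1 : hVY.primeIdealOf ⟨y, hy⟩ ∈ S := by
      change hVY.fromSpec _ ∈ SY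
      rw [hVY.fromSpec_primeIdealOf]
      exact hyS
    exact (mem_basicOpen_iff_notMem_primeIdealOf hVY f y hy).1 hyf
      ((PrimeSpectrum.mem_vanishingIdeal _ _).1 hfJ _ h1)
  have hV₂V₀ : Y.basicOpen f ≤ V₀ := by
    intro y hy
    by_contra hn
    exact hfS y (Y.basicOpen_le f hy) (Or.inl hn) hy
  have hV₂W₁ : j ⁻¹ᵁ (Y.basicOpen f) ≤ i ⁻¹ᵁ U₁ := by
    intro z hz
    by_contra hn
    exact hfS (j z) (Y.basicOpen_le f hz) (Or.inr ⟨z, hn, rfl⟩) hz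
  have hfibV₂ : ∀ z : Z, i z = x → j z ∈ Y.basicOpen f := by
    intro z hz
    have hzW : z ∈ i ⁻¹ᵁ U₁ := by
      change i z ∈ U₁
      rw [hz]
      exact hxU₁
    let q := hW₁.primeIdealOf ⟨z, hzW⟩
    have hqz : hW₁.fromSpec q = z := hW₁.fromSpec_primeIdealOf ⟨z, hzW⟩
    have hq : PrimeSpectrum.comap (algebraMap Γ(X, U₁) Γ(Z, i ⁻¹ᵁ U₁)) q = p := by
      apply hU₁.fromSpec.isOpenEmbedding.injective
      rw [← hpt', hqz, hU₁.fromSpec_primeIdealOf]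
      exact hz
    have h1 := hf q hq
    have h2 : j z = hVY.fromSpec (PrimeSpectrum.comap φ q) := by rw [← hpt, hqz]
    rw [h2]
    have h3 : PrimeSpectrum.comap φ q ∈ PrimeSpectrum.basicOpen f := h1
    rw [← hVY.fromSpec_preimage_basicOpen] at h3
    exact h3
  -- Stage C: shrink `X` again
  have hK₂ : IsClosed (i '' ((j ⁻¹ᵁ (Y.basicOpen f) : Set Z)ᶜ)) :=
    i.isClosedMap _ (j ⁻¹ᵁ (Y.basicOpen f)).isOpen.isClosed_compl
  have hxK₂ : x ∉ i '' ((j ⁻¹ᵁ (Y.basicOpen f) : Set Z)ᶜ) := by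
    rintro ⟨z, hz, hzx⟩
    exact hz (hfibV₂ z hzx)
  let O₂ : X.Opens := ⟨(i '' ((j ⁻¹ᵁ (Y.basicOpen f) : Set Z)ᶜ))ᶜ, hK₂.isOpen_compl⟩
  obtain ⟨g, hg1, hg2⟩ := hU₁.exists_basicOpen_le (V := O₂) ⟨x, hxK₂⟩ hxU₁
  have hU₂ : IsAffineOpen (X.basicOpen g) := hU₁.basicOpen g
  have hW₂le : i ⁻¹ᵁ (X.basicOpen g) ≤ j ⁻¹ᵁ (Y.basicOpen f) := by
    intro z hz
    by_contra hn
    exact hg1 hz ⟨z, hn, rfl⟩
  have eW₂ : i ⁻¹ᵁ (X.basicOpen g) = Z.basicOpen (i.app U₁ g) := Scheme.preimage_basicOpen i g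
  obtain ⟨h, hh⟩ := j.app_surjective (Y.basicOpen f) hV₂
    (Z.presheaf.map (homOfLE hV₂W₁).op (i.app U₁ g))
  have hV₃ : IsAffineOpen (Y.basicOpen h) := hV₂.basicOpen h
  have eV₃ : i ⁻¹ᵁ (X.basicOpen g) = j ⁻¹ᵁ (Y.basicOpen h) := by
    rw [Scheme.preimage_basicOpen j h, hh, Scheme.basicOpen_res, ← eW₂]
    exact (inf_eq_right.mpr hW₂le).symm
  refine ⟨⟨X.basicOpen g, Y.basicOpen h, hU₂, hV₃, eV₃⟩, hg2, ?_, ?_⟩
  · exact (X.basicOpen_le g).trans (fun y hy => (hU₁le hy).1)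
  · exact (Y.basicOpen_le h).trans hV₂V₀

omit [IsIntegralHom i] in
/-- If `i` is integral, so is `b`. -/
theorem isIntegralHom_b [IsIntegralHom i] [Enough i j] : IsIntegralHom (b i j) := by
  refine IsZariskiLocalAtTarget.of_openCover (P := @IsIntegralHom) (chartCover i j) ?_
  intro k
  change IsIntegralHom (pullback.snd (b i j) (chart i j k))
  rw [← (isPullback_b i j k).flip.isoPullback_inv_snd]
  have : IsIntegralHom k.bS := by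
    change IsIntegralHom (Spec.map (CommRingCat.ofHom (FP.snd k.q k.p)))
    rw [IsIntegralHom.SpecMap_iff]
    refine k.fibSq.s_isIntegral ?_
    have : k.q = (i.app k.U).hom := by
      unfold q
      rw [Scheme.Hom.appLE_eq_app]
    rw [this]
    exact IsIntegralHom.isIntegral_app i k.U k.hU
  infer_instance

end Groth.Agent.Lib.Helper58.Pinch
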