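/-
Helper library (helper58): Ferrand-type pinching: properties of an arbitrary pushout of an affine
morphism `i : Z ⟶ X` and a closed immersion `j : Z ⟶ Y` (when there are enough good affine pairs),
transported from the constructed pushout.
-/
import Mathlib
import Groth.Agent.Lib.Helper58.PinchFT
import Groth.Agent.Lib.Helper58.PinchIntegral

set_option autoImplicit false
universe u

open AlgebraicGeometry CategoryTheory Limits

namespace Groth.Agent.Lib.Helper58.Pinch

variable {X Y Z P₀ : Scheme.{u}} (i : Z ⟶ X) (j : Z ⟶ Y) [IsAffineHom i] [IsClosedImmersion j]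
  [Enough i j] (a₀ : X ⟶ P₀) (b₀ : Y ⟶ P₀) (hP : IsPushout i j a₀ b₀)

include hP in
theorem exists_iso_of_isPushout :
    ∃ e : P₀ ≅ P i j, a₀ ≫ e.hom = a i j ∧ b₀ ≫ e.hom = b i j :=
  ⟨hP.isoIsPushout _ _ (isPushout i j), hP.inl_isoIsPushout_hom _ _ _,
    hP.inr_isoIsPushout_hom _ _ _⟩

include hP in
theorem mem_range_or_of_isPushout (ξ : P₀) : ξ ∈ Set.range a₀ ∨ ξ ∈ Set.range b₀ := by
  obtain ⟨e, ha, hb⟩ := exists_iso_of_isPushout i j a₀ b₀ hP
  have hinj : Function.Injective e.hom := by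
    intro x y hxy
    have := congrArg e.inv hxy
    rwa [← Scheme.Hom.comp_apply, ← Scheme.Hom.comp_apply, e.hom_inv_id] at this
  rcases mem_range_a_or_b i j (e.hom ξ) with ⟨x, hx⟩ | ⟨y, hy⟩
  · left
    refine ⟨x, hinj ?_⟩
    rw [← Scheme.Hom.comp_apply, ha]
    exact hx
  · right
    refine ⟨y, hinj ?_⟩
    rw [← Scheme.Hom.comp_apply, hb]
    exact hy

include hP in
theorem isClosedImmersion_of_isPushout : IsClosedImmersion a₀ := by
  obtain ⟨e, ha, -⟩ := exists_iso_of_isPushout i j a₀ b₀ hP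
  have : a₀ = a i j ≫ e.inv := by rw [Iso.eq_comp_inv]; exact ha
  rw [this]
  infer_instance

include hP in
theorem isAffineHom_of_isPushout : IsAffineHom b₀ := by
  obtain ⟨e, -, hb⟩ := exists_iso_of_isPushout i j a₀ b₀ hP
  have : b₀ = b i j ≫ e.inv := by rw [Iso.eq_comp_inv]; exact hb
  rw [this]
  infer_instance

include hP in
theorem isFinite_of_isPushout [IsFinite i] : IsFinite b₀ := by
  obtain ⟨e, -, hb⟩ := exists_iso_of_isPushout i j a₀ b₀ hP
  have : b₀ = b i j ≫ e.inv := by rw [Iso.eq_comp_inv]; exact hb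
  rw [this]
  haveI := isFinite_b i j
  infer_instance

include hP in
theorem isPullback_of_isPushout : IsPullback i j a₀ b₀ := by
  obtain ⟨e, ha, hb⟩ := exists_iso_of_isPushout i j a₀ b₀ hP
  refine IsPullback.of_iso (isPullback i j) (Iso.refl _) (Iso.refl _) (Iso.refl _) e.symm ?_ ?_ ?_ ?_
  · simp
  · simp
  · simp [← ha]
  · simp [← hb]

include hP in
theorem locallyOfFiniteType_of_isPushout {S : Scheme.{u}} [IsLocallyNoetherian S] (r : P₀ ⟶ S)
    [IsFinite i] [LocallyOfFiniteType (a₀ ≫ r)] [LocallyOfFiniteType (b₀ ≫ r)] :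
    LocallyOfFiniteType r := by
  obtain ⟨e, ha, hb⟩ := exists_iso_of_isPushout i j a₀ b₀ hP
  have h1 : a i j ≫ e.inv ≫ r = a₀ ≫ r := by rw [← ha, Category.assoc, Iso.hom_inv_id_assoc]
  have h2 : b i j ≫ e.inv ≫ r = b₀ ≫ r := by rw [← hb, Category.assoc, Iso.hom_inv_id_assoc]
  haveI : LocallyOfFiniteType (a i j ≫ e.inv ≫ r) := by rw [h1]; infer_instance
  haveI : LocallyOfFiniteType (b i j ≫ e.inv ≫ r) := by rw [h2]; infer_instance
  have := locallyOfFiniteType i j (e.inv ≫ r)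
  have hr : r = e.hom ≫ e.inv ≫ r := by rw [Iso.hom_inv_id_assoc]
  rw [hr]
  infer_instance

end Groth.Agent.Lib.Helper58.Pinch

namespace Groth.Agent.Lib.Helper58.Pinch

variable {X Y Z P₀ : Scheme.{u}} (i : Z ⟶ X) (j : Z ⟶ Y) [IsIntegralHom i] [IsClosedImmersion j]
  [Enough i j] (a₀ : X ⟶ P₀) (b₀ : Y ⟶ P₀) (hP : IsPushout i j a₀ b₀)

include hP in
theorem isIntegralHom_of_isPushout : IsIntegralHom b₀ := by
  obtain ⟨e, -, hb⟩ := exists_iso_of_isPushout i j a₀ b₀ hP
  have : b₀ = b i j ≫ e.inv := by rw [Iso.eq_comp_inv]; exact hb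
  rw [this]
  haveI := isIntegralHom_b i j
  infer_instance

end Groth.Agent.Lib.Helper58.Pinch
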