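/-
Helper library (helper58): flatness of a Ferrand-type pinching over a base, and commutation of the
pinching with arbitrary base change when the glued locus is flat over the base (or when the
cokernel of `O_X → i_* O_Z` is flat over the base).
-/
import Mathlib
import Groth.Agent.Lib.Helper58.PinchBC
import Groth.Agent.Lib.Helper58.PinchFT
import Groth.Agent.Lib.Helper58.PinchTransport
import Groth.Agent.Lib.Helper89.FlatKer

set_option autoImplicit false
universe u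

open AlgebraicGeometry CategoryTheory Limits

namespace Groth.Agent.Lib.Helper58.Pinch

open Groth.Agent.Lib.Helper61 Groth.Agent.Lib.Helper58.UnionPushout
open Groth.Agent.Lib.Helper58.FibSqFlat Groth.Agent.Lib.Helper58.LocalPushout
open Groth.Agent.Lib.Helper58.ClPushout
open Groth.Agent.Lib.Helper58.ClPushout.GoodPair

/-- In a Milnor square over a base ring `R`, if `B`, `A'` and `A` are flat over `R` then so is
`C`. -/
theorem _root_.Groth.Agent.Lib.Helper61.FibSq.flat {R C B A' A : Type u} [CommRing R] [CommRing C]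
    [CommRing B] [CommRing A'] [CommRing A] {f : C →+* B} {s : C →+* A'} {q : B →+* A}
    {p : A' →+* A} (h : FibSq f s q p) (ρ₀ : R →+* C) (hB : (f.comp ρ₀).Flat)
    (hA' : (s.comp ρ₀).Flat) (hA : ((q.comp f).comp ρ₀).Flat) : ρ₀.Flat := by
  letI : Algebra R C := ρ₀.toAlgebra
  letI : Algebra R B := (f.comp ρ₀).toAlgebra
  letI : Algebra R A' := (s.comp ρ₀).toAlgebra
  letI : Algebra R A := ((q.comp f).comp ρ₀).toAlgebra
  haveI : Module.Flat R B := hB
  haveI : Module.Flat R A' := hA'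
  haveI : Module.Flat R A := hA
  haveI : Module.Flat R (B × A') := Groth.Agent.Lib.Helper89.flat_prod R B A'
  let fa : C →ₐ[R] B := ⟨f, fun r => rfl⟩
  let sa : C →ₐ[R] A' := ⟨s, fun r => rfl⟩
  let qa : B →ₐ[R] A := ⟨q, fun r => rfl⟩
  let pa : A' →ₐ[R] A := ⟨p, fun r => (h.comm (ρ₀ r)).symm⟩
  let ι : C →ₗ[R] B × A' := LinearMap.inl R B A' ∘ₗ fa.toLinearMap +
    LinearMap.inr R B A' ∘ₗ sa.toLinearMap
  let δ : B × A' →ₗ[R] A :=
    qa.toLinearMap ∘ₗ LinearMap.fst R B A' - pa.toLinearMap ∘ₗ LinearMap.snd R B A'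
  have hι : ∀ c, ι c = (f c, s c) := by
    intro c
    change ((f c, 0) : B × A') + (0, s c) = _
    simp
  have hδ : Function.Surjective δ := by
    intro a
    obtain ⟨a', ha'⟩ := h.surj a
    refine ⟨(0, -a'), ?_⟩
    change q 0 - p (-a') = a
    rw [map_zero, map_neg, zero_sub, neg_neg]
    exact ha'
  have hιinj : Function.Injective ι := by
    intro c c' hcc
    rw [hι, hι] at hcc
    exact h.inj c c' (congrArg Prod.fst hcc) (congrArg Prod.snd hcc)
  have hex : Function.Exact ι δ := by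
    intro y
    constructor
    · intro hy
      have hy' : q y.1 - p y.2 = 0 := hy
      obtain ⟨c, h1, h2⟩ := h.lift y.1 y.2 (sub_eq_zero.1 hy')
      exact ⟨c, by rw [hι]; exact Prod.ext h1 h2⟩
    · rintro ⟨c, rfl⟩
      rw [hι]
      change q (f c) - p (s c) = 0
      exact sub_eq_zero.2 (h.comm c)
  exact Groth.Agent.Lib.Helper89.flat_of_exact_of_flat R C (B × A') A ι δ hιinj hδ hex

variable {X Y Z : Scheme.{u}} (i : Z ⟶ X) (j : Z ⟶ Y) [IsAffineHom i] [IsClosedImmersion j]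
  [Enough i j]

/-- The pinching is flat over a base as soon as the two pieces and the glued locus are. -/
theorem flat_of_flat {S : Scheme.{u}} (r : P i j ⟶ S) [Flat (a i j ≫ r)] [Flat (b i j ≫ r)]
    [Flat (i ≫ a i j ≫ r)] : Flat r := by
  rw [HasRingHomProperty.iff_exists_appLE (P := @Flat)
    (RingHom.Flat.stableUnderComposition.stableUnderCompositionWithLocalizationAway
      RingHom.Flat.holdsForLocalizationAway).1]
  intro ξ
  obtain ⟨_, ⟨US, hUS : IsAffineOpen US, rfl⟩, hξUS, -⟩ :=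
    S.isBasis_affineOpens.exists_subset_of_mem_open (Set.mem_univ (r ξ)) isOpen_univ
  obtain ⟨k, hξk, hkle⟩ := exists_chartOpen_le i j r US ξ hξUS
  refine ⟨⟨US, hUS⟩, ⟨chartOpen i j k, isAffineOpen_chartOpen i j k⟩, hξk, hkle, ?_⟩
  have eU : k.U ≤ (a i j ≫ r) ⁻¹ᵁ US := fun x hx => hkle (U_le i j k hx)
  have eV : k.V ≤ (b i j ≫ r) ⁻¹ᵁ US := fun y hy => hkle (V_le i j k hy)
  have eW : k.W ≤ (i ≫ a i j ≫ r) ⁻¹ᵁ US := fun z hz => eU hz
  refine (fibSq_chart i j k).flat (r.appLE US (chartOpen i j k) hkle).hom ?_ ?_ ?_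
  · rw [← CommRingCat.hom_comp, Scheme.Hom.appLE_comp_appLE]
    exact HasRingHomProperty.appLE (P := @Flat) (a i j ≫ r) inferInstance
      ⟨US, hUS⟩ ⟨k.U, k.hU⟩ eU
  · rw [← CommRingCat.hom_comp, Scheme.Hom.appLE_comp_appLE]
    exact HasRingHomProperty.appLE (P := @Flat) (b i j ≫ r) inferInstance
      ⟨US, hUS⟩ ⟨k.V, k.hV⟩ eV
  · have : (k.q.comp ((a i j).appLE (chartOpen i j k) k.U (U_le i j k)).hom).comp
        (r.appLE US (chartOpen i j k) hkle).hom = ((i ≫ a i j ≫ r).appLE US k.W eW).hom := by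
      change ((r.appLE US (chartOpen i j k) hkle ≫
        (a i j).appLE (chartOpen i j k) k.U (U_le i j k)) ≫ i.appLE k.U k.W le_rfl).hom = _
      rw [Scheme.Hom.appLE_comp_appLE, Scheme.Hom.appLE_comp_appLE]
    rw [this]
    exact HasRingHomProperty.appLE (P := @Flat) (i ≫ a i j ≫ r) inferInstance
      ⟨US, hUS⟩ ⟨k.W, W_isAffineOpen k⟩ eW

section BaseChange

variable {Q X' Y' Z' : Scheme.{u}} (π : Q ⟶ P i j)
  (πX : X' ⟶ X) (a' : X' ⟶ Q) (hX : IsPullback πX a' (a i j) π)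
  (πY : Y' ⟶ Y) (b' : Y' ⟶ Q) (hY : IsPullback πY b' (b i j) π)
  (πZ : Z' ⟶ Z) (i' : Z' ⟶ X') (hZ : IsPullback πZ i' i πX)
  (j' : Z' ⟶ Y') (w' : i' ≫ a' = j' ≫ b') (wj : j' ≫ πY = πZ ≫ j)
  {S S' : Scheme.{u}} (r : P i j ⟶ S) (g : S' ⟶ S) (ρ : Q ⟶ S') (hQ : IsPullback π ρ r g)

include hX hY hZ w' wj hQ in
/-- The pinching commutes with arbitrary base change when the glued locus is flat over the
base. -/
theorem isPushout_of_flat_corner [Flat (i ≫ a i j ≫ r)] : IsPushout i' j' a' b' := by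
  refine isPushout_of_univInj i j π πX a' hX πY b' hY πZ i' hZ j' w' wj r g ρ hQ fun ξ => ?_
  obtain ⟨_, ⟨US, hUS : IsAffineOpen US, rfl⟩, hξUS, -⟩ :=
    S.isBasis_affineOpens.exists_subset_of_mem_open (Set.mem_univ (r ξ)) isOpen_univ
  obtain ⟨k, hξk, hkle⟩ := exists_chartOpen_le i j r US ξ hξUS
  refine ⟨k, US, hkle, hUS, hξk, ?_⟩
  have eW : k.W ≤ (i ≫ a i j ≫ r) ⁻¹ᵁ US := fun z hz => hkle (U_le i j k hz)
  refine univInj_of_flat_corner (q := CommRingCat.ofHom k.q) (p := CommRingCat.ofHom k.p)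
    (fibSq_chart i j k) _ ?_
  have : r.appLE US (chartOpen i j k) hkle ≫
      (a i j).appLE (chartOpen i j k) k.U (U_le i j k) ≫ CommRingCat.ofHom k.q =
      (i ≫ a i j ≫ r).appLE US k.W eW := by
    change r.appLE US (chartOpen i j k) hkle ≫
      (a i j).appLE (chartOpen i j k) k.U (U_le i j k) ≫ i.appLE k.U k.W le_rfl = _
    rw [Scheme.Hom.appLE_comp_appLE, Scheme.Hom.appLE_comp_appLE]
    rfl
  rw [this]
  exact HasRingHomProperty.appLE (P := @Flat) (i ≫ a i j ≫ r) inferInstance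
    ⟨US, hUS⟩ ⟨k.W, W_isAffineOpen k⟩ eW


omit [IsAffineHom i] [IsClosedImmersion j] [Enough i j] in
/-- The condition, for a good pair `k` and an affine open `US` of the base, that `k` lies over
`US`, that `Γ(X, U) → Γ(Z, W)` is injective and that its cokernel is flat over `Γ(S, US)`. -/
def CokerFlatAt {S : Scheme.{u}} (rX : X ⟶ S) (rY : Y ⟶ S) (k : GoodPair i j) (US : S.Opens) :
    Prop :=
  IsAffineOpen US ∧ k.V ≤ rY ⁻¹ᵁ US ∧ Function.Injective k.q ∧
    ∃ (hU : k.U ≤ rX ⁻¹ᵁ US) (ψ : Γ(S, US) ⟶ Γ(Z, k.W)),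
      ψ = rX.appLE US k.U hU ≫ i.appLE k.U k.W le_rfl ∧
      (letI := ψ.hom.toAlgebra
       Module.Flat Γ(S, US) (Γ(Z, k.W) ⧸ Submodule.span Γ(S, US) (Set.range k.q)))

include hX hY hZ w' wj hQ in
/-- The pinching commutes with arbitrary base change when, locally, `O_X → i_* O_Z` is injective
with cokernel flat over the base. -/
theorem isPushout_of_flat_coker (rX : X ⟶ S) (rY : Y ⟶ S) (hrX : a i j ≫ r = rX)
    (hrY : b i j ≫ r = rY)
    (hlocX : ∀ x : X, ∃ (k : GoodPair i j) (US : S.Opens), x ∈ k.U ∧ CokerFlatAt i j rX rY k US)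
    (hlocY : ∀ y : Y, ∃ (k : GoodPair i j) (US : S.Opens), y ∈ k.V ∧ CokerFlatAt i j rX rY k US) :
    IsPushout i' j' a' b' := by
  subst hrX hrY
  have key : ∀ (k : GoodPair i j) (US : S.Opens),
      CokerFlatAt i j (a i j ≫ r) (b i j ≫ r) k US →
      ∃ hle : chartOpen i j k ≤ r ⁻¹ᵁ US, IsAffineOpen US ∧
        UnivInj (r.appLE US (chartOpen i j k) hle)
          ((a i j).appLE (chartOpen i j k) k.U (U_le i j k))
          ((b i j).appLE (chartOpen i j k) k.V (V_le i j k)) := by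
    rintro k US ⟨hUS, hV, hq, hU, ψ, hψ, hflat⟩
    have hle : chartOpen i j k ≤ r ⁻¹ᵁ US := by
      intro ζ hζ
      rcases (mem_chartOpen_iff i j k ζ).1 hζ with ⟨x, hx, rfl⟩ | ⟨y, hy, rfl⟩
      · exact hU hx
      · exact hV hy
    refine ⟨hle, hUS, ?_⟩
    refine univInj_of_flat_coker (q := CommRingCat.ofHom k.q) (p := CommRingCat.ofHom k.p)
      (fibSq_chart i j k) hq _ ψ ?_ hflat
    rw [hψ]
    change _ = r.appLE US (chartOpen i j k) hle ≫
      (a i j).appLE (chartOpen i j k) k.U (U_le i j k) ≫ i.appLE k.U k.W le_rfl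
    simp only [Scheme.Hom.appLE_comp_appLE, Category.assoc]
  refine isPushout_of_univInj i j π πX a' hX πY b' hY πZ i' hZ j' w' wj r g ρ hQ fun ξ => ?_
  rcases mem_range_a_or_b i j ξ with ⟨x, rfl⟩ | ⟨y, rfl⟩
  · obtain ⟨k, US, hx, hc⟩ := hlocX x
    obtain ⟨hle, hUS, huniv⟩ := key k US hc
    exact ⟨k, US, hle, hUS, U_le i j k hx, huniv⟩
  · obtain ⟨k, US, hy, hc⟩ := hlocY y
    obtain ⟨hle, hUS, huniv⟩ := key k US hc
    exact ⟨k, US, hle, hUS, V_le i j k hy, huniv⟩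

end BaseChange

section Abstract

variable {P₀ : Scheme.{u}} (a₀ : X ⟶ P₀) (b₀ : Y ⟶ P₀) (hP : IsPushout i j a₀ b₀)

include hP in
/-- An arbitrary pushout of an affine morphism and a closed immersion (with enough good pairs) is
flat over a base as soon as the two pieces and the glued locus are. -/
theorem flat_of_flat' {S : Scheme.{u}} (r₀ : P₀ ⟶ S) [Flat (a₀ ≫ r₀)] [Flat (b₀ ≫ r₀)]
    [Flat (i ≫ a₀ ≫ r₀)] : Flat r₀ := by
  let e : P₀ ≅ P i j := hP.isoIsPushout _ _ (isPushout i j)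
  have he₁ : a₀ ≫ e.hom = a i j := hP.inl_isoIsPushout_hom _ _ _
  have he₂ : b₀ ≫ e.hom = b i j := hP.inr_isoIsPushout_hom _ _ _
  have h1 : a i j ≫ e.inv ≫ r₀ = a₀ ≫ r₀ := by
    rw [← he₁, Category.assoc, e.hom_inv_id_assoc]
  have h2 : b i j ≫ e.inv ≫ r₀ = b₀ ≫ r₀ := by
    rw [← he₂, Category.assoc, e.hom_inv_id_assoc]
  haveI : Flat (a i j ≫ e.inv ≫ r₀) := by rw [h1]; infer_instance
  haveI : Flat (b i j ≫ e.inv ≫ r₀) := by rw [h2]; infer_instance
  haveI : Flat (i ≫ a i j ≫ e.inv ≫ r₀) := by rw [h1]; infer_instance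
  haveI : Flat (e.inv ≫ r₀) := flat_of_flat i j (e.inv ≫ r₀)
  have : r₀ = e.hom ≫ e.inv ≫ r₀ := by rw [e.hom_inv_id_assoc]
  rw [this]
  infer_instance

variable {Q X' Y' Z' : Scheme.{u}} (π : Q ⟶ P₀)
  (πX : X' ⟶ X) (a' : X' ⟶ Q) (hX : IsPullback πX a' a₀ π)
  (πY : Y' ⟶ Y) (b' : Y' ⟶ Q) (hY : IsPullback πY b' b₀ π)
  (πZ : Z' ⟶ Z) (i' : Z' ⟶ X') (hZ : IsPullback πZ i' i πX)
  (j' : Z' ⟶ Y') (w' : i' ≫ a' = j' ≫ b') (wj : j' ≫ πY = πZ ≫ j)
  {S S' : Scheme.{u}} (r₀ : P₀ ⟶ S) (g : S' ⟶ S) (ρ : Q ⟶ S') (hQ : IsPullback π ρ r₀ g)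

include hP hX hY hZ w' wj hQ in
/-- An arbitrary pushout of an affine morphism and a closed immersion (with enough good pairs)
commutes with arbitrary base change when the glued locus is flat over the base. -/
theorem isPushout_of_flat_corner' [Flat (i ≫ a₀ ≫ r₀)] : IsPushout i' j' a' b' := by
  let e : P₀ ≅ P i j := hP.isoIsPushout _ _ (isPushout i j)
  have he₁ : a₀ ≫ e.hom = a i j := hP.inl_isoIsPushout_hom _ _ _
  have he₂ : b₀ ≫ e.hom = b i j := hP.inr_isoIsPushout_hom _ _ _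
  have h1 : a i j ≫ e.inv ≫ r₀ = a₀ ≫ r₀ := by
    rw [← he₁, Category.assoc, e.hom_inv_id_assoc]
  haveI : Flat (i ≫ a i j ≫ e.inv ≫ r₀) := by rw [h1]; infer_instance
  have hX' : IsPullback πX a' (a i j) (π ≫ e.hom) :=
    hX.of_iso (Iso.refl _) (Iso.refl _) (Iso.refl _) e (by simp) (by simp) (by simpa using he₁)
      (by simp)
  have hY' : IsPullback πY b' (b i j) (π ≫ e.hom) :=
    hY.of_iso (Iso.refl _) (Iso.refl _) (Iso.refl _) e (by simp) (by simp) (by simpa using he₂)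
      (by simp)
  have hQ' : IsPullback (π ≫ e.hom) ρ (e.inv ≫ r₀) g :=
    hQ.of_iso (Iso.refl _) e (Iso.refl _) (Iso.refl _) (by simp) (by simp) (by simp) (by simp)
  exact isPushout_of_flat_corner i j (π ≫ e.hom) πX a' hX' πY b' hY' πZ i' hZ j' w' wj
    (e.inv ≫ r₀) g ρ hQ'

include hP hX hY hZ w' wj hQ in
/-- An arbitrary pushout of an affine morphism and a closed immersion (with enough good pairs)
commutes with arbitrary base change when, locally, `O_X → i_* O_Z` is injective with cokernel flat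
over the base. -/
theorem isPushout_of_flat_coker' (rX : X ⟶ S) (rY : Y ⟶ S) (hrX : a₀ ≫ r₀ = rX)
    (hrY : b₀ ≫ r₀ = rY)
    (hlocX : ∀ x : X, ∃ (k : GoodPair i j) (US : S.Opens), x ∈ k.U ∧ CokerFlatAt i j rX rY k US)
    (hlocY : ∀ y : Y, ∃ (k : GoodPair i j) (US : S.Opens), y ∈ k.V ∧ CokerFlatAt i j rX rY k US) :
    IsPushout i' j' a' b' := by
  let e : P₀ ≅ P i j := hP.isoIsPushout _ _ (isPushout i j)
  have he₁ : a₀ ≫ e.hom = a i j := hP.inl_isoIsPushout_hom _ _ _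
  have he₂ : b₀ ≫ e.hom = b i j := hP.inr_isoIsPushout_hom _ _ _
  have h1 : a i j ≫ e.inv ≫ r₀ = rX := by
    rw [← he₁, Category.assoc, e.hom_inv_id_assoc, hrX]
  have h2 : b i j ≫ e.inv ≫ r₀ = rY := by
    rw [← he₂, Category.assoc, e.hom_inv_id_assoc, hrY]
  have hX' : IsPullback πX a' (a i j) (π ≫ e.hom) :=
    hX.of_iso (Iso.refl _) (Iso.refl _) (Iso.refl _) e (by simp) (by simp) (by simpa using he₁)
      (by simp)
  have hY' : IsPullback πY b' (b i j) (π ≫ e.hom) :=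
    hY.of_iso (Iso.refl _) (Iso.refl _) (Iso.refl _) e (by simp) (by simp) (by simpa using he₂)
      (by simp)
  have hQ' : IsPullback (π ≫ e.hom) ρ (e.inv ≫ r₀) g :=
    hQ.of_iso (Iso.refl _) e (Iso.refl _) (Iso.refl _) (by simp) (by simp) (by simp) (by simp)
  exact isPushout_of_flat_coker i j (π ≫ e.hom) πX a' hX' πY b' hY' πZ i' hZ j' w' wj
    (e.inv ≫ r₀) g ρ hQ' rX rY h1 h2 hlocX hlocY

end Abstract

end Groth.Agent.Lib.Helper58.Pinch
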