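/-
Helper library (helper58): a Ferrand-type pinching lying over another one (the two pieces of the
upper pinching being base changes over the glued locus): good pairs upstairs lying over good pairs
downstairs give cubes of rings, and local properties of the induced morphism of pushouts can be
checked on the two pieces.
-/
import Mathlib
import Groth.Agent.Lib.Helper58.PinchFT
import Groth.Agent.Lib.Helper58.CubeBridge

set_option autoImplicit false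
universe u

open AlgebraicGeometry CategoryTheory Limits

namespace Groth.Agent.Lib.Helper58.Pinch

open Groth.Agent.Lib.Helper61 Groth.Agent.Lib.Helper58.UnionPushout
open Groth.Agent.Lib.Helper58.LocalPushout
open Groth.Agent.Lib.Helper58.ClPushout
open Groth.Agent.Lib.Helper58.ClPushout.GoodPair
open Groth.Agent.Lib.Helper58.CubeBridge

variable {X Y Z X' Y' Z' : Scheme.{u}} (i : Z ⟶ X) (j : Z ⟶ Y) [IsAffineHom i]
  [IsClosedImmersion j] [Enough i j]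
  (i' : Z' ⟶ X') (j' : Z' ⟶ Y') [IsAffineHom i'] [IsClosedImmersion j'] [Enough i' j']
  (f : X' ⟶ X) (g : Y' ⟶ Y) (c : Z' ⟶ Z) (hX : IsPullback i' c f i) (hY : IsPullback j' c g j)
  (h : P i' j' ⟶ P i j) (ha : a i' j' ≫ h = f ≫ a i j) (hb : b i' j' ≫ h = g ≫ b i j)

include ha hb in
theorem chartOpen_le_of_le (k' : GoodPair i' j') (k : GoodPair i j) (hU : k'.U ≤ f ⁻¹ᵁ k.U)
    (hV : k'.V ≤ g ⁻¹ᵁ k.V) : chartOpen i' j' k' ≤ h ⁻¹ᵁ chartOpen i j k := by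
  intro ζ hζ
  rcases (mem_chartOpen_iff i' j' k' ζ).1 hζ with ⟨x, hx, rfl⟩ | ⟨y, hy, rfl⟩
  · change (a i' j' ≫ h) x ∈ chartOpen i j k
    rw [ha]
    exact U_le i j k (hU hx)
  · change (b i' j' ≫ h) y ∈ chartOpen i j k
    rw [hb]
    exact V_le i j k (hV hy)

include hX in
omit [IsAffineHom i] [IsClosedImmersion j] [Enough i j] [IsAffineHom i'] [IsClosedImmersion j']
  [Enough i' j'] in
theorem W_le_of_le (k' : GoodPair i' j') (k : GoodPair i j) (hU : k'.U ≤ f ⁻¹ᵁ k.U) :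
    k'.W ≤ c ⁻¹ᵁ k.W := by
  intro z hz
  change (c ≫ i) z ∈ k.U
  rw [← hX.w]
  exact hU hz

include hX hY ha hb in
/-- The cube of rings attached to a good pair upstairs lying over a good pair downstairs. -/
theorem cube (k' : GoodPair i' j') (k : GoodPair i j) (hU : k'.U ≤ f ⁻¹ᵁ k.U)
    (hV : k'.V ≤ g ⁻¹ᵁ k.V) :
    Cube ((a i j).appLE (chartOpen i j k) k.U (U_le i j k))
      ((b i j).appLE (chartOpen i j k) k.V (V_le i j k))
      (i.appLE k.U k.W le_rfl) (j.appLE k.V k.W k.h.le)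
      ((a i' j').appLE (chartOpen i' j' k') k'.U (U_le i' j' k'))
      ((b i' j').appLE (chartOpen i' j' k') k'.V (V_le i' j' k'))
      (i'.appLE k'.U k'.W le_rfl) (j'.appLE k'.V k'.W k'.h.le)
      (h.appLE (chartOpen i j k) (chartOpen i' j' k')
        (chartOpen_le_of_le i j i' j' f g h ha hb k' k hU hV))
      (f.appLE k.U k'.U hU) (g.appLE k.V k'.V hV)
      (c.appLE k.W k'.W (W_le_of_le i j i' j' f c hX k' k hU)) := by
  have hW := W_le_of_le i j i' j' f c hX k' k hU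
  refine ⟨fibSq_chart i j k, fibSq_chart i' j' k', ?_, ?_, ?_, ?_, ?_, ?_⟩
  · rw [Scheme.Hom.appLE_comp_appLE, Scheme.Hom.appLE_comp_appLE]
    congr 1
  · rw [Scheme.Hom.appLE_comp_appLE, Scheme.Hom.appLE_comp_appLE]
    congr 1
  · rw [Scheme.Hom.appLE_comp_appLE, Scheme.Hom.appLE_comp_appLE]
    congr 1
    exact hX.w
  · rw [Scheme.Hom.appLE_comp_appLE, Scheme.Hom.appLE_comp_appLE]
    congr 1
    exact hY.w
  · have hUY : k'.W = c ⁻¹ᵁ k.W ⊓ i' ⁻¹ᵁ k'.U := (inf_eq_right.2 hW).symm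
    exact (isIso_pushoutSection_iff hX.flip hU (le_refl k.W) hUY).1
      (isIso_pushoutSection_of_isAffineOpen hX.flip hU (le_refl k.W) hUY k.hU k'.hU
        (W_isAffineOpen k))
  · have hUY : k'.W = c ⁻¹ᵁ k.W ⊓ j' ⁻¹ᵁ k'.V := by
      rw [← k'.h]
      exact (inf_eq_right.2 hW).symm
    exact (isIso_pushoutSection_iff hY.flip hV k.h.le hUY).1
      (isIso_pushoutSection_of_isAffineOpen hY.flip hV k.h.le hUY k.hV k'.hV
        (W_isAffineOpen k))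

include hX hY in
omit [IsAffineHom i'] [IsClosedImmersion j'] in
theorem preimage_eq_of_goodPair (k : GoodPair i j) :
    i' ⁻¹ᵁ (f ⁻¹ᵁ k.U) = j' ⁻¹ᵁ (g ⁻¹ᵁ k.V) := by
  ext z
  change (i' ≫ f) z ∈ k.U ↔ (j' ≫ g) z ∈ k.V
  rw [hX.w, hY.w]
  change c z ∈ i ⁻¹ᵁ k.U ↔ c z ∈ j ⁻¹ᵁ k.V
  rw [k.h]

include hX hY in
theorem exists_lift_of_mem_X (x' : X') : ∃ (k' : GoodPair i' j') (k : GoodPair i j),
    k'.U ≤ f ⁻¹ᵁ k.U ∧ k'.V ≤ g ⁻¹ᵁ k.V ∧ x' ∈ k'.U := by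
  obtain ⟨k, hk⟩ := exists_mem_chartOpen i j (a i j (f x'))
  have hx : x' ∈ f ⁻¹ᵁ k.U := mem_U_of_a_mem i j k hk
  obtain ⟨k', h1, h2, h3⟩ := exists_goodPair_of_mem_X (i := i') (j := j') _ _
    (preimage_eq_of_goodPair i j i' j' f g c hX hY k) x' hx
  exact ⟨k', k, h2, h3, h1⟩

include hX hY in
theorem exists_lift_of_mem_Y (y' : Y') : ∃ (k' : GoodPair i' j') (k : GoodPair i j),
    k'.U ≤ f ⁻¹ᵁ k.U ∧ k'.V ≤ g ⁻¹ᵁ k.V ∧ y' ∈ k'.V := by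
  obtain ⟨k, hk⟩ := exists_mem_chartOpen i j (b i j (g y'))
  have hy : y' ∈ g ⁻¹ᵁ k.V := mem_V_of_b_mem i j k hk
  obtain ⟨k', h1, h2, h3⟩ := exists_goodPair_of_mem_Y (i := i') (j := j') _ _
    (preimage_eq_of_goodPair i j i' j' f g c hX hY k) y' hy
  exact ⟨k', k, h2, h3, h1⟩

include hX hY ha hb in
/-- A pair of local properties holds for the induced morphism of pushouts iff it holds for the
two pieces, provided this is so for the cubes of rings of good pairs. -/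
theorem iff_of_cube {𝒫₁ 𝒫₂ : MorphismProperty Scheme.{u}}
    {Q₁ Q₂ : ∀ {R S : Type u} [CommRing R] [CommRing S], (R →+* S) → Prop}
    [HasRingHomProperty 𝒫₁ Q₁] [HasRingHomProperty 𝒫₂ Q₂]
    (hQ₁ : RingHom.StableUnderCompositionWithLocalizationAwaySource Q₁)
    (hQ₂ : RingHom.StableUnderCompositionWithLocalizationAwaySource Q₂)
    (hcube : ∀ (k' : GoodPair i' j') (k : GoodPair i j) (hU : k'.U ≤ f ⁻¹ᵁ k.U)
      (hV : k'.V ≤ g ⁻¹ᵁ k.V),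
      (Q₁ (h.appLE (chartOpen i j k) (chartOpen i' j' k')
          (chartOpen_le_of_le i j i' j' f g h ha hb k' k hU hV)).hom ∧
        Q₂ (h.appLE (chartOpen i j k) (chartOpen i' j' k')
          (chartOpen_le_of_le i j i' j' f g h ha hb k' k hU hV)).hom) ↔
      (Q₁ (f.appLE k.U k'.U hU).hom ∧ Q₂ (f.appLE k.U k'.U hU).hom) ∧
        (Q₁ (g.appLE k.V k'.V hV).hom ∧ Q₂ (g.appLE k.V k'.V hV).hom)) :
    (𝒫₁ h ∧ 𝒫₂ h) ↔ (𝒫₁ f ∧ 𝒫₂ f) ∧ (𝒫₁ g ∧ 𝒫₂ g) := by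
  constructor
  · rintro ⟨h1, h2⟩
    have key : ∀ (k' : GoodPair i' j') (k : GoodPair i j) (hU : k'.U ≤ f ⁻¹ᵁ k.U)
        (hV : k'.V ≤ g ⁻¹ᵁ k.V),
        (Q₁ (f.appLE k.U k'.U hU).hom ∧ Q₂ (f.appLE k.U k'.U hU).hom) ∧
          (Q₁ (g.appLE k.V k'.V hV).hom ∧ Q₂ (g.appLE k.V k'.V hV).hom) := by
      intro k' k hU hV
      refine (hcube k' k hU hV).1 ⟨?_, ?_⟩
      · exact HasRingHomProperty.appLE (P := 𝒫₁) h h1 ⟨_, isAffineOpen_chartOpen i j k⟩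
          ⟨_, isAffineOpen_chartOpen i' j' k'⟩ _
      · exact HasRingHomProperty.appLE (P := 𝒫₂) h h2 ⟨_, isAffineOpen_chartOpen i j k⟩
          ⟨_, isAffineOpen_chartOpen i' j' k'⟩ _
    refine ⟨⟨?_, ?_⟩, ⟨?_, ?_⟩⟩
    · rw [HasRingHomProperty.iff_exists_appLE (P := 𝒫₁) hQ₁]
      intro x'
      obtain ⟨k', k, hU, hV, hx'⟩ := exists_lift_of_mem_X i j i' j' f g c hX hY x'
      exact ⟨⟨k.U, k.hU⟩, ⟨k'.U, k'.hU⟩, hx', hU, (key k' k hU hV).1.1⟩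
    · rw [HasRingHomProperty.iff_exists_appLE (P := 𝒫₂) hQ₂]
      intro x'
      obtain ⟨k', k, hU, hV, hx'⟩ := exists_lift_of_mem_X i j i' j' f g c hX hY x'
      exact ⟨⟨k.U, k.hU⟩, ⟨k'.U, k'.hU⟩, hx', hU, (key k' k hU hV).1.2⟩
    · rw [HasRingHomProperty.iff_exists_appLE (P := 𝒫₁) hQ₁]
      intro y'
      obtain ⟨k', k, hU, hV, hy'⟩ := exists_lift_of_mem_Y i j i' j' f g c hX hY y'
      exact ⟨⟨k.V, k.hV⟩, ⟨k'.V, k'.hV⟩, hy', hV, (key k' k hU hV).2.1⟩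
    · rw [HasRingHomProperty.iff_exists_appLE (P := 𝒫₂) hQ₂]
      intro y'
      obtain ⟨k', k, hU, hV, hy'⟩ := exists_lift_of_mem_Y i j i' j' f g c hX hY y'
      exact ⟨⟨k.V, k.hV⟩, ⟨k'.V, k'.hV⟩, hy', hV, (key k' k hU hV).2.2⟩
  · rintro ⟨⟨f1, f2⟩, ⟨g1, g2⟩⟩
    have key : ∀ (k' : GoodPair i' j') (k : GoodPair i j) (hU : k'.U ≤ f ⁻¹ᵁ k.U)
        (hV : k'.V ≤ g ⁻¹ᵁ k.V),
        (Q₁ (h.appLE (chartOpen i j k) (chartOpen i' j' k')
            (chartOpen_le_of_le i j i' j' f g h ha hb k' k hU hV)).hom ∧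
          Q₂ (h.appLE (chartOpen i j k) (chartOpen i' j' k')
            (chartOpen_le_of_le i j i' j' f g h ha hb k' k hU hV)).hom) := by
      intro k' k hU hV
      refine (hcube k' k hU hV).2 ⟨⟨?_, ?_⟩, ⟨?_, ?_⟩⟩
      · exact HasRingHomProperty.appLE (P := 𝒫₁) f f1 ⟨k.U, k.hU⟩ ⟨k'.U, k'.hU⟩ hU
      · exact HasRingHomProperty.appLE (P := 𝒫₂) f f2 ⟨k.U, k.hU⟩ ⟨k'.U, k'.hU⟩ hU
      · exact HasRingHomProperty.appLE (P := 𝒫₁) g g1 ⟨k.V, k.hV⟩ ⟨k'.V, k'.hV⟩ hV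
      · exact HasRingHomProperty.appLE (P := 𝒫₂) g g2 ⟨k.V, k.hV⟩ ⟨k'.V, k'.hV⟩ hV
    have hpt : ∀ ζ : P i' j', ∃ (k' : GoodPair i' j') (k : GoodPair i j)
        (hU : k'.U ≤ f ⁻¹ᵁ k.U) (hV : k'.V ≤ g ⁻¹ᵁ k.V), ζ ∈ chartOpen i' j' k' := by
      intro ζ
      rcases mem_range_a_or_b i' j' ζ with ⟨x', rfl⟩ | ⟨y', rfl⟩
      · obtain ⟨k', k, hU, hV, hx'⟩ := exists_lift_of_mem_X i j i' j' f g c hX hY x'
        exact ⟨k', k, hU, hV, U_le i' j' k' hx'⟩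
      · obtain ⟨k', k, hU, hV, hy'⟩ := exists_lift_of_mem_Y i j i' j' f g c hX hY y'
        exact ⟨k', k, hU, hV, V_le i' j' k' hy'⟩
    refine ⟨?_, ?_⟩
    · rw [HasRingHomProperty.iff_exists_appLE (P := 𝒫₁) hQ₁]
      intro ζ
      obtain ⟨k', k, hU, hV, hζ⟩ := hpt ζ
      exact ⟨⟨_, isAffineOpen_chartOpen i j k⟩, ⟨_, isAffineOpen_chartOpen i' j' k'⟩, hζ,
        chartOpen_le_of_le i j i' j' f g h ha hb k' k hU hV, (key k' k hU hV).1⟩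
    · rw [HasRingHomProperty.iff_exists_appLE (P := 𝒫₂) hQ₂]
      intro ζ
      obtain ⟨k', k, hU, hV, hζ⟩ := hpt ζ
      exact ⟨⟨_, isAffineOpen_chartOpen i j k⟩, ⟨_, isAffineOpen_chartOpen i' j' k'⟩, hζ,
        chartOpen_le_of_le i j i' j' f g h ha hb k' k hU hV, (key k' k hU hV).2⟩

end Groth.Agent.Lib.Helper58.Pinch
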