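/-
Helper library (helper58): two closed immersions always have enough good pairs; transport of a
morphism between abstract pushouts to the models.
-/
import Mathlib
import Groth.Agent.Lib.Helper58.PinchIntegral
import Groth.Agent.Lib.Helper58.PinchLift

set_option autoImplicit false
universe u

open AlgebraicGeometry CategoryTheory Limits

namespace Groth.Agent.Lib.Helper58.Pinch

open Groth.Agent.Lib.Helper61 Groth.Agent.Lib.Helper58.ClPushout
open Groth.Agent.Lib.Helper58.ClPushout.GoodPair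

theorem enough_of_isClosedImmersion {X Y Z : Scheme.{u}} (i : Z ⟶ X) (j : Z ⟶ Y)
    [IsClosedImmersion i] [IsClosedImmersion j] : Enough i j := by
  refine enough_of_integral i j fun x => ?_
  by_cases hx : x ∈ Set.range i
  · obtain ⟨z, rfl⟩ := hx
    obtain ⟨_, ⟨V, hV : IsAffineOpen V, rfl⟩, hzV, -⟩ :=
      Y.isBasis_affineOpens.exists_subset_of_mem_open (Set.mem_univ (j z)) isOpen_univ
    refine ⟨V, hV, fun z' hz' => ?_⟩
    have : z' = z := i.isClosedEmbedding.injective hz'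
    subst this
    exact hzV
  · exact ⟨⊥, isAffineOpen_bot Y, fun z' hz' => (hx ⟨z', hz'⟩).elim⟩

section Transport

variable {X Y Z X' Y' Z' : Scheme.{u}} (i : Z ⟶ X) (j : Z ⟶ Y) [IsAffineHom i]
  [IsClosedImmersion j] [Enough i j]
  (i' : Z' ⟶ X') (j' : Z' ⟶ Y') [IsAffineHom i'] [IsClosedImmersion j'] [Enough i' j']
  {P₀ P₀' : Scheme.{u}} (a₀ : X ⟶ P₀) (b₀ : Y ⟶ P₀) (hP : IsPushout i j a₀ b₀)
  (a₀' : X' ⟶ P₀') (b₀' : Y' ⟶ P₀') (hP' : IsPushout i' j' a₀' b₀')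
  (f : X' ⟶ X) (g : Y' ⟶ Y)
  (h₀ : P₀' ⟶ P₀) (ha : a₀' ≫ h₀ = f ≫ a₀) (hb : b₀' ≫ h₀ = g ≫ b₀)

include hP hP' ha hb in
/-- Transport of a morphism between abstract pushouts to the models. -/
theorem exists_model_hom : ∃ (e : P₀ ≅ P i j) (e' : P₀' ≅ P i' j') (h : P i' j' ⟶ P i j),
    a₀ ≫ e.hom = a i j ∧ b₀ ≫ e.hom = b i j ∧ a₀' ≫ e'.hom = a i' j' ∧ b₀' ≫ e'.hom = b i' j' ∧
    h = e'.inv ≫ h₀ ≫ e.hom ∧ a i' j' ≫ h = f ≫ a i j ∧ b i' j' ≫ h = g ≫ b i j := by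
  let e : P₀ ≅ P i j := hP.isoIsPushout _ _ (isPushout i j)
  have he₁ : a₀ ≫ e.hom = a i j := hP.inl_isoIsPushout_hom _ _ _
  have he₂ : b₀ ≫ e.hom = b i j := hP.inr_isoIsPushout_hom _ _ _
  let e' : P₀' ≅ P i' j' := hP'.isoIsPushout _ _ (isPushout i' j')
  have he₁' : a₀' ≫ e'.hom = a i' j' := hP'.inl_isoIsPushout_hom _ _ _
  have he₂' : b₀' ≫ e'.hom = b i' j' := hP'.inr_isoIsPushout_hom _ _ _
  refine ⟨e, e', e'.inv ≫ h₀ ≫ e.hom, he₁, he₂, he₁', he₂', rfl, ?_, ?_⟩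
  · rw [← he₁', Category.assoc, e'.hom_inv_id_assoc, ← Category.assoc, ha, Category.assoc, he₁]
  · rw [← he₂', Category.assoc, e'.hom_inv_id_assoc, ← Category.assoc, hb, Category.assoc, he₂]

end Transport

end Groth.Agent.Lib.Helper58.Pinch
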