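/-
Helper library (helper58): for a Ferrand-type pinching lying over another one, the induced
morphism of pushouts is locally of finite type / flat / flat and locally of finite presentation /
smooth / étale iff the two pieces are.
-/
import Mathlib
import Groth.Agent.Lib.Helper58.PinchLift
import Groth.Agent.Lib.Helper58.PinchClosed

set_option autoImplicit false
universe u

open AlgebraicGeometry CategoryTheory Limits

namespace Groth.Agent.Lib.Helper58.Pinch

open Groth.Agent.Lib.Helper61 Groth.Agent.Lib.Helper58.ClPushout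
open Groth.Agent.Lib.Helper58.ClPushout.GoodPair
open Groth.Agent.Lib.Helper58.CubeBridge

variable {X Y Z X' Y' Z' : Scheme.{u}} (i : Z ⟶ X) (j : Z ⟶ Y) [IsAffineHom i]
  [IsClosedImmersion j] [Enough i j]
  (i' : Z' ⟶ X') (j' : Z' ⟶ Y') [IsAffineHom i'] [IsClosedImmersion j'] [Enough i' j']
  (f : X' ⟶ X) (g : Y' ⟶ Y) (c : Z' ⟶ Z) (hX : IsPullback i' c f i) (hY : IsPullback j' c g j)
  (h : P i' j' ⟶ P i j) (ha : a i' j' ≫ h = f ≫ a i j) (hb : b i' j' ≫ h = g ≫ b i j)

theorem etale_holdsForLocalizationAway : RingHom.HoldsForLocalizationAway RingHom.Etale :=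
  fun _ _ _ _ _ r _ => RingHom.etale_algebraMap.2 (Algebra.Etale.of_isLocalizationAway r)

include hX hY ha hb in
theorem props_iff :
    (LocallyOfFiniteType h ↔ LocallyOfFiniteType f ∧ LocallyOfFiniteType g) ∧
    (Flat h ↔ Flat f ∧ Flat g) ∧
    ((Flat h ∧ LocallyOfFinitePresentation h) ↔
      (Flat f ∧ LocallyOfFinitePresentation f) ∧ (Flat g ∧ LocallyOfFinitePresentation g)) ∧
    (Smooth h ↔ Smooth f ∧ Smooth g) ∧
    (Etale h ↔ Etale f ∧ Etale g) := by
  have hFT := (RingHom.finiteType_stableUnderComposition.stableUnderCompositionWithLocalizationAway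
    RingHom.finiteType_holdsForLocalizationAway).1
  have hFl := (RingHom.Flat.stableUnderComposition.stableUnderCompositionWithLocalizationAway
    RingHom.Flat.holdsForLocalizationAway).1
  have hFP :=
    (RingHom.finitePresentation_stableUnderComposition.stableUnderCompositionWithLocalizationAway
      RingHom.finitePresentation_holdsForLocalizationAway).1
  have hSm := (RingHom.Smooth.stableUnderComposition.stableUnderCompositionWithLocalizationAway
    RingHom.Smooth.holdsForLocalizationAway).1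
  have hEt := (RingHom.Etale.stableUnderComposition.stableUnderCompositionWithLocalizationAway
    etale_holdsForLocalizationAway).1
  have hc := fun (k' : GoodPair i' j') (k : GoodPair i j) (hU : k'.U ≤ f ⁻¹ᵁ k.U)
    (hV : k'.V ≤ g ⁻¹ᵁ k.V) => (cube i j i' j' f g c hX hY h ha hb k' k hU hV).all.1
  refine ⟨?_, ?_, ?_, ?_, ?_⟩
  · have := iff_of_cube i j i' j' f g c hX hY h ha hb (𝒫₁ := @LocallyOfFiniteType)
      (𝒫₂ := @LocallyOfFiniteType) hFT hFT (fun k' k hU hV => by
        rw [and_self, and_self, and_self]; exact (hc k' k hU hV).1)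
    rwa [and_self, and_self, and_self] at this
  · have := iff_of_cube i j i' j' f g c hX hY h ha hb (𝒫₁ := @Flat)
      (𝒫₂ := @Flat) hFl hFl (fun k' k hU hV => by
        rw [and_self, and_self, and_self]; exact (hc k' k hU hV).2.1)
    rwa [and_self, and_self, and_self] at this
  · exact iff_of_cube i j i' j' f g c hX hY h ha hb (𝒫₁ := @Flat)
      (𝒫₂ := @LocallyOfFinitePresentation) hFl hFP (fun k' k hU hV => (hc k' k hU hV).2.2.1)
  · have := iff_of_cube i j i' j' f g c hX hY h ha hb (𝒫₁ := @Smooth)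
      (𝒫₂ := @Smooth) hSm hSm (fun k' k hU hV => by
        rw [and_self, and_self, and_self]; exact (hc k' k hU hV).2.2.2.1)
    rwa [and_self, and_self, and_self] at this
  · have := iff_of_cube i j i' j' f g c hX hY h ha hb (𝒫₁ := @Etale)
      (𝒫₂ := @Etale) hEt hEt (fun k' k hU hV => by
        rw [and_self, and_self, and_self]; exact (hc k' k hU hV).2.2.2.2)
    rwa [and_self, and_self, and_self] at this

section Abstract

variable {P₀ P₀' : Scheme.{u}} (a₀ : X ⟶ P₀) (b₀ : Y ⟶ P₀) (hP : IsPushout i j a₀ b₀)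
  (a₀' : X' ⟶ P₀') (b₀' : Y' ⟶ P₀') (hP' : IsPushout i' j' a₀' b₀')
  (h₀ : P₀' ⟶ P₀) (ha₀ : a₀' ≫ h₀ = f ≫ a₀) (hb₀ : b₀' ≫ h₀ = g ≫ b₀)

include hX hY hP hP' ha₀ hb₀ in
theorem props_iff' :
    (LocallyOfFiniteType h₀ ↔ LocallyOfFiniteType f ∧ LocallyOfFiniteType g) ∧
    (Flat h₀ ↔ Flat f ∧ Flat g) ∧
    ((Flat h₀ ∧ LocallyOfFinitePresentation h₀) ↔
      (Flat f ∧ LocallyOfFinitePresentation f) ∧ (Flat g ∧ LocallyOfFinitePresentation g)) ∧
    (Smooth h₀ ↔ Smooth f ∧ Smooth g) ∧
    (Etale h₀ ↔ Etale f ∧ Etale g) := by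
  obtain ⟨e, e', h, -, -, -, -, hh, ha, hb⟩ :=
    exists_model_hom i j i' j' a₀ b₀ hP a₀' b₀' hP' f g h₀ ha₀ hb₀
  have key : ∀ (W : MorphismProperty Scheme.{u}) [W.RespectsIso], W h ↔ W h₀ := by
    intro W _
    rw [hh, MorphismProperty.cancel_left_of_respectsIso W,
      MorphismProperty.cancel_right_of_respectsIso W]
  have := props_iff i j i' j' f g c hX hY h ha hb
  rw [key @LocallyOfFiniteType, key @Flat, key @LocallyOfFinitePresentation, key @Smooth,
    key @Etale] at this
  exact this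

end Abstract

end Groth.Agent.Lib.Helper58.Pinch
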