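/-
Helper library (helper58): a Ferrand-type pinching lying over another one, with affine pieces:
the induced morphism of pushouts is affine-locally given by the fibre product rings, it is finite
if the pieces are, and the two pieces are recovered by base change.
-/
import Mathlib
import Groth.Agent.Lib.Helper58.PinchLiftProps
import Groth.Agent.Lib.Helper58.AffinePB

set_option autoImplicit false
universe u

open AlgebraicGeometry CategoryTheory Limits

namespace Groth.Agent.Lib.Helper58.Pinch

open Groth.Agent.Lib.Helper61 Groth.Agent.Lib.Helper58.ClPushout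
open Groth.Agent.Lib.Helper58.ClPushout.GoodPair
open Groth.Agent.Lib.Helper58.CubeBridge Groth.Agent.Lib.Helper58.AffinePB

variable {X Y Z X' Y' Z' : Scheme.{u}} (i : Z ⟶ X) (j : Z ⟶ Y) [IsAffineHom i]
  [IsClosedImmersion j] [Enough i j]
  (i' : Z' ⟶ X') (j' : Z' ⟶ Y') [IsAffineHom i'] [IsClosedImmersion j'] [Enough i' j']
  (f : X' ⟶ X) (g : Y' ⟶ Y) (c : Z' ⟶ Z) (hX : IsPullback i' c f i) (hY : IsPullback j' c g j)
  (h : P i' j' ⟶ P i j) (ha : a i' j' ≫ h = f ≫ a i j) (hb : b i' j' ≫ h = g ≫ b i j)
  [IsAffineHom f] [IsAffineHom g]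

omit [IsAffineHom i] [IsClosedImmersion j] [Enough i j] [IsAffineHom i'] [IsClosedImmersion j']
  [Enough i' j'] in
/-- The good pair upstairs given by the preimages of a good pair downstairs. -/
def liftPair (k : GoodPair i j) : GoodPair i' j' :=
  ⟨f ⁻¹ᵁ k.U, g ⁻¹ᵁ k.V, k.hU.preimage f, k.hV.preimage g,
    preimage_eq_of_goodPair i j i' j' f g c hX hY k⟩

include ha hb in
theorem preimage_chartOpen (k : GoodPair i j) :
    h ⁻¹ᵁ chartOpen i j k = chartOpen i' j' (liftPair i j i' j' f g c hX hY k) := by
  apply le_antisymm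
  · intro ζ hζ
    rcases mem_range_a_or_b i' j' ζ with ⟨x', rfl⟩ | ⟨y', rfl⟩
    · have h1 : (a i' j' ≫ h) x' ∈ chartOpen i j k := hζ
      rw [ha] at h1
      exact U_le i' j' (liftPair i j i' j' f g c hX hY k) (mem_U_of_a_mem i j k h1)
    · have h1 : (b i' j' ≫ h) y' ∈ chartOpen i j k := hζ
      rw [hb] at h1
      exact V_le i' j' (liftPair i j i' j' f g c hX hY k) (mem_V_of_b_mem i j k h1)
  · exact chartOpen_le_of_le i j i' j' f g h ha hb _ k le_rfl le_rfl

include ha hb in
theorem exists_mem_chartOpen_liftPair (ζ : P i' j') :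
    ∃ k : GoodPair i j, ζ ∈ chartOpen i' j' (liftPair i j i' j' f g c hX hY k) := by
  obtain ⟨k, hk⟩ := exists_mem_chartOpen i j (h ζ)
  refine ⟨k, ?_⟩
  rw [← preimage_chartOpen i j i' j' f g c hX hY h ha hb k]
  exact hk

include hX hY ha hb in
/-- The induced morphism of pushouts is finite if the two pieces are. -/
theorem isFinite_of_isFinite [IsFinite f] [IsFinite g] : IsFinite h := by
  let 𝒱 : (P i j).OpenCover :=
    { I₀ := GoodPair i j
      X := fun k => Spec Γ(P i j, chartOpen i j k)
      f := fun k => (isAffineOpen_chartOpen i j k).fromSpec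
      mem₀ := by
        rw [Scheme.presieve₀_mem_precoverage_iff]
        refine ⟨fun ζ => ?_, inferInstance⟩
        obtain ⟨k, hk⟩ := exists_mem_chartOpen i j ζ
        refine ⟨k, ?_⟩
        have : ζ ∈ Set.range (isAffineOpen_chartOpen i j k).fromSpec := by
          rw [(isAffineOpen_chartOpen i j k).range_fromSpec]
          exact hk
        exact this }
  refine IsZariskiLocalAtTarget.of_openCover (P := @IsFinite) 𝒱 fun k => ?_
  change IsFinite (pullback.snd h ((isAffineOpen_chartOpen i j k).fromSpec))
  have hpb := isPullback_fromSpec h (isAffineOpen_chartOpen i j k)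
    (isAffineOpen_chartOpen i' j' (liftPair i j i' j' f g c hX hY k))
    (preimage_chartOpen i j i' j' f g c hX hY h ha hb k).symm
  rw [← hpb.flip.isoPullback_inv_snd]
  have hfin : IsFinite (Spec.map (h.appLE (chartOpen i j k)
      (chartOpen i' j' (liftPair i j i' j' f g c hX hY k))
      (preimage_chartOpen i j i' j' f g c hX hY h ha hb k).symm.le)) := by
    rw [IsFinite.SpecMap_iff]
    refine (cube i j i' j' f g c hX hY h ha hb (liftPair i j i' j' f g c hX hY k) k le_rfl
      le_rfl).all.2.2.2 ?_ ?_
    · have := IsFinite.finite_app f k.U k.hU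
      rwa [← Scheme.Hom.appLE_eq_app] at this
    · have := IsFinite.finite_app g k.V k.hV
      rwa [← Scheme.Hom.appLE_eq_app] at this
  infer_instance

include hX hY ha hb in
/-- The first piece is recovered by base change. -/
theorem isPullback_a_of_affine : IsPullback (a i' j') f h (a i j) := by
  refine isPullback_of_affine_cover (a i' j') f h (a i j)
    (fun k : GoodPair i j => chartOpen i j k)
    (fun k => chartOpen i' j' (liftPair i j i' j' f g c hX hY k))
    (fun k => k.U) (fun k => (liftPair i j i' j' f g c hX hY k).U)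
    (fun k => isAffineOpen_chartOpen i j k)
    (fun k => isAffineOpen_chartOpen i' j' _) (fun k => k.hU)
    (fun k => (liftPair i j i' j' f g c hX hY k).hU) ?_ ?_
    (fun k => chartOpen_le_of_le i j i' j' f g h ha hb _ k le_rfl le_rfl) (fun k => le_rfl)
    (exists_mem_chartOpen_liftPair i j i' j' f g c hX hY h ha hb) ?_
  · intro k
    have := a_preimage_opensRange_chart i j k
    rw [k.hU.opensRange_fromSpec] at this
    exact this.symm
  · intro k
    have := a_preimage_opensRange_chart i' j' (liftPair i j i' j' f g c hX hY k)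
    rw [(liftPair i j i' j' f g c hX hY k).hU.opensRange_fromSpec] at this
    exact this.symm
  · intro k
    exact (cube i j i' j' f g c hX hY h ha hb (liftPair i j i' j' f g c hX hY k) k le_rfl
      le_rfl).all.2.1

include hX hY ha hb in
/-- The second piece is recovered by base change. -/
theorem isPullback_b_of_affine : IsPullback (b i' j') g h (b i j) := by
  refine isPullback_of_affine_cover (b i' j') g h (b i j)
    (fun k : GoodPair i j => chartOpen i j k)
    (fun k => chartOpen i' j' (liftPair i j i' j' f g c hX hY k))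
    (fun k => k.V) (fun k => (liftPair i j i' j' f g c hX hY k).V)
    (fun k => isAffineOpen_chartOpen i j k)
    (fun k => isAffineOpen_chartOpen i' j' _) (fun k => k.hV)
    (fun k => (liftPair i j i' j' f g c hX hY k).hV) ?_ ?_
    (fun k => chartOpen_le_of_le i j i' j' f g h ha hb _ k le_rfl le_rfl) (fun k => le_rfl)
    (exists_mem_chartOpen_liftPair i j i' j' f g c hX hY h ha hb) ?_
  · intro k
    have := b_preimage_opensRange_chart i j k
    rw [k.hV.opensRange_fromSpec] at this
    exact this.symm
  · intro k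
    have := b_preimage_opensRange_chart i' j' (liftPair i j i' j' f g c hX hY k)
    rw [(liftPair i j i' j' f g c hX hY k).hV.opensRange_fromSpec] at this
    exact this.symm
  · intro k
    exact (cube i j i' j' f g c hX hY h ha hb (liftPair i j i' j' f g c hX hY k) k le_rfl
      le_rfl).all.2.2.1

section Glue

omit [IsAffineHom i] [Enough i j] [IsAffineHom i'] [IsClosedImmersion j'] [Enough i' j']
  [IsAffineHom f] [IsAffineHom g] in
/-- Finite étale covers of the two pieces of a Ferrand pushout, identified over the glued locus,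
glue to a finite étale cover of the pushout restricting to the given ones. -/
theorem exists_finiteEtale_glue [IsIntegralHom i]
    (hfib : ∀ x : X, ∃ V : Y.Opens, IsAffineOpen V ∧ i ⁻¹' {x} ⊆ j ⁻¹' (V : Set Y))
    {W : Scheme.{u}} (a₀ : X ⟶ W) (b₀ : Y ⟶ W) (hW : IsPushout i j a₀ b₀)
    [IsFinite f] [Etale f] [IsFinite g] [Etale g] (hX : IsPullback i' c f i)
    (hY : IsPullback j' c g j) :
    ∃ (T : Scheme.{u}) (τ : T ⟶ W) (a' : X' ⟶ T) (b' : Y' ⟶ T), IsFinite τ ∧ Etale τ ∧
      IsPullback a' f τ a₀ ∧ IsPullback b' g τ b₀ := by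
  haveI : Enough i j := enough_of_integral i j hfib
  haveI : IsIntegralHom i' := MorphismProperty.of_isPullback hX.flip inferInstance
  haveI : IsClosedImmersion j' := MorphismProperty.of_isPullback hY.flip inferInstance
  have hfib' : ∀ x' : X', ∃ V : Y'.Opens, IsAffineOpen V ∧ i' ⁻¹' {x'} ⊆ j' ⁻¹' (V : Set Y') := by
    intro x'
    obtain ⟨V, hV, hsub⟩ := hfib (f x')
    refine ⟨g ⁻¹ᵁ V, hV.preimage g, fun z' hz' => ?_⟩
    have hz'' : i' z' = x' := hz'
    have h1 : c z' ∈ i ⁻¹' {f x'} := by
      change i (c z') = f x'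
      rw [← hz'', ← Scheme.Hom.comp_apply, ← Scheme.Hom.comp_apply, hX.w]
    have h2 : j (c z') ∈ V := hsub h1
    change g (j' z') ∈ V
    rw [← Scheme.Hom.comp_apply, hY.w]
    exact h2
  haveI : Enough i' j' := enough_of_integral i' j' hfib'
  let e : W ≅ P i j := hW.isoIsPushout _ _ (isPushout i j)
  have he₁ : a₀ ≫ e.hom = a i j := hW.inl_isoIsPushout_hom _ _ _
  have he₂ : b₀ ≫ e.hom = b i j := hW.inr_isoIsPushout_hom _ _ _
  have w : i' ≫ f ≫ a i j = j' ≫ g ≫ b i j := by
    rw [← Category.assoc, hX.w, ← Category.assoc, hY.w, Category.assoc, Category.assoc, comm]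
  let h : P i' j' ⟶ P i j := (isPushout i' j').desc (f ≫ a i j) (g ≫ b i j) w
  have ha : a i' j' ≫ h = f ≫ a i j := (isPushout i' j').inl_desc _ _ _
  have hb : b i' j' ≫ h = g ≫ b i j := (isPushout i' j').inr_desc _ _ _
  haveI : IsFinite h := isFinite_of_isFinite i j i' j' f g c hX hY h ha hb
  haveI : Etale h :=
    (props_iff i j i' j' f g c hX hY h ha hb).2.2.2.2.2 ⟨inferInstance, inferInstance⟩
  have hpa := isPullback_a_of_affine i j i' j' f g c hX hY h ha hb
  have hpb := isPullback_b_of_affine i j i' j' f g c hX hY h ha hb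
  refine ⟨P i' j', h ≫ e.inv, a i' j', b i' j', inferInstance, inferInstance, ?_, ?_⟩
  · refine hpa.of_iso (Iso.refl _) (Iso.refl _) (Iso.refl _) e.symm ?_ ?_ ?_ ?_
    · simp
    · simp
    · simp
    · rw [Iso.refl_hom, Category.id_comp, Iso.symm_hom, ← he₁, Category.assoc, e.hom_inv_id,
        Category.comp_id]
  · refine hpb.of_iso (Iso.refl _) (Iso.refl _) (Iso.refl _) e.symm ?_ ?_ ?_ ?_
    · simp
    · simp
    · simp
    · rw [Iso.refl_hom, Category.id_comp, Iso.symm_hom, ← he₂, Category.assoc, e.hom_inv_id,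
        Category.comp_id]

end Glue

end Groth.Agent.Lib.Helper58.Pinch
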