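/-
Helper library (helper58): for a flat surjective affine morphism, the maps on sections over affine
opens are injective (faithful flatness).
-/
import Mathlib

set_option autoImplicit false
universe u

open AlgebraicGeometry CategoryTheory Limits

namespace Groth.Agent.Lib.Helper58.Pinch

theorem app_injective_of_flat_of_surjective {Z T : Scheme.{u}} (ξ : Z ⟶ T) [Flat ξ]
    [Surjective ξ] [IsAffineHom ξ] (U : T.Opens) (hU : IsAffineOpen U) :
    Function.Injective (ξ.app U).hom := by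
  have hW : IsAffineOpen (ξ ⁻¹ᵁ U) := hU.preimage ξ
  have hflat : (ξ.app U).hom.Flat := by
    have := HasRingHomProperty.appLE (P := @Flat) ξ inferInstance ⟨U, hU⟩ ⟨ξ ⁻¹ᵁ U, hW⟩ le_rfl
    rwa [Scheme.Hom.appLE_eq_app] at this
  have hff : (ξ.app U).hom.FaithfullyFlat := by
    rw [RingHom.FaithfullyFlat.iff_flat_and_comap_surjective]
    refine ⟨hflat, fun 𝔭 => ?_⟩
    obtain ⟨z, hz⟩ := ξ.surjective (hU.fromSpec 𝔭)
    have hzW : z ∈ ξ ⁻¹ᵁ U := by
      change ξ z ∈ U
      rw [hz]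
      have : hU.fromSpec 𝔭 ∈ Set.range hU.fromSpec := ⟨𝔭, rfl⟩
      rw [hU.range_fromSpec] at this
      exact this
    refine ⟨hW.primeIdealOf ⟨z, hzW⟩, ?_⟩
    apply hU.fromSpec.isOpenEmbedding.injective
    have h1 := IsAffineOpen.SpecMap_appLE_fromSpec ξ hU hW le_rfl
    rw [Scheme.Hom.appLE_eq_app] at h1
    have h2 : hU.fromSpec (Spec.map (ξ.app U) (hW.primeIdealOf ⟨z, hzW⟩)) =
        ξ (hW.fromSpec (hW.primeIdealOf ⟨z, hzW⟩)) := by
      rw [← Scheme.Hom.comp_apply, ← Scheme.Hom.comp_apply, h1]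
    rw [hW.fromSpec_primeIdealOf] at h2
    exact h2.trans hz
  exact hff.injective

end Groth.Agent.Lib.Helper58.Pinch
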