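/-
Helper library (helper58): flat base change of an arbitrary pushout of an affine morphism and a
closed immersion (when there are enough good affine pairs).
-/
import Mathlib
import Groth.Agent.Lib.Helper58.PinchFlat
import Groth.Agent.Lib.Helper58.ClPushoutFlatOver

set_option autoImplicit false
universe u

open AlgebraicGeometry CategoryTheory Limits

namespace Groth.Agent.Lib.Helper58.Pinch

variable {X Y Z : Scheme.{u}} (i : Z ⟶ X) (j : Z ⟶ Y) [IsAffineHom i] [IsClosedImmersion j]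
  [Enough i j]

/-- Flat base change for an arbitrary pushout of an affine morphism and a closed immersion. -/
theorem isPushout_of_flat' {X₀ : Scheme.{u}} (φ₁ : X ⟶ X₀) (φ₂ : Y ⟶ X₀)
    (hP : IsPushout i j φ₁ φ₂) {Q X' Y' Z' : Scheme.{u}} (π : Q ⟶ X₀) [Flat π]
    (πX : X' ⟶ X) (a' : X' ⟶ Q) (hX : IsPullback πX a' φ₁ π)
    (πY : Y' ⟶ Y) (b' : Y' ⟶ Q) (hY : IsPullback πY b' φ₂ π)
    (πZ : Z' ⟶ Z) (i' : Z' ⟶ X') (hZ : IsPullback πZ i' i πX)
    (j' : Z' ⟶ Y') (w' : i' ≫ a' = j' ≫ b') (wj : j' ≫ πY = πZ ≫ j) :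
    IsPushout i' j' a' b' := by
  let e : X₀ ≅ P i j := hP.isoIsPushout _ _ (isPushout i j)
  have he₁ : φ₁ ≫ e.hom = a i j := hP.inl_isoIsPushout_hom _ _ _
  have he₂ : φ₂ ≫ e.hom = b i j := hP.inr_isoIsPushout_hom _ _ _
  have hX' : IsPullback πX a' (a i j) (π ≫ e.hom) :=
    hX.of_iso (Iso.refl _) (Iso.refl _) (Iso.refl _) e (by simp) (by simp) (by simpa using he₁)
      (by simp)
  have hY' : IsPullback πY b' (b i j) (π ≫ e.hom) :=
    hY.of_iso (Iso.refl _) (Iso.refl _) (Iso.refl _) e (by simp) (by simp) (by simpa using he₂)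
      (by simp)
  exact isPushout_of_flat i j (π ≫ e.hom) πX a' hX' πY b' hY' πZ i' hZ j' w' wj

end Groth.Agent.Lib.Helper58.Pinch
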