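/-
Helper library (helper58): avoiding the primes of a fibre.  If `R → R'` is quasi-finite,
`R' → C'` is integral, `ψ : B → C'` is a ring map whose image contains the image of `R`, and `J` is
an ideal of `B` generating the unit ideal of `C'`, then a single element of `J` avoids all the
primes of `C'` lying over a given prime of `R`.
-/
import Mathlib

set_option autoImplicit false

open TensorProduct

namespace Groth.Agent.Lib.Helper58.QFAvoid

variable {R R' C' B : Type*} [CommRing R] [CommRing R'] [CommRing C'] [CommRing B]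
  [Algebra R R'] [Algebra R' C'] [Algebra R C'] [IsScalarTower R R' C']

/-- The fibre ring of a quasi-finite-then-integral algebra is integral over the residue field. -/
theorem isIntegral_fiber [Algebra.QuasiFinite R R'] [Algebra.IsIntegral R' C'] (P : Ideal R)
    [P.IsPrime] : Algebra.IsIntegral P.ResidueField (P.Fiber C') := by
  let τ : P.Fiber R' →ₐ[P.ResidueField] P.Fiber C' :=
    Algebra.TensorProduct.map (AlgHom.id P.ResidueField P.ResidueField)
      (IsScalarTower.toAlgHom R R' C')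
  haveI : Module.Finite P.ResidueField τ.range := by
    have : Module.Finite P.ResidueField (LinearMap.range τ.toLinearMap) := inferInstance
    exact this
  haveI : Algebra.IsIntegral P.ResidueField τ.range := Algebra.IsIntegral.of_finite _ _
  constructor
  intro d
  induction d using TensorProduct.induction_on with
  | zero => exact isIntegral_zero
  | add x y hx hy => exact hx.add hy
  | tmul l c =>
    have h1 : IsIntegral τ.range ((1 : P.ResidueField) ⊗ₜ[R] c : P.Fiber C') := by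
      have hc : IsIntegral R' c := Algebra.IsIntegral.isIntegral c
      refine hc.map_of_comp_eq
        ((τ.rangeRestrict.toRingHom).comp
          (Algebra.TensorProduct.includeRight (R := R) (A := P.ResidueField) (B := R')).toRingHom)
        (Algebra.TensorProduct.includeRight (R := R) (A := P.ResidueField) (B := C')).toRingHom ?_
      ext r'
      simp [τ]
    have h2 : IsIntegral P.ResidueField ((1 : P.ResidueField) ⊗ₜ[R] c : P.Fiber C') :=
      isIntegral_trans _ h1
    have h3 : (l ⊗ₜ[R] c : P.Fiber C') = l • ((1 : P.ResidueField) ⊗ₜ[R] c : P.Fiber C') := by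
      rw [TensorProduct.smul_tmul', smul_eq_mul, mul_one]
    rw [h3]
    exact h2.smul l

/-- A single element of `J` avoiding all primes over `P`. -/
theorem exists_mem_forall_notMem [Algebra.QuasiFinite R R'] [Algebra.IsIntegral R' C']
    (ψ : B →+* C') (hL : ∀ r : R, ∃ β : B, ψ β = algebraMap R C' r) (J : Ideal B)
    (hJ : J.map ψ = ⊤) (P : Ideal R) [P.IsPrime] :
    ∃ b ∈ J, ∀ 𝔮 : Ideal C', 𝔮.IsPrime → 𝔮.comap (algebraMap R C') = P → ψ b ∉ 𝔮 := by
  haveI := isIntegral_fiber (R' := R') (C' := C') P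
  let incl : C' →+* P.Fiber C' :=
    (Algebra.TensorProduct.includeRight (R := R) (A := P.ResidueField) (B := C')).toRingHom
  let φ : B →+* P.Fiber C' := incl.comp ψ
  -- the property of being a fraction of an element of `B`
  let Fr : P.Fiber C' → Prop := fun d => ∃ r : R, r ∉ P ∧ ∃ β : B, r • d = φ β
  have hr : ∀ r : R, ∃ β : B, φ β = r • (1 : P.Fiber C') := by
    intro r
    obtain ⟨β, hβ⟩ := hL r
    refine ⟨β, ?_⟩
    change incl (ψ β) = _
    rw [hβ]
    change (1 : P.ResidueField) ⊗ₜ[R] (algebraMap R C' r) = _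
    rw [Algebra.algebraMap_eq_smul_one, TensorProduct.tmul_smul]
    rfl
  have hr' : ∀ (r : R) (d : P.Fiber C'), ∃ β : B, r • d = φ β * d := by
    intro r d
    obtain ⟨β, hβ⟩ := hr r
    exact ⟨β, by rw [hβ, smul_mul_assoc, one_mul]⟩
  have Fr_add : ∀ d₁ d₂, Fr d₁ → Fr d₂ → Fr (d₁ + d₂) := by
    rintro d₁ d₂ ⟨r₁, h₁, β₁, e₁⟩ ⟨r₂, h₂, β₂, e₂⟩
    obtain ⟨γ₁, hγ₁⟩ := hr r₁
    obtain ⟨γ₂, hγ₂⟩ := hr r₂
    refine ⟨r₁ * r₂, fun h => (Ideal.IsPrime.mem_or_mem inferInstance h).elim h₁ h₂,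
      γ₂ * β₁ + γ₁ * β₂, ?_⟩
    rw [smul_add, mul_comm r₁ r₂, mul_smul, e₁, mul_comm r₂ r₁, mul_smul, e₂, map_add, map_mul,
      map_mul, hγ₁, hγ₂, smul_mul_assoc, one_mul, smul_mul_assoc, one_mul]
  have Fr_mul : ∀ d₁ d₂, Fr d₁ → Fr d₂ → Fr (d₁ * d₂) := by
    rintro d₁ d₂ ⟨r₁, h₁, β₁, e₁⟩ ⟨r₂, h₂, β₂, e₂⟩
    refine ⟨r₁ * r₂, fun h => (Ideal.IsPrime.mem_or_mem inferInstance h).elim h₁ h₂,
      β₁ * β₂, ?_⟩
    rw [map_mul, ← e₁, ← e₂, smul_mul_smul_comm]
  -- the subalgebra generated by the image of `B`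
  let Bt : Subalgebra P.ResidueField (P.Fiber C') := Algebra.adjoin P.ResidueField (Set.range φ)
  have hBt : ∀ d ∈ Bt, Fr d := by
    intro d hd
    induction hd using Algebra.adjoin_induction with
    | mem x hx =>
      obtain ⟨β, rfl⟩ := hx
      exact ⟨1, fun h => (Ideal.IsPrime.ne_top inferInstance) ((Ideal.eq_top_iff_one P).2 h), β,
        one_smul _ _⟩
    | algebraMap l =>
      -- an element of the residue field is a fraction
      obtain ⟨r, hrP, s, e⟩ := Ideal.Fiber.exists_smul_eq_one_tmul P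
        ((l ⊗ₜ[R] (1 : R)) : P.Fiber R)
      obtain ⟨β, hβ⟩ := hr s
      refine ⟨r, hrP, β, ?_⟩
      have eK : r • l = s • (1 : P.ResidueField) := by
        have := congrArg (TensorProduct.rid R P.ResidueField) e
        rw [map_smul, TensorProduct.rid_tmul, TensorProduct.rid_tmul, one_smul] at this
        exact this
      rw [hβ, Algebra.algebraMap_eq_smul_one, ← smul_assoc, eK, smul_assoc, one_smul]
    | add x y _ _ hx hy => exact Fr_add x y hx hy
    | mul x y _ _ hx hy => exact Fr_mul x y hx hy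
  haveI : Algebra.IsIntegral Bt (P.Fiber C') := Algebra.IsIntegral.tower_top P.ResidueField
  let φt : B →+* Bt := φ.codRestrict Bt (fun β => Algebra.subset_adjoin ⟨β, rfl⟩)
  have hφt : ∀ β, ((φt β : Bt) : P.Fiber C') = φ β := fun β => rfl
  -- the ideal generated by `J` in `Bt` is the unit ideal
  have htop : J.map φt = ⊤ := by
    by_contra hne
    obtain ⟨𝔪, h𝔪, hle⟩ := Ideal.exists_le_maximal _ hne
    obtain ⟨Q, hQ, hQ𝔪⟩ := Ideal.exists_ideal_over_maximal_of_isIntegral (S := P.Fiber C') 𝔪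
      (by
        intro x hx
        have : (algebraMap Bt (P.Fiber C')) x = 0 := hx
        have hx0 : x = 0 := Subtype.ext this
        rw [hx0]
        exact Ideal.zero_mem _)
    have h1 : J.map φ ≤ Q := by
      rw [Ideal.map_le_iff_le_comap]
      intro b hb
      have : φt b ∈ 𝔪 := hle (Ideal.mem_map_of_mem _ hb)
      rw [← hQ𝔪] at this
      exact this
    have h2 : J.map φ = ⊤ := by
      change J.map (incl.comp ψ) = ⊤
      rw [← Ideal.map_map, hJ, Ideal.map_top]
    rw [h2] at h1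
    exact hQ.ne_top (top_le_iff.1 h1)
  -- hence `1` is a fraction with numerator in `J`
  have hQ : ∀ d : Bt, d ∈ J.map φt → ∃ r : R, r ∉ P ∧ ∃ b ∈ J, r • (d : P.Fiber C') = φ b := by
    intro d hd
    induction hd using Submodule.span_induction with
    | mem x hx =>
      obtain ⟨b, hb, rfl⟩ := hx
      exact ⟨1, fun h => (Ideal.IsPrime.ne_top inferInstance) ((Ideal.eq_top_iff_one P).2 h), b, hb,
        one_smul _ _⟩
    | zero =>
      exact ⟨1, fun h => (Ideal.IsPrime.ne_top inferInstance) ((Ideal.eq_top_iff_one P).2 h), 0,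
        J.zero_mem, by simp⟩
    | add x y _ _ hx hy =>
      obtain ⟨r₁, h₁, b₁, hb₁, e₁⟩ := hx
      obtain ⟨r₂, h₂, b₂, hb₂, e₂⟩ := hy
      obtain ⟨γ₁, hγ₁⟩ := hr r₁
      obtain ⟨γ₂, hγ₂⟩ := hr r₂
      refine ⟨r₁ * r₂, fun h => (Ideal.IsPrime.mem_or_mem inferInstance h).elim h₁ h₂,
        γ₂ * b₁ + γ₁ * b₂, J.add_mem (J.mul_mem_left _ hb₁) (J.mul_mem_left _ hb₂), ?_⟩
      rw [Subalgebra.coe_add, smul_add, mul_comm r₁ r₂, mul_smul, e₁, mul_comm r₂ r₁, mul_smul, e₂,
        map_add, map_mul, map_mul, hγ₁, hγ₂, smul_mul_assoc, one_mul, smul_mul_assoc, one_mul]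
    | smul a x _ hx =>
      obtain ⟨r₁, h₁, b₁, hb₁, e₁⟩ := hx
      obtain ⟨r₂, h₂, β₂, e₂⟩ := hBt a a.2
      refine ⟨r₂ * r₁, fun h => (Ideal.IsPrime.mem_or_mem inferInstance h).elim h₂ h₁,
        β₂ * b₁, J.mul_mem_left _ hb₁, ?_⟩
      rw [smul_eq_mul, Subalgebra.coe_mul, map_mul, ← e₁, ← e₂, smul_mul_smul_comm]
  obtain ⟨r, hrP, b, hb, e⟩ := hQ 1 (by rw [htop]; trivial)
  refine ⟨b, hb, ?_⟩
  intro 𝔮 h𝔮 hcomap hmem
  -- the prime of the fibre ring corresponding to `𝔮`
  let p : PrimeSpectrum R := ⟨P, inferInstance⟩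
  have hq : (⟨𝔮, h𝔮⟩ : PrimeSpectrum C') ∈ PrimeSpectrum.comap (algebraMap R C') ⁻¹' {p} := by
    change PrimeSpectrum.comap (algebraMap R C') ⟨𝔮, h𝔮⟩ = p
    exact PrimeSpectrum.ext hcomap
  let 𝔔 := PrimeSpectrum.preimageEquivFiber R C' p ⟨⟨𝔮, h𝔮⟩, hq⟩
  have h𝔔 : 𝔔.asIdeal.comap incl = 𝔮 := by
    have := (PrimeSpectrum.preimageEquivFiber R C' p).left_inv ⟨⟨𝔮, h𝔮⟩, hq⟩
    exact congrArg (fun t => t.1.asIdeal) this
  have h1 : φ b ∈ 𝔔.asIdeal := by
    change incl (ψ b) ∈ 𝔔.asIdeal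
    rw [← Ideal.mem_comap, h𝔔]
    exact hmem
  rw [← e] at h1
  have h2 : incl (algebraMap R C' r) ∈ 𝔔.asIdeal := by
    have : incl (algebraMap R C' r) = r • ((1 : Bt) : P.Fiber C') := by
      change (1 : P.ResidueField) ⊗ₜ[R] (algebraMap R C' r) = _
      rw [Algebra.algebraMap_eq_smul_one, TensorProduct.tmul_smul]
      rfl
    rw [this]
    exact h1
  rw [← Ideal.mem_comap, h𝔔] at h2
  have h3 : r ∈ 𝔮.comap (algebraMap R C') := h2
  rw [hcomap] at h3
  exact hrP h3

end Groth.Agent.Lib.Helper58.QFAvoid
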