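/-
Helper library (helper58): condition (3) of Ferrand-type pinching is inherited by a datum lying
over it via separated locally quasi-finite morphisms (uses Zariski's main theorem).
-/
import Mathlib
import Groth.Agent.Lib.Helper58.PinchIntegral
import Groth.Agent.Lib.Helper58.QFAvoid

set_option autoImplicit false
universe u

open AlgebraicGeometry CategoryTheory Limits

namespace Groth.Agent.Lib.Helper58.Pinch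

open Groth.Agent.Lib.Helper61 Groth.Agent.Lib.Helper58.ClPushout
open Groth.Agent.Lib.Helper58.ClPushout.GoodPair

section Basic

/-- A quasi-compact subset of an open subset of a scheme lies in a quasi-compact open subset. -/
theorem exists_isCompact_opens_between {Y : Scheme.{u}} {K : Set Y} (hK : IsCompact K)
    (O : Y.Opens) (hKO : K ⊆ O) : ∃ V : Y.Opens, IsCompact (V : Set Y) ∧ K ⊆ V ∧ V ≤ O := by
  let ι := {V : Y.Opens // IsAffineOpen V ∧ V ≤ O}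
  have hcov : K ⊆ ⋃ V : ι, (V.1 : Set Y) := by
    intro y hy
    obtain ⟨_, ⟨V, hV : IsAffineOpen V, rfl⟩, hyV, hVO⟩ :=
      Y.isBasis_affineOpens.exists_subset_of_mem_open (hKO hy) O.isOpen
    exact Set.mem_iUnion.2 ⟨⟨V, hV, hVO⟩, hyV⟩
  obtain ⟨t, ht⟩ := hK.elim_finite_subcover (fun V : ι => (V.1 : Set Y)) (fun V => V.1.isOpen) hcov
  refine ⟨⨆ V ∈ t, V.1, ?_, ?_, ?_⟩
  · have : ((⨆ V ∈ t, V.1 : Y.Opens) : Set Y) = ⋃ V ∈ t, (V.1 : Set Y) := by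
      simp
    rw [this]
    exact t.isCompact_biUnion fun V _ => V.2.1.isCompact
  · intro y hy
    have := ht hy
    simp only [Set.mem_iUnion] at this
    obtain ⟨V, hVt, hyV⟩ := this
    exact (le_iSup₂ (f := fun (V : ι) (_ : V ∈ t) => V.1) V hVt) hyV
  · exact iSup₂_le fun V _ => V.2.2

end Basic

variable {X Y Z X' Y' Z' : Scheme.{u}} (i : Z ⟶ X) (j : Z ⟶ Y)
  [IsClosedImmersion j] [Enough i j]
  (i' : Z' ⟶ X') (j' : Z' ⟶ Y') [IsIntegralHom i']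
  (f : X' ⟶ X) (g : Y' ⟶ Y) (c : Z' ⟶ Z) (hX : i' ≫ f = c ≫ i) (hY : j' ≫ g = c ≫ j)
  [LocallyQuasiFinite f] [IsSeparated g] [LocallyQuasiFinite g] [LocallyOfFiniteType g]

include hX hY in
theorem exists_affine_of_lqf (x' : X') :
    ∃ V' : Y'.Opens, IsAffineOpen V' ∧ i' ⁻¹' {x'} ⊆ j' ⁻¹' (V' : Set Y') := by
  obtain ⟨k, hxk, -, -⟩ := exists_goodPair_of_mem_X (i := i) (j := j) ⊤ ⊤ rfl (f x') trivial
  obtain ⟨_, ⟨U₁, hU₁ : IsAffineOpen U₁, rfl⟩, hx'U₁, hU₁le⟩ :=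
    X'.isBasis_affineOpens.exists_subset_of_mem_open (show x' ∈ (f ⁻¹ᵁ k.U : Set X') from hxk)
      (f ⁻¹ᵁ k.U).isOpen
  have hU₁le' : U₁ ≤ f ⁻¹ᵁ k.U := hU₁le
  have hW₁ : IsAffineOpen (i' ⁻¹ᵁ U₁) := hU₁.preimage i'
  have hcW : i' ⁻¹ᵁ U₁ ≤ c ⁻¹ᵁ k.W := by
    intro z hz
    change (c ≫ i) z ∈ k.U
    rw [← hX]
    exact hU₁le' hz
  have hsub : i' ⁻¹ᵁ U₁ ≤ j' ⁻¹ᵁ (g ⁻¹ᵁ k.V) := by
    intro z hz
    change (j' ≫ g) z ∈ k.V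
    rw [hY]
    have h1 : c z ∈ i ⁻¹ᵁ k.U := hcW hz
    rw [k.h] at h1
    exact h1
  obtain ⟨V₀, hV₀c, hKV₀, hV₀le⟩ := exists_isCompact_opens_between
    (hW₁.isCompact.image j'.continuous) (g ⁻¹ᵁ k.V) (by
      rintro _ ⟨z, hz, rfl⟩
      exact hsub hz)
  have hW₁V₀ : i' ⁻¹ᵁ U₁ ≤ j' ⁻¹ᵁ V₀ := fun z hz => hKV₀ ⟨z, hz, rfl⟩
  -- Zariski's main theorem
  let g₀ : (V₀ : Scheme.{u}) ⟶ (k.V : Scheme.{u}) := g.resLE k.V V₀ hV₀le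
  haveI : IsAffine (k.V : Scheme.{u}) := k.hV
  haveI : CompactSpace (V₀ : Scheme.{u}) := isCompact_iff_compactSpace.mp hV₀c
  haveI : QuasiCompact g₀ := (HasAffineProperty.iff_of_isAffine (P := @QuasiCompact)).2 inferInstance
  let T : Scheme.{u} := g₀.normalization
  haveI : IsAffine T := isAffine_of_isAffineHom g₀.fromNormalization
  haveI : IsOpenImmersion g₀.toNormalization := inferInstance
  let ιS : (V₀ : Scheme.{u}) ⟶ Spec Γ(T, ⊤) := g₀.toNormalization ≫ T.isoSpec.hom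
  haveI : IsOpenImmersion ιS := inferInstance
  -- the affine piece of `Z'` maps to `V₀`
  have hrange : Set.range (hW₁.fromSpec ≫ j') ⊆ Set.range V₀.ι := by
    rintro _ ⟨w, rfl⟩
    rw [Scheme.Opens.range_ι]
    have : hW₁.fromSpec w ∈ (i' ⁻¹ᵁ U₁ : Set Z') := by
      rw [← hW₁.range_fromSpec]
      exact ⟨w, rfl⟩
    exact hW₁V₀ this
  let m : Spec Γ(Z', i' ⁻¹ᵁ U₁) ⟶ (V₀ : Scheme.{u}) :=
    IsOpenImmersion.lift V₀.ι (hW₁.fromSpec ≫ j') hrange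
  have hm : m ≫ V₀.ι = hW₁.fromSpec ≫ j' := IsOpenImmersion.lift_fac _ _ _
  let μ : Spec Γ(Z', i' ⁻¹ᵁ U₁) ⟶ Spec Γ(T, ⊤) := m ≫ ιS
  let ψ : Γ(T, ⊤) ⟶ Γ(Z', i' ⁻¹ᵁ U₁) := Spec.preimage μ
  have hψ : Spec.map ψ = μ := Spec.map_preimage μ
  let ν : Spec Γ(T, ⊤) ⟶ Spec Γ(Y, k.V) :=
    T.isoSpec.inv ≫ g₀.fromNormalization ≫ k.hV.isoSpec.hom
  let θ : Γ(Y, k.V) ⟶ Γ(T, ⊤) := Spec.preimage ν
  have hθ : Spec.map θ = ν := Spec.map_preimage ν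
  have hjg : i' ⁻¹ᵁ U₁ ≤ (j' ≫ g) ⁻¹ᵁ k.V := hsub
  have key : θ ≫ ψ = (j' ≫ g).appLE k.V (i' ⁻¹ᵁ U₁) hjg := by
    apply Spec.map_injective
    rw [Spec.map_comp, hψ, hθ, ← cancel_mono k.hV.fromSpec,
      IsAffineOpen.SpecMap_appLE_fromSpec (j' ≫ g) k.hV hW₁ hjg]
    have h1 : k.hV.isoSpec.hom ≫ k.hV.fromSpec = k.V.ι := by
      unfold IsAffineOpen.fromSpec
      rw [Iso.hom_inv_id_assoc]
    have h2 : g₀ ≫ k.V.ι = V₀.ι ≫ g := Scheme.Hom.resLE_comp_ι _ _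
    change ((m ≫ g₀.toNormalization ≫ T.isoSpec.hom) ≫
      T.isoSpec.inv ≫ g₀.fromNormalization ≫ k.hV.isoSpec.hom) ≫ k.hV.fromSpec = _
    simp only [Category.assoc, Iso.hom_inv_id_assoc]
    rw [h1, Scheme.Hom.toNormalization_fromNormalization_assoc, h2, ← Category.assoc, hm,
      Category.assoc]
  -- the rings
  let gR : Γ(X, k.U) →+* Γ(X', U₁) := (f.appLE k.U U₁ hU₁le').hom
  let ιR : Γ(X', U₁) →+* Γ(Z', i' ⁻¹ᵁ U₁) := (i'.app U₁).hom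
  letI : Algebra Γ(X, k.U) Γ(X', U₁) := gR.toAlgebra
  letI : Algebra Γ(X', U₁) Γ(Z', i' ⁻¹ᵁ U₁) := ιR.toAlgebra
  letI : Algebra Γ(X, k.U) Γ(Z', i' ⁻¹ᵁ U₁) := (ιR.comp gR).toAlgebra
  haveI : IsScalarTower Γ(X, k.U) Γ(X', U₁) Γ(Z', i' ⁻¹ᵁ U₁) :=
    IsScalarTower.of_algebraMap_eq' rfl
  haveI : Algebra.QuasiFinite Γ(X, k.U) Γ(X', U₁) :=
    HasRingHomProperty.appLE (P := @LocallyQuasiFinite) f inferInstance ⟨k.U, k.hU⟩ ⟨U₁, hU₁⟩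
      hU₁le'
  haveI : Algebra.IsIntegral Γ(X', U₁) Γ(Z', i' ⁻¹ᵁ U₁) :=
    ⟨IsIntegralHom.isIntegral_app i' U₁ hU₁⟩
  have congr_appLE : ∀ {A B : Scheme.{u}} (φ φ' : A ⟶ B) (e : φ = φ') (O : B.Opens) (O' : A.Opens)
      (h : O' ≤ φ ⁻¹ᵁ O) (h' : O' ≤ φ' ⁻¹ᵁ O), φ.appLE O O' h = φ'.appLE O O' h' := by
    intro A B φ φ' e O O' h h'
    subst e
    rfl
  have hL : ∀ r : Γ(X, k.U), ∃ β : Γ(T, ⊤),
      ψ.hom β = algebraMap Γ(X, k.U) Γ(Z', i' ⁻¹ᵁ U₁) r := by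
    intro r
    obtain ⟨v, hv⟩ := k.p_surjective (k.q r)
    refine ⟨θ.hom v, ?_⟩
    have e1 : ψ.hom (θ.hom v) = ((j' ≫ g).appLE k.V (i' ⁻¹ᵁ U₁) hjg).hom v := by
      rw [← key]
      rfl
    have hci : i' ⁻¹ᵁ U₁ ≤ (c ≫ i) ⁻¹ᵁ k.U := hcW
    have hcj : i' ⁻¹ᵁ U₁ ≤ (c ≫ j) ⁻¹ᵁ k.V := by
      rw [← hY]
      exact hjg
    have e2 : (j' ≫ g).appLE k.V (i' ⁻¹ᵁ U₁) hjg =
        j.appLE k.V k.W k.h.le ≫ c.appLE k.W (i' ⁻¹ᵁ U₁) hcW := by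
      rw [Scheme.Hom.appLE_comp_appLE]
      exact congr_appLE _ _ hY _ _ _ hcj
    have e3 : f.appLE k.U U₁ hU₁le' ≫ i'.app U₁ =
        i.appLE k.U k.W le_rfl ≫ c.appLE k.W (i' ⁻¹ᵁ U₁) hcW := by
      rw [Scheme.Hom.appLE_comp_appLE, ← Scheme.Hom.appLE_eq_app, Scheme.Hom.appLE_comp_appLE]
      exact congr_appLE _ _ hX _ _ _ hci
    have e4 : algebraMap Γ(X, k.U) Γ(Z', i' ⁻¹ᵁ U₁) r =
        (f.appLE k.U U₁ hU₁le' ≫ i'.app U₁).hom r := rfl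
    rw [e1, e4, e2, e3]
    change (c.appLE k.W (i' ⁻¹ᵁ U₁) hcW).hom (k.p v) = (c.appLE k.W (i' ⁻¹ᵁ U₁) hcW).hom (k.q r)
    rw [hv]
  -- the ideal of the complement of `V₀` in `T`
  let J : Ideal Γ(T, ⊤) := PrimeSpectrum.vanishingIdeal ((Set.range ιS)ᶜ)
  have hJmem : ∀ 𝔭 : PrimeSpectrum Γ(T, ⊤), J ≤ 𝔭.asIdeal → 𝔭 ∉ Set.range ιS := by
    intro 𝔭 h𝔭
    have h1 : 𝔭 ∈ PrimeSpectrum.zeroLocus (J : Set Γ(T, ⊤)) := h𝔭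
    rw [PrimeSpectrum.zeroLocus_vanishingIdeal_eq_closure, IsClosed.closure_eq] at h1
    · exact h1
    · exact ιS.isOpenEmbedding.isOpen_range.isClosed_compl
  have hμ : ∀ 𝔮 : PrimeSpectrum Γ(Z', i' ⁻¹ᵁ U₁), μ 𝔮 = PrimeSpectrum.comap ψ.hom 𝔮 := by
    intro 𝔮
    rw [← hψ]
    rfl
  have hJ : J.map ψ.hom = ⊤ := by
    by_contra hne
    obtain ⟨𝔪, h𝔪, hle⟩ := Ideal.exists_le_maximal _ hne
    let 𝔮 : PrimeSpectrum Γ(Z', i' ⁻¹ᵁ U₁) := ⟨𝔪, h𝔪.isPrime⟩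
    have h1 : J ≤ (PrimeSpectrum.comap ψ.hom 𝔮).asIdeal := by
      rw [PrimeSpectrum.comap_asIdeal, ← Ideal.map_le_iff_le_comap]
      exact hle
    apply hJmem _ h1
    rw [← hμ]
    exact ⟨m 𝔮, rfl⟩
  let P' : PrimeSpectrum Γ(X', U₁) := hU₁.primeIdealOf ⟨x', hx'U₁⟩
  obtain ⟨b, hbJ, hb⟩ := QFAvoid.exists_mem_forall_notMem (R := Γ(X, k.U)) (R' := Γ(X', U₁))
    (C' := Γ(Z', i' ⁻¹ᵁ U₁)) ψ.hom hL J hJ (P'.asIdeal.comap gR)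
  let D : (Spec Γ(T, ⊤)).Opens := PrimeSpectrum.basicOpen b
  have hD : IsAffineOpen D := by
    have := (isAffineOpen_top (Spec Γ(T, ⊤))).basicOpen ((Scheme.ΓSpecIso Γ(T, ⊤)).inv b)
    rwa [basicOpen_eq_of_affine] at this
  have hDle : D ≤ ιS.opensRange := by
    intro 𝔭 h𝔭
    by_contra hn
    have hb𝔭 : b ∈ 𝔭.asIdeal := (PrimeSpectrum.mem_vanishingIdeal _ _).1 hbJ 𝔭 hn
    exact h𝔭 hb𝔭
  let V'₀ : (V₀ : Scheme.{u}).Opens := ιS ⁻¹ᵁ D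
  have hV'₀ : IsAffineOpen V'₀ := by
    rw [← ιS.isAffineOpen_iff_of_isOpenImmersion]
    have : ιS ''ᵁ V'₀ = D := by
      rw [Scheme.Hom.image_preimage_eq_opensRange_inf]
      exact inf_eq_right.2 hDle
    rw [this]
    exact hD
  refine ⟨V₀.ι ''ᵁ V'₀, hV'₀.image_of_isOpenImmersion V₀.ι, ?_⟩
  intro z' hz'
  have hz'x : i' z' = x' := hz'
  have hz'W : z' ∈ i' ⁻¹ᵁ U₁ := by
    change i' z' ∈ U₁
    rw [hz'x]
    exact hx'U₁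
  let 𝔮 : PrimeSpectrum Γ(Z', i' ⁻¹ᵁ U₁) := hW₁.primeIdealOf ⟨z', hz'W⟩
  have h𝔮 : hW₁.fromSpec 𝔮 = z' := hW₁.fromSpec_primeIdealOf _
  have hcomap : 𝔮.asIdeal.comap (algebraMap Γ(X, k.U) Γ(Z', i' ⁻¹ᵁ U₁)) =
      P'.asIdeal.comap gR := by
    have e1 := IsAffineOpen.comap_primeIdealOf_appLE (f := i') U₁ hU₁ (i' ⁻¹ᵁ U₁) hW₁ le_rfl hz'W
    have e2 : 𝔮.asIdeal.comap ιR = P'.asIdeal := by
      have e3 : (PrimeSpectrum.comap (i'.appLE U₁ (i' ⁻¹ᵁ U₁) le_rfl).hom 𝔮).asIdeal =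
          (hU₁.primeIdealOf ⟨i' z', hz'W⟩).asIdeal := congrArg PrimeSpectrum.asIdeal e1
      have e4 : hU₁.primeIdealOf ⟨i' z', hz'W⟩ = P' := by
        congr 1
        exact Subtype.ext hz'x
      rw [e4] at e3
      rw [← e3, PrimeSpectrum.comap_asIdeal, Scheme.Hom.appLE_eq_app]
    rw [← e2, Ideal.comap_comap]
    rfl
  have hbq : ψ.hom b ∉ 𝔮.asIdeal := hb 𝔮.asIdeal 𝔮.2 hcomap
  have hμD : μ 𝔮 ∈ D := by
    rw [hμ]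
    exact hbq
  refine ⟨m 𝔮, hμD, ?_⟩
  change (m ≫ V₀.ι) 𝔮 = j' z'
  rw [hm, Scheme.Hom.comp_apply, h𝔮]


end Groth.Agent.Lib.Helper58.Pinch
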