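/-
Helper library (helper58): a Ferrand-type pinching lying over another one (general pieces): the two
pieces are recovered by base change; the induced morphism of pushouts is separated, resp. locally
quasi-finite, if the pieces are.
-/
import Mathlib
import Groth.Agent.Lib.Helper58.PinchFEt
import Groth.Agent.Lib.Helper58.PinchIntegral

set_option autoImplicit false
universe u

open AlgebraicGeometry CategoryTheory Limits

namespace Groth.Agent.Lib.Helper58.Pinch

open Groth.Agent.Lib.Helper61 Groth.Agent.Lib.Helper58.ClPushout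
open Groth.Agent.Lib.Helper58.ClPushout.GoodPair
open Groth.Agent.Lib.Helper58.CubeBridge Groth.Agent.Lib.Helper58.AffinePB

variable {X Y Z X' Y' Z' : Scheme.{u}} (i : Z ⟶ X) (j : Z ⟶ Y) [IsAffineHom i]
  [IsClosedImmersion j] [Enough i j]
  (i' : Z' ⟶ X') (j' : Z' ⟶ Y') [IsAffineHom i'] [IsClosedImmersion j'] [Enough i' j']
  (f : X' ⟶ X) (g : Y' ⟶ Y) (c : Z' ⟶ Z) (hX : IsPullback i' c f i) (hY : IsPullback j' c g j)
  (h : P i' j' ⟶ P i j) (ha : a i' j' ≫ h = f ≫ a i j) (hb : b i' j' ≫ h = g ≫ b i j)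

/-- Pairs of a good pair upstairs lying over a good pair downstairs. -/
def LiftIdx : Type u :=
  {p : GoodPair i' j' × GoodPair i j // p.1.U ≤ f ⁻¹ᵁ p.2.U ∧ p.1.V ≤ g ⁻¹ᵁ p.2.V}

include hX hY in
theorem exists_liftIdx (ζ : P i' j') :
    ∃ p : LiftIdx i j i' j' f g, ζ ∈ chartOpen i' j' p.1.1 := by
  rcases mem_range_a_or_b i' j' ζ with ⟨x', rfl⟩ | ⟨y', rfl⟩
  · obtain ⟨k', k, hU, hV, hx'⟩ := exists_lift_of_mem_X i j i' j' f g c hX hY x'
    exact ⟨⟨(k', k), hU, hV⟩, U_le i' j' k' hx'⟩
  · obtain ⟨k', k, hU, hV, hy'⟩ := exists_lift_of_mem_Y i j i' j' f g c hX hY y'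
    exact ⟨⟨(k', k), hU, hV⟩, V_le i' j' k' hy'⟩

include hX hY ha hb in
/-- The first piece is recovered by base change. -/
theorem isPullback_a' : IsPullback (a i' j') f h (a i j) := by
  refine isPullback_of_affine_cover (a i' j') f h (a i j)
    (fun p : LiftIdx i j i' j' f g => chartOpen i j p.1.2)
    (fun p => chartOpen i' j' p.1.1)
    (fun p => p.1.2.U) (fun p => p.1.1.U)
    (fun p => isAffineOpen_chartOpen i j _)
    (fun p => isAffineOpen_chartOpen i' j' _) (fun p => p.1.2.hU)
    (fun p => p.1.1.hU) ?_ ?_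
    (fun p => chartOpen_le_of_le i j i' j' f g h ha hb _ _ p.2.1 p.2.2) (fun p => p.2.1)
    (exists_liftIdx i j i' j' f g c hX hY) ?_
  · intro p
    have := a_preimage_opensRange_chart i j p.1.2
    rw [p.1.2.hU.opensRange_fromSpec] at this
    exact this.symm
  · intro p
    have := a_preimage_opensRange_chart i' j' p.1.1
    rw [p.1.1.hU.opensRange_fromSpec] at this
    exact this.symm
  · intro p
    exact (cube i j i' j' f g c hX hY h ha hb p.1.1 p.1.2 p.2.1 p.2.2).all.2.1

include hX hY ha hb in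
/-- The second piece is recovered by base change. -/
theorem isPullback_b' : IsPullback (b i' j') g h (b i j) := by
  refine isPullback_of_affine_cover (b i' j') g h (b i j)
    (fun p : LiftIdx i j i' j' f g => chartOpen i j p.1.2)
    (fun p => chartOpen i' j' p.1.1)
    (fun p => p.1.2.V) (fun p => p.1.1.V)
    (fun p => isAffineOpen_chartOpen i j _)
    (fun p => isAffineOpen_chartOpen i' j' _) (fun p => p.1.2.hV)
    (fun p => p.1.1.hV) ?_ ?_
    (fun p => chartOpen_le_of_le i j i' j' f g h ha hb _ _ p.2.1 p.2.2) (fun p => p.2.2)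
    (exists_liftIdx i j i' j' f g c hX hY) ?_
  · intro p
    have := b_preimage_opensRange_chart i j p.1.2
    rw [p.1.2.hV.opensRange_fromSpec] at this
    exact this.symm
  · intro p
    have := b_preimage_opensRange_chart i' j' p.1.1
    rw [p.1.1.hV.opensRange_fromSpec] at this
    exact this.symm
  · intro p
    exact (cube i j i' j' f g c hX hY h ha hb p.1.1 p.1.2 p.2.1 p.2.2).all.2.2.1

include hX hY ha hb in
/-- The induced morphism of pushouts is separated if the two pieces are. -/
theorem isSeparated_of_isSeparated [IsIntegralHom i'] [IsSeparated f] [IsSeparated g] :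
    IsSeparated h := by
  haveI : IsIntegralHom (b i' j') := isIntegralHom_b i' j'
  -- the comparison maps of the fibre squares
  let A₂ : pullback (f ≫ a i j) (f ≫ a i j) ⟶ pullback h h :=
    pullback.map (f ≫ a i j) (f ≫ a i j) h h (a i' j') (a i' j') (𝟙 _)
      ((Category.comp_id _).trans ha.symm) ((Category.comp_id _).trans ha.symm)
  let B₂ : pullback (g ≫ b i j) (g ≫ b i j) ⟶ pullback h h :=
    pullback.map (g ≫ b i j) (g ≫ b i j) h h (b i' j') (b i' j') (𝟙 _)
      ((Category.comp_id _).trans hb.symm) ((Category.comp_id _).trans hb.symm)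
  haveI : IsClosedImmersion A₂ :=
    MorphismProperty.pullbackMap (P := @IsClosedImmersion) inferInstance inferInstance ha.symm
      ha.symm
  haveI : IsIntegralHom B₂ :=
    MorphismProperty.pullbackMap (P := @IsIntegralHom) inferInstance inferInstance hb.symm
      hb.symm
  let A : pullback f f ⟶ pullback h h := pullback.mapDesc f f (a i j) ≫ A₂
  let B : pullback g g ⟶ pullback h h := pullback.mapDesc g g (b i j) ≫ B₂
  have hA : IsClosedMap A := A.isClosedEmbedding.isClosedMap
  have hB : IsClosedMap B := by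
    have h1 : IsClosedMap (pullback.mapDesc g g (b i j)) :=
      (pullback.mapDesc g g (b i j)).isClosedEmbedding.isClosedMap
    have h2 : IsClosedMap B₂ := B₂.isClosedMap
    exact h2.comp h1
  have eA : pullback.diagonal f ≫ A = a i' j' ≫ pullback.diagonal h := by
    apply pullback.hom_ext
    · change pullback.diagonal f ≫ pullback.map f f (f ≫ a i j) (f ≫ a i j) (𝟙 X') (𝟙 X') (a i j)
        _ _ ≫ pullback.map (f ≫ a i j) (f ≫ a i j) h h (a i' j') (a i' j') (𝟙 _) _ _ ≫
          pullback.fst h h = (a i' j' ≫ pullback.diagonal h) ≫ pullback.fst h h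
      rw [pullback.lift_fst, pullback.lift_fst_assoc, Category.comp_id,
        pullback.diagonal_fst_assoc, Category.assoc, pullback.diagonal_fst, Category.comp_id]
    · change pullback.diagonal f ≫ pullback.map f f (f ≫ a i j) (f ≫ a i j) (𝟙 X') (𝟙 X') (a i j)
        _ _ ≫ pullback.map (f ≫ a i j) (f ≫ a i j) h h (a i' j') (a i' j') (𝟙 _) _ _ ≫
          pullback.snd h h = (a i' j' ≫ pullback.diagonal h) ≫ pullback.snd h h
      rw [pullback.lift_snd, pullback.lift_snd_assoc, Category.comp_id,
        pullback.diagonal_snd_assoc, Category.assoc, pullback.diagonal_snd, Category.comp_id]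
  have eB : pullback.diagonal g ≫ B = b i' j' ≫ pullback.diagonal h := by
    apply pullback.hom_ext
    · change pullback.diagonal g ≫ pullback.map g g (g ≫ b i j) (g ≫ b i j) (𝟙 Y') (𝟙 Y') (b i j)
        _ _ ≫ pullback.map (g ≫ b i j) (g ≫ b i j) h h (b i' j') (b i' j') (𝟙 _) _ _ ≫
          pullback.fst h h = (b i' j' ≫ pullback.diagonal h) ≫ pullback.fst h h
      rw [pullback.lift_fst, pullback.lift_fst_assoc, Category.comp_id,
        pullback.diagonal_fst_assoc, Category.assoc, pullback.diagonal_fst, Category.comp_id]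
    · change pullback.diagonal g ≫ pullback.map g g (g ≫ b i j) (g ≫ b i j) (𝟙 Y') (𝟙 Y') (b i j)
        _ _ ≫ pullback.map (g ≫ b i j) (g ≫ b i j) h h (b i' j') (b i' j') (𝟙 _) _ _ ≫
          pullback.snd h h = (b i' j' ≫ pullback.diagonal h) ≫ pullback.snd h h
      rw [pullback.lift_snd, pullback.lift_snd_assoc, Category.comp_id,
        pullback.diagonal_snd_assoc, Category.assoc, pullback.diagonal_snd, Category.comp_id]
  have hrange : Set.range (pullback.diagonal h) =
      A '' Set.range (pullback.diagonal f) ∪ B '' Set.range (pullback.diagonal g) := by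
    apply Set.eq_of_subset_of_subset
    · rintro _ ⟨ζ, rfl⟩
      rcases mem_range_a_or_b i' j' ζ with ⟨x', rfl⟩ | ⟨y', rfl⟩
      · left
        refine ⟨pullback.diagonal f x', ⟨x', rfl⟩, ?_⟩
        rw [← Scheme.Hom.comp_apply, eA, Scheme.Hom.comp_apply]
      · right
        refine ⟨pullback.diagonal g y', ⟨y', rfl⟩, ?_⟩
        rw [← Scheme.Hom.comp_apply, eB, Scheme.Hom.comp_apply]
    · rintro _ (⟨_, ⟨x', rfl⟩, rfl⟩ | ⟨_, ⟨y', rfl⟩, rfl⟩)
      · exact ⟨a i' j' x', by rw [← Scheme.Hom.comp_apply, ← eA, Scheme.Hom.comp_apply]⟩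
      · exact ⟨b i' j' y', by rw [← Scheme.Hom.comp_apply, ← eB, Scheme.Hom.comp_apply]⟩
  have hclosed : IsClosed (Set.range (pullback.diagonal h)) := by
    rw [hrange]
    exact (hA _ (pullback.diagonal f).isClosedEmbedding.isClosed_range).union
      (hB _ (pullback.diagonal g).isClosedEmbedding.isClosed_range)
  exact ⟨IsClosedImmersion.of_isPreimmersion _ hclosed⟩

section Points

omit [Enough i j] [IsAffineHom i] [IsClosedImmersion j] in
theorem exists_of_isPullback {Q A B S : Scheme.{u}} {p₁ : Q ⟶ A} {p₂ : Q ⟶ B} {u : A ⟶ S}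
    {v : B ⟶ S} (H : IsPullback p₁ p₂ u v) (x : A) (y : B) (e : u x = v y) :
    ∃ q : Q, p₁ q = x ∧ p₂ q = y := by
  obtain ⟨z, hz1, hz2⟩ := Scheme.Pullback.exists_preimage_pullback x y e
  refine ⟨H.isoPullback.inv z, ?_, ?_⟩
  · rw [← Scheme.Hom.comp_apply, H.isoPullback_inv_fst, hz1]
  · rw [← Scheme.Hom.comp_apply, H.isoPullback_inv_snd, hz2]

/-- The second piece is injective away from the glued locus. -/
theorem b_injective_of_notMem_range {y y' : Y} (hy : y ∉ Set.range j)
    (e : b i j y' = b i j y) : y' = y := by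
  obtain ⟨k, hk⟩ := exists_mem_chartOpen i j (b i j y)
  have hyV : y ∈ k.V := mem_V_of_b_mem i j k hk
  have hy'V : y' ∈ k.V := mem_V_of_b_mem i j k (e ▸ hk)
  rw [b_apply i j k y hyV, b_apply i j k y' hy'V] at e
  have e' := (chart i j k).isOpenEmbedding.injective e
  rcases by_eq_by k e' with rfl | ⟨z, z', -, hz', -⟩
  · rfl
  · exact (hy ⟨z', hz'⟩).elim

end Points

include hX hY ha hb in
/-- The induced morphism of pushouts is locally quasi-finite if the two pieces are. -/
theorem locallyQuasiFinite_of_locallyQuasiFinite [IsIntegralHom i'] [LocallyOfFiniteType h]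
    [LocallyQuasiFinite f] [LocallyQuasiFinite g] : LocallyQuasiFinite h := by
  haveI : IsIntegralHom (b i' j') := isIntegralHom_b i' j'
  rw [locallyQuasiFinite_iff_isDiscrete_preimage_singleton]
  intro ζ
  by_cases hζ : ζ ∈ Set.range (a i j)
  · obtain ⟨x, rfl⟩ := hζ
    have hpre : h ⁻¹' {a i j x} = a i' j' '' (f ⁻¹' {x}) := by
      apply Set.eq_of_subset_of_subset
      · intro ζ' hζ'
        have e : h ζ' = a i j x := hζ'
        obtain ⟨x', h1, h2⟩ := exists_of_isPullback
          (isPullback_a' i j i' j' f g c hX hY h ha hb) ζ' x e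
        exact ⟨x', h2, h1⟩
      · rintro _ ⟨x', hx', rfl⟩
        have e : f x' = x := hx'
        change (a i' j' ≫ h) x' = a i j x
        rw [ha, Scheme.Hom.comp_apply, e]
    rw [hpre]
    exact (f.isDiscrete_preimage_singleton x).image
      (a i' j').isClosedEmbedding.toIsEmbedding.toIsInducing
  · obtain ⟨y, rfl⟩ : ζ ∈ Set.range (b i j) := (mem_range_a_or_b i j ζ).resolve_left hζ
    have hpre : h ⁻¹' {b i j y} = b i' j' '' (g ⁻¹' {y}) := by
      apply Set.eq_of_subset_of_subset
      · intro ζ' hζ'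
        have e : h ζ' = b i j y := hζ'
        obtain ⟨y', h1, h2⟩ := exists_of_isPullback
          (isPullback_b' i j i' j' f g c hX hY h ha hb) ζ' y e
        exact ⟨y', h2, h1⟩
      · rintro _ ⟨y', hy', rfl⟩
        have e : g y' = y := hy'
        change (b i' j' ≫ h) y' = b i j y
        rw [hb, Scheme.Hom.comp_apply, e]
    rw [hpre]
    have hnot : ∀ s ∈ g ⁻¹' {y}, s ∉ Set.range j' := by
      rintro s hs ⟨z', rfl⟩
      apply hζ
      have e : g (j' z') = y := hs
      refine ⟨i (c z'), ?_⟩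
      rw [← e, ← Scheme.Hom.comp_apply, ← Scheme.Hom.comp_apply, ← Scheme.Hom.comp_apply,
        ← Scheme.Hom.comp_apply]
      have e2 : c ≫ i ≫ a i j = j' ≫ g ≫ b i j := by
        rw [← Category.assoc j' g, hY.w, Category.assoc, comm]
      rw [e2]
    have hS := g.isDiscrete_preimage_singleton y
    rw [isDiscrete_iff_forall_mem_exists_isOpen] at hS ⊢
    rintro _ ⟨s, hs, rfl⟩
    obtain ⟨N, hN, hNS⟩ := hS s hs
    have hsN : s ∈ N := by
      have : s ∈ N ∩ g ⁻¹' {y} := by rw [hNS]; rfl
      exact this.1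
    refine ⟨(b i' j' '' Nᶜ)ᶜ, ((b i' j').isClosedMap _ hN.isClosed_compl).isOpen_compl, ?_⟩
    apply Set.eq_of_subset_of_subset
    · rintro _ ⟨hO, ⟨s', hs', rfl⟩⟩
      have hs'N : s' ∈ N := by
        by_contra hn
        exact hO ⟨s', hn, rfl⟩
      have : s' ∈ N ∩ g ⁻¹' {y} := ⟨hs'N, hs'⟩
      rw [hNS] at this
      rw [Set.mem_singleton_iff] at this ⊢
      rw [this]
    · rintro _ rfl
      refine ⟨?_, ⟨s, hs, rfl⟩⟩
      rintro ⟨φ, hφ, e⟩
      have := b_injective_of_notMem_range i' j' (hnot s hs) e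
      rw [this] at hφ
      exact hφ hsN

end Groth.Agent.Lib.Helper58.Pinch
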