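/-
Helper library (helper58): Ferrand-type pinching in the "standard" relative situation: `t : T ⟶ Y`
affine, `ξ : Z ⟶ T` affine, `ι : Z ⟶ X` a closed immersion over `Y`, and every point of `Y` has an
affine open neighbourhood `U` with an affine open `V ⊆ f⁻¹ U` of `X` containing the image of the
part of `Z` over `U`. Then there are enough good affine pairs.
-/
import Mathlib
import Groth.Agent.Lib.Helper58.PinchProps
import Groth.Agent.Lib.Helper58.ClPushoutFinite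

set_option autoImplicit false
universe u

open AlgebraicGeometry CategoryTheory Limits

namespace Groth.Agent.Lib.Helper58.Pinch

open Groth.Agent.Lib.Helper61 Groth.Agent.Lib.Helper58.ClPushout
open Groth.Agent.Lib.Helper58.ClPushout.GoodPair

/-- Ring-level lemma: if `a` vanishes on the preimage in `Spec A` of the closed subset `S` of
`Spec A'`, then a power of `a` lifts to an element vanishing on `S`. -/
theorem exists_pow_eq_map_of_forall_mem {A' A : Type*} [CommRing A'] [CommRing A] (p : A' →+* A)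
    (hp : Function.Surjective p) (S : Set (PrimeSpectrum A')) (hS : IsClosed S) (a : A)
    (h : ∀ w : PrimeSpectrum A, PrimeSpectrum.comap p w ∈ S → a ∈ w.asIdeal) :
    ∃ (β : A') (n : ℕ), p β = a ^ (n + 1) ∧ ∀ v ∈ S, β ∈ v.asIdeal := by
  have h1 : a ∈ ((PrimeSpectrum.vanishingIdeal S).map p).radical := by
    rw [← PrimeSpectrum.vanishingIdeal_zeroLocus_eq_radical, PrimeSpectrum.mem_vanishingIdeal]
    intro w hw
    apply h
    have h2 : PrimeSpectrum.comap p w ∈ PrimeSpectrum.zeroLocus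
        (PrimeSpectrum.vanishingIdeal S : Set A') := by
      rw [PrimeSpectrum.mem_zeroLocus]
      intro x hx
      exact hw (Ideal.mem_map_of_mem p hx)
    rwa [PrimeSpectrum.zeroLocus_vanishingIdeal_eq_closure, hS.closure_eq] at h2
  obtain ⟨n, hn⟩ := h1
  obtain ⟨β₀, hβ₀, e⟩ := (Ideal.mem_map_iff_of_surjective p hp).1 hn
  obtain ⟨α, rfl⟩ := hp a
  refine ⟨β₀ * α, n, ?_, fun v hv => ?_⟩
  · rw [map_mul, e, pow_succ]
  · exact Ideal.mul_mem_right _ _ ((PrimeSpectrum.mem_vanishingIdeal _ _).1 hβ₀ v hv)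

variable {X Y T Z : Scheme.{u}} (f : X ⟶ Y) (t : T ⟶ Y) (ξ : Z ⟶ T) (ι : Z ⟶ X)
  [IsAffineHom t] [IsAffineHom ξ] [IsClosedImmersion ι]

theorem enough_of_std (hsq : ι ≫ f = ξ ≫ t)
    (hstd : ∀ y : Y, ∃ U : Y.Opens, IsAffineOpen U ∧ y ∈ U ∧ ∃ V : X.Opens, IsAffineOpen V ∧
      V ≤ f ⁻¹ᵁ U ∧ ∀ z : Z, (ξ ≫ t).base z ∈ U → ι.base z ∈ V) : Enough ξ ι := by
  constructor
  intro U₀ V₀ h₀ τ hτ
  obtain ⟨UY, hUY, hyUY, V, hV, hVle, hVZ⟩ := hstd (t τ)
  -- the initial good pair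
  have htr : ξ ⁻¹ᵁ (t ⁻¹ᵁ UY) = ι ⁻¹ᵁ V := by
    ext z
    constructor
    · intro hz
      exact hVZ z hz
    · intro hz
      have h1 : f (ι z) ∈ UY := hVle hz
      rw [← Scheme.Hom.comp_apply, hsq, Scheme.Hom.comp_apply] at h1
      exact h1
  let k₀ : GoodPair ξ ι := ⟨t ⁻¹ᵁ UY, V, hUY.preimage t, hV, htr⟩
  have hW : IsAffineOpen k₀.W := W_isAffineOpen k₀
  -- a basic open of `k₀.U` around `τ` inside `U₀`
  obtain ⟨g, hg1, hg2⟩ := k₀.hU.exists_basicOpen_le (V := U₀) ⟨τ, hτ⟩ hyUY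
  -- the closed complement of `V₀` in `V`
  let S : Set (PrimeSpectrum Γ(X, V)) := k₀.hV.fromSpec ⁻¹' ((V₀ : Set X)ᶜ)
  have hS : IsClosed S := V₀.isOpen.isClosed_compl.preimage k₀.hV.fromSpec.continuous
  have hkey : ∀ w : PrimeSpectrum Γ(Z, k₀.W), PrimeSpectrum.comap k₀.p w ∈ S →
      k₀.q g ∈ w.asIdeal := by
    intro w hw
    by_contra hgw
    have h1 : w ∈ PrimeSpectrum.basicOpen (k₀.q g) := hgw
    rw [← hW.fromSpec_preimage_basicOpen] at h1
    have h2 : hW.fromSpec w ∈ Z.basicOpen (k₀.q g) := h1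
    have h3 : k₀.q g = (ξ.app k₀.U).hom g := by
      unfold q
      rw [Scheme.Hom.appLE_eq_app]
    rw [h3, ← Scheme.preimage_basicOpen] at h2
    have h4 : ξ (hW.fromSpec w) ∈ U₀ := hg1 h2
    have h5 : hW.fromSpec w ∈ ι ⁻¹ᵁ V₀ := by
      rw [← h₀]
      exact h4
    apply hw
    change k₀.hV.fromSpec (Spec.map (ι.appLE k₀.V k₀.W k₀.h.le) w) ∈ V₀
    rw [← Scheme.Hom.comp_apply, IsAffineOpen.SpecMap_appLE_fromSpec ι k₀.hV hW]
    exact h5
  obtain ⟨β, n, hβ1, hβ2⟩ := exists_pow_eq_map_of_forall_mem k₀.p k₀.p_surjective S hS (k₀.q g) hkey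
  let c : k₀.C := ⟨(g ^ (n + 1), β), by
    change k₀.q (g ^ (n + 1)) = k₀.p β
    rw [map_pow, hβ1]⟩
  refine ⟨k₀.basic c, ?_, ?_, ?_⟩
  · change τ ∈ T.basicOpen (g ^ (n + 1))
    rw [Scheme.basicOpen_pow T g (Nat.succ_pos n)]
    exact hg2
  · change T.basicOpen (g ^ (n + 1)) ≤ U₀
    rw [Scheme.basicOpen_pow T g (Nat.succ_pos n)]
    exact hg1
  · intro x hx
    have hx' : x ∈ X.basicOpen β := hx
    have hxV : x ∈ V := X.basicOpen_le _ hx'
    by_contra hxV₀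
    have h1 : k₀.hV.primeIdealOf ⟨x, hxV⟩ ∈ S := by
      change k₀.hV.fromSpec _ ∈ ((V₀ : Set X)ᶜ)
      rw [k₀.hV.fromSpec_primeIdealOf]
      exact hxV₀
    exact (mem_basicOpen_iff_notMem_primeIdealOf k₀.hV β x hxV).1 hx' (hβ2 _ h1)

end Groth.Agent.Lib.Helper58.Pinch
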