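/-
Helper library (helper58): Ferrand-type pinching along a thickening: if `j : Z ⟶ Y` is a surjective
closed immersion and `i : Z ⟶ X` is affine, there are enough good affine pairs.
-/
import Mathlib
import Groth.Agent.Lib.Helper58.PinchProps
import Groth.Agent.Lib.Helper18.ThickAffine

set_option autoImplicit false
universe u

open AlgebraicGeometry CategoryTheory Limits

namespace Groth.Agent.Lib.Helper58.Pinch

open Groth.Agent.Lib.Helper61 Groth.Agent.Lib.Helper58.ClPushout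
open Groth.Agent.Lib.Helper58.ClPushout.GoodPair

variable {X Y Z : Scheme.{u}} (i : Z ⟶ X) (j : Z ⟶ Y) [IsAffineHom i] [IsClosedImmersion j]

theorem enough_of_surjective (hj : Function.Surjective j) : Enough i j := by
  constructor
  intro U₀ V₀ h₀ x hx
  obtain ⟨_, ⟨U, hU : IsAffineOpen U, rfl⟩, hxU, hUU₀⟩ :=
    X.isBasis_affineOpens.exists_subset_of_mem_open hx U₀.isOpen
  have hinj : Function.Injective j := (Scheme.Hom.isClosedEmbedding j).injective
  -- the open subset of `Y` corresponding to `i ⁻¹ U`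
  have hopen : IsOpen (j '' (i ⁻¹ᵁ U : Set Z)) := by
    have hc : IsClosed (j '' ((i ⁻¹ᵁ U : Set Z)ᶜ)) :=
      (Scheme.Hom.isClosedEmbedding j).isClosedMap _ (i ⁻¹ᵁ U).isOpen.isClosed_compl
    have : j '' (i ⁻¹ᵁ U : Set Z) = (j '' ((i ⁻¹ᵁ U : Set Z)ᶜ))ᶜ := by
      rw [Set.image_compl_eq ⟨hinj, hj⟩, compl_compl]
    rw [this]
    exact hc.isOpen_compl
  let V : Y.Opens := ⟨j '' (i ⁻¹ᵁ U : Set Z), hopen⟩
  have hV : j ⁻¹ᵁ V = i ⁻¹ᵁ U := by
    ext z
    change j z ∈ j '' (i ⁻¹ᵁ U : Set Z) ↔ _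
    rw [hinj.mem_set_image]
  have h1 : IsAffineOpen (j ⁻¹ᵁ V) := hV ▸ hU.preimage i
  have hVaff : IsAffineOpen V := by
    haveI : IsAffine (j ⁻¹ᵁ V).toScheme := h1
    have hs : Function.Surjective (j ∣_ V) := by
      rintro ⟨y, z, hz, rfl⟩
      have hz' : z ∈ j ⁻¹ᵁ V := by rw [hV]; exact hz
      refine ⟨⟨z, hz'⟩, ?_⟩
      apply Subtype.ext
      exact morphismRestrict_base_coe j V ⟨z, hz'⟩
    exact Groth.Agent.Lib.Helper18.ThickAffine.isAffine_of_isClosedImmersion_of_surjective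
      (j ∣_ V) hs
  refine ⟨⟨U, V, hU, hVaff, hV.symm⟩, hxU, hUU₀, ?_⟩
  rintro y ⟨z, hz, rfl⟩
  have : z ∈ i ⁻¹ᵁ U₀ := hUU₀ hz
  rw [h₀] at this
  exact this

end Groth.Agent.Lib.Helper58.Pinch
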