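import Mathlib

/-!
# Pulling apart a punctual ideal of the plane (helper58)

Tools for S11453: for an ideal `𝔞 ⊆ k[x,y]` of finite colength supported at the origin, the family
`𝔞' = (f) + (t - y)·(𝔞 : y)[t] ⊆ k[x,y][t]` with `f ∈ 𝔞` monic in `x` and `𝔞 ≤ (f) + (y)`.

* `finite_flat_of_inf_le`: `S ⧸ I` finite flat over a Bezout Noetherian domain when it embeds in a
  product of two finite flat algebras.
* `exists_monic_mem`: the monic `f` (in nested polynomials `k[y][x]`).
* `nestedEquiv`: `k[x_0,x_1] ≃ₐ k[y][x]` sending `X i ↦ y`, `X j ↦ x`.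
* `famIdeal`, `map_eval_famIdeal`, `mem_famIdeal_of`: the family ideal and its fibres.
* `θ₁`, `θ₂`, `finite_flat_poly`: the two `k[t]`-algebra maps out of `A[t]`.
-/

set_option autoImplicit false

namespace Groth.Agent.Lib.Helper58.PullApart

open Polynomial TensorProduct

/-- If `S ⧸ I` embeds into a product of two finite flat modules over a Bezout Noetherian domain,
it is finite and flat. -/
theorem finite_flat_of_inf_le {R S T₁ T₂ : Type*} [CommRing R] [IsDomain R] [IsNoetherianRing R]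
    [IsBezout R]
    [CommRing S] [Algebra R S] [CommRing T₁] [Algebra R T₁] [CommRing T₂] [Algebra R T₂]
    [Module.Finite R T₁] [Module.Flat R T₁] [Module.Finite R T₂] [Module.Flat R T₂]
    (I : Ideal S) (θ₁ : S →ₐ[R] T₁) (θ₂ : S →ₐ[R] T₂)
    (h₁ : ∀ a ∈ I, θ₁ a = 0) (h₂ : ∀ a ∈ I, θ₂ a = 0)
    (hinf : ∀ g : S, θ₁ g = 0 → θ₂ g = 0 → g ∈ I) :
    Module.Finite R (S ⧸ I) ∧ Module.Flat R (S ⧸ I) := by
  let ψ : S ⧸ I →ₐ[R] T₁ × T₂ := Ideal.Quotient.liftₐ I (θ₁.prod θ₂) (by
    intro a ha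
    ext
    · simpa using h₁ a ha
    · simpa using h₂ a ha)
  have hψ : ∀ g : S, ψ (Ideal.Quotient.mk I g) = (θ₁ g, θ₂ g) := fun g => rfl
  have hinj : Function.Injective ψ := by
    rw [injective_iff_map_eq_zero]
    intro x hx
    obtain ⟨g, rfl⟩ := Ideal.Quotient.mk_surjective x
    rw [hψ] at hx
    have h1 : θ₁ g = 0 := congrArg Prod.fst hx
    have h2 : θ₂ g = 0 := congrArg Prod.snd hx
    exact Ideal.Quotient.eq_zero_iff_mem.2 (hinf g h1 h2)
  refine ⟨Module.Finite.of_injective ψ.toLinearMap hinj, ?_⟩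
  rw [Module.Flat.flat_iff_torsion_eq_bot_of_isBezout, Submodule.eq_bot_iff]
  intro x hx
  rw [Submodule.mem_torsion_iff] at hx
  obtain ⟨a, ha⟩ := hx
  apply hinj
  rw [map_zero]
  have h0 : (a : R) • ψ x = 0 := by
    rw [← map_smul]
    have : (a : R) • x = 0 := ha
    rw [this, map_zero]
  have e1 : (a : R) • (ψ x).1 = 0 := congrArg Prod.fst h0
  have e2 : (a : R) • (ψ x).2 = 0 := congrArg Prod.snd h0
  have r1 := (Module.Flat.isSMulRegular_of_nonZeroDivisors (M := T₁) a.2).right_eq_zero_of_smul e1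
  have r2 := (Module.Flat.isSMulRegular_of_nonZeroDivisors (M := T₂) a.2).right_eq_zero_of_smul e2
  exact Prod.ext r1 r2

section LemmaII

variable {k : Type*} [Field k]

/-- reduction mod `y`: `k[y][x] → k[x]`. -/
noncomputable def redY : (k[X])[X] →+* k[X] := mapRingHom (evalRingHom (0 : k))

theorem redY_map_C (q : k[X]) : redY (q.map (C : k →+* k[X])) = q := by
  unfold redY
  rw [coe_mapRingHom, Polynomial.map_map]
  have : (evalRingHom (0 : k)).comp (C : k →+* k[X]) = RingHom.id k := by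
    ext a; simp
  rw [this, Polynomial.map_id]

theorem redY_surjective : Function.Surjective (redY (k := k)) := fun q => ⟨_, redY_map_C q⟩

theorem ker_redY : RingHom.ker (redY (k := k)) = Ideal.span {(C (X : k[X]) : (k[X])[X])} := by
  unfold redY
  rw [Polynomial.ker_mapRingHom, Polynomial.ker_evalRingHom, Ideal.map_span]
  simp

theorem exists_monic_mem (𝔞 : Ideal (k[X])[X]) (N : ℕ) (h1 : (X : (k[X])[X]) ^ N ∈ 𝔞)
    (h2 : (C (X : k[X]) : (k[X])[X]) ^ N ∈ 𝔞) :
    ∃ F ∈ 𝔞, F.Monic ∧ 𝔞 ≤ Ideal.span {F} ⊔ Ideal.span {(C (X : k[X]) : (k[X])[X])} := by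
  classical
  set J : Ideal k[X] := 𝔞.map redY with hJ
  have hXN : (X : k[X]) ^ N ∈ J := by
    have := Ideal.mem_map_of_mem redY h1
    rw [hJ]
    simpa [redY] using this
  -- J = span {X^r}
  obtain ⟨r, hr⟩ : ∃ r : ℕ, J = Ideal.span {(X : k[X]) ^ r} := by
    have hpr : J.IsPrincipal := inferInstance
    have hgen : J = Ideal.span {Submodule.IsPrincipal.generator J} :=
      (Ideal.span_singleton_generator J).symm
    have hdvd : Submodule.IsPrincipal.generator J ∣ (X : k[X]) ^ N := by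
      rw [hgen] at hXN
      exact Ideal.mem_span_singleton.1 hXN
    obtain ⟨i, -, hi⟩ := (dvd_prime_pow Polynomial.prime_X N).1 hdvd
    exact ⟨i, hgen.trans (Ideal.span_singleton_eq_span_singleton.2 hi)⟩
  -- decomposition claim
  have claim1 : ∀ g : (k[X])[X], ∃ a ∈ 𝔞, ∃ q : (k[X])[X], q.degree < r ∧
      ∃ g₂, g = a + q + C (X : k[X]) * g₂ := by
    intro g
    have hmon : ((X : k[X]) ^ r).Monic := monic_X_pow r
    have hdiv := Polynomial.modByMonic_add_div (redY g) ((X : k[X]) ^ r)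
    have hmem : (X : k[X]) ^ r * (redY g /ₘ (X : k[X]) ^ r) ∈ J := by
      rw [hr]
      exact Ideal.mul_mem_right _ _ (Ideal.subset_span rfl)
    obtain ⟨a, ha, hae⟩ := (Ideal.mem_map_iff_of_surjective redY redY_surjective).1 hmem
    set qb := redY g %ₘ (X : k[X]) ^ r with hqb
    have hqbdeg : qb.degree < r := by
      have := Polynomial.degree_modByMonic_lt (redY g) hmon
      rwa [degree_X_pow] at this
    refine ⟨a, ha, qb.map C, ?_, ?_⟩
    · exact lt_of_le_of_lt (degree_map_le) hqbdeg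
    · have hk : g - a - qb.map C ∈ RingHom.ker (redY (k := k)) := by
        rw [RingHom.mem_ker, map_sub, map_sub, redY_map_C, hae]
        linear_combination (-1 : k[X]) * hdiv
      rw [ker_redY] at hk
      obtain ⟨g₂, hg₂⟩ := Ideal.mem_span_singleton'.1 hk
      refine ⟨g₂, ?_⟩
      rw [mul_comm, hg₂]; ring
  -- every g lies in 𝔞 + degreeLT r + y^m B
  have claim2 : ∀ (m : ℕ) (g : (k[X])[X]), ∃ a ∈ 𝔞, ∃ q : (k[X])[X], q.degree < r ∧
      ∃ g₂, g = a + q + C (X : k[X]) ^ m * g₂ := by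
    intro m
    induction m with
    | zero =>
      intro g
      exact ⟨0, 𝔞.zero_mem, 0, by simp [WithBot.bot_lt_coe], g, by simp⟩
    | succ m ih =>
      intro g
      obtain ⟨a, ha, q, hq, g₁, hg⟩ := ih g
      obtain ⟨a', ha', q', hq', g₂, hg'⟩ := claim1 g₁
      refine ⟨a + C (X : k[X]) ^ m * a', 𝔞.add_mem ha (𝔞.mul_mem_left _ ha'),
        q + C (X : k[X]) ^ m * q', ?_, g₂, ?_⟩
      · refine lt_of_le_of_lt (degree_add_le _ _) (max_lt hq ?_)
        rw [← C_pow]
        rw [degree_C_mul (pow_ne_zero m X_ne_zero)]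
        exact hq'
      · rw [hg, hg']; ring
  obtain ⟨a, ha, q, hq, g₂, hg⟩ := claim2 N ((X : (k[X])[X]) ^ r)
  -- F = X^r - q
  have hF : (X : (k[X])[X]) ^ r - q ∈ 𝔞 := by
    have : (X : (k[X])[X]) ^ r - q = a + C (X : k[X]) ^ N * g₂ := by rw [hg]; ring
    rw [this]
    exact 𝔞.add_mem ha (𝔞.mul_mem_right _ h2)
  have hmonic : ((X : (k[X])[X]) ^ r - q).Monic := monic_X_pow_sub hq
  have hredF : redY ((X : (k[X])[X]) ^ r - q) = (X : k[X]) ^ r := by
    have hmem : redY ((X : (k[X])[X]) ^ r - q) ∈ J := Ideal.mem_map_of_mem redY hF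
    rw [hr, Ideal.mem_span_singleton] at hmem
    have hX : redY ((X : (k[X])[X]) ^ r) = (X : k[X]) ^ r := by simp [redY]
    rw [map_sub, hX] at hmem ⊢
    have hdq : (X : k[X]) ^ r ∣ redY q := by
      have := dvd_sub (dvd_refl ((X : k[X]) ^ r)) hmem
      simpa using this
    have hdeg : (redY q).degree < ((X : k[X]) ^ r).degree := by
      rw [degree_X_pow]
      exact lt_of_le_of_lt (by unfold redY; exact degree_map_le) hq
    rw [Polynomial.eq_zero_of_dvd_of_degree_lt hdq hdeg, sub_zero]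
  refine ⟨_, hF, hmonic, ?_⟩
  intro g hg𝔞
  have hmem : redY g ∈ J := Ideal.mem_map_of_mem redY hg𝔞
  rw [hr, Ideal.mem_span_singleton'] at hmem
  obtain ⟨sb, hsb⟩ := hmem
  have hk : g - sb.map C * ((X : (k[X])[X]) ^ r - q) ∈ RingHom.ker (redY (k := k)) := by
    rw [RingHom.mem_ker, map_sub, map_mul, redY_map_C, hredF, hsb, sub_self]
  rw [ker_redY] at hk
  have : g = sb.map C * ((X : (k[X])[X]) ^ r - q) + (g - sb.map C * ((X : (k[X])[X]) ^ r - q)) := by
    ring
  rw [this]
  exact Ideal.add_mem _ (Ideal.mem_sup_left (Ideal.mul_mem_left _ _ (Ideal.subset_span rfl)))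
    (Ideal.mem_sup_right hk)

end LemmaII

section Iso

variable (k : Type*) [Field k] (i j : Fin 2)

/-- `k[x_0,x_1] → k[y][x]`, `X i ↦ y`, other ↦ `x`. -/
noncomputable def toNested : MvPolynomial (Fin 2) k →ₐ[k] (k[X])[X] :=
  MvPolynomial.aeval (fun l : Fin 2 => if l = i then (C (X : k[X]) : (k[X])[X]) else X)

noncomputable def ofNested : (k[X])[X] →ₐ[k] MvPolynomial (Fin 2) k :=
  Polynomial.eval₂AlgHom (Polynomial.aeval (MvPolynomial.X i : MvPolynomial (Fin 2) k))
    (MvPolynomial.X j) (fun _ => Commute.all _ _)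

variable {i j}

theorem toNested_X_i : toNested k i (MvPolynomial.X i) = C (X : k[X]) := by
  simp [toNested]

theorem toNested_X_j (hij : i ≠ j) : toNested k i (MvPolynomial.X j) = X := by
  simp [toNested, hij.symm]

theorem ofNested_X : ofNested k i j X = MvPolynomial.X j := by
  simp [ofNested]

theorem ofNested_C_X : ofNested k i j (C X) = MvPolynomial.X i := by
  simp [ofNested]

theorem eq_or_eq (hij : i ≠ j) (l : Fin 2) : l = i ∨ l = j := by
  fin_cases l <;> fin_cases i <;> fin_cases j <;> simp_all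

noncomputable def nestedEquiv (hij : i ≠ j) : MvPolynomial (Fin 2) k ≃ₐ[k] (k[X])[X] :=
  AlgEquiv.ofAlgHom (toNested k i) (ofNested k i j)
    (by
      apply Polynomial.algHom_ext'
      · apply Polynomial.algHom_ext
        simp [ofNested_C_X, toNested_X_i]
      · simp [ofNested_X, toNested_X_j k hij])
    (by
      apply MvPolynomial.algHom_ext
      intro l
      rcases eq_or_eq hij l with rfl | rfl
      · simp [toNested_X_i, ofNested_C_X]
      · simp [toNested_X_j k hij, ofNested_X])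

theorem nestedEquiv_X_i (hij : i ≠ j) : nestedEquiv k hij (MvPolynomial.X i) = C (X : k[X]) :=
  toNested_X_i k

theorem nestedEquiv_X_j (hij : i ≠ j) : nestedEquiv k hij (MvPolynomial.X j) = X :=
  toNested_X_j k hij

theorem nestedEquiv_symm_X (hij : i ≠ j) : (nestedEquiv k hij).symm X = MvPolynomial.X j :=
  ofNested_X k

theorem nestedEquiv_symm_C_X (hij : i ≠ j) :
    (nestedEquiv k hij).symm (C X) = MvPolynomial.X i :=
  ofNested_C_X k

end Iso

section Family

variable {A : Type*} [CommRing A]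

/-- the family ideal `(f) + (t - y)·𝔟[t]`. -/
noncomputable def famIdeal (y f : A) (𝔟 : Ideal A) : Ideal A[X] :=
  Ideal.span {C f} ⊔ Ideal.span {X - C y} * 𝔟.map C

theorem map_eval_famIdeal (y f : A) (𝔟 : Ideal A) (a : A) :
    Ideal.map (evalRingHom a) (famIdeal y f 𝔟) = Ideal.span {f} ⊔ Ideal.span {a - y} * 𝔟 := by
  unfold famIdeal
  rw [Ideal.map_sup, Ideal.map_mul, Ideal.map_span, Ideal.map_span, Ideal.map_map]
  have : (evalRingHom a).comp (C : A →+* A[X]) = RingHom.id A := by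
    ext b; simp
  rw [this, Ideal.map_id]
  simp

/-- elements of `𝔟[t]` whose value at `t = y` lies in `(f)` are in the family ideal (`f ∈ 𝔟`). -/
theorem mem_famIdeal_of (y f : A) (𝔟 : Ideal A) (hf : f ∈ 𝔟) (g : A[X]) (hg : g ∈ 𝔟.map C)
    (hgy : g.eval y ∈ Ideal.span {f}) : g ∈ famIdeal y f 𝔟 := by
  obtain ⟨s, hs⟩ := Ideal.mem_span_singleton'.1 hgy
  -- g - C (s f) has root y
  have hroot : (g - C (s * f)).IsRoot y := by
    simp [IsRoot, hs]
  obtain ⟨g', hg'⟩ := (Polynomial.dvd_iff_isRoot.2 hroot)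
  -- (X - C y) g' ∈ 𝔟[t] ⇒ g' ∈ 𝔟[t]
  have hmem : (X - C y) * g' ∈ 𝔟.map C := by
    rw [← hg']
    refine Ideal.sub_mem _ hg ?_
    exact Ideal.mem_map_of_mem C (𝔟.mul_mem_left s hf)
  have hker : RingHom.ker (mapRingHom (Ideal.Quotient.mk 𝔟)) = 𝔟.map C := by
    rw [Polynomial.ker_mapRingHom, Ideal.mk_ker]
  have hg'mem : g' ∈ 𝔟.map C := by
    rw [← hker, RingHom.mem_ker] at hmem ⊢
    rw [map_mul] at hmem
    have hmonic : (mapRingHom (Ideal.Quotient.mk 𝔟) (X - C y)).Monic := by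
      simpa using monic_X_sub_C (Ideal.Quotient.mk 𝔟 y)
    exact (hmonic.mul_right_eq_zero_iff).1 hmem
  have : g = C s * C f + (X - C y) * g' := by
    rw [← hg', ← C_mul]; ring
  rw [this]
  unfold famIdeal
  exact Ideal.add_mem _ (Ideal.mem_sup_left (Ideal.mul_mem_left _ _ (Ideal.subset_span rfl)))
    (Ideal.mem_sup_right (Ideal.mul_mem_mul (Ideal.subset_span rfl) hg'mem))

theorem famIdeal_le_map (y f : A) (𝔟 : Ideal A) (hf : f ∈ 𝔟) : famIdeal y f 𝔟 ≤ 𝔟.map C := by
  unfold famIdeal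
  refine sup_le ?_ Ideal.mul_le_right
  rw [Ideal.span_le, Set.singleton_subset_iff]
  exact Ideal.mem_map_of_mem C hf

theorem eval_mem_of_mem_famIdeal (y f : A) (𝔟 : Ideal A) (g : A[X]) (hg : g ∈ famIdeal y f 𝔟) :
    g.eval y ∈ Ideal.span {f} := by
  have := Ideal.mem_map_of_mem (evalRingHom y) hg
  rw [map_eval_famIdeal, sub_self] at this
  simpa using this

end Family

section Algs

attribute [local instance] Polynomial.algebra

variable {k A : Type*} [Field k] [CommRing A] [Algebra k A]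

theorem finite_flat_poly (V : Type*) [CommRing V] [Algebra k V] [Module.Finite k V] :
    Module.Finite k[X] V[X] ∧ Module.Flat k[X] V[X] := by
  have h : IsBaseChange k[X] (IsScalarTower.toAlgHom k V V[X]).toLinearMap :=
    Algebra.IsPushout.out
  exact ⟨Module.Finite.equiv h.equiv, Module.Flat.of_linearEquiv h.equiv.symm⟩

/-- reduction of coefficients mod `𝔟`, as a `k[t]`-algebra map. -/
noncomputable def θ₁ (𝔟 : Ideal A) : A[X] →ₐ[k[X]] (A ⧸ 𝔟)[X] :=
  { mapRingHom (Ideal.Quotient.mk 𝔟) with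
    commutes' := by
      intro p
      simp only [Polynomial.algebraMap_def, RingHom.toMonoidHom_eq_coe, OneHom.toFun_eq_coe,
        MonoidHom.toOneHom_coe, MonoidHom.coe_coe, coe_mapRingHom, Polynomial.map_map]
      rfl }

theorem θ₁_apply (𝔟 : Ideal A) (g : A[X]) : θ₁ (k := k) 𝔟 g = g.map (Ideal.Quotient.mk 𝔟) := rfl

theorem θ₁_eq_zero_iff (𝔟 : Ideal A) (g : A[X]) : θ₁ (k := k) 𝔟 g = 0 ↔ g ∈ 𝔟.map C := by
  rw [θ₁_apply, ← coe_mapRingHom, ← RingHom.mem_ker, Polynomial.ker_mapRingHom, Ideal.mk_ker]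

/-- evaluate at `t = y`, pass to nested polynomials and reduce mod `F`. -/
noncomputable def θ₂ (y : A) (e : A ≃ₐ[k] (k[X])[X]) (he : e y = C X) (F : (k[X])[X]) :
    A[X] →ₐ[k[X]] AdjoinRoot F :=
  { (AdjoinRoot.mk F).comp ((e : A →+* (k[X])[X]).comp (evalRingHom y)) with
    commutes' := by
      intro p
      rw [AdjoinRoot.algebraMap_eq]
      show AdjoinRoot.mk F (e (eval y (p.map (algebraMap k A)))) = AdjoinRoot.of F p
      rw [AdjoinRoot.of, RingHom.comp_apply]
      congr 1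
      induction p using Polynomial.induction_on' with
      | add p q hp hq => simp only [Polynomial.map_add, eval_add, map_add, hp, hq]
      | monomial n a =>
        simp only [map_monomial, eval_monomial, map_mul, map_pow, he, AlgEquiv.commutes]
        rw [← C_pow, Polynomial.algebraMap_apply, Polynomial.algebraMap_apply,
          Algebra.algebraMap_self, RingHom.id_apply, ← C_mul,
          ← Polynomial.C_mul_X_pow_eq_monomial] }

theorem θ₂_apply (y : A) (e : A ≃ₐ[k] (k[X])[X]) (he : e y = C X) (F : (k[X])[X]) (g : A[X]) :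
    θ₂ y e he F g = AdjoinRoot.mk F (e (g.eval y)) := rfl

theorem θ₂_eq_zero_iff (y : A) (e : A ≃ₐ[k] (k[X])[X]) (he : e y = C X) (F : (k[X])[X])
    (g : A[X]) : θ₂ y e he F g = 0 ↔ g.eval y ∈ Ideal.span {e.symm F} := by
  rw [θ₂_apply, AdjoinRoot.mk_eq_zero, Ideal.mem_span_singleton]
  constructor
  · rintro ⟨s, hs⟩
    refine ⟨e.symm s, ?_⟩
    apply e.injective
    rw [map_mul, AlgEquiv.apply_symm_apply, AlgEquiv.apply_symm_apply, hs]
  · rintro ⟨s, hs⟩
    refine ⟨e s, ?_⟩
    rw [hs, map_mul, AlgEquiv.apply_symm_apply]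

end Algs

end Groth.Agent.Lib.Helper58.PullApart
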