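import Groth.Agent.Lib.Helper58.PullApart

set_option autoImplicit false
universe u

namespace Groth.Agent.Lib.Helper58.PullApart

open Polynomial TensorProduct

section Fam

attribute [local instance] Polynomial.algebra

variable {k A : Type*} [Field k] [CommRing A] [Algebra k A]

theorem family_finite_flat (y : A) (e : A ≃ₐ[k] (k[X])[X]) (he : e y = C X) (𝔟 : Ideal A)
    [Module.Finite k (A ⧸ 𝔟)] (F : (k[X])[X]) (hF : F.Monic) (hf : e.symm F ∈ 𝔟) :
    Module.Finite k[X] (A[X] ⧸ famIdeal y (e.symm F) 𝔟) ∧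
      Module.Flat k[X] (A[X] ⧸ famIdeal y (e.symm F) 𝔟) := by
  haveI := (finite_flat_poly (k := k) (A ⧸ 𝔟)).1
  haveI := (finite_flat_poly (k := k) (A ⧸ 𝔟)).2
  haveI := hF.finite_adjoinRoot
  haveI := hF.free_adjoinRoot
  refine finite_flat_of_inf_le (famIdeal y (e.symm F) 𝔟) (θ₁ (k := k) 𝔟) (θ₂ y e he F) ?_ ?_ ?_
  · intro a ha
    rw [θ₁_eq_zero_iff]
    exact famIdeal_le_map y _ 𝔟 hf ha
  · intro a ha
    rw [θ₂_eq_zero_iff]
    exact eval_mem_of_mem_famIdeal y _ 𝔟 a ha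
  · intro g h1 h2
    rw [θ₁_eq_zero_iff] at h1
    rw [θ₂_eq_zero_iff] at h2
    exact mem_famIdeal_of y _ 𝔟 hf g h1 h2

end Fam

section Pt

variable {k : Type*} [Field k] {σ : Type*}

/-- the maximal ideal of the point `p`. -/
noncomputable def ptIdeal (p : σ → k) : Ideal (MvPolynomial σ k) :=
  Ideal.span (Set.range fun l : σ => MvPolynomial.X l - MvPolynomial.C (p l))

theorem sub_C_eval_mem (p : σ → k) (g : MvPolynomial σ k) :
    g - MvPolynomial.C (MvPolynomial.eval p g) ∈ ptIdeal p := by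
  induction g using MvPolynomial.induction_on with
  | C a => simp
  | add g h hg hh =>
    have : g + h - MvPolynomial.C (MvPolynomial.eval p (g + h)) =
        (g - MvPolynomial.C (MvPolynomial.eval p g)) +
          (h - MvPolynomial.C (MvPolynomial.eval p h)) := by
      rw [map_add, map_add]; ring
    rw [this]
    exact Ideal.add_mem _ hg hh
  | mul_X g l hg =>
    have : g * MvPolynomial.X l - MvPolynomial.C (MvPolynomial.eval p (g * MvPolynomial.X l)) =
        (g - MvPolynomial.C (MvPolynomial.eval p g)) * MvPolynomial.X l +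
          MvPolynomial.C (MvPolynomial.eval p g) * (MvPolynomial.X l - MvPolynomial.C (p l)) := by
      rw [map_mul, MvPolynomial.eval_X, map_mul]; ring
    rw [this]
    exact Ideal.add_mem _ (Ideal.mul_mem_right _ _ hg)
      (Ideal.mul_mem_left _ _ (Ideal.subset_span ⟨l, rfl⟩))

theorem mem_ptIdeal_iff (p : σ → k) (g : MvPolynomial σ k) :
    g ∈ ptIdeal p ↔ MvPolynomial.eval p g = 0 := by
  constructor
  · intro hg
    have hle : ptIdeal p ≤ RingHom.ker (MvPolynomial.eval p) := by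
      unfold ptIdeal
      rw [Ideal.span_le]
      rintro _ ⟨l, rfl⟩
      simp
    exact hle hg
  · intro h
    have := sub_C_eval_mem p g
    rwa [h, map_zero, sub_zero] at this

theorem ptIdeal_isMaximal (p : σ → k) : (ptIdeal p).IsMaximal := by
  have : ptIdeal p = RingHom.ker (MvPolynomial.eval p) := by
    ext g; rw [mem_ptIdeal_iff, RingHom.mem_ker]
  rw [this]
  exact RingHom.ker_isMaximal_of_surjective _ (fun a => ⟨MvPolynomial.C a, by simp⟩)

theorem ptIdeal_zero_fin2 :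
    ptIdeal (0 : Fin 2 → k) = Ideal.span {MvPolynomial.X 0, MvPolynomial.X 1} := by
  unfold ptIdeal
  congr 1
  ext g
  constructor
  · rintro ⟨l, rfl⟩
    fin_cases l <;> simp
  · intro hg
    rcases hg with rfl | rfl
    · exact ⟨0, by simp⟩
    · exact ⟨1, by simp⟩

end Pt

section Main

attribute [local instance] Polynomial.algebra

variable (k : Type u) [Field k] [IsAlgClosed k]

theorem main (𝔞 : Ideal (MvPolynomial (Fin 2) k)) [Module.Finite k (MvPolynomial (Fin 2) k ⧸ 𝔞)]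
    (hn : 2 ≤ Module.finrank k (MvPolynomial (Fin 2) k ⧸ 𝔞))
    (hsupp : 𝔞.radical = Ideal.span {MvPolynomial.X 0, MvPolynomial.X 1}) :
    ∃ 𝔞' : Ideal (MvPolynomial (Fin 2) k)[X],
      RingHom.Flat (R := k[X]) (S := (MvPolynomial (Fin 2) k)[X] ⧸ 𝔞')
        ((Ideal.Quotient.mk 𝔞').comp (Polynomial.mapRingHom (algebraMap k (MvPolynomial (Fin 2) k)))) ∧
      RingHom.Finite (A := k[X]) (B := (MvPolynomial (Fin 2) k)[X] ⧸ 𝔞')
        ((Ideal.Quotient.mk 𝔞').comp (Polynomial.mapRingHom (algebraMap k (MvPolynomial (Fin 2) k)))) ∧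
      Ideal.map (Polynomial.evalRingHom (0 : MvPolynomial (Fin 2) k)) 𝔞' = 𝔞 ∧
      ∀ c : k, c ≠ 0 →
        Ideal.map (Polynomial.evalRingHom (MvPolynomial.C c)) 𝔞' ≤ Ideal.span {MvPolynomial.X 0, MvPolynomial.X 1} ∧
        ∃ p : Fin 2 → k, p ≠ 0 ∧
          Ideal.map (Polynomial.evalRingHom (MvPolynomial.C c)) 𝔞' ≤
            Ideal.span (Set.range (fun i : Fin 2 => MvPolynomial.X i - MvPolynomial.C (p i))) := by
  classical
  set M : Ideal (MvPolynomial (Fin 2) k) := Ideal.span {MvPolynomial.X 0, MvPolynomial.X 1} with hM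
  have hM0 : ptIdeal (0 : Fin 2 → k) = M := ptIdeal_zero_fin2
  have hMmax : M.IsMaximal := hM0 ▸ ptIdeal_isMaximal 0
  have h𝔞M : 𝔞 ≤ M := hsupp ▸ Ideal.le_radical
  -- some variable is not in 𝔞
  obtain ⟨i, hi⟩ : ∃ i : Fin 2, (MvPolynomial.X i : MvPolynomial (Fin 2) k) ∉ 𝔞 := by
    by_contra hcon
    push Not at hcon
    have hM𝔞 : M ≤ 𝔞 := by
      rw [hM, Ideal.span_le]
      rintro g (rfl | rfl)
      · exact hcon 0
      · exact hcon 1
    have : Module.finrank k (MvPolynomial (Fin 2) k ⧸ 𝔞) ≤ 1 := by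
      refine finrank_le_one (1 : MvPolynomial (Fin 2) k ⧸ 𝔞) ?_
      intro w
      obtain ⟨g, rfl⟩ := Ideal.Quotient.mk_surjective w
      refine ⟨MvPolynomial.eval 0 g, ?_⟩
      have hmem : g - MvPolynomial.C (MvPolynomial.eval 0 g) ∈ 𝔞 :=
        hM𝔞 (hM0 ▸ sub_C_eval_mem 0 g)
      show Ideal.Quotient.mk 𝔞 ((MvPolynomial.eval 0 g) • (1 : MvPolynomial (Fin 2) k)) = _
      rw [MvPolynomial.smul_eq_C_mul, mul_one]
      exact (Ideal.Quotient.eq.2 hmem).symm
    omega
  obtain ⟨j, hij⟩ : ∃ j : Fin 2, i ≠ j := by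
    fin_cases i
    · exact ⟨1, by decide⟩
    · exact ⟨0, by decide⟩
  set y : MvPolynomial (Fin 2) k := MvPolynomial.X i with hy
  set e := nestedEquiv k hij with he
  have hey : e y = C X := nestedEquiv_X_i k hij
  obtain ⟨N, hNi, hNj⟩ : ∃ N : ℕ, (MvPolynomial.X i : MvPolynomial (Fin 2) k) ^ N ∈ 𝔞 ∧
      (MvPolynomial.X j : MvPolynomial (Fin 2) k) ^ N ∈ 𝔞 := by
    have hXM : ∀ l : Fin 2, (MvPolynomial.X l : MvPolynomial (Fin 2) k) ∈ 𝔞.radical := by
      intro l
      rw [hsupp]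
      fin_cases l
      · exact Ideal.subset_span (by simp)
      · exact Ideal.subset_span (by simp)
    obtain ⟨n₁, h₁⟩ := hXM i
    obtain ⟨n₂, h₂⟩ := hXM j
    exact ⟨max n₁ n₂, 𝔞.pow_mem_of_pow_mem h₁ (le_max_left _ _),
      𝔞.pow_mem_of_pow_mem h₂ (le_max_right _ _)⟩
  set 𝔞B : Ideal (k[X])[X] := 𝔞.comap (e.symm : (k[X])[X] →+* MvPolynomial (Fin 2) k) with h𝔞B
  obtain ⟨F, hF𝔞, hFmonic, hle⟩ := exists_monic_mem 𝔞B N
    (by
      show e.symm (X ^ N) ∈ 𝔞
      rw [map_pow, he, nestedEquiv_symm_X]; exact hNj)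
    (by
      show e.symm (C X ^ N) ∈ 𝔞
      rw [map_pow, he, nestedEquiv_symm_C_X]; exact hNi)
  set f : MvPolynomial (Fin 2) k := e.symm F with hf
  have hf𝔞 : f ∈ 𝔞 := hF𝔞
  have h𝔞le : 𝔞 ≤ Ideal.span {f} ⊔ Ideal.span {y} := by
    intro g hg
    have hg' : e g ∈ 𝔞B := by
      show e.symm (e g) ∈ 𝔞
      rwa [AlgEquiv.symm_apply_apply]
    obtain ⟨a, ha, b, hb, hab⟩ := Submodule.mem_sup.1 (hle hg')
    obtain ⟨s, rfl⟩ := Ideal.mem_span_singleton'.1 ha
    obtain ⟨s', rfl⟩ := Ideal.mem_span_singleton'.1 hb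
    have : g = e.symm s * f + e.symm s' * y := by
      apply e.injective
      rw [← hab]
      simp only [map_add, map_mul, AlgEquiv.apply_symm_apply, hey, hf]
    rw [this]
    exact Ideal.add_mem _
      (Ideal.mem_sup_left (Ideal.mul_mem_left _ _ (Ideal.subset_span rfl)))
      (Ideal.mem_sup_right (Ideal.mul_mem_left _ _ (Ideal.subset_span rfl)))
  set 𝔟 : Ideal (MvPolynomial (Fin 2) k) := 𝔞.colon {y} with h𝔟
  have hmem𝔟 : ∀ g, g ∈ 𝔟 ↔ g * y ∈ 𝔞 := fun g => by
    rw [h𝔟, Submodule.mem_colon_singleton, smul_eq_mul]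
  have h𝔞𝔟 : 𝔞 ≤ 𝔟 := fun g hg => (hmem𝔟 g).2 (𝔞.mul_mem_right _ hg)
  have h𝔟top : 𝔟 ≠ ⊤ := by
    intro h
    have h1 : (1 : MvPolynomial (Fin 2) k) ∈ 𝔟 := h ▸ Submodule.mem_top
    rw [hmem𝔟, one_mul] at h1
    exact hi h1
  have h𝔟M : 𝔟 ≤ M := by
    obtain ⟨𝔪, h𝔪, h𝔟𝔪⟩ := Ideal.exists_le_maximal 𝔟 h𝔟top
    have hM𝔪 : M ≤ 𝔪 := by
      rw [← hsupp]
      exact (h𝔪.isPrime.radical_le_iff).2 (h𝔞𝔟.trans h𝔟𝔪)
    rw [hMmax.eq_of_le h𝔪.ne_top hM𝔪]
    exact h𝔟𝔪
  have hf𝔟 : f ∈ 𝔟 := h𝔞𝔟 hf𝔞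
  have h𝔞eq : Ideal.span {f} ⊔ Ideal.span {y} * 𝔟 = 𝔞 := by
    apply le_antisymm
    · refine sup_le ?_ ?_
      · rw [Ideal.span_le, Set.singleton_subset_iff]; exact hf𝔞
      · rw [Ideal.span_singleton_mul_le_iff]
        intro z hz
        rw [mul_comm]; exact (hmem𝔟 z).1 hz
    · intro g hg
      obtain ⟨a, ha, b, hb, hab⟩ := Submodule.mem_sup.1 (h𝔞le hg)
      obtain ⟨s, rfl⟩ := Ideal.mem_span_singleton'.1 ha
      obtain ⟨s', rfl⟩ := Ideal.mem_span_singleton'.1 hb
      have hs' : s' ∈ 𝔟 := by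
        rw [hmem𝔟]
        have : s' * y = g - s * f := by rw [← hab]; ring
        rw [this]
        exact 𝔞.sub_mem hg (𝔞.mul_mem_left _ hf𝔞)
      rw [← hab]
      exact Ideal.add_mem _
        (Ideal.mem_sup_left (Ideal.mul_mem_left _ _ (Ideal.subset_span rfl)))
        (Ideal.mem_sup_right (by
          have hc' : s' * y = y * s' := mul_comm _ _
          rw [hc']; exact Ideal.mul_mem_mul (Ideal.subset_span rfl) hs'))
  haveI : Module.Finite k (MvPolynomial (Fin 2) k ⧸ 𝔟) :=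
    Module.Finite.of_surjective (Ideal.Quotient.factorₐ k h𝔞𝔟).toLinearMap
      (Ideal.Quotient.factor_surjective h𝔞𝔟)
  obtain ⟨hfin, hflat⟩ := family_finite_flat y e hey 𝔟 F hFmonic hf𝔟
  refine ⟨famIdeal y f 𝔟, ?_, ?_, ?_, ?_⟩
  · exact RingHom.flat_algebraMap_iff.2 hflat
  · exact RingHom.finite_algebraMap.2 hfin
  · rw [map_eval_famIdeal, zero_sub, Ideal.span_singleton_neg, h𝔞eq]
  · intro c hc
    rw [map_eval_famIdeal]
    constructor
    · refine sup_le ?_ (Ideal.mul_le_right.trans h𝔟M)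
      rw [Ideal.span_le, Set.singleton_subset_iff]; exact h𝔞M hf𝔞
    · have hdeg : (F.map (evalRingHom c)).degree ≠ 0 := by
        rw [hFmonic.degree_map]
        intro h0
        have hF1 : F = 1 := hFmonic.degree_le_zero_iff_eq_one.1 h0.le
        apply hi
        have h1 : (1 : MvPolynomial (Fin 2) k) ∈ 𝔞 := by
          have := hf𝔞
          rwa [hf, hF1, map_one] at this
        have := 𝔞.mul_mem_left (MvPolynomial.X i) h1
        rwa [mul_one] at this
      obtain ⟨x₀, hx₀⟩ := IsAlgClosed.exists_root _ hdeg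
      set p : Fin 2 → k := fun l => if l = i then c else x₀ with hp
      refine ⟨p, ?_, ?_⟩
      · intro hp0
        have := congrFun hp0 i
        simp only [hp, if_true, Pi.zero_apply] at this
        exact hc this
      · have hevalp : (MvPolynomial.eval p : MvPolynomial (Fin 2) k →+* k) =
            (Polynomial.eval₂RingHom (evalRingHom c) x₀).comp
              (e : MvPolynomial (Fin 2) k →+* (k[X])[X]) := by
          apply MvPolynomial.ringHom_ext
          · intro a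
            have hCa : e (MvPolynomial.C a) = C (C a) := by
              rw [← MvPolynomial.algebraMap_eq, e.commutes]; rfl
            simp [hCa]
          · intro l
            rcases eq_or_eq hij l with rfl | rfl
            · simp [hp, he, nestedEquiv_X_i]
            · simp [hp, he, nestedEquiv_X_j, hij.symm]
        have hfp : f ∈ ptIdeal p := by
          rw [mem_ptIdeal_iff, hevalp]
          show Polynomial.eval₂ (evalRingHom c) x₀ (e (e.symm F)) = 0
          rw [e.apply_symm_apply, ← Polynomial.eval_map]; exact hx₀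
        show _ ≤ ptIdeal p
        refine sup_le ?_ ?_
        · rw [Ideal.span_le, Set.singleton_subset_iff]; exact hfp
        · refine Ideal.mul_le_left.trans ?_
          rw [Ideal.span_le, Set.singleton_subset_iff]
          have : (MvPolynomial.C c - y : MvPolynomial (Fin 2) k) =
              -(MvPolynomial.X i - MvPolynomial.C (p i)) := by simp [hp, hy]
          rw [this]; exact neg_mem (Ideal.subset_span ⟨i, rfl⟩)

end Main

end Groth.Agent.Lib.Helper58.PullApart
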