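import Mathlib
import Groth.Prelude
import Groth.Agent.H76.FlatModel
import Groth.Agent.Lib.Helper13.FibreDimDescent
import Groth.Agent.Lib.Helper58.FibreDimStage

set_option autoImplicit false

namespace Groth.Agent.Lib.Helper58.RelGCIModel

open TensorProduct Synt
open Groth.Agent.Lib.Helper13.GenFibreCons

universe u

attribute [local instance] MvPolynomial.algebraMvPolynomial

section BC

variable {A₀ : Type u} (A' : Type u) [CommRing A₀] [CommRing A'] [Algebra A₀ A'] (n c : ℕ)
  (F₀ : Fin c → MvPolynomial (Fin n) A₀)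

/-- The base-changed relations. -/
noncomputable abbrev Fmap : Fin c → MvPolynomial (Fin n) A' :=
  fun i => MvPolynomial.map (algebraMap A₀ A') (F₀ i)

/-- The comparison map between the presented algebras. -/
noncomputable def bcHom : RelGCIRing A₀ n c F₀ →+* RelGCIRing A' n c (Fmap A' n c F₀) :=
  Ideal.quotientMap _ (MvPolynomial.map (algebraMap A₀ A')) (by
    rw [Ideal.span_le]
    rintro _ ⟨i, rfl⟩
    exact Ideal.subset_span ⟨i, rfl⟩)

theorem bcHom_mk (p : MvPolynomial (Fin n) A₀) :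
    bcHom A' n c F₀ (Ideal.Quotient.mk _ p) =
      Ideal.Quotient.mk _ (MvPolynomial.map (algebraMap A₀ A') p) := rfl

/-- The algebra structure given by `bcHom`. -/
noncomputable def bcAlgebra : Algebra (RelGCIRing A₀ n c F₀) (RelGCIRing A' n c (Fmap A' n c F₀)) :=
  (bcHom A' n c F₀).toAlgebra

attribute [local instance] bcAlgebra

theorem bcTower :
    IsScalarTower A₀ (RelGCIRing A₀ n c F₀) (RelGCIRing A' n c (Fmap A' n c F₀)) := by
  refine IsScalarTower.of_algebraMap_eq (R := A₀) (S := RelGCIRing A₀ n c F₀)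
    (A := RelGCIRing A' n c (Fmap A' n c F₀)) (fun a => ?_)
  change _ = bcHom A' n c F₀ (Ideal.Quotient.mk _ (MvPolynomial.C a))
  rw [bcHom_mk, MvPolynomial.map_C]
  rfl

attribute [local instance] bcTower

theorem isPushout_relGCI :
    Algebra.IsPushout A₀ A' (RelGCIRing A₀ n c F₀) (RelGCIRing A' n c (Fmap A' n c F₀)) := by
  refine Groth.Agent.H76.FlatModel.isPushout_quotient (n := n) (r := c)
    Ideal.Quotient.mk_surjective Ideal.Quotient.mk_surjective F₀ ?_ ?_ (fun p => rfl)
  · exact Ideal.mk_ker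
  · exact Ideal.mk_ker

instance : Algebra.FiniteType A₀ (RelGCIRing A₀ n c F₀) :=
  Algebra.FiniteType.of_surjective (Ideal.Quotient.mkₐ A₀ _) Ideal.Quotient.mk_surjective

theorem ringKrullDim_fiber_relGCI (p : PrimeSpectrum A') :
    ringKrullDim (p.asIdeal.ResidueField ⊗[A'] RelGCIRing A' n c (Fmap A' n c F₀)) =
      ringKrullDim ((PrimeSpectrum.comap (algebraMap A₀ A') p).asIdeal.ResidueField ⊗[A₀]
        RelGCIRing A₀ n c F₀) := by
  haveI := isPushout_relGCI A' n c F₀
  exact ringKrullDim_fiber_baseChange A₀ (RelGCIRing A₀ n c F₀)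
    (Algebra.IsPushout.equiv A₀ A' (RelGCIRing A₀ n c F₀) (RelGCIRing A' n c (Fmap A' n c F₀))) p

end BC

section Main

variable (R : Type u) [CommRing R] (n c : ℕ) (F : Fin c → MvPolynomial (Fin n) R)

/-- All coefficients of the relations. -/
noncomputable def coeffSet : Set R := ⋃ i, ((F i).coeffs : Set R)

theorem coeffSet_finite : (coeffSet R n c F).Finite :=
  Set.finite_iUnion (fun i => (F i).coeffs.finite_toSet)

theorem exists_relGCI_model (hF : IsRelGCI R n c F) :
    ∃ (R₀ : Type u) (_ : CommRing R₀) (_ : Algebra R₀ R) (F₀ : Fin c → MvPolynomial (Fin n) R₀),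
      Algebra.FiniteType ℤ R₀ ∧ F = Fmap R n c F₀ ∧ IsRelGCI R₀ n c F₀ := by
  classical
  -- the coefficient ring
  let A₀ : Subalgebra ℤ R := Algebra.adjoin ℤ (coeffSet R n c F)
  have hA₀ft : Algebra.FiniteType ℤ A₀ :=
    (Subalgebra.fg_iff_finiteType A₀).mp ⟨(coeffSet_finite R n c F).toFinset, by simp [A₀]⟩
  haveI : IsNoetherianRing A₀ := Algebra.FiniteType.isNoetherianRing ℤ A₀
  have hex : ∀ i, ∃ G : MvPolynomial (Fin n) A₀, MvPolynomial.map (algebraMap A₀ R) G = F i := by
    intro i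
    have : F i ∈ Set.range (MvPolynomial.map (algebraMap A₀ R)) := by
      rw [MvPolynomial.mem_range_map_iff_coeffs_subset]
      intro x hx
      have hx' : x ∈ A₀ := Algebra.subset_adjoin (Set.mem_iUnion.mpr ⟨i, hx⟩)
      exact ⟨⟨x, hx'⟩, rfl⟩
    exact this
  choose F₀ hF₀ using hex
  have hFeq : Fmap R n c F₀ = F := funext hF₀
  have hF' : IsRelGCI R n c (Fmap R n c F₀) := by rw [hFeq]; exact hF
  -- the target set of dimensions
  let d : WithBot ℕ∞ := ((n - c : ℕ) : WithBot ℕ∞)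
  let T : Set (WithBot ℕ∞) := if c ≤ n then {d, ⊥} else {⊥}
  have hT : T.Finite := by
    simp only [T]
    split_ifs <;> simp
  have hbot : (⊥ : WithBot ℕ∞) ∈ T := by
    simp only [T]
    split_ifs <;> simp
  have h : ∀ p : PrimeSpectrum R, ringKrullDim
      ((PrimeSpectrum.comap (algebraMap A₀ R) p).asIdeal.ResidueField ⊗[A₀]
        RelGCIRing A₀ n c F₀) ∈ T := by
    intro p
    rw [← ringKrullDim_fiber_relGCI R n c F₀ p]
    by_cases hnt : Nontrivial (p.asIdeal.ResidueField ⊗[R] RelGCIRing R n c (Fmap R n c F₀))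
    · obtain ⟨hcn, hdim⟩ := hF' p hnt
      rw [hdim]
      simp only [T, if_pos hcn]
      exact Set.mem_insert _ _
    · rw [not_nontrivial_iff_subsingleton] at hnt
      rw [ringKrullDim_eq_bot_of_subsingleton]
      exact hbot
  obtain ⟨s, hs⟩ := Groth.Agent.Lib.Helper58.FibreDimStage.exists_stage_forall_fibreDim_mem
    (RelGCIRing A₀ n c F₀) R T hT h
  refine ⟨Algebra.adjoin A₀ (s : Set R), inferInstance, inferInstance,
    Fmap (Algebra.adjoin A₀ (s : Set R)) n c F₀, ?_, ?_, ?_⟩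
  · haveI : Algebra.FiniteType A₀ (Algebra.adjoin A₀ (s : Set R)) :=
      (Subalgebra.fg_iff_finiteType _).mp (Subalgebra.fg_adjoin_finset s)
    exact Algebra.FiniteType.trans hA₀ft inferInstance
  · funext i
    rw [← hF₀ i]
    simp only [Fmap]
    rw [MvPolynomial.map_map]
    congr 1
  · intro p₁ hnt
    have hmem := hs ⟨p₁.asIdeal, inferInstance⟩
    rw [← ringKrullDim_fiber_relGCI (Algebra.adjoin A₀ (s : Set R)) n c F₀] at hmem
    have hne : ringKrullDim (p₁.asIdeal.ResidueField ⊗[Algebra.adjoin A₀ (s : Set R)]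
        RelGCIRing (Algebra.adjoin A₀ (s : Set R)) n c
          (Fmap (Algebra.adjoin A₀ (s : Set R)) n c F₀)) ≠ ⊥ := by
      intro hbot'
      have := ringKrullDim_nonneg_of_nontrivial (R := p₁.asIdeal.ResidueField ⊗[Algebra.adjoin A₀ (s : Set R)]
        RelGCIRing (Algebra.adjoin A₀ (s : Set R)) n c
          (Fmap (Algebra.adjoin A₀ (s : Set R)) n c F₀))
      rw [hbot'] at this
      exact absurd this (by simp)
    by_cases hcn : c ≤ n
    · refine ⟨hcn, ?_⟩
      simp only [T, if_pos hcn] at hmem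
      rcases hmem with h1 | h1
      · exact h1
      · exact absurd h1 hne
    · simp only [T, if_neg hcn] at hmem
      exact absurd hmem hne

end Main

section Sch

open AlgebraicGeometry CategoryTheory Limits

attribute [local instance] bcAlgebra bcTower

theorem standardSyntomic_approx {X S : Scheme.{u}} (f : X ⟶ S) [IsAffine X] [IsAffine S]
    (hf : Synt.IsStandardSyntomic f) :
    ∃ (X₀ S₀ : Scheme.{u}) (f₀ : X₀ ⟶ S₀) (g : S ⟶ S₀) (g' : X ⟶ X₀), IsAffine X₀ ∧ IsAffine S₀ ∧
      IsPullback g' f f₀ g ∧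
      Algebra.FiniteType ℤ Γ(S₀, ⊤) ∧ LocallyOfFiniteType f₀ ∧ Synt.IsStandardSyntomic f₀ := by
  obtain ⟨R, _, n, c, F, hF, e₁, e₂, hcomm⟩ := hf
  obtain ⟨R₀, _, _, F₀, hft, rfl, hrel⟩ := exists_relGCI_model R n c F hF
  haveI := isPushout_relGCI R n c F₀
  have hpush := CommRingCat.isPushout_of_isPushout R₀ R (RelGCIRing R₀ n c F₀)
    (RelGCIRing R n c (Fmap R n c F₀))
  have hpull := (isPullback_SpecMap_of_isPushout _ _ _ _ hpush).flip
  refine ⟨Spec (CommRingCat.of (RelGCIRing R₀ n c F₀)), Spec (CommRingCat.of R₀),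
    Spec.map (CommRingCat.ofHom (algebraMap R₀ (RelGCIRing R₀ n c F₀))),
    e₂.hom ≫ Spec.map (CommRingCat.ofHom (algebraMap R₀ R)),
    e₁.hom ≫ Spec.map (CommRingCat.ofHom (algebraMap (RelGCIRing R₀ n c F₀)
      (RelGCIRing R n c (Fmap R n c F₀)))),
    inferInstance, inferInstance, ?_, ?_, ?_, ?_⟩
  · refine hpull.of_iso e₁.symm (Iso.refl _) e₂.symm (Iso.refl _) ?_ ?_ ?_ ?_
    · simp
    · rw [Iso.symm_hom, Iso.symm_hom, Iso.eq_inv_comp, ← Category.assoc, hcomm]
      simp
    · simp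
    · simp
  · exact hft.equiv (Scheme.ΓSpecIso (CommRingCat.of R₀)).symm.commRingCatIsoToRingEquiv.toIntAlgEquiv
  · rw [HasRingHomProperty.Spec_iff (P := @LocallyOfFiniteType)]
    exact RingHom.finiteType_algebraMap.mpr inferInstance
  · exact ⟨R₀, inferInstance, n, c, F₀, hrel, Iso.refl _, Iso.refl _, by simp⟩

end Sch

end Groth.Agent.Lib.Helper58.RelGCIModel
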