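import Mathlib
import Groth.Prelude.Def_ArtFun5

/-!
# Restriction of scalars for functors of Artin rings (helper58)

For a `Λ`-algebra `P` with `Algebra P k` compatible with `Algebra Λ k`:
* `G Λ P k : Art P k ⥤ Art Λ k` restriction of scalars, `F' P F = G ⋙ F`;
* transfer of `H0`, `S1 → Hbar`, `Heps`, `TangentStr`, `Hfin` from `F` to `F' P F`;
* `rcring`, `famBack`: a coefficient ring / family over `P` regarded over `Λ`;
* `isVersal_famBack`: versality descends when `h_P` is a smooth functor on `Art Λ k`.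
-/

set_option autoImplicit false
universe u v
open CategoryTheory

namespace Groth.Agent.Lib.Helper58.ResSc

open ArtFun

section Functor

variable {Λ P k : Type u} [CommRing Λ] [CommRing P] [Field k] [Algebra Λ P] [Algebra P k]
  [Algebra Λ k] [IsScalarTower Λ P k]

/-- restriction of scalars on objects -/
def robj (A : Art P k) : Art Λ k :=
  letI : Algebra Λ A := Algebra.compHom A (algebraMap Λ P)
  { carrier := A.carrier
    res :=
      { toRingHom := A.res.toRingHom
        commutes' := fun r => by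
          change A.res (algebraMap P A (algebraMap Λ P r)) = algebraMap Λ k r
          rw [AlgHom.commutes, ← IsScalarTower.algebraMap_apply] }
    res_surjective := A.res_surjective }

theorem robj_algebraMap (A : Art P k) (r : Λ) :
    algebraMap Λ (robj (Λ := Λ) A) r = algebraMap P A (algebraMap Λ P r) := rfl

theorem robj_res (A : Art P k) (a : A) : (robj (Λ := Λ) A).res a = A.res a := rfl

/-- restriction of scalars on morphisms -/
def rmap {A B : Art P k} (f : A ⟶ B) : robj (Λ := Λ) A ⟶ robj B :=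
  ⟨{ toRingHom := f.toAlgHom.toRingHom
     commutes' := fun r => f.toAlgHom.commutes (algebraMap Λ P r) },
   AlgHom.ext fun a => Art.res_app f a⟩

theorem rmap_apply {A B : Art P k} (f : A ⟶ B) (a : A) : rmap (Λ := Λ) f a = f a := rfl

variable (Λ P k) in
/-- restriction of scalars `Art P k ⥤ Art Λ k` -/
def G : Art P k ⥤ Art Λ k where
  obj := robj
  map := rmap
  map_id _ := Art.hom_ext (AlgHom.ext fun _ => rfl)
  map_comp _ _ := Art.hom_ext (AlgHom.ext fun _ => rfl)

end Functor

section Isos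

variable {Λ : Type u} {k : Type u} [CommRing Λ] [Field k] [Algebra Λ k]

/-- a morphism of `Art Λ k` from a ring map compatible with the structure -/
def homMk' {A B : Art Λ k} (f : A →+* B) (halg : ∀ r, f (algebraMap Λ A r) = algebraMap Λ B r)
    (hres : ∀ a, B.res (f a) = A.res a) : A ⟶ B :=
  ⟨{ toRingHom := f, commutes' := halg }, AlgHom.ext hres⟩

theorem homMk'_apply {A B : Art Λ k} (f : A →+* B) (halg hres) (a : A) :
    homMk' (Λ := Λ) (k := k) f halg hres a = f a := rfl

/-- an isomorphism of `Art Λ k` from a ring isomorphism compatible with the structure -/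
def isoMk' {A B : Art Λ k} (e : A ≃+* B) (halg : ∀ r, e (algebraMap Λ A r) = algebraMap Λ B r)
    (hres : ∀ a, B.res (e a) = A.res a) : A ≅ B where
  hom := homMk' e.toRingHom halg hres
  inv := homMk' e.symm.toRingHom
    (fun r => by
      change e.symm (algebraMap Λ B r) = algebraMap Λ A r
      rw [← halg, e.symm_apply_apply])
    (fun b => by
      change A.res (e.symm b) = B.res b
      rw [← hres, e.apply_symm_apply])
  hom_inv_id := Art.hom_ext (AlgHom.ext fun a => e.symm_apply_apply a)
  inv_hom_id := Art.hom_ext (AlgHom.ext fun b => e.apply_symm_apply b)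

theorem isoMk'_hom_apply {A B : Art Λ k} (e : A ≃+* B) (halg hres) (a : A) :
    (isoMk' (Λ := Λ) (k := k) e halg hres).hom a = e a := rfl

theorem isoMk'_inv_apply {A B : Art Λ k} (e : A ≃+* B) (halg hres) (b : B) :
    (isoMk' (Λ := Λ) (k := k) e halg hres).inv b = e.symm b := rfl

end Isos

section StdIsos

variable {Λ P k : Type u} [CommRing Λ] [CommRing P] [Field k] [Algebra Λ P] [Algebra P k]
  [Algebra Λ k] [IsScalarTower Λ P k]

/-- `k` as a `P`-object restricts to `k` as a `Λ`-object -/
def eBase : robj (Λ := Λ) (Art.base P k) ≅ Art.base Λ k :=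
  isoMk' (RingEquiv.refl k)
    (fun r => (IsScalarTower.algebraMap_apply Λ P k r).symm) (fun _ => rfl)

/-- `k[ε]` as a `P`-object restricts to `k[ε]` as a `Λ`-object -/
def eDual : robj (Λ := Λ) (Art.dual P k) ≅ Art.dual Λ k :=
  isoMk' (RingEquiv.refl (DualNumber k))
    (fun r => by
      change algebraMap P (TrivSqZeroExt k k) (algebraMap Λ P r) = algebraMap Λ (TrivSqZeroExt k k) r
      rw [TrivSqZeroExt.algebraMap_eq_inl', TrivSqZeroExt.algebraMap_eq_inl',
        ← IsScalarTower.algebraMap_apply])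
    (fun _ => rfl)

/-- `k[ε₁, ε₂]` as a `P`-object restricts to `k[ε₁, ε₂]` as a `Λ`-object -/
def eDual2 : robj (Λ := Λ) (Art.dual2 P k) ≅ Art.dual2 Λ k :=
  isoMk' (RingEquiv.refl (TrivSqZeroExt k (k × k)))
    (fun r => by
      change algebraMap P (TrivSqZeroExt k (k × k)) (algebraMap Λ P r) =
        algebraMap Λ (TrivSqZeroExt k (k × k)) r
      rw [TrivSqZeroExt.algebraMap_eq_inl', TrivSqZeroExt.algebraMap_eq_inl',
        ← IsScalarTower.algebraMap_apply])
    (fun _ => rfl)

theorem rmap_scale (c : k) :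
    rmap (Λ := Λ) (Art.scale (Λ := P) c) ≫ (eDual (Λ := Λ) (P := P)).hom =
      (eDual (Λ := Λ) (P := P)).hom ≫ Art.scale c :=
  Art.hom_ext (AlgHom.ext fun _ => rfl)

theorem rmap_pr₁ :
    rmap (Λ := Λ) (Art.pr₁ (Λ := P) (k := k)) ≫ (eDual (Λ := Λ) (P := P)).hom =
      (eDual2 (Λ := Λ) (P := P)).hom ≫ Art.pr₁ :=
  Art.hom_ext (AlgHom.ext fun _ => rfl)

theorem rmap_pr₂ :
    rmap (Λ := Λ) (Art.pr₂ (Λ := P) (k := k)) ≫ (eDual (Λ := Λ) (P := P)).hom =
      (eDual2 (Λ := Λ) (P := P)).hom ≫ Art.pr₂ :=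
  Art.hom_ext (AlgHom.ext fun _ => rfl)

theorem rmap_plus :
    rmap (Λ := Λ) (Art.plus (Λ := P) (k := k)) ≫ (eDual (Λ := Λ) (P := P)).hom =
      (eDual2 (Λ := Λ) (P := P)).hom ≫ Art.plus :=
  Art.hom_ext (AlgHom.ext fun _ => rfl)

end StdIsos

section Conditions

variable {Λ P k : Type u} [CommRing Λ] [CommRing P] [Field k] [Algebra Λ P] [Algebra P k]
  [Algebra Λ k] [IsScalarTower Λ P k] (F : Art Λ k ⥤ Type v)

variable (P) in
/-- the restricted functor on `Art P k` -/
abbrev F' : Art P k ⥤ Type v := G Λ P k ⋙ F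

theorem map_iso_injective {A B : Art Λ k} (e : A ≅ B) : Function.Injective (F.map e.hom) := by
  intro x y h
  have := congrArg (F.map e.inv) h
  rwa [← Functor.map_comp_apply, ← Functor.map_comp_apply, e.hom_inv_id, Functor.map_id_apply,
    Functor.map_id_apply] at this

theorem map_iso_surjective {A B : Art Λ k} (e : A ≅ B) : Function.Surjective (F.map e.hom) := by
  intro y
  refine ⟨F.map e.inv y, ?_⟩
  rw [← Functor.map_comp_apply, e.inv_hom_id, Functor.map_id_apply]

/-- the bijection induced by an isomorphism -/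
noncomputable def mapEquiv {A B : Art Λ k} (e : A ≅ B) : F.obj A ≃ F.obj B :=
  Equiv.ofBijective (F.map e.hom) ⟨map_iso_injective F e, map_iso_surjective F e⟩

theorem mapEquiv_apply {A B : Art Λ k} (e : A ≅ B) (x : F.obj A) :
    mapEquiv F e x = F.map e.hom x := rfl

theorem map_hom_inv {A B : Art Λ k} (e : A ≅ B) (x : F.obj A) :
    F.map e.inv (F.map e.hom x) = x := by
  rw [← Functor.map_comp_apply, e.hom_inv_id, Functor.map_id_apply]

theorem map_inv_hom {A B : Art Λ k} (e : A ≅ B) (x : F.obj B) :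
    F.map e.hom (F.map e.inv x) = x := by
  rw [← Functor.map_comp_apply, e.inv_hom_id, Functor.map_id_apply]

theorem h0_restrict (h0 : H0 F) : H0 (F' P F) := by
  obtain ⟨⟨x⟩, hs⟩ := h0
  refine ⟨⟨(mapEquiv F (eBase (Λ := Λ) (P := P))).symm x⟩, ?_⟩
  exact (mapEquiv F (eBase (Λ := Λ) (P := P))).subsingleton

theorem isFibreProd_rmap {B A A' A'' : Art P k} {p' : B ⟶ A'} {p'' : B ⟶ A''} {f' : A' ⟶ A}
    {f'' : A'' ⟶ A} (h : Art.IsFibreProd p' p'' f' f'') :
    Art.IsFibreProd (rmap (Λ := Λ) p') (rmap p'') (rmap f') (rmap f'') where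
  w := by
    have := congrArg (rmap (Λ := Λ)) h.w
    exact this
  inj := h.inj
  surj := h.surj

theorem hbar_restrict (h1 : S1 F) : Hbar (F' P F) := by
  intro B A A' A'' p' p'' f' f'' h hsmall
  exact h1 (rmap p') (rmap p'') (rmap f') (rmap f'') (isFibreProd_rmap h) hsmall.1

end Conditions

section Conditions2

variable {Λ P k : Type u} [CommRing Λ] [CommRing P] [Field k] [Algebra Λ P] [Algebra P k]
  [Algebra Λ k] [IsScalarTower Λ P k] (F : Art Λ k ⥤ Type v)

theorem heps_restrict (h2 : Heps F) : Heps (F' P F) := by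
  intro B A' p' p'' h
  let q'' : robj (Λ := Λ) B ⟶ Art.dual Λ k := rmap p'' ≫ (eDual (Λ := Λ) (P := P)).hom
  have h' : Art.IsFibreProd (rmap (Λ := Λ) p') q'' (Art.toBase (robj A'))
      (Art.toBase (Art.dual Λ k)) :=
    { w := by rw [Art.eq_toBase (rmap p' ≫ _), Art.eq_toBase (q'' ≫ _)]
      inj := h.inj
      surj := h.surj }
  have hbij := h2 (rmap p') q'' h'
  have hq : ∀ z : F.obj (robj B), F.map q'' z =
      F.map (eDual (Λ := Λ) (P := P)).hom (F.map (rmap p'') z) := fun z =>
    Functor.map_comp_apply F _ _ z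
  constructor
  · intro z₁ z₂ hz
    apply hbij.1
    have e1 : F.map (rmap (Λ := Λ) p') z₁ = F.map (rmap p') z₂ :=
      congrArg (fun t : FibProd (F' P F) _ _ => t.1.1) hz
    have e2 : F.map (rmap (Λ := Λ) p'') z₁ = F.map (rmap p'') z₂ :=
      congrArg (fun t : FibProd (F' P F) _ _ => t.1.2) hz
    apply FibProd.ext
    · exact e1
    · change F.map q'' z₁ = F.map q'' z₂
      rw [hq, hq, e2]
  · intro t
    have ht : F.map (Art.toBase (robj (Λ := Λ) A')) t.1.1 =
        F.map (Art.toBase (Art.dual Λ k)) (F.map (eDual (Λ := Λ) (P := P)).hom t.1.2) := by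
      have h3 : F.map (rmap (Λ := Λ) (Art.toBase A')) t.1.1 =
          F.map (rmap (Art.toBase (Art.dual P k))) t.1.2 := t.2
      have h4 := congrArg (F.map (eBase (Λ := Λ) (P := P)).hom) h3
      rw [← Functor.map_comp_apply, ← Functor.map_comp_apply] at h4
      rw [← Functor.map_comp_apply]
      rw [Art.eq_toBase (rmap (Art.toBase A') ≫ _)] at h4
      rw [h4]
      congr 1
    obtain ⟨z, hz⟩ := hbij.2 ⟨(t.1.1, F.map (eDual (Λ := Λ) (P := P)).hom t.1.2), ht⟩
    refine ⟨z, ?_⟩
    have e1 : F.map (rmap (Λ := Λ) p') z = t.1.1 :=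
      congrArg (fun t : FibProd F _ _ => t.1.1) hz
    have e2 : F.map q'' z = F.map (eDual (Λ := Λ) (P := P)).hom t.1.2 :=
      congrArg (fun t : FibProd F _ _ => t.1.2) hz
    rw [hq] at e2
    apply FibProd.ext
    · exact e1
    · exact map_iso_injective F _ e2

end Conditions2

section Tangent

variable {Λ P k : Type u} [CommRing Λ] [CommRing P] [Field k] [Algebra Λ P] [Algebra P k]
  [Algebra Λ k] [IsScalarTower Λ P k] (F : Art Λ k ⥤ Type v) [T : TangentStr F]

/-- the identification of tangent spaces -/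
noncomputable def tanEquiv : (F' P F).obj (Art.dual P k) ≃ F.obj (Art.dual Λ k) :=
  mapEquiv F (eDual (Λ := Λ) (P := P))

theorem tanEquiv_apply (x : (F' P F).obj (Art.dual P k)) :
    tanEquiv (P := P) F x = F.map (eDual (Λ := Λ) (P := P)).hom x := rfl

/-- the transported tangent structure on the restricted functor -/
noncomputable def tangentStrRestrict : TangentStr (F' P F) :=
  letI : AddCommGroup (F.obj (Art.dual Λ k)) := T.addCommGroup
  letI : Module k (F.obj (Art.dual Λ k)) := T.module
  letI acg : AddCommGroup ((F' P F).obj (Art.dual P k)) := (tanEquiv (P := P) F).addCommGroup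
  { addCommGroup := acg
    module := (tanEquiv (P := P) F).module k
    smul_eq := fun c x => by
      apply (tanEquiv (P := P) F).injective
      change (tanEquiv (P := P) F) ((tanEquiv (P := P) F).symm (c • (tanEquiv (P := P) F) x)) = _
      rw [Equiv.apply_symm_apply, T.smul_eq, tanEquiv_apply, tanEquiv_apply]
      change _ = F.map _ (F.map (rmap (Art.scale c)) x)
      rw [← Functor.map_comp_apply, ← Functor.map_comp_apply, rmap_scale]
    add_eq := fun z => by
      apply (tanEquiv (P := P) F).injective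
      change (tanEquiv (P := P) F) ((tanEquiv (P := P) F).symm
        ((tanEquiv (P := P) F) ((F' P F).map Art.pr₁ z) +
          (tanEquiv (P := P) F) ((F' P F).map Art.pr₂ z))) = _
      rw [Equiv.apply_symm_apply, tanEquiv_apply, tanEquiv_apply, tanEquiv_apply]
      change F.map _ (F.map (rmap Art.pr₁) z) + F.map _ (F.map (rmap Art.pr₂) z) =
        F.map _ (F.map (rmap Art.plus) z)
      rw [← Functor.map_comp_apply, ← Functor.map_comp_apply, ← Functor.map_comp_apply,
        rmap_pr₁, rmap_pr₂, rmap_plus, Functor.map_comp_apply, Functor.map_comp_apply,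
        Functor.map_comp_apply, T.add_eq] }

theorem hfin_restrict (h3 : Hfin F) :
    @Hfin P k _ _ _ (F' P F) (tangentStrRestrict (P := P) F) := by
  letI := tangentStrRestrict (P := P) F
  letI : AddCommGroup (F.obj (Art.dual Λ k)) := T.addCommGroup
  letI : Module k (F.obj (Art.dual Λ k)) := T.module
  letI acg : AddCommGroup ((F' P F).obj (Art.dual P k)) := (tanEquiv (P := P) F).addCommGroup
  letI md : Module k ((F' P F).obj (Art.dual P k)) := (tanEquiv (P := P) F).module k
  have e : (F' P F).obj (Art.dual P k) ≃ₗ[k] F.obj (Art.dual Λ k) :=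
    (tanEquiv (P := P) F).linearEquiv k
  haveI : Module.Finite k (F.obj (Art.dual Λ k)) := h3
  exact Module.Finite.equiv e.symm

end Tangent

section Back

variable {Λ P k : Type u} [CommRing Λ] [CommRing P] [Field k] [Algebra Λ P] [Algebra P k]
  [Algebra Λ k] [IsScalarTower Λ P k]

/-- an object of `Art Λ k` with a compatible `P`-algebra structure -/
def withP (A : Art Λ k) (σ : P →ₐ[Λ] A) (hσ : ∀ p, A.res (σ p) = algebraMap P k p) : Art P k :=
  letI : Algebra P A := σ.toRingHom.toAlgebra
  { carrier := A.carrier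
    res := { toRingHom := A.res.toRingHom, commutes' := hσ }
    res_surjective := A.res_surjective }

theorem withP_algebraMap (A : Art Λ k) (σ : P →ₐ[Λ] A) (hσ) (p : P) :
    algebraMap P (withP A σ hσ) p = σ p := rfl

/-- forgetting the `P`-structure again -/
def eWith (A : Art Λ k) (σ : P →ₐ[Λ] A) (hσ : ∀ p, A.res (σ p) = algebraMap P k p) :
    robj (Λ := Λ) (withP A σ hσ) ≅ A :=
  isoMk' (RingEquiv.refl A) (fun r => σ.commutes r) (fun _ => rfl)

/-- a coefficient ring over `P` as a coefficient ring over `Λ` -/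
def rcring (R' : CRing P k) : CRing Λ k :=
  letI : Algebra Λ R'.carrier := Algebra.compHom R'.carrier (algebraMap Λ P)
  { carrier := R'.carrier
    res :=
      { toRingHom := R'.res.toRingHom
        commutes' := fun r => by
          change R'.res (algebraMap P R'.carrier (algebraMap Λ P r)) = algebraMap Λ k r
          rw [AlgHom.commutes, ← IsScalarTower.algebraMap_apply] }
    res_surjective := R'.res_surjective
    isAdicComplete := R'.isAdicComplete }

/-- the structure map `P → R'` as a `Λ`-algebra map -/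
def sMap (R' : CRing P k) : P →ₐ[Λ] (rcring (Λ := Λ) R').carrier :=
  { toRingHom := algebraMap P R'.carrier, commutes' := fun _ => rfl }

variable {R' : CRing P k}

/-- the `P`-structure on `A` induced by `φ : R' → A` -/
def sOf {A : Art Λ k} (φ : HomSet (rcring (Λ := Λ) R').carrier (rcring R').res A) : P →ₐ[Λ] A :=
  φ.1.comp (sMap R')

theorem sOf_res {A : Art Λ k} (φ : HomSet (rcring (Λ := Λ) R').carrier (rcring R').res A) (p : P) :
    A.res (sOf φ p) = algebraMap P k p := by
  have h1 : A.res (φ.1 (algebraMap P R'.carrier p)) = (rcring (Λ := Λ) R').res (algebraMap P R'.carrier p) :=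
    congrArg (fun t : (rcring (Λ := Λ) R').carrier →ₐ[Λ] k => t (algebraMap P R'.carrier p)) φ.2
  change A.res (φ.1 (algebraMap P R'.carrier p)) = _
  rw [h1]
  exact R'.res.commutes p

/-- `A` with the `P`-structure induced by `φ` -/
abbrev objOf {A : Art Λ k} (φ : HomSet (rcring (Λ := Λ) R').carrier (rcring R').res A) : Art P k :=
  withP A (sOf φ) (sOf_res φ)

/-- `φ` as a `P`-linear map -/
def homOf {A : Art Λ k} (φ : HomSet (rcring (Λ := Λ) R').carrier (rcring R').res A) :
    HomSet R'.carrier R'.res (objOf φ) :=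
  ⟨{ toRingHom := φ.1.toRingHom, commutes' := fun _ => rfl },
    AlgHom.ext fun x => congrArg (fun t : (rcring (Λ := Λ) R').carrier →ₐ[Λ] k => t x) φ.2⟩

variable {F : Art Λ k ⥤ Type v}

/-- a family of the restricted functor over `R'` gives a family of `F` over `R'` as a `Λ`-algebra -/
def famBack (ξ' : Family R'.carrier R'.res (F' P F)) :
    Family (rcring (Λ := Λ) R').carrier (rcring R').res F where
  app A φ := F.map (eWith A (sOf φ) (sOf_res φ)).hom (ξ'.app (objOf φ) (homOf φ))
  natural {A B} f φ := by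
    let fP : objOf φ ⟶ objOf (HomSet.map f φ) :=
      ⟨{ toRingHom := f.toAlgHom.toRingHom, commutes' := fun _ => rfl },
        AlgHom.ext fun a => Art.res_app f a⟩
    have h1 := ξ'.natural fP (homOf φ)
    have h2 : HomSet.map fP (homOf φ) = homOf (HomSet.map f φ) :=
      Subtype.ext (AlgHom.ext fun _ => rfl)
    rw [h2] at h1
    rw [h1]
    change F.map _ (F.map (rmap fP) _) = _
    rw [← Functor.map_comp_apply, ← Functor.map_comp_apply]
    congr 1

end Back

section Versal

variable {Λ P k : Type u} [CommRing Λ] [CommRing P] [Field k] [Algebra Λ P] [Algebra P k]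
  [Algebra Λ k] [IsScalarTower Λ P k] {R' : CRing P k} {F : Art Λ k ⥤ Type v}

/-- versality descends along restriction of scalars when `h_P` is smooth -/
theorem isVersal_famBack (hsm : IsSmoothFunctor (hR P (IsScalarTower.toAlgHom Λ P k)))
    (ξ' : Family R'.carrier R'.res (F' P F)) (hξ' : IsVersal ξ') :
    IsVersal (famBack (Λ := Λ) ξ') := by
  intro B A μ hμ φ y hy
  -- lift the `P`-structure of `A` to `B`
  let σA : HomSet P (IsScalarTower.toAlgHom Λ P k) A := ⟨sOf φ, AlgHom.ext (sOf_res φ)⟩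
  obtain ⟨σB, hσB⟩ := hsm μ hμ σA
  change HomSet P (IsScalarTower.toAlgHom Λ P k) B at σB
  have hσB1 : ∀ p, μ (σB.1 p) = sOf φ p := fun p =>
    congrArg (fun t : HomSet P (IsScalarTower.toAlgHom Λ P k) A => t.1 p) hσB
  have hσB2 : ∀ p, B.res (σB.1 p) = algebraMap P k p := fun p =>
    congrArg (fun t : P →ₐ[Λ] k => t p) σB.2
  let Bσ : Art P k := withP B σB.1 hσB2
  let μP : Bσ ⟶ objOf φ :=
    ⟨{ toRingHom := μ.toAlgHom.toRingHom, commutes' := hσB1 },
      AlgHom.ext fun a => Art.res_app μ a⟩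
  have hμP : Function.Surjective μP := hμ
  let y' : (F' P F).obj Bσ := F.map (eWith B σB.1 hσB2).inv y
  have hy' : (F' P F).map μP y' = ξ'.app (objOf φ) (homOf φ) := by
    have e1 : (eWith B σB.1 hσB2).inv ≫ rmap (Λ := Λ) μP =
        μ ≫ (eWith A (sOf φ) (sOf_res φ)).inv := Art.hom_ext (AlgHom.ext fun _ => rfl)
    have s1 : (F' P F).map μP y' = F.map ((eWith B σB.1 hσB2).inv ≫ rmap (Λ := Λ) μP) y :=
      (Functor.map_comp_apply F _ _ y).symm
    have s2 : F.map ((eWith B σB.1 hσB2).inv ≫ rmap (Λ := Λ) μP) y =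
        F.map (μ ≫ (eWith A (sOf φ) (sOf_res φ)).inv) y := congrArg (fun m => F.map m y) e1
    have s3 : F.map (μ ≫ (eWith A (sOf φ) (sOf_res φ)).inv) y =
        F.map (eWith A (sOf φ) (sOf_res φ)).inv (F.map μ y) := Functor.map_comp_apply F _ _ y
    have s4 : F.map (eWith A (sOf φ) (sOf_res φ)).inv (F.map μ y) =
        F.map (eWith A (sOf φ) (sOf_res φ)).inv
            (F.map (eWith A (sOf φ) (sOf_res φ)).hom (ξ'.app (objOf φ) (homOf φ))) :=
      congrArg (F.map (eWith A (sOf φ) (sOf_res φ)).inv) hy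
    have s5 : F.map (eWith A (sOf φ) (sOf_res φ)).inv
        (F.map (eWith A (sOf φ) (sOf_res φ)).hom (ξ'.app (objOf φ) (homOf φ))) =
          ξ'.app (objOf φ) (homOf φ) := map_hom_inv F _ _
    exact s1.trans (s2.trans (s3.trans (s4.trans s5)))
  obtain ⟨ψP, hψ1, hψ2⟩ := hξ' μP hμP (homOf φ) y' hy'
  let ψ : HomSet (rcring (Λ := Λ) R').carrier (rcring R').res B :=
    ⟨{ toRingHom := ψP.1.toRingHom
       commutes' := fun r => by
        change ψP.1 (algebraMap P R'.carrier (algebraMap Λ P r)) = algebraMap Λ B r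
        rw [AlgHom.commutes]
        exact σB.1.commutes r },
      AlgHom.ext fun x => congrArg (fun t : R'.carrier →ₐ[P] k => t x) ψP.2⟩
  refine ⟨ψ, ?_, ?_⟩
  · apply Subtype.ext
    apply AlgHom.ext
    intro x
    exact congrArg (fun t : HomSet R'.carrier R'.res (objOf φ) => t.1 x) hψ1
  · -- compare the two `P`-structures on `B`
    let j : objOf ψ ⟶ Bσ :=
      ⟨{ toRingHom := RingHom.id B, commutes' := fun p => ψP.1.commutes p },
        AlgHom.ext fun _ => rfl⟩
    have h1 := ξ'.natural j (homOf ψ)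
    have h2 : HomSet.map j (homOf ψ) = ψP := Subtype.ext (AlgHom.ext fun _ => rfl)
    rw [h2, hψ2] at h1
    have e1 : (eWith B (sOf ψ) (sOf_res ψ)).hom =
        rmap (Λ := Λ) j ≫ (eWith B σB.1 hσB2).hom := Art.hom_ext (AlgHom.ext fun _ => rfl)
    have s1 : (famBack (Λ := Λ) ξ').app B ψ =
        F.map (eWith B (sOf ψ) (sOf_res ψ)).hom (ξ'.app (objOf ψ) (homOf ψ)) := rfl
    have s2 : F.map (eWith B (sOf ψ) (sOf_res ψ)).hom (ξ'.app (objOf ψ) (homOf ψ)) =
        F.map (rmap (Λ := Λ) j ≫ (eWith B σB.1 hσB2).hom) (ξ'.app (objOf ψ) (homOf ψ)) :=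
      congrArg (fun m => F.map m (ξ'.app (objOf ψ) (homOf ψ))) e1
    have s3 : F.map (rmap (Λ := Λ) j ≫ (eWith B σB.1 hσB2).hom) (ξ'.app (objOf ψ) (homOf ψ)) =
        F.map (eWith B σB.1 hσB2).hom ((F' P F).map j (ξ'.app (objOf ψ) (homOf ψ))) :=
      Functor.map_comp_apply F _ _ _
    have s4 : F.map (eWith B σB.1 hσB2).hom ((F' P F).map j (ξ'.app (objOf ψ) (homOf ψ))) =
        F.map (eWith B σB.1 hσB2).hom (F.map (eWith B σB.1 hσB2).inv y) :=
      congrArg (F.map (eWith B σB.1 hσB2).hom) h1.symm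
    have s5 : F.map (eWith B σB.1 hσB2).hom (F.map (eWith B σB.1 hσB2).inv y) = y :=
      map_inv_hom F _ _
    exact s1.trans (s2.trans (s3.trans (s4.trans s5)))

end Versal

end Groth.Agent.Lib.Helper58.ResSc
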