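import Groth.Agent.Lib.Helper58.SchlVersal
import Groth.Agent.S12731

/-!
# Schlessinger: consequences of pro-representability (helper58)
-/

set_option autoImplicit false
universe u v
open CategoryTheory

namespace Groth.Agent.Lib.Helper58.Schl

open ArtFun ArtFun.Art Groth.Agent.Lib.Helper65

/-- a functor with a universal family is left exact -/
theorem isLeftExact_of_isUniversal {Λ k : Type u} [CommRing Λ] [Field k] [Algebra Λ k]
    {F : Art Λ k ⥤ Type v} {R : Type u} [CommRing R] [Algebra Λ R] {resR : R →ₐ[Λ] k}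
    (ξ : Family R resR F) (hu : IsUniversal ξ) : IsLeftExact F := by
  intro B A A' A'' p' p'' f' f'' h
  constructor
  · intro z z' hzz
    obtain ⟨ψ, rfl⟩ := (hu B).2 z
    obtain ⟨ψ', rfl⟩ := (hu B).2 z'
    have h1 : F.map p' (ξ.app B ψ) = F.map p' (ξ.app B ψ') := congrArg (fun t => t.1.1) hzz
    have h2 : F.map p'' (ξ.app B ψ) = F.map p'' (ξ.app B ψ') := congrArg (fun t => t.1.2) hzz
    rw [← ξ.natural, ← ξ.natural] at h1 h2
    rw [isFibreProd_homSet_ext h ψ ψ' ((hu A').1 h1) ((hu A'').1 h2)]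
  · rintro ⟨⟨x', x''⟩, hx⟩
    obtain ⟨ψ', rfl⟩ := (hu A').2 x'
    obtain ⟨ψ'', rfl⟩ := (hu A'').2 x''
    have hx' : F.map f' (ξ.app A' ψ') = F.map f'' (ξ.app A'' ψ'') := hx
    rw [← ξ.natural, ← ξ.natural] at hx'
    obtain ⟨ψ, hψ1, hψ2⟩ := isFibreProd_lift h ψ' ψ'' ((hu A).1 hx')
    refine ⟨ξ.app B ψ, ?_⟩
    apply FibProd.ext
    · change F.map p' (ξ.app B ψ) = ξ.app A' ψ'
      rw [← ξ.natural, hψ1]
    · change F.map p'' (ξ.app B ψ) = ξ.app A'' ψ''
      rw [← ξ.natural, hψ2]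

theorem hasHull_of_isProrepresentable {Λ k : Type u} [CommRing Λ] [Field k] [Algebra Λ k]
    {F : Art Λ k ⥤ Type v} (h : IsProrepresentable F) : HasHull F := by
  obtain ⟨⟨R, ξ, hu⟩⟩ := h
  exact ⟨⟨R, ξ, ⟨isVersal_of_isUniversal ξ hu, hu (dual Λ k)⟩⟩⟩

theorem surjective_algebraMap_of_tower {k Λ : Type u} [Field k] [CommRing Λ] [Algebra k Λ]
    [Algebra Λ k] [IsScalarTower k Λ k] : Function.Surjective (algebraMap Λ k) := by
  intro c
  refine ⟨algebraMap k Λ c, ?_⟩
  rw [← IsScalarTower.algebraMap_apply k Λ k]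
  rfl


/-- Schlessinger's criterion in the classical setting. -/
theorem isProrepresentable_iff {k Λ : Type u} [Field k] [CommRing Λ] [IsLocalRing Λ]
    [IsNoetherianRing Λ] [IsAdicComplete (IsLocalRing.maximalIdeal Λ) Λ] [Algebra Λ k]
    (hk : Function.Surjective (algebraMap Λ k))
    (F : ArtFun.Art Λ k ⥤ Type v) [ArtFun.TangentStr F] (h0 : ArtFun.H0 F) :
    ArtFun.IsProrepresentable F ↔
      (ArtFun.Hbar F ∧ ArtFun.Heps F ∧ ArtFun.Hfin F ∧ ArtFun.HSq F) := by
  haveI : Module.Finite Λ k := moduleFinite_of_surjective hk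
  constructor
  · intro h
    obtain ⟨hs1, hs2, hs3⟩ := Groth.Agent.S12731.result F h0 (hasHull_of_isProrepresentable h)
    obtain ⟨⟨R, ξ, hu⟩⟩ := h
    have hle := isLeftExact_of_isUniversal ξ hu
    exact ⟨(Groth.Agent.S12724.result F).mp hs1, hs2, hs3,
      fun B A A' p₁ p₂ f hfp _ => hle p₁ p₂ f f hfp⟩
  · rintro ⟨hbar, heps, hfin, hsq⟩
    exact isProrepresentable_of_conditions hk h0 hbar heps hfin hsq

/-- Pro-representable iff left exact with finite-dimensional tangent space. -/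
theorem isProrepresentable_iff_isLeftExact {k Λ : Type u} [Field k] [CommRing Λ] [IsLocalRing Λ]
    [IsNoetherianRing Λ] [IsAdicComplete (IsLocalRing.maximalIdeal Λ) Λ] [Algebra Λ k]
    (hk : Function.Surjective (algebraMap Λ k))
    (F : ArtFun.Art Λ k ⥤ Type v) [ArtFun.TangentStr F] (h0 : ArtFun.H0 F) :
    ArtFun.IsProrepresentable F ↔ (ArtFun.IsLeftExact F ∧ ArtFun.Hfin F) := by
  constructor
  · intro h
    have h3 := ((isProrepresentable_iff hk F h0).mp h).2.2.1
    obtain ⟨⟨R, ξ, hu⟩⟩ := h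
    exact ⟨isLeftExact_of_isUniversal ξ hu, h3⟩
  · rintro ⟨hle, hfin⟩
    refine (isProrepresentable_iff hk F h0).mpr ⟨?_, ?_, hfin, ?_⟩
    · intro B A A' A'' p' p'' f' f'' h _
      exact (hle p' p'' f' f'' h).2
    · intro B A' p' p'' h
      exact hle p' p'' _ _ h
    · intro B A A' p₁ p₂ f h _
      exact hle p₁ p₂ f f h

end Groth.Agent.Lib.Helper58.Schl
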