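import Groth.Agent.Lib.Helper58.SchlVersal

/-!
# Schlessinger's theorem, hull part (helper58)

`hasHull_of_conditions`: for `Λ` complete local Noetherian with `Λ → k` surjective, a functor with
`H0`, `Hbar`, `Heps`, `Hfin` has a hull.  (Same construction as
`isProrepresentable_of_conditions`, stopping before the use of `HSq`.)
-/

set_option autoImplicit false
universe u v
open CategoryTheory

namespace Groth.Agent.Lib.Helper58.Schl

open ArtFun IsLocalRing

variable {Λ : Type u} {k : Type u} [CommRing Λ] [Field k] [Algebra Λ k]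
  [IsLocalRing Λ] [IsNoetherianRing Λ] [IsAdicComplete (maximalIdeal Λ) Λ]
  {F : Art Λ k ⥤ Type v}

/-- Schlessinger's theorem, hull part: `H0`, `Hbar`, `Heps`, `Hfin` give a hull
(for `Λ` complete local Noetherian with residue field `k`). -/
theorem hasHull_of_conditions (hk : Function.Surjective (algebraMap Λ k))
    [TangentStr F] (h0 : H0 F) (hbar : Hbar F) (heps : Heps F) (hfin : Hfin F) :
    HasHull F := by
  haveI : Module.Finite Λ k := moduleFinite_of_surjective hk
  have h1 : S1 F := (Groth.Agent.S12724.result F).mpr hbar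
  obtain ⟨r, b, z, hz⟩ := exists_basis_elt F h0 heps hfin
  let st := minTower hk h1 (initStage hk z)
  have hspec : ∀ q, maximalIdeal (PS Λ r) * (st q).K ≤ (st (q + 1)).K ∧
      ∃ hle : (st (q + 1)).K ≤ (st q).K,
        F.map ((st (q + 1)).factor (st q) hle) (st (q + 1)).x = (st q).x ∧
        ∀ (ρ : Stage Λ k r F) (_ : maximalIdeal (PS Λ r) * (st q).K ≤ ρ.K) (h₂ : ρ.K ≤ (st q).K),
          F.map (ρ.factor (st q) h₂) ρ.x = (st q).x → (st (q + 1)).K ≤ ρ.K :=
    fun q => (exists_next hk h1 (st q)).choose_spec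
  let T : Tower Λ k r F :=
    { st := st
      anti := fun q => (hspec q).2.choose
      compat := fun q => (hspec q).2.choose_spec.1 }
  have hmin : T.IsMinimal := fun q ρ h₁ h₂ hx => (hspec q).2.choose_spec.2 ρ h₁ h₂ hx
  have htan := T.tangent_bijective hk z rfl b hz h0
  have hversal : IsVersal (T.family hk) :=
    (Groth.Agent.S12728.result h0 h1 heps (T.ring hk) (T.family hk)).mpr
      ⟨htan.2, fun B A μ hμ φ y hy => T.exists_lift hk hmin h1 μ hμ φ y hy⟩
  exact ⟨⟨T.ring hk, T.family hk, hversal, htan⟩⟩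

end Groth.Agent.Lib.Helper58.Schl
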