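import Groth.Agent.Lib.Helper58.ResScalars
import Groth.Agent.Lib.Helper58.SchlHullThm
import Groth.Agent.Lib.Helper58.SmoothAmbient

/-!
# Schlessinger's theorem over a general base (helper58)

`hasVersal_of_smooth`: for `Λ` Noetherian with `Λ → k` finite, given a coefficient ring `Pc` over
`Λ` with `h_Pc` smooth, every functor with `H0`, `S1`, `Heps`, `Hfin` has a versal family.
`hasVersal_of_conditions`: the same with the ambient ring of `SmoothAmbient`.
-/

set_option autoImplicit false
universe u v
open CategoryTheory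

namespace Groth.Agent.Lib.Helper58.SchlGen

open ArtFun IsLocalRing Groth.Agent.Lib.Helper58.ResSc

variable {Λ : Type u} {k : Type u} [CommRing Λ] [Field k] [Algebra Λ k]

/-- existence of a versal family from a smooth ambient coefficient ring -/
theorem hasVersal_of_smooth (Pc : CRing Λ k) (hsm : IsSmoothFunctor (hR Pc.carrier Pc.res))
    (F : Art Λ k ⥤ Type v) [TangentStr F]
    (h0 : H0 F) (h1 : S1 F) (h2 : Heps F) (h3 : Hfin F) : HasVersal F := by
  letI : Algebra Pc.carrier k := Pc.res.toRingHom.toAlgebra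
  haveI : IsScalarTower Λ Pc.carrier k :=
    IsScalarTower.of_algebraMap_eq (fun r => (Pc.res.commutes r).symm)
  haveI := Pc.isAdicComplete
  have hk : Function.Surjective (algebraMap Pc.carrier k) := Pc.res_surjective
  letI := tangentStrRestrict (P := Pc.carrier) F
  obtain ⟨⟨R', ξ', hmini⟩⟩ := Groth.Agent.Lib.Helper58.Schl.hasHull_of_conditions
    (F := F' Pc.carrier F) hk (h0_restrict F h0) (hbar_restrict F h1) (heps_restrict F h2)
    (hfin_restrict F h3)
  have hres : IsScalarTower.toAlgHom Λ Pc.carrier k = Pc.res := AlgHom.ext fun _ => rfl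
  have hsm' : IsSmoothFunctor (hR Pc.carrier (IsScalarTower.toAlgHom Λ Pc.carrier k)) := by
    rw [hres]; exact hsm
  exact ⟨⟨rcring R', famBack ξ', isVersal_famBack hsm' ξ' hmini.1⟩⟩

/-- For `Λ` Noetherian with `Λ → k` finite: `H0`, `S1`, `Heps`, `Hfin` give a versal family. -/
theorem hasVersal_of_conditions [IsNoetherianRing Λ] [Module.Finite Λ k]
    (F : Art Λ k ⥤ Type v) [TangentStr F]
    (h0 : H0 F) (h1 : S1 F) (h2 : Heps F) (h3 : Hfin F) : HasVersal F :=
  hasVersal_of_smooth (Groth.Agent.Lib.Helper58.SmAmb.ambient Λ k)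
    Groth.Agent.Lib.Helper58.SmAmb.isSmoothFunctor_ambient F h0 h1 h2 h3

end Groth.Agent.Lib.Helper58.SchlGen
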