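import Groth.Agent.Lib.Helper58.SchlGeneral
import Groth.Agent.Lib.Helper58.EtaleAmbient

/-!
# Schlessinger's theorem over a general base: hulls (helper58)

`isMiniversal_famBack`: miniversality descends along restriction of scalars from an ambient ring
`P` with `h_P` smooth and a single tangent vector.  `hasHull_of_conditions`: for `Λ` Noetherian,
`Λ → k` finite and `Der_Λ(k, k) = 0`, the conditions `H0`, `S1`, `Heps`, `Hfin` give a hull
(the ambient ring is the completion of a standard étale `Λ`-algebra surjecting onto `k`).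
-/

set_option autoImplicit false
universe u v
open CategoryTheory

namespace Groth.Agent.Lib.Helper58.SchlGen

open ArtFun IsLocalRing Groth.Agent.Lib.Helper58.ResSc

section Tangent

variable {Λ P k : Type u} [CommRing Λ] [CommRing P] [Field k] [Algebra Λ P] [Algebra P k]
  [Algebra Λ k] [IsScalarTower Λ P k] {R' : CRing P k} {F : Art Λ k ⥤ Type v}

/-- a `P`-linear tangent vector of `R'` as a `Λ`-linear one -/
def Θ (χ : HomSet R'.carrier R'.res (Art.dual P k)) :
    HomSet (rcring (Λ := Λ) R').carrier (rcring R').res (Art.dual Λ k) :=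
  ⟨{ toRingHom := χ.1.toRingHom
     commutes' := fun r => by
      change χ.1 (algebraMap P R'.carrier (algebraMap Λ P r)) =
        algebraMap Λ (TrivSqZeroExt k k) r
      rw [AlgHom.commutes]
      change algebraMap P (TrivSqZeroExt k k) (algebraMap Λ P r) = _
      rw [TrivSqZeroExt.algebraMap_eq_inl', TrivSqZeroExt.algebraMap_eq_inl',
        ← IsScalarTower.algebraMap_apply] },
    AlgHom.ext fun x => congrArg (fun t : R'.carrier →ₐ[P] k => t x) χ.2⟩

theorem famBack_Θ (ξ' : Family R'.carrier R'.res (F' P F))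
    (χ : HomSet R'.carrier R'.res (Art.dual P k)) :
    (famBack (Λ := Λ) ξ').app (Art.dual Λ k) (Θ χ) =
      F.map (eDual (Λ := Λ) (P := P)).hom (ξ'.app (Art.dual P k) χ) := by
  let j : objOf (Θ (Λ := Λ) χ) ⟶ Art.dual P k :=
    ⟨{ toRingHom := RingHom.id (DualNumber k), commutes' := fun p => χ.1.commutes p },
      AlgHom.ext fun _ => rfl⟩
  have h1 := ξ'.natural j (homOf (Θ (Λ := Λ) χ))
  have h2 : HomSet.map j (homOf (Θ (Λ := Λ) χ)) = χ := Subtype.ext (AlgHom.ext fun _ => rfl)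
  rw [h2] at h1
  have e1 : (eWith (Art.dual Λ k) (sOf (Θ (Λ := Λ) χ)) (sOf_res (Θ χ))).hom =
      rmap (Λ := Λ) j ≫ (eDual (Λ := Λ) (P := P)).hom :=
    Art.hom_ext (AlgHom.ext fun _ => rfl)
  have s1 : (famBack (Λ := Λ) ξ').app (Art.dual Λ k) (Θ χ) =
      F.map (eWith (Art.dual Λ k) (sOf (Θ (Λ := Λ) χ)) (sOf_res (Θ χ))).hom
        (ξ'.app (objOf (Θ χ)) (homOf (Θ χ))) := rfl
  have s2 : F.map (eWith (Art.dual Λ k) (sOf (Θ (Λ := Λ) χ)) (sOf_res (Θ χ))).hom
        (ξ'.app (objOf (Θ χ)) (homOf (Θ χ))) =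
      F.map (rmap (Λ := Λ) j ≫ (eDual (Λ := Λ) (P := P)).hom)
        (ξ'.app (objOf (Θ χ)) (homOf (Θ χ))) :=
    congrArg (fun m => F.map m (ξ'.app (objOf (Θ (Λ := Λ) χ)) (homOf (Θ χ)))) e1
  have s3 : F.map (rmap (Λ := Λ) j ≫ (eDual (Λ := Λ) (P := P)).hom)
        (ξ'.app (objOf (Θ χ)) (homOf (Θ χ))) =
      F.map (eDual (Λ := Λ) (P := P)).hom
        ((F' P F).map j (ξ'.app (objOf (Θ χ)) (homOf (Θ χ)))) :=
    Functor.map_comp_apply F _ _ _
  have s4 : F.map (eDual (Λ := Λ) (P := P)).hom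
        ((F' P F).map j (ξ'.app (objOf (Θ (Λ := Λ) χ)) (homOf (Θ χ)))) =
      F.map (eDual (Λ := Λ) (P := P)).hom (ξ'.app (Art.dual P k) χ) :=
    congrArg (F.map (eDual (Λ := Λ) (P := P)).hom) h1.symm
  exact s1.trans (s2.trans (s3.trans s4))

theorem Θ_surjective
    (hsub : Subsingleton (HomSet P (IsScalarTower.toAlgHom Λ P k) (Art.dual Λ k))) :
    Function.Surjective (Θ (Λ := Λ) (R' := R')) := by
  intro φ
  -- the two `P`-structures on `k[ε]`
  let a : HomSet P (IsScalarTower.toAlgHom Λ P k) (Art.dual Λ k) :=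
    ⟨sOf φ, AlgHom.ext (sOf_res φ)⟩
  let b : HomSet P (IsScalarTower.toAlgHom Λ P k) (Art.dual Λ k) :=
    ⟨{ toRingHom := algebraMap P (TrivSqZeroExt k k)
       commutes' := fun r => by
        change algebraMap P (TrivSqZeroExt k k) (algebraMap Λ P r) =
          algebraMap Λ (TrivSqZeroExt k k) r
        rw [TrivSqZeroExt.algebraMap_eq_inl', TrivSqZeroExt.algebraMap_eq_inl',
          ← IsScalarTower.algebraMap_apply] },
      AlgHom.ext fun p => by
        change (algebraMap P (TrivSqZeroExt k k) p).fst = algebraMap P k p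
        rw [TrivSqZeroExt.algebraMap_eq_inl', TrivSqZeroExt.fst_inl]⟩
  have hab : a = b := hsub.elim a b
  have hcomm : ∀ p, φ.1 (algebraMap P R'.carrier p) = algebraMap P (TrivSqZeroExt k k) p :=
    fun p => congrArg (fun t : HomSet P (IsScalarTower.toAlgHom Λ P k) (Art.dual Λ k) => t.1 p) hab
  refine ⟨⟨{ toRingHom := φ.1.toRingHom, commutes' := hcomm },
    AlgHom.ext fun x => congrArg (fun t : (rcring (Λ := Λ) R').carrier →ₐ[Λ] k => t x) φ.2⟩, ?_⟩
  exact Subtype.ext (AlgHom.ext fun _ => rfl)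

/-- miniversality descends along restriction of scalars when `h_P` is smooth with a single
tangent vector -/
theorem isMiniversal_famBack (hsm : IsSmoothFunctor (hR P (IsScalarTower.toAlgHom Λ P k)))
    (hsub : Subsingleton (HomSet P (IsScalarTower.toAlgHom Λ P k) (Art.dual Λ k)))
    (ξ' : Family R'.carrier R'.res (F' P F)) (hξ' : IsMiniversal ξ') :
    IsMiniversal (famBack (Λ := Λ) ξ') := by
  refine ⟨isVersal_famBack hsm ξ' hξ'.1, ?_⟩
  have hΘ := Θ_surjective (Λ := Λ) (R' := R') hsub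
  have hcomp : ∀ χ, (famBack (Λ := Λ) ξ').app (Art.dual Λ k) (Θ χ) =
      F.map (eDual (Λ := Λ) (P := P)).hom (ξ'.app (Art.dual P k) χ) := famBack_Θ ξ'
  constructor
  · intro x y hxy
    obtain ⟨x', rfl⟩ := hΘ x
    obtain ⟨y', rfl⟩ := hΘ y
    rw [hcomp, hcomp] at hxy
    have := hξ'.2.1 (map_iso_injective F _ hxy)
    rw [this]
  · intro t
    obtain ⟨t', ht'⟩ := map_iso_surjective F (eDual (Λ := Λ) (P := P)) t
    obtain ⟨χ, hχ⟩ := hξ'.2.2 t'
    refine ⟨Θ χ, ?_⟩
    rw [hcomp, hχ, ht']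

end Tangent

section Main

variable {Λ : Type u} {k : Type u} [CommRing Λ] [Field k] [Algebra Λ k]

/-- existence of a hull from a smooth ambient coefficient ring with a single tangent vector -/
theorem hasHull_of_etale (Pc : CRing Λ k) (hsm : IsSmoothFunctor (hR Pc.carrier Pc.res))
    (hsub : Subsingleton (HomSet Pc.carrier Pc.res (Art.dual Λ k)))
    (F : Art Λ k ⥤ Type v) [TangentStr F]
    (h0 : H0 F) (h1 : S1 F) (h2 : Heps F) (h3 : Hfin F) : HasHull F := by
  letI : Algebra Pc.carrier k := Pc.res.toRingHom.toAlgebra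
  haveI : IsScalarTower Λ Pc.carrier k :=
    IsScalarTower.of_algebraMap_eq (fun r => (Pc.res.commutes r).symm)
  haveI := Pc.isAdicComplete
  have hk : Function.Surjective (algebraMap Pc.carrier k) := Pc.res_surjective
  letI := tangentStrRestrict (P := Pc.carrier) F
  obtain ⟨⟨R', ξ', hmini⟩⟩ := Groth.Agent.Lib.Helper58.Schl.hasHull_of_conditions
    (F := F' Pc.carrier F) hk (h0_restrict F h0) (hbar_restrict F h1) (heps_restrict F h2)
    (hfin_restrict F h3)
  have hres : IsScalarTower.toAlgHom Λ Pc.carrier k = Pc.res := AlgHom.ext fun _ => rfl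
  have hsm' : IsSmoothFunctor (hR Pc.carrier (IsScalarTower.toAlgHom Λ Pc.carrier k)) := by
    rw [hres]; exact hsm
  have hsub' : Subsingleton
      (HomSet Pc.carrier (IsScalarTower.toAlgHom Λ Pc.carrier k) (Art.dual Λ k)) := by
    rw [hres]; exact hsub
  exact ⟨⟨rcring R', famBack ξ', isMiniversal_famBack hsm' hsub' ξ' hmini⟩⟩

/-- For `Λ` Noetherian with `Λ → k` finite and `k` without nonzero `Λ`-derivations:
`H0`, `S1`, `Heps`, `Hfin` give a hull. -/
theorem hasHull_of_conditions [IsNoetherianRing Λ] [Module.Finite Λ k]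
    (hk : Subsingleton (Derivation Λ k k))
    (F : Art Λ k ⥤ Type v) [TangentStr F]
    (h0 : H0 F) (h1 : S1 F) (h2 : Heps F) (h3 : Hfin F) : HasHull F := by
  obtain ⟨Pr, θ, hθ⟩ := Groth.Agent.Lib.Helper58.EtAmb.exists_standardEtale_surjection hk
  haveI : IsNoetherianRing Pr.Ring := Algebra.FiniteType.isNoetherianRing Λ Pr.Ring
  exact hasHull_of_etale (Groth.Agent.Lib.Helper58.EtAmb.ambientOf θ hθ)
    (Groth.Agent.Lib.Helper58.EtAmb.isSmoothFunctor_ambientOf θ hθ)
    (Groth.Agent.Lib.Helper58.EtAmb.subsingleton_homSet_dual θ hθ) F h0 h1 h2 h3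

end Main

end Groth.Agent.Lib.Helper58.SchlGen
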