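import Mathlib.RingTheory.Flat.Basic
import Mathlib.RingTheory.LocalRing.MaximalIdeal.Basic
import Mathlib.RingTheory.Ideal.Quotient.Operations
import Mathlib.RingTheory.Ideal.Maps

/-!
# Flat algebras over a small extension (helper58)

`A` a local ring, `t ∈ m_A` with `m_A t = 0`, `B` a flat `A`-algebra.
* `mul_eq_zero_of_mem_map` : `t b = 0` for `b ∈ m_A B`.
* `mem_map_of_mul_eq_zero` : if `t ≠ 0` and `t b = 0` then `b ∈ m_A B` (flatness).
-/

set_option autoImplicit false

namespace Groth.Agent.Lib.Helper58.SmallExtFlat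

open IsLocalRing TensorProduct

variable {A : Type*} [CommRing A] [IsLocalRing A] {B : Type*} [CommRing B] [Algebra A B]

lemma mul_eq_zero_of_mem_map (t : A) (htm : ∀ a ∈ maximalIdeal A, a * t = 0) (b : B)
    (hb : b ∈ (maximalIdeal A).map (algebraMap A B)) : algebraMap A B t * b = 0 := by
  rw [Ideal.map] at hb
  induction hb using Submodule.span_induction with
  | mem x hx =>
    obtain ⟨a, ha, rfl⟩ := hx
    rw [← map_mul, mul_comm, htm a ha, map_zero]
  | zero => exact mul_zero _
  | add x y _ _ hx hy => rw [mul_add, hx, hy, add_zero]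
  | smul c x _ hx => rw [smul_eq_mul, mul_left_comm, hx, mul_zero]

lemma annihilator_eq (t : A) (ht0 : t ≠ 0) (htm : ∀ a ∈ maximalIdeal A, a * t = 0) (a : A) :
    a * t = 0 ↔ a ∈ maximalIdeal A := by
  constructor
  · intro h
    by_contra hna
    have hu : IsUnit a := by
      by_contra hnu
      exact hna ((mem_maximalIdeal a).mpr hnu)
    exact ht0 (hu.mul_right_eq_zero.mp h)
  · exact htm a

lemma mem_map_of_mul_eq_zero [Module.Flat A B] (t : A) (ht0 : t ≠ 0)
    (htm : ∀ a ∈ maximalIdeal A, a * t = 0) (b : B) (hb : algebraMap A B t * b = 0) :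
    b ∈ (maximalIdeal A).map (algebraMap A B) := by
  -- the exact sequence `m → A → A`
  let f : (maximalIdeal A) →ₗ[A] A := (maximalIdeal A).subtype
  let g : A →ₗ[A] A := LinearMap.toSpanSingleton A A t
  have hex : Function.Exact f g := by
    intro a
    change a • t = 0 ↔ a ∈ Set.range f
    rw [smul_eq_mul, annihilator_eq t ht0 htm]
    constructor
    · intro h; exact ⟨⟨a, h⟩, rfl⟩
    · rintro ⟨x, rfl⟩; exact x.2
  have hex' := Module.Flat.lTensor_exact B hex
  have h1 : (LinearMap.lTensor B g) (b ⊗ₜ[A] (1 : A)) = 0 := by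
    rw [LinearMap.lTensor_tmul]
    change b ⊗ₜ[A] ((1 : A) • t) = 0
    rw [one_smul, ← mul_one t, ← smul_eq_mul, TensorProduct.tmul_smul, TensorProduct.smul_tmul',
      Algebra.smul_def, hb, TensorProduct.zero_tmul]
  obtain ⟨x, hx⟩ := (hex' _).mp h1
  have h2 : b = TensorProduct.rid A B ((LinearMap.lTensor B f) x) := by
    rw [hx, TensorProduct.rid_tmul, one_smul]
  rw [h2]
  clear hx h2
  induction x using TensorProduct.induction_on with
  | zero => rw [map_zero, map_zero]; exact zero_mem _
  | tmul b' m =>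
    rw [LinearMap.lTensor_tmul, TensorProduct.rid_tmul, Algebra.smul_def]
    exact Ideal.mul_mem_right _ _ (Ideal.mem_map_of_mem _ m.2)
  | add x y hx hy =>
    rw [map_add, map_add]
    exact add_mem hx hy

/-- consequence: `t b = t b'` iff `b ≡ b'` modulo `m_A B` -/
lemma mul_eq_mul_iff [Module.Flat A B] (t : A) (ht0 : t ≠ 0)
    (htm : ∀ a ∈ maximalIdeal A, a * t = 0) (b b' : B) :
    algebraMap A B t * b = algebraMap A B t * b' ↔
      Ideal.Quotient.mk ((maximalIdeal A).map (algebraMap A B)) b =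
        Ideal.Quotient.mk ((maximalIdeal A).map (algebraMap A B)) b' := by
  rw [Ideal.Quotient.eq, ← sub_eq_zero, ← mul_sub]
  exact ⟨mem_map_of_mul_eq_zero t ht0 htm _, mul_eq_zero_of_mem_map t htm _⟩

lemma algebraMap_mem_map (t : A) (ht : t ∈ maximalIdeal A) :
    algebraMap A B t ∈ (maximalIdeal A).map (algebraMap A B) :=
  Ideal.mem_map_of_mem _ ht

lemma algebraMap_sq (t : A) (ht : t ∈ maximalIdeal A) (htm : ∀ a ∈ maximalIdeal A, a * t = 0) :
    algebraMap A B t * algebraMap A B t = 0 := by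
  rw [← map_mul, htm t ht, map_zero]

end Groth.Agent.Lib.Helper58.SmallExtFlat
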