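import Mathlib
import Groth.Prelude.Def_W4c5t1liftcy3defoArt

/-!
# Ring-level facts on the curvilinear test algebras `k[t]/(t^(n+1))` and `k[t,y]/(t^(n+1), y^2)`
-/

set_option autoImplicit false
universe u v
open CategoryTheory Polynomial

namespace Groth.Agent.Lib.Helper58.T1Curv

open T1Lift

variable (k : Type u) [Field k]

theorem αAlg_mk (n : ℕ) (p : k[X]) :
    αAlg k n (AdjoinRoot.mk _ p) = AdjoinRoot.mk _ p := by
  have h : (αAlg k n).comp (AdjoinRoot.mkₐ ((X : k[X]) ^ (n + 1 + 1))) =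
      AdjoinRoot.mkₐ ((X : k[X]) ^ (n + 1)) := by
    apply Polynomial.algHom_ext
    change αAlg k n (AdjoinRoot.mk _ X) = AdjoinRoot.mk _ X
    rw [AdjoinRoot.mk_X, AdjoinRoot.mk_X]
    exact αAlg_t k n
  exact congrArg (fun f : k[X] →ₐ[k] Tr k n => f p) h

theorem αAlg_surjective (n : ℕ) : Function.Surjective (αAlg k n) := by
  intro a
  obtain ⟨p, rfl⟩ := AdjoinRoot.mk_surjective a
  exact ⟨AdjoinRoot.mk _ p, αAlg_mk k n p⟩

/-- the kernel of `k[t]/(t^(n+2)) → k[t]/(t^(n+1))` is generated by `t^(n+1)` -/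
theorem exists_eq_t_pow_mul (n : ℕ) (a : Tr k (n + 1)) (ha : αAlg k n a = 0) :
    ∃ d : Tr k (n + 1), a = t k (n + 1) ^ (n + 1) * d := by
  obtain ⟨p, rfl⟩ := AdjoinRoot.mk_surjective a
  rw [αAlg_mk, AdjoinRoot.mk_eq_zero] at ha
  obtain ⟨q, rfl⟩ := ha
  refine ⟨AdjoinRoot.mk _ q, ?_⟩
  rw [map_mul, map_pow, AdjoinRoot.mk_X]

theorem mul_eq_zero_of_res_of_ker (n : ℕ) (x a : Tr k (n + 1)) (hx : resA k (n + 1) x = 0)
    (ha : αAlg k n a = 0) : x * a = 0 := by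
  obtain ⟨d, rfl⟩ := exists_eq_t_pow_mul k n a ha
  obtain ⟨b, hb⟩ := eq_algebraMap_add_t_mul k (n + 1) x
  rw [hx, map_zero, zero_add] at hb
  rw [hb]
  calc t k (n + 1) * b * (t k (n + 1) ^ (n + 1) * d)
      = t k (n + 1) ^ (n + 1 + 1) * (b * d) := by ring
    _ = 0 := by rw [t_pow, zero_mul]

theorem t_pow_ne_zero (n : ℕ) : t k n ^ n ≠ 0 := by
  intro h
  have h1 : AdjoinRoot.mk ((X : k[X]) ^ (n + 1)) (X ^ n) = 0 := by
    rw [map_pow, AdjoinRoot.mk_X]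
    exact h
  rw [AdjoinRoot.mk_eq_zero] at h1
  have h2 := (pow_dvd_pow_iff (X_ne_zero (R := k)) not_isUnit_X).1 h1
  omega

/-- elements of the kernel are scalar multiples of `t^(n+1)` -/
theorem exists_eq_smul_t_pow (n : ℕ) (a : Tr k (n + 1)) (ha : αAlg k n a = 0) :
    ∃ c : k, a = c • t k (n + 1) ^ (n + 1) := by
  obtain ⟨d, rfl⟩ := exists_eq_t_pow_mul k n a ha
  obtain ⟨b, hb⟩ := eq_algebraMap_add_t_mul k (n + 1) d
  refine ⟨resA k (n + 1) d, ?_⟩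
  conv_lhs => rw [hb]
  rw [mul_add, Algebra.smul_def]
  have h1 : t k (n + 1) ^ (n + 1) * (t k (n + 1) * b) = t k (n + 1) ^ (n + 1 + 1) * b := by ring
  rw [h1, t_pow, zero_mul, add_zero, mul_comm]

end Groth.Agent.Lib.Helper58.T1Curv
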