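import Mathlib
import Groth.Agent.Lib.Helper90.PSIdeal

/-!
# Algebra maps into trivial square-zero extensions, derivations of power series rings
-/

set_option autoImplicit false
universe u v w

namespace Groth.Agent.Lib.Helper58.T1L

section TszeHom

variable {k : Type u} [CommRing k] {P : Type v} [CommRing P] [Algebra k P]
  {A : Type w} [CommRing A] [Algebra k A]
  {N : Type w} [AddCommGroup N] [Module A N] [Module Aᵐᵒᵖ N] [IsCentralScalar A N]
  [Module k N] [IsScalarTower k A N] [IsScalarTower k Aᵐᵒᵖ N]

/-- the algebra map `p ↦ (π p, D p)` attached to a `π`-derivation `D` -/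
noncomputable def tszeHom (π : P →ₐ[k] A) (D : P →ₗ[k] N)
    (hD : ∀ a b, D (a * b) = π a • D b + π b • D a) : P →ₐ[k] TrivSqZeroExt A N :=
  AlgHom.ofLinearMap
    ((TrivSqZeroExt.inlAlgHom k A N).toLinearMap.comp π.toLinearMap +
      (TrivSqZeroExt.inrHom A N).restrictScalars k ∘ₗ D)
    (by
      have h1 : D 1 = 0 := by
        have := hD 1 1
        rw [mul_one, map_one π, one_smul] at this
        have h2 : D 1 + D 1 = D 1 + 0 := by rw [add_zero]; exact this.symm
        exact add_left_cancel h2
      apply TrivSqZeroExt.ext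
      · simp
      · simp [h1])
    (by
      intro a b
      apply TrivSqZeroExt.ext
      · simp
      · simp [hD, add_comm])

theorem fst_tszeHom (π : P →ₐ[k] A) (D : P →ₗ[k] N)
    (hD : ∀ a b, D (a * b) = π a • D b + π b • D a) (p : P) :
    (tszeHom π D hD p).fst = π p := by
  simp [tszeHom]

theorem snd_tszeHom (π : P →ₐ[k] A) (D : P →ₗ[k] N)
    (hD : ∀ a b, D (a * b) = π a • D b + π b • D a) (p : P) :
    (tszeHom π D hD p).snd = D p := by
  simp [tszeHom]

end TszeHom

section Order

open MvPowerSeries Groth.Agent.Lib.Helper90.PSIdeal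

variable {k : Type u} [CommRing k] {n : ℕ}

/-- a partial derivative lowers the order by at most one -/
theorem pderiv_mem_pow (i : Fin n) (j : ℕ) (g : MvPowerSeries (Fin n) k)
    (hg : g ∈ Ideal.span (Set.range (X : Fin n → MvPowerSeries (Fin n) k)) ^ (j + 1)) :
    pderiv k i g ∈ Ideal.span (Set.range (X : Fin n → MvPowerSeries (Fin n) k)) ^ j := by
  rw [mem_pow_iff] at hg ⊢
  intro d hd
  rw [coeff_pderiv, hg, zero_mul]
  rw [map_add, Finsupp.degree_single]
  omega

/-- in characteristic zero some partial derivative lowers the order -/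
theorem exists_pderiv_notMem_pow [IsDomain k] [CharZero k] (j : ℕ) (f : MvPowerSeries (Fin n) k)
    (hf : f ∈ Ideal.span (Set.range (X : Fin n → MvPowerSeries (Fin n) k)) ^ (j + 1))
    (hf' : f ∉ Ideal.span (Set.range (X : Fin n → MvPowerSeries (Fin n) k)) ^ (j + 2)) :
    ∃ i, pderiv k i f ∉ Ideal.span (Set.range (X : Fin n → MvPowerSeries (Fin n) k)) ^ (j + 1) := by
  classical
  rw [mem_pow_iff] at hf hf'
  push Not at hf'
  obtain ⟨d, hd, hdf⟩ := hf'
  have hdeg : d.degree = j + 1 := by
    by_contra hne
    exact hdf (hf d (by omega))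
  have hd0 : d ≠ 0 := by
    intro h
    rw [h] at hdeg
    simp at hdeg
  obtain ⟨i, hi⟩ : ∃ i, d i ≠ 0 := by
    by_contra hall
    push Not at hall
    exact hd0 (Finsupp.ext hall)
  refine ⟨i, ?_⟩
  rw [mem_pow_iff]
  push Not
  have hle : Finsupp.single i 1 ≤ d := by
    intro l
    by_cases hl : l = i
    · subst hl
      simp only [Finsupp.single_eq_same]
      omega
    · rw [Finsupp.single_eq_of_ne hl]
      exact Nat.zero_le _
  refine ⟨d - Finsupp.single i 1, ?_, ?_⟩
  · have h1 : (d - Finsupp.single i 1 + Finsupp.single i 1).degree = j + 1 := by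
      rw [tsub_add_cancel_of_le hle, hdeg]
    rw [map_add, Finsupp.degree_single] at h1
    omega
  · rw [coeff_pderiv, tsub_add_cancel_of_le hle]
    apply mul_ne_zero hdf
    have h2 : ((((d - Finsupp.single i 1 : Fin n →₀ ℕ) i + 1 : ℕ)) : k) ≠ 0 :=
      Nat.cast_ne_zero.2 (Nat.succ_ne_zero _)
    exact_mod_cast h2

end Order

section DerExt

open MvPowerSeries Groth.Agent.Lib.Helper90.PSIdeal

variable {k : Type u} [CommRing k] {n : ℕ} {A : Type w} [CommRing A] [Algebra k A]

/-- a `π`-derivation of a power series ring into a ring killed by a power of the variables, which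
vanishes on the constants and the variables, is zero -/
theorem der_ext (π : MvPowerSeries (Fin n) k →ₐ[k] A) (K : ℕ)
    (hπ : ∀ s ∈ Ideal.span (Set.range (X : Fin n → MvPowerSeries (Fin n) k)) ^ K, π s = 0)
    (Δ : MvPowerSeries (Fin n) k →+ A)
    (hΔ : ∀ a b, Δ (a * b) = π a * Δ b + π b * Δ a)
    (hΔC : ∀ c, Δ (C c) = 0) (hΔX : ∀ l, Δ (X l) = 0) (s : MvPowerSeries (Fin n) k) :
    Δ s = 0 := by
  classical
  set 𝔛 := Ideal.span (Set.range (X : Fin n → MvPowerSeries (Fin n) k)) with h𝔛
  -- polynomials
  have hpoly : ∀ p : MvPolynomial (Fin n) k, Δ (p : MvPowerSeries (Fin n) k) = 0 := by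
    intro p
    induction p using MvPolynomial.induction_on with
    | C a => rw [MvPolynomial.coe_C]; exact hΔC a
    | add p q hp hq => rw [MvPolynomial.coe_add, map_add, hp, hq, add_zero]
    | mul_X p i hp =>
      rw [MvPolynomial.coe_mul, MvPolynomial.coe_X, hΔ, hΔX, hp, mul_zero, mul_zero, add_zero]
  -- high order terms
  have hX : ∀ b ∈ 𝔛, π b ∈ Ideal.map π 𝔛 := fun b hb => Ideal.mem_map_of_mem _ hb
  have hhigh : ∀ j, ∀ a ∈ 𝔛 ^ (j + 1), Δ a ∈ Ideal.map π (𝔛 ^ j) := by
    intro j
    induction j with
    | zero =>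
      intro a _
      rw [pow_zero, Ideal.one_eq_top, Ideal.map_top]
      trivial
    | succ j ih =>
      intro a ha
      rw [pow_succ'] at ha
      refine Submodule.mul_induction_on ha ?_ ?_
      · intro b hb c hc
        rw [hΔ]
        apply Ideal.add_mem
        · have h1 : π b * Δ c ∈ Ideal.map π 𝔛 * Ideal.map π (𝔛 ^ j) :=
            Ideal.mul_mem_mul (hX b hb) (ih c hc)
          rw [← Ideal.map_mul, ← pow_succ'] at h1
          exact h1
        · exact Ideal.mul_mem_right _ _ (Ideal.mem_map_of_mem _ hc)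
      · intro x y hx hy
        rw [map_add]
        exact Ideal.add_mem _ hx hy
  have hmap0 : Ideal.map π (𝔛 ^ K) = ⊥ := by
    rw [eq_bot_iff, Ideal.map_le_iff_le_comap]
    intro a ha
    rw [Ideal.mem_comap, Ideal.mem_bot]
    exact hπ a ha
  obtain ⟨p, hp⟩ := Groth.Agent.Lib.Helper90.PSUniv.exists_trunc (K + 1) s
  have h1 : s - (p : MvPowerSeries (Fin n) k) ∈ 𝔛 ^ (K + 1) := by
    rw [h𝔛, mem_pow_iff]
    exact hp
  have h2 := hhigh K _ h1
  rw [hmap0, Ideal.mem_bot, map_sub, hpoly, sub_zero] at h2
  exact h2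

end DerExt

section MinGens

open IsLocalRing

/-- a minimal system of generators of the maximal ideal, indexed by the cotangent dimension -/
theorem exists_min_gens (S : Type u) [CommRing S] [IsLocalRing S] [IsNoetherianRing S] :
    ∃ x : Fin (Module.finrank (ResidueField S) (CotangentSpace S)) → S,
      (∀ i, x i ∈ maximalIdeal S) ∧ maximalIdeal S = Ideal.span (Set.range x) ∧
      ∀ a : Fin (Module.finrank (ResidueField S) (CotangentSpace S)) → S,
        ∑ i, a i * x i ∈ maximalIdeal S ^ 2 → ∀ i, a i ∈ maximalIdeal S := by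
  classical
  let d := Module.finrank (ResidueField S) (CotangentSpace S)
  let b : Module.Basis (Fin d) (ResidueField S) (CotangentSpace S) := Module.finBasis _ _
  choose y hy using fun i => Ideal.toCotangent_surjective (maximalIdeal S) (b i)
  have hfun : (fun i : Fin d => (maximalIdeal S).toCotangent (y i)) = b := funext hy
  have hspan : Ideal.span (Set.range (fun i => (y i : S))) = maximalIdeal S := by
    have h0 : Submodule.span (ResidueField S)
        (Set.range (fun i : Fin d => (maximalIdeal S).toCotangent (y i))) = ⊤ := by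
      rw [hfun]; exact b.span_eq
    have h1 : Set.range (fun i : Fin d => (maximalIdeal S).toCotangent (y i)) =
        (maximalIdeal S).toCotangent '' (Set.range y) := by
      rw [← Set.range_comp]; rfl
    rw [h1, CotangentSpace.span_image_eq_top_iff] at h0
    have h2 := congrArg (Submodule.map (Submodule.subtype (maximalIdeal S))) h0
    rw [Submodule.map_span, Submodule.map_top, Submodule.range_subtype, ← Set.range_comp] at h2
    exact h2
  refine ⟨fun i => (y i : S), fun i => (y i).2, hspan.symm, ?_⟩
  intro a ha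
  have e5 : ∑ i, (residue S (a i)) • b i = 0 := by
    have : ∀ i, (residue S (a i)) • b i = (maximalIdeal S).toCotangent (a i • y i) := by
      intro i
      rw [map_smul, hy i]
      rfl
    simp_rw [this]
    rw [← map_sum, Ideal.toCotangent_eq_zero]
    convert ha using 1
    simp [Algebra.smul_def]
  have e6 := (Fintype.linearIndependent_iff.1 b.linearIndependent) _ e5
  intro i
  exact (IsLocalRing.residue_eq_zero_iff _).1 (e6 i)

end MinGens

end Groth.Agent.Lib.Helper58.T1L
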