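import Mathlib
import Groth.Prelude.Def_W4sfdMinVersal
import Groth.Agent.S12748
import Groth.Agent.Lib.Helper58.MinRetract
import Groth.Agent.Lib.Helper58.PSRel
import Groth.Agent.Lib.Helper58.PSComplete
import Groth.Agent.Lib.Helper58.LimAux
import Groth.Agent.Lib.Helper58.FormalLift
import Groth.Agent.Lib.Helper65.NoethEndo

/-!
# A versal family is a power series extension of a minimal versal retract
-/

set_option autoImplicit false
universe u v
open CategoryTheory

namespace Groth.Agent.Lib.Helper58.VersalPS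

open ArtFun IsLocalRing Groth.Agent.Lib.Helper65 Groth.Agent.Lib.Helper58
  Groth.Agent.Lib.Helper58.MinRet

variable {Λ : Type u} {k : Type u} [CommRing Λ] [Field k] [Algebra Λ k]

section Gens

variable (R R' : CRing Λ k) (g : R'.carrier →ₐ[Λ] R.carrier) (hg : R.res.comp g = R'.res)
  (ρ : R.carrier →ₐ[Λ] R'.carrier) (hρ : R'.res.comp ρ = R.res)
  (hρg : ∀ a, ρ (g a) = a)

include hρ in
theorem ker_le : RingHom.ker ρ ≤ maximalIdeal R.carrier := by
  intro y hy
  rw [CRing.mem_maximalIdeal_iff]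
  have : R'.res (ρ y) = R.res y := congrArg (fun t : R.carrier →ₐ[Λ] k => t y) hρ
  rw [← this, RingHom.mem_ker.1 hy, map_zero]

include hg hρ hρg in
/-- the part of `g(m_{R'}) R` inside the kernel of the retraction lies in `m_R ker ρ` -/
theorem map_inf_ker_le (v : R.carrier) (hv : v ∈ Ideal.map g (maximalIdeal R'.carrier)) :
    v - g (ρ v) ∈ maximalIdeal R.carrier * RingHom.ker ρ := by
  have hI₀ : Ideal.map g (maximalIdeal R'.carrier) ≤ maximalIdeal R.carrier :=
    cring_map_maximalIdeal_le R' R g hg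
  have hsub : ∀ r, r - g (ρ r) ∈ RingHom.ker ρ := by
    intro r
    rw [RingHom.mem_ker, map_sub, hρg, sub_self]
  rw [Ideal.map] at hv
  induction hv using Submodule.span_induction with
  | mem v hv =>
    obtain ⟨b, -, rfl⟩ := hv
    change g b - g (ρ (g b)) ∈ _
    rw [hρg, sub_self]
    exact Ideal.zero_mem _
  | zero =>
    rw [map_zero, map_zero, sub_zero]
    exact Ideal.zero_mem _
  | add v w hv hw ihv ihw =>
    have : v + w - g (ρ (v + w)) = (v - g (ρ v)) + (w - g (ρ w)) := by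
      rw [map_add, map_add]; ring
    rw [this]
    exact Ideal.add_mem _ ihv ihw
  | smul r v hv ihv =>
    have hvm : v ∈ maximalIdeal R.carrier := hI₀ hv
    have hgρv : g (ρ v) ∈ maximalIdeal R.carrier := by
      rw [CRing.mem_maximalIdeal_iff]
      have h1 : R.res (g (ρ v)) = R'.res (ρ v) := congrArg (fun t : R'.carrier →ₐ[Λ] k => t (ρ v)) hg
      have h2 : R'.res (ρ v) = R.res v := congrArg (fun t : R.carrier →ₐ[Λ] k => t v) hρ
      rw [h1, h2]
      exact (CRing.mem_maximalIdeal_iff R v).1 hvm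
    have : r • v - g (ρ (r • v)) = r * (v - g (ρ v)) + g (ρ v) * (r - g (ρ r)) := by
      rw [smul_eq_mul, map_mul, map_mul]; ring
    rw [this]
    exact Ideal.add_mem _ (Ideal.mul_mem_left _ _ ihv) (Ideal.mul_mem_mul hgρv (hsub r))

include hg hρ hρg in
/-- generators of the kernel of a retraction of coefficient rings -/
theorem exists_retract_gens :
    ∃ (r : ℕ) (x : Fin r → R.carrier), (∀ i, ρ (x i) = 0) ∧ (∀ i, x i ∈ maximalIdeal R.carrier) ∧
      maximalIdeal R.carrier = Ideal.span (Set.range x) ⊔ Ideal.map g (maximalIdeal R'.carrier) ∧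
      (∀ a : Fin r → R.carrier, ∑ i, a i * x i ∈
          Ideal.map g (maximalIdeal R'.carrier) ⊔ maximalIdeal R.carrier ^ 2 →
        ∀ i, a i ∈ maximalIdeal R.carrier) ∧
      Ideal.span (Set.range x) ⊔ maximalIdeal R.carrier * RingHom.ker ρ = RingHom.ker ρ := by
  classical
  have hI₀ : Ideal.map g (maximalIdeal R'.carrier) ≤ maximalIdeal R.carrier :=
    cring_map_maximalIdeal_le R' R g hg
  obtain ⟨r, x₀, hx₀m, hx₀span, hx₀li⟩ := PSRel.exists_gens (Ideal.map g (maximalIdeal R'.carrier)) hI₀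
  set I₀ := Ideal.map g (maximalIdeal R'.carrier) with hI₀def
  have hρm : ∀ y, y ∈ maximalIdeal R.carrier → ρ y ∈ maximalIdeal R'.carrier := by
    intro y hy
    rw [CRing.mem_maximalIdeal_iff]
    have h2 : R'.res (ρ y) = R.res y := congrArg (fun t : R.carrier →ₐ[Λ] k => t y) hρ
    rw [h2]
    exact (CRing.mem_maximalIdeal_iff R y).1 hy
  have hcorr : ∀ i, g (ρ (x₀ i)) ∈ I₀ := fun i => Ideal.mem_map_of_mem _ (hρm _ (hx₀m i))
  let x : Fin r → R.carrier := fun i => x₀ i - g (ρ (x₀ i))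
  have hxρ : ∀ i, ρ (x i) = 0 := by
    intro i
    change ρ (x₀ i - g (ρ (x₀ i))) = 0
    rw [map_sub, hρg, sub_self]
  have hxm : ∀ i, x i ∈ maximalIdeal R.carrier := fun i =>
    Ideal.sub_mem _ (hx₀m i) (hI₀ (hcorr i))
  have hspan1 : maximalIdeal R.carrier = Ideal.span (Set.range x) ⊔ I₀ := by
    apply le_antisymm
    · rw [hx₀span]
      apply sup_le _ le_sup_right
      rw [Ideal.span_le]
      rintro _ ⟨i, rfl⟩
      have : x₀ i = x i + g (ρ (x₀ i)) := by change x₀ i = x₀ i - g (ρ (x₀ i)) + g (ρ (x₀ i)); ring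
      rw [this]
      exact Ideal.add_mem _ (Ideal.mem_sup_left (Ideal.subset_span ⟨i, rfl⟩))
        (Ideal.mem_sup_right (hcorr i))
    · apply sup_le _ hI₀
      rw [Ideal.span_le]
      rintro _ ⟨i, rfl⟩
      exact hxm i
  have hli : ∀ a : Fin r → R.carrier, ∑ i, a i * x i ∈ I₀ ⊔ maximalIdeal R.carrier ^ 2 →
      ∀ i, a i ∈ maximalIdeal R.carrier := by
    intro a ha
    apply hx₀li a
    have h1 : ∑ i, a i * x₀ i = ∑ i, a i * x i + ∑ i, a i * g (ρ (x₀ i)) := by
      rw [← Finset.sum_add_distrib]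
      apply Finset.sum_congr rfl
      intro i _
      change a i * x₀ i = a i * (x₀ i - g (ρ (x₀ i))) + a i * g (ρ (x₀ i))
      ring
    rw [h1]
    apply Ideal.add_mem _ ha
    apply Ideal.mem_sup_left
    exact Ideal.sum_mem _ (fun i _ => Ideal.mul_mem_left _ _ (hcorr i))
  refine ⟨r, x, hxρ, hxm, hspan1, hli, ?_⟩
  have hxker : Ideal.span (Set.range x) ≤ RingHom.ker ρ := by
    rw [Ideal.span_le]
    rintro _ ⟨i, rfl⟩
    exact RingHom.mem_ker.2 (hxρ i)
  apply le_antisymm
  · exact sup_le hxker Ideal.mul_le_right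
  · intro y hy
    have hym : y ∈ maximalIdeal R.carrier := ker_le R R' ρ hρ hy
    rw [hspan1] at hym
    obtain ⟨u, hu, v, hv, rfl⟩ := Submodule.mem_sup.1 hym
    have hvker : ρ v = 0 := by
      have h1 : ρ (u + v) = 0 := RingHom.mem_ker.1 hy
      rw [map_add, RingHom.mem_ker.1 (hxker hu), zero_add] at h1
      exact h1
    have h2 := map_inf_ker_le R R' g hg ρ hρ hρg v hv
    rw [hvker, map_zero, sub_zero] at h2
    exact Ideal.add_mem _ (Ideal.mem_sup_left hu) (Ideal.mem_sup_right h2)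

end Gens

section Cot

open MvPowerSeries Groth.Agent.Lib.Helper21.PSAdic

variable (R R' : CRing Λ k) (g : R'.carrier →ₐ[Λ] R.carrier) (hg : R.res.comp g = R'.res)
  (ρ : R.carrier →ₐ[Λ] R'.carrier) (hρ : R'.res.comp ρ = R.res)
  (hρg : ∀ a, ρ (g a) = a)
  {r : ℕ} (x : Fin r → R.carrier) (hxρ : ∀ i, ρ (x i) = 0) (hxm : ∀ i, x i ∈ maximalIdeal R.carrier)
  (hli : ∀ a : Fin r → R.carrier, ∑ i, a i * x i ∈
          Ideal.map g (maximalIdeal R'.carrier) ⊔ maximalIdeal R.carrier ^ 2 →
        ∀ i, a i ∈ maximalIdeal R.carrier)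
  (φ : MvPowerSeries (Fin r) R'.carrier →ₐ[Λ] R.carrier)
  (hφC : ∀ a, φ (C a) = g a) (hφX : ∀ i, φ (X i) = x i)

theorem X_mem (i : Fin r) :
    (X i : MvPowerSeries (Fin r) R'.carrier) ∈ maximalIdeal (MvPowerSeries (Fin r) R'.carrier) := by
  rw [MvPSComplete.mem_maximalIdeal_iff, constantCoeff_X]
  exact Ideal.zero_mem _

theorem C_mem (b : R'.carrier) (hb : b ∈ maximalIdeal R'.carrier) :
    (C b : MvPowerSeries (Fin r) R'.carrier) ∈ maximalIdeal (MvPowerSeries (Fin r) R'.carrier) := by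
  rw [MvPSComplete.mem_maximalIdeal_iff, constantCoeff_C]
  exact hb

include hg hρ hρg hxρ hxm hli hφC hφX in
/-- the power series presentation of a retraction is injective on cotangent spaces -/
theorem cot_inj (s : MvPowerSeries (Fin r) R'.carrier) (hs : φ s ∈ maximalIdeal R.carrier ^ 2) :
    s ∈ maximalIdeal (MvPowerSeries (Fin r) R'.carrier) ^ 2 := by
  classical
  set mS := maximalIdeal (MvPowerSeries (Fin r) R'.carrier) with hmS
  set c₀ := constantCoeff s with hc₀
  let t : Fin r → MvPowerSeries (Fin r) R'.carrier := fun i => part i s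
  let b : Fin r → R'.carrier := fun i => constantCoeff (t i)
  let q : Fin r → MvPowerSeries (Fin r) R'.carrier := fun i => ∑ j, X j * part j (t i)
  have ht : ∀ i, t i = C (b i) + q i := fun i => eq_C_add_sum (t i)
  have hs1 : s = C c₀ + ∑ i, (C (b i) * X i + X i * q i) := by
    calc s = C (constantCoeff s) + ∑ i, X i * part i s := eq_C_add_sum s
      _ = C c₀ + ∑ i, (C (b i) * X i + X i * q i) := by
        congr 1
        apply Finset.sum_congr rfl
        intro i _
        change X i * t i = _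
        rw [ht i]
        ring
  have hqm : ∀ i, q i ∈ mS := fun i =>
    Ideal.sum_mem _ (fun j _ => Ideal.mul_mem_right _ _ (X_mem R' j))
  have hφq : ∀ i, φ (q i) ∈ maximalIdeal R.carrier := by
    intro i
    change φ (∑ j, X j * part j (t i)) ∈ _
    rw [map_sum]
    refine Ideal.sum_mem _ (fun j _ => ?_)
    rw [map_mul, hφX]
    exact Ideal.mul_mem_right _ _ (hxm j)
  have hφs : φ s = g c₀ + ∑ i, (g (b i) * x i + x i * φ (q i)) := by
    conv_lhs => rw [hs1]
    rw [map_add, hφC, map_sum]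
    congr 1
    apply Finset.sum_congr rfl
    intro i _
    rw [map_add, map_mul, map_mul, hφC, hφX]
  have hρφs : ρ (φ s) = c₀ := by
    rw [hφs, map_add, hρg, map_sum]
    have : ∀ i ∈ Finset.univ, ρ (g (b i) * x i + x i * φ (q i)) = 0 := by
      intro i _
      rw [map_add, map_mul, map_mul, hxρ, mul_zero, zero_mul, add_zero]
    rw [Finset.sum_eq_zero this, add_zero]
  have hc₀sq : c₀ ∈ maximalIdeal R'.carrier ^ 2 := by
    rw [← hρφs]
    have h3 : ρ (φ s) ∈ Ideal.map ρ (maximalIdeal R.carrier ^ 2) := Ideal.mem_map_of_mem _ hs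
    rw [Ideal.map_pow] at h3
    exact Ideal.pow_right_mono (cring_map_maximalIdeal_le R R' ρ hρ) 2 h3
  have hsq : ∀ {y z : R.carrier}, y ∈ maximalIdeal R.carrier → z ∈ maximalIdeal R.carrier →
      y * z ∈ maximalIdeal R.carrier ^ 2 := by
    intro y z hy hz
    rw [pow_two]
    exact Ideal.mul_mem_mul hy hz
  have hbm : ∀ i, b i ∈ maximalIdeal R'.carrier := by
    have h1 : ∑ i, g (b i) * x i ∈
        Ideal.map g (maximalIdeal R'.carrier) ⊔ maximalIdeal R.carrier ^ 2 := by
      have h2 : ∑ i, g (b i) * x i = φ s - g c₀ - ∑ i, x i * φ (q i) := by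
        rw [hφs, Finset.sum_add_distrib]
        ring
      rw [h2]
      refine Ideal.sub_mem _ (Ideal.sub_mem _ (Ideal.mem_sup_right hs) (Ideal.mem_sup_left ?_))
        (Ideal.mem_sup_right (Ideal.sum_mem _ (fun i _ => hsq (hxm i) (hφq i))))
      exact Ideal.mem_map_of_mem _ (Ideal.pow_le_self (by norm_num) hc₀sq)
    intro i
    have h3 := hli (fun i => g (b i)) h1 i
    rw [CRing.mem_maximalIdeal_iff] at h3 ⊢
    have h4 : R.res (g (b i)) = R'.res (b i) := congrArg (fun t : R'.carrier →ₐ[Λ] k => t (b i)) hg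
    rw [← h4]
    exact h3
  have hsqS : ∀ {y z : MvPowerSeries (Fin r) R'.carrier}, y ∈ mS → z ∈ mS → y * z ∈ mS ^ 2 := by
    intro y z hy hz
    rw [pow_two]
    exact Ideal.mul_mem_mul hy hz
  rw [hs1]
  refine Ideal.add_mem _ ?_ (Ideal.sum_mem _ (fun i _ =>
    Ideal.add_mem _ (hsqS (C_mem R' _ (hbm i)) (X_mem R' i)) (hsqS (X_mem R' i) (hqm i))))
  have h5 : (C c₀ : MvPowerSeries (Fin r) R'.carrier) ∈
      Ideal.map (C : R'.carrier →+* MvPowerSeries (Fin r) R'.carrier) (maximalIdeal R'.carrier ^ 2) :=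
    Ideal.mem_map_of_mem _ hc₀sq
  rw [Ideal.map_pow] at h5
  refine Ideal.pow_right_mono ?_ 2 h5
  rw [Ideal.map_le_iff_le_comap]
  intro a ha
  exact C_mem R' a ha

end Cot

section Level

open MvPowerSeries Groth.Agent.Lib.Helper58.PSRel Groth.Agent.Lib.Helper58.LimAux

variable [IsNoetherianRing Λ] [Module.Finite Λ k] {F : Art Λ k ⥤ Type v}

theorem trunc_pow_eq_bot (S : CRing Λ k) (j : ℕ) :
    maximalIdeal (S.trunc j).carrier ^ (j + 1) = ⊥ := by
  rw [← le_bot_iff]
  calc maximalIdeal (S.carrier ⧸ CRing.mpow S j) ^ (j + 1)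
      ≤ ((maximalIdeal S.carrier).map (Ideal.Quotient.mk (CRing.mpow S j))) ^ (j + 1) :=
        Ideal.pow_right_mono (CRing.maximalIdeal_quot_le S j) _
    _ = (CRing.mpow S j).map (Ideal.Quotient.mk (CRing.mpow S j)) := by rw [← Ideal.map_pow]
    _ = ⊥ := Ideal.map_quotient_self _
    _ ≤ ⊥ := le_rfl

/-- left inverses of the power series presentation modulo powers of the maximal ideal -/
theorem exists_left_inverse (R : CRing Λ k) (ξ : Family R.carrier R.res F) (hξ : IsVersal ξ)
    (R' : CRing Λ k) (g : R'.carrier →ₐ[Λ] R.carrier) (hg : R.res.comp g = R'.res)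
    (ρ : R.carrier →ₐ[Λ] R'.carrier) (hρ : R'.res.comp ρ = R.res)
    (hinv : Inv R ξ (g.comp ρ) (res_comp ρ hρ g hg))
    (r : ℕ) (φ : MvPowerSeries (Fin r) R'.carrier →ₐ[Λ] R.carrier)
    (hφres : R.res.comp φ = (psR R' r).res)
    (hφC : ∀ a, φ (C a) = g a) (hφs : Function.Surjective φ)
    (hcot : ∀ s, φ s ∈ maximalIdeal R.carrier ^ 2 →
      s ∈ maximalIdeal (MvPowerSeries (Fin r) R'.carrier) ^ 2)
    (j : ℕ) (hj : 1 ≤ j) :
    ∃ γ : R.carrier →ₐ[Λ] (MvPowerSeries (Fin r) R'.carrier ⧸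
        maximalIdeal (MvPowerSeries (Fin r) R'.carrier) ^ (j + 1)),
      ∀ s, γ (φ s) = Ideal.Quotient.mk _ s := by
  classical
  let S : CRing Λ k := psR R' r
  let Sj : Art Λ k := S.trunc j
  let Rj : Art Λ k := R.trunc j
  let φj : Sj ⟶ Rj := CRing.truncMapOfHom φ hφres j
  have hφj_mk : ∀ s : S.carrier, φj (Ideal.Quotient.mk (CRing.mpow S j) s) =
      Ideal.Quotient.mk (CRing.mpow R j) (φ s) := fun s => rfl
  have hφj_surj : Function.Surjective φj := by
    intro y
    obtain ⟨a, rfl⟩ := Ideal.Quotient.mk_surjective y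
    obtain ⟨s, rfl⟩ := hφs a
    exact ⟨Ideal.Quotient.mk _ s, rfl⟩
  -- the constants
  let c : R'.carrier →ₐ[Λ] S.carrier := IsScalarTower.toAlgHom Λ R'.carrier (MvPowerSeries (Fin r) R'.carrier)
  have hcC : ∀ a, c a = C a := fun a => by
    change algebraMap R'.carrier (MvPowerSeries (Fin r) R'.carrier) a = C a
    rw [MvPowerSeries.algebraMap_apply]
    rfl
  have hc : S.res.comp c = R'.res := by
    apply AlgHom.ext
    intro a
    change psRes R' r (c a) = R'.res a
    rw [hcC, psRes_apply, constantCoeff_C]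
  let χ : HomSet R'.carrier R'.res Sj := pre c hc (S.truncHom j)
  let y : F.obj Sj := ξ.app Sj (pre ρ hρ χ)
  have hy : F.map φj y = ξ.app Rj (R.truncHom j) := by
    change F.map φj (ξ.app Sj (pre ρ hρ χ)) = _
    rw [← ξ.natural]
    have h1 : HomSet.map φj (pre ρ hρ χ) = pre (g.comp ρ) (res_comp ρ hρ g hg) (R.truncHom j) := by
      apply Subtype.ext
      apply AlgHom.ext
      intro a
      change φj (Ideal.Quotient.mk (CRing.mpow S j) (c (ρ a))) = Ideal.Quotient.mk (CRing.mpow R j) (g (ρ a))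
      rw [hφj_mk, hcC, hφC]
    rw [h1, hinv]
  obtain ⟨ψ, hψ₁, -⟩ := hξ φj hφj_surj (R.truncHom j) y hy
  have hψ₁' : ∀ a, φj (ψ.1 a) = Ideal.Quotient.mk (CRing.mpow R j) a := fun a =>
    congrArg (fun t : HomSet R.carrier R.res Rj => t.1 a) hψ₁
  have hψres : ∀ a, Sj.res (ψ.1 a) = R.res a := fun a =>
    congrArg (fun t : R.carrier →ₐ[Λ] k => t a) ψ.2
  have hφres' : ∀ s, R.res (φ s) = S.res s := fun s =>
    congrArg (fun t : S.carrier →ₐ[Λ] k => t s) hφres
  let τ : HomSet S.carrier S.res Sj := ⟨ψ.1.comp φ, by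
    apply AlgHom.ext
    intro s
    change Sj.res (ψ.1 (φ s)) = S.res s
    rw [hψres, hφres']⟩
  have hkill : ∀ a ∈ CRing.mpow S j, τ.1 a = 0 := fun a ha =>
    hom_kills Sj τ (j + 1) (trunc_pow_eq_bot S j) a ha
  let τb : Sj.carrier →ₐ[Λ] Sj.carrier := Ideal.Quotient.liftₐ (CRing.mpow S j) τ.1 hkill
  have hτb_mk : ∀ s : S.carrier, τb (Ideal.Quotient.mk (CRing.mpow S j) s) = ψ.1 (φ s) := fun s => rfl
  have hSjres : ∀ s : S.carrier, Sj.res (Ideal.Quotient.mk (CRing.mpow S j) s) = S.res s := fun s => rfl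
  have hτbres : (artCRing Sj).res.comp τb = (artCRing Sj).res := by
    apply AlgHom.ext
    intro z
    obtain ⟨s, rfl⟩ := Ideal.Quotient.mk_surjective z
    change Sj.res (τb (Ideal.Quotient.mk (CRing.mpow S j) s)) = Sj.res (Ideal.Quotient.mk (CRing.mpow S j) s)
    rw [hτb_mk, hψres, hφres', hSjres]
  have hmkle : Ideal.map (Ideal.Quotient.mk (CRing.mpow S j)) (maximalIdeal S.carrier) ≤
      maximalIdeal Sj.carrier :=
    cring_map_maximalIdeal_le S (artCRing Sj) (S.truncHom j).1 (S.truncHom j).2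
  have hτbs : Function.Surjective τb := by
    apply cring_surjective_of_cotangent (artCRing Sj) (artCRing Sj) τb hτbres
    apply le_antisymm
    · apply sup_le (cring_map_maximalIdeal_le (artCRing Sj) (artCRing Sj) τb hτbres)
      exact Ideal.pow_le_self (by norm_num)
    · intro z hz
      have h1 : z = τb z + (z - τb z) := by ring
      rw [h1]
      refine Ideal.add_mem _ (Ideal.mem_sup_left (Ideal.mem_map_of_mem _ hz)) (Ideal.mem_sup_right ?_)
      obtain ⟨s, hs⟩ := Ideal.Quotient.mk_surjective z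
      obtain ⟨s'', hs''⟩ := Ideal.Quotient.mk_surjective (τb z)
      have hw : z - τb z = Ideal.Quotient.mk (CRing.mpow S j) (s - s'') := by
        rw [map_sub, hs, hs'']
        rfl
      rw [hw]
      have e1 : φj (τb z) = φj z := by
        rw [← hs, hτb_mk, hψ₁', hφj_mk]
      have e2 : φj (Ideal.Quotient.mk (CRing.mpow S j) s'') =
          φj (Ideal.Quotient.mk (CRing.mpow S j) s) := by
        rw [hs'', hs]
        exact e1
      rw [hφj_mk, hφj_mk] at e2
      have h2' : Ideal.Quotient.mk (CRing.mpow R j) (φ (s - s'')) = 0 := by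
        rw [map_sub, map_sub, e2, sub_self]
      have h2 : φ (s - s'') ∈ CRing.mpow R j := Ideal.Quotient.eq_zero_iff_mem.1 h2'
      have h3 : φ (s - s'') ∈ maximalIdeal R.carrier ^ 2 :=
        Ideal.pow_le_pow_right (by omega) h2
      have h4 := hcot _ h3
      have h5 : Ideal.Quotient.mk (CRing.mpow S j) (s - s'') ∈
          Ideal.map (Ideal.Quotient.mk (CRing.mpow S j)) (maximalIdeal S.carrier ^ 2) :=
        Ideal.mem_map_of_mem _ h4
      rw [Ideal.map_pow] at h5
      exact Ideal.pow_right_mono hmkle 2 h5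
  have hτbi : Function.Injective τb :=
    ringHom_injective_of_surjective_endo (τb : Sj.carrier →+* Sj.carrier) hτbs
  let E : Sj.carrier ≃ₐ[Λ] Sj.carrier := AlgEquiv.ofBijective τb ⟨hτbi, hτbs⟩
  refine ⟨(E.symm : Sj.carrier →ₐ[Λ] Sj.carrier).comp ψ.1, fun s => ?_⟩
  have h9 : ψ.1 (φ s) = E (Ideal.Quotient.mk (CRing.mpow S j) s) := rfl
  change E.symm (ψ.1 (φ s)) = _
  rw [h9]
  exact E.symm_apply_apply _

/-- a versal family over `R` with an invariant retraction onto `R'` is a power series ring over `R'` -/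
theorem exists_ps_equiv (R : CRing Λ k) (ξ : Family R.carrier R.res F) (hξ : IsVersal ξ)
    (R' : CRing Λ k) (g : R'.carrier →ₐ[Λ] R.carrier) (hg : R.res.comp g = R'.res)
    (ρ : R.carrier →ₐ[Λ] R'.carrier) (hρ : R'.res.comp ρ = R.res)
    (hρg : ρ.comp g = AlgHom.id Λ R'.carrier)
    (hinv : Inv R ξ (g.comp ρ) (res_comp ρ hρ g hg)) :
    ∃ (n : ℕ) (e : R.carrier ≃ₐ[Λ] MvPowerSeries (Fin n) R'.carrier),
      ∀ a : R'.carrier, e (g a) = algebraMap R'.carrier (MvPowerSeries (Fin n) R'.carrier) a := by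
  classical
  have hρg' : ∀ a, ρ (g a) = a := fun a =>
    congrArg (fun t : R'.carrier →ₐ[Λ] R'.carrier => t a) hρg
  obtain ⟨r, x, hxρ, hxm, hspan1, hli, hspan2⟩ := exists_retract_gens R R' g hg ρ hρ hρg'
  letI algR'R : Algebra R'.carrier R.carrier := g.toRingHom.toAlgebra
  haveI : IsScalarTower Λ R'.carrier R.carrier :=
    IsScalarTower.of_algebraMap_eq (fun a => (g.commutes a).symm)
  haveI := R.isAdicComplete
  let φ : MvPowerSeries (Fin r) R'.carrier →ₐ[R'.carrier] R.carrier :=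
    PSComplete.evalComplete (maximalIdeal R.carrier) x hxm
  have hφX : ∀ i, φ (X i) = x i := PSComplete.evalComplete_X _ x hxm
  have hφC : ∀ a, φ (C a) = g a := by
    intro a
    have h1 := φ.commutes a
    rw [MvPowerSeries.algebraMap_apply] at h1
    exact h1
  let φΛ : MvPowerSeries (Fin r) R'.carrier →ₐ[Λ] R.carrier := φ.restrictScalars Λ
  have hφΛ : ∀ s, φΛ s = φ s := fun s => rfl
  have hgres : ∀ a, R.res (g a) = R'.res a := fun a =>
    congrArg (fun t : R'.carrier →ₐ[Λ] k => t a) hg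
  have hφres : R.res.comp φΛ = (psR R' r).res := by
    apply AlgHom.ext
    intro f
    change R.res (φ f) = psRes R' r f
    rw [psRes_apply, ← hgres, ← hφC, ← sub_eq_zero, ← map_sub, ← map_sub,
      ← CRing.mem_maximalIdeal_iff]
    apply PSComplete.map_mem_of_constantCoeff_eq_zero (maximalIdeal R.carrier) φ
    · intro i
      rw [hφX]
      exact hxm i
    · rw [map_sub, constantCoeff_C, sub_self]
  have hφs : Function.Surjective φΛ := by
    apply cring_surjective_of_cotangent (psR R' r) R φΛ hφres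
    apply le_antisymm
    · apply sup_le (cring_map_maximalIdeal_le (psR R' r) R φΛ hφres)
      exact Ideal.pow_le_self (by norm_num)
    · apply le_trans _ le_sup_left
      rw [hspan1]
      apply sup_le
      · rw [Ideal.span_le]
        rintro _ ⟨i, rfl⟩
        rw [← hφX]
        exact Ideal.mem_map_of_mem φΛ (X_mem R' i)
      · rw [Ideal.map_le_iff_le_comap]
        intro b hb
        rw [Ideal.mem_comap, ← hφC]
        exact Ideal.mem_map_of_mem φΛ (C_mem R' b hb)
  have hcot : ∀ s, φΛ s ∈ maximalIdeal R.carrier ^ 2 →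
      s ∈ maximalIdeal (MvPowerSeries (Fin r) R'.carrier) ^ 2 :=
    cot_inj R R' g hg ρ hρ hρg' x hxρ hxm hli φΛ hφC hφX
  -- the data for the isomorphism criterion
  have hc : R.res.comp (IsScalarTower.toAlgHom Λ R'.carrier R.carrier) = R'.res := by
    apply AlgHom.ext
    intro a
    exact hgres a
  let ρ' : R.carrier →ₐ[R'.carrier] R'.carrier :=
    { (ρ : R.carrier →+* R'.carrier) with
      commutes' := fun a => hρg' a }
  have hρ'app : ∀ y, ρ' y = ρ y := fun y => rfl
  have hker : RingHom.ker ρ' = RingHom.ker ρ := by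
    ext y
    rw [RingHom.mem_ker, RingHom.mem_ker, hρ'app]
  have hbij : Function.Bijective φ := by
    apply Groth.Agent.S12748.result R' R hc ρ' r x (fun i => hxρ i) (by rw [hker]; exact hspan2)
      _ φ hφX
    · refine ⟨2, fun n hn => ?_⟩
      obtain ⟨j, rfl⟩ : ∃ j, n = j + 1 := ⟨n - 1, by omega⟩
      obtain ⟨γ, hγ⟩ := exists_left_inverse R ξ hξ R' g hg ρ hρ hinv r φΛ hφres hφC hφs hcot j (by omega)
      exact ⟨γ, hγ⟩
    · intro c hc'
      apply hli c
      apply Ideal.mem_sup_right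
      rw [pow_two]
      rw [hker] at hc'
      exact Ideal.mul_mono_right (ker_le R R' ρ hρ) hc'
  let E : MvPowerSeries (Fin r) R'.carrier ≃ₐ[R'.carrier] R.carrier := AlgEquiv.ofBijective φ hbij
  refine ⟨r, (E.symm.restrictScalars Λ), fun a => ?_⟩
  change E.symm (algebraMap R'.carrier R.carrier a) = _
  rw [E.symm.commutes]

end Level

end Groth.Agent.Lib.Helper58.VersalPS
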