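import Mathlib
import Groth.Prelude.Def_W4sfdMinVersal
import Groth.Agent.Lib.Helper58.T1Lift
import Groth.Agent.Lib.Helper58.VersalPS

set_option autoImplicit false
universe u v w
open CategoryTheory

namespace Groth.Agent.Lib.Helper58.T1LC

open ArtFun ArtFun.Art IsLocalRing MvPowerSeries Groth.Agent.Lib.Helper65 Groth.Agent.Lib.Helper58
  Groth.Agent.Lib.Helper58.T1L Groth.Agent.Lib.Helper58.PSRel Groth.Agent.Lib.Helper58.LimAux
  Groth.Agent.Lib.Helper58.VersalPS Groth.Agent.Lib.Helper90.PSIdeal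

variable {k : Type u} [Field k]

/-- `k` as a coefficient ring -/
noncomputable abbrev K₀ (k : Type u) [Field k] : CRing k k := artCRing (base k k)

/-- any `k`-algebra map from a coefficient ring to `k` is the augmentation -/
theorem res_unique (R : CRing k k) (χ : R.carrier →ₐ[k] k) : χ = R.res := by
  apply AlgHom.ext
  intro r
  have h1 : r - algebraMap k R.carrier (R.res r) ∈ maximalIdeal R.carrier := by
    rw [CRing.mem_maximalIdeal_iff, map_sub, AlgHom.commutes, sub_eq_zero]
    rfl
  have hχ : ∀ y ∈ maximalIdeal R.carrier, χ y = 0 := by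
    intro y hy
    by_contra hne
    have hu : IsUnit (y - algebraMap k R.carrier (χ y)) := by
      by_contra hnu
      have h2 : y - algebraMap k R.carrier (χ y) ∈ maximalIdeal R.carrier :=
        (IsLocalRing.mem_maximalIdeal _).2 hnu
      have h3 := Ideal.sub_mem _ hy h2
      rw [sub_sub_cancel] at h3
      have h4 : IsUnit (algebraMap k R.carrier (χ y)) := (isUnit_iff_ne_zero.2 hne).map _
      exact (IsLocalRing.mem_maximalIdeal _).1 h3 h4
    have h5 := hu.map χ
    rw [map_sub, AlgHom.commutes] at h5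
    simp at h5
  have h2 := hχ _ h1
  rw [map_sub, AlgHom.commutes, sub_eq_zero] at h2
  exact h2

/-- minimal power series presentation of a coefficient ring over a field -/
theorem exists_min_presentation (R : CRing k k) :
    ∃ φ : MvPowerSeries (Fin (Module.finrank (ResidueField R.carrier) (CotangentSpace R.carrier))) k
        →ₐ[k] R.carrier,
      Function.Surjective φ ∧ (∀ s, R.res (φ s) = constantCoeff s) ∧
      ∀ s, φ s = 0 → s ∈ Ideal.span (Set.range (X : Fin (Module.finrank (ResidueField R.carrier)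
        (CotangentSpace R.carrier)) → MvPowerSeries _ k)) ^ 2 := by
  classical
  obtain ⟨x, hxm, hspan, hli⟩ := exists_min_gens R.carrier
  let n := Module.finrank (ResidueField R.carrier) (CotangentSpace R.carrier)
  haveI := R.isAdicComplete
  let φ : MvPowerSeries (Fin n) k →ₐ[k] R.carrier :=
    PSComplete.evalComplete (maximalIdeal R.carrier) x hxm
  have hφX : ∀ i, φ (X i) = x i := PSComplete.evalComplete_X _ x hxm
  have hφC : ∀ a : k, φ (C a) = algebraMap k R.carrier a := by
    intro a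
    have h1 := φ.commutes a
    rw [MvPowerSeries.algebraMap_apply] at h1
    exact h1
  have hres : ∀ s, R.res (φ s) = constantCoeff s := by
    intro s
    have h1 : φ (s - C (constantCoeff s)) ∈ maximalIdeal R.carrier := by
      apply PSComplete.map_mem_of_constantCoeff_eq_zero (maximalIdeal R.carrier) φ
      · intro i
        rw [hφX]
        exact hxm i
      · rw [map_sub, constantCoeff_C, sub_self]
    rw [CRing.mem_maximalIdeal_iff, map_sub, map_sub, hφC, AlgHom.commutes, sub_eq_zero] at h1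
    exact h1
  have hφres : R.res.comp φ = (psR (K₀ k) n).res := by
    apply AlgHom.ext
    intro s
    exact hres s
  have hφs : Function.Surjective φ := by
    apply cring_surjective_of_cotangent (psR (K₀ k) n) R φ hφres
    apply le_antisymm
    · apply sup_le (cring_map_maximalIdeal_le (psR (K₀ k) n) R φ hφres)
      exact Ideal.pow_le_self (by norm_num)
    · apply le_trans _ le_sup_left
      rw [hspan, Ideal.span_le]
      rintro _ ⟨i, rfl⟩
      rw [← hφX]
      exact Ideal.mem_map_of_mem φ (X_mem (K₀ k) i)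
  refine ⟨φ, hφs, hres, ?_⟩
  intro s hs
  set 𝔛 := Ideal.span (Set.range (X : Fin n → MvPowerSeries (Fin n) k)) with h𝔛
  have hX𝔛 : ∀ i, (X i : MvPowerSeries (Fin n) k) ∈ 𝔛 := fun i => Ideal.subset_span ⟨i, rfl⟩
  set c₀ := constantCoeff s with hc₀
  let t : Fin n → MvPowerSeries (Fin n) k := fun i => Groth.Agent.Lib.Helper21.PSAdic.part i s
  let b : Fin n → k := fun i => constantCoeff (t i)
  let q : Fin n → MvPowerSeries (Fin n) k := fun i =>
    ∑ j, X j * Groth.Agent.Lib.Helper21.PSAdic.part j (t i)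
  have ht : ∀ i, t i = C (b i) + q i := fun i => Groth.Agent.Lib.Helper21.PSAdic.eq_C_add_sum (t i)
  have hs1 : s = C c₀ + ∑ i, (C (b i) * X i + X i * q i) := by
    calc s = C (constantCoeff s) + ∑ i, X i * Groth.Agent.Lib.Helper21.PSAdic.part i s :=
          Groth.Agent.Lib.Helper21.PSAdic.eq_C_add_sum s
      _ = C c₀ + ∑ i, (C (b i) * X i + X i * q i) := by
        congr 1
        apply Finset.sum_congr rfl
        intro i _
        change X i * t i = _
        rw [ht i]
        ring
  have hq𝔛 : ∀ i, q i ∈ 𝔛 := fun i =>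
    Ideal.sum_mem _ (fun j _ => Ideal.mul_mem_right _ _ (hX𝔛 j))
  have hφq : ∀ i, φ (q i) ∈ maximalIdeal R.carrier := by
    intro i
    change φ (∑ j, X j * Groth.Agent.Lib.Helper21.PSAdic.part j (t i)) ∈ _
    rw [map_sum]
    refine Ideal.sum_mem _ (fun j _ => ?_)
    rw [map_mul, hφX]
    exact Ideal.mul_mem_right _ _ (hxm j)
  have hc₀0 : c₀ = 0 := by
    rw [hc₀, ← hres, hs, map_zero]
  have hφs' : ∑ i, algebraMap k R.carrier (b i) * x i = - ∑ i, x i * φ (q i) := by
    have h1 : φ s = algebraMap k R.carrier c₀ +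
        ∑ i, (algebraMap k R.carrier (b i) * x i + x i * φ (q i)) := by
      conv_lhs => rw [hs1]
      rw [map_add, hφC, map_sum]
      congr 1
      apply Finset.sum_congr rfl
      intro i _
      rw [map_add, map_mul, map_mul, hφC, hφX]
    rw [hs, hc₀0, map_zero, zero_add, Finset.sum_add_distrib] at h1
    exact eq_neg_of_add_eq_zero_left h1.symm
  have hb0 : ∀ i, b i = 0 := by
    have h1 : ∑ i, algebraMap k R.carrier (b i) * x i ∈ maximalIdeal R.carrier ^ 2 := by
      rw [hφs']
      apply (Ideal.neg_mem_iff _).2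
      refine Ideal.sum_mem _ (fun i _ => ?_)
      rw [pow_two]
      exact Ideal.mul_mem_mul (hxm i) (hφq i)
    intro i
    have h2 := hli (fun i => algebraMap k R.carrier (b i)) h1 i
    rw [CRing.mem_maximalIdeal_iff, AlgHom.commutes] at h2
    exact h2
  rw [hs1, hc₀0, map_zero, zero_add]
  refine Ideal.sum_mem _ (fun i _ => ?_)
  rw [hb0, map_zero, zero_mul, zero_add, pow_two]
  exact Ideal.mul_mem_mul (hX𝔛 i) (hq𝔛 i)

/-- `k[[X]]` as a coefficient ring, with carrier syntactically a power series ring over `k` -/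
noncomputable abbrev PSk (k : Type u) [Field k] (n : ℕ) : CRing k k :=
  { carrier := MvPowerSeries (Fin n) k
    commRing := inferInstance
    algebra := inferInstance
    isLocalRing := inferInstance
    isNoetherianRing := (psR (K₀ k) n).isNoetherianRing
    res := (psR (K₀ k) n).res
    res_surjective := (psR (K₀ k) n).res_surjective
    isAdicComplete := (psR (K₀ k) n).isAdicComplete }

theorem PSk_res (n : ℕ) (s : MvPowerSeries (Fin n) k) : (PSk k n).res s = constantCoeff s := rfl

/-- the restricted lifting property -/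
def RLP (R : CRing k k) : Prop :=
  ∀ (A : Art k k) (J : Ideal A.carrier)
    (φ : R.carrier →ₐ[k] TrivSqZeroExt A.carrier (A.carrier ⧸ J)),
    ∃ ψ : R.carrier →ₐ[k] TrivSqZeroExt A.carrier A.carrier,
      ∀ r, (ψ r).fst = (φ r).fst ∧ Ideal.Quotient.mk J (ψ r).snd = (φ r).snd

section Step

variable [CharZero k] (R : CRing k k) {n : ℕ}
  (φ : MvPowerSeries (Fin n) k →ₐ[k] R.carrier) (hφs : Function.Surjective φ) (hLP : RLP R)

include hφs hLP in
theorem step (E : ℕ) (hE : 1 ≤ E)
    (hI : ∀ s, φ s = 0 → s ∈ Ideal.span (Set.range (X : Fin n → MvPowerSeries (Fin n) k)) ^ (E + 1)) :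
    ∀ s, φ s = 0 → s ∈ Ideal.span (Set.range (X : Fin n → MvPowerSeries (Fin n) k)) ^ (E + 2) := by
  classical
  intro f hf
  by_contra hf'
  obtain ⟨i, hi⟩ := exists_pderiv_notMem_pow E f (hI f hf) hf'
  set 𝔛 := Ideal.span (Set.range (X : Fin n → MvPowerSeries (Fin n) k)) with h𝔛
  let S : CRing k k := PSk k n
  let A : Art k k := S.trunc E
  let π : MvPowerSeries (Fin n) k →ₐ[k] A.carrier := (S.truncHom E).1
  have hπiff : ∀ s, π s = 0 ↔ s ∈ 𝔛 ^ (E + 1) := by
    intro s
    have h1 : π s = 0 ↔ s ∈ CRing.mpow S E := Ideal.Quotient.eq_zero_iff_mem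
    rw [h1]
    change s ∈ maximalIdeal (MvPowerSeries (Fin n) k) ^ (E + 1) ↔ _
    rw [maximalIdeal_eq_span_X]
  let J : Ideal A.carrier := Ideal.map π (𝔛 ^ E)
  have hJJ : ∀ a ∈ J, ∀ b ∈ J, a * b = 0 := by
    intro a ha b hb
    have h1 : a * b ∈ J * J := Ideal.mul_mem_mul ha hb
    have h2 : J * J = ⊥ := by
      change Ideal.map π (𝔛 ^ E) * Ideal.map π (𝔛 ^ E) = ⊥
      rw [← Ideal.map_mul, ← pow_add, eq_bot_iff, Ideal.map_le_iff_le_comap]
      intro s hs
      rw [Ideal.mem_comap, Ideal.mem_bot, hπiff]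
      exact Ideal.pow_le_pow_right (by omega) hs
    rw [h2, Ideal.mem_bot] at h1
    exact h1
  -- the derivation into A ⧸ J
  let q : A.carrier →ₐ[k] A.carrier ⧸ J := Ideal.Quotient.mkₐ k J
  let D₀ : MvPowerSeries (Fin n) k →ₗ[k] A.carrier ⧸ J :=
    q.toLinearMap ∘ₗ π.toLinearMap ∘ₗ (pderiv k i : MvPowerSeries (Fin n) k →ₗ[k] MvPowerSeries (Fin n) k)
  have hD₀_apply : ∀ s, D₀ s = Ideal.Quotient.mk J (π (pderiv k i s)) := fun s => rfl
  have hsmul : ∀ (a b : A.carrier), a • (Ideal.Quotient.mk J b) = Ideal.Quotient.mk J (a * b) :=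
    fun a b => rfl
  have hD₀ : ∀ a b, D₀ (a * b) = π a • D₀ b + π b • D₀ a := by
    intro a b
    rw [hD₀_apply, hD₀_apply, hD₀_apply, Derivation.leibniz, hsmul, hsmul, ← map_add]
    congr 1
  let Φ : MvPowerSeries (Fin n) k →ₐ[k] TrivSqZeroExt A.carrier (A.carrier ⧸ J) := tszeHom π D₀ hD₀
  have hΦker : RingHom.ker φ.toRingHom ≤ RingHom.ker Φ.toRingHom := by
    intro s hs
    have hs0 : φ s = 0 := hs
    have hs1 := hI s hs0
    change Φ s = 0
    apply TrivSqZeroExt.ext
    · rw [fst_tszeHom, TrivSqZeroExt.fst_zero, hπiff]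
      exact hs1
    · rw [snd_tszeHom, TrivSqZeroExt.snd_zero, hD₀_apply]
      apply Ideal.Quotient.eq_zero_iff_mem.2
      exact Ideal.mem_map_of_mem π (pderiv_mem_pow i E s hs1)
  let φR : R.carrier →ₐ[k] TrivSqZeroExt A.carrier (A.carrier ⧸ J) :=
    AlgHom.liftOfSurjective φ hφs Φ hΦker
  have hφR : ∀ s, φR (φ s) = Φ s := fun s => AlgHom.liftOfSurjective_apply φ hφs Φ hΦker s
  obtain ⟨ψ, hψ⟩ := hLP A J φR
  let Ψ : MvPowerSeries (Fin n) k →ₐ[k] TrivSqZeroExt A.carrier A.carrier := ψ.comp φ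
  have hΨfst : ∀ s, (Ψ s).fst = π s := by
    intro s
    change (ψ (φ s)).fst = _
    rw [(hψ (φ s)).1, hφR, fst_tszeHom]
  have hΨsnd : ∀ s, Ideal.Quotient.mk J (Ψ s).snd = Ideal.Quotient.mk J (π (pderiv k i s)) := by
    intro s
    change Ideal.Quotient.mk J (ψ (φ s)).snd = _
    rw [(hψ (φ s)).2, hφR, snd_tszeHom]
    exact hD₀_apply s
  let Dt : MvPowerSeries (Fin n) k →+ A.carrier :=
    AddMonoidHom.mk' (fun s => (Ψ s).snd) (fun a b => by rw [map_add, TrivSqZeroExt.snd_add])
  have hDt_apply : ∀ s, Dt s = (Ψ s).snd := fun s => rfl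
  have hDt : ∀ a b, Dt (a * b) = π a * Dt b + π b * Dt a := by
    intro a b
    rw [hDt_apply, hDt_apply, hDt_apply, map_mul, TrivSqZeroExt.snd_mul, hΨfst, hΨfst,
      op_smul_eq_smul, smul_eq_mul, smul_eq_mul]
  let v : Fin n → A.carrier := fun l => Dt (X l)
  let Δ : MvPowerSeries (Fin n) k →+ A.carrier :=
    AddMonoidHom.mk' (fun s => Dt s - ∑ l, π (pderiv k l s) * v l) (fun a b => by
      simp only [map_add, add_mul, Finset.sum_add_distrib]
      abel)
  have hΔ_apply : ∀ s, Δ s = Dt s - ∑ l, π (pderiv k l s) * v l := fun s => rfl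
  have hΔ : ∀ a b, Δ (a * b) = π a * Δ b + π b * Δ a := by
    intro a b
    rw [hΔ_apply, hΔ_apply, hΔ_apply, hDt]
    have h1 : ∀ l, π (pderiv k l (a * b)) * v l =
        π a * (π (pderiv k l b) * v l) + π b * (π (pderiv k l a) * v l) := by
      intro l
      rw [Derivation.leibniz, map_add, smul_eq_mul, smul_eq_mul, map_mul, map_mul]
      ring
    simp_rw [h1]
    rw [Finset.sum_add_distrib, ← Finset.mul_sum, ← Finset.mul_sum]
    ring
  have hΔC : ∀ c, Δ (C c) = 0 := by
    intro c
    have h1 : Dt (C c) = 0 := by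
      rw [hDt_apply]
      have h2 : (C c : MvPowerSeries (Fin n) k) = algebraMap k _ c := by
        rw [MvPowerSeries.algebraMap_apply]; rfl
      rw [h2, AlgHom.commutes, TrivSqZeroExt.algebraMap_eq_inl', TrivSqZeroExt.snd_inl]
    rw [hΔ_apply, h1]
    simp
  have hΔX : ∀ l, Δ (X l) = 0 := by
    intro l
    rw [hΔ_apply]
    have h1 : ∑ l', π (pderiv k l' (X l : MvPowerSeries (Fin n) k)) * v l' = v l := by
      rw [Finset.sum_eq_single l]
      · rw [pderiv_X_self, map_one, one_mul]
      · intro l' _ hne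
        rw [pderiv_X_of_ne hne.symm, map_zero, zero_mul]
      · intro h; exact absurd (Finset.mem_univ l) h
    rw [h1]
    exact sub_self _
  have hΔ0 : ∀ s, Δ s = 0 :=
    der_ext π (E + 1) (fun s hs => (hπiff s).2 hs) Δ hΔ hΔC hΔX
  have hDtf : Dt f = 0 := by
    rw [hDt_apply]
    change (ψ (φ f)).snd = 0
    rw [hf, map_zero, TrivSqZeroExt.snd_zero]
  have hsum : ∑ l, π (pderiv k l f) * v l = 0 := by
    have h1 := hΔ0 f
    rw [hΔ_apply, hDtf, zero_sub, neg_eq_zero] at h1
    exact h1
  have hvJ : ∀ l, v l - π (pderiv k i (X l)) ∈ J := by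
    intro l
    exact Ideal.Quotient.eq.1 (hΨsnd (X l))
  have hfJ : ∀ l, π (pderiv k l f) ∈ J := fun l =>
    Ideal.mem_map_of_mem π (pderiv_mem_pow l E f (hI f hf))
  have hterm : ∀ l, π (pderiv k l f) * v l = π (pderiv k l f) * π (pderiv k i (X l)) := by
    intro l
    have h1 := hJJ _ (hfJ l) _ (hvJ l)
    rw [mul_sub, sub_eq_zero] at h1
    exact h1
  have hsum2 : ∑ l, π (pderiv k l f) * π (pderiv k i (X l : MvPowerSeries (Fin n) k)) =
      π (pderiv k i f) := by
    rw [Finset.sum_eq_single i]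
    · rw [pderiv_X_self, map_one, mul_one]
    · intro l _ hne
      rw [pderiv_X_of_ne hne, map_zero, mul_zero]
    · intro h; exact absurd (Finset.mem_univ i) h
  have hfinal : π (pderiv k i f) = 0 := by
    rw [← hsum2, ← hsum]
    exact Finset.sum_congr rfl (fun l _ => (hterm l).symm)
  exact hi ((hπiff _).1 hfinal)

end Step

/-- the restricted lifting property forces a coefficient ring to be a power series ring -/
theorem core [CharZero k] (R : CRing k k) (hLP : RLP R) :
    Nonempty (R.carrier ≃ₐ[k] MvPowerSeries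
      (Fin (Module.finrank (ResidueField R.carrier) (CotangentSpace R.carrier))) k) := by
  classical
  obtain ⟨φ, hφs, -, hker2⟩ := exists_min_presentation R
  have hall : ∀ j : ℕ, ∀ s, φ s = 0 →
      s ∈ Ideal.span (Set.range (X : Fin (Module.finrank (ResidueField R.carrier)
        (CotangentSpace R.carrier)) → MvPowerSeries _ k)) ^ (j + 2) := by
    intro j
    induction j with
    | zero => exact hker2
    | succ j ih => exact step R φ hφs hLP (j + 1) (by omega) ih
  have hinj : Function.Injective φ := by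
    rw [injective_iff_map_eq_zero]
    intro s hs
    ext d
    have h1 := hall d.degree s hs
    rw [mem_pow_iff] at h1
    rw [h1 d (by omega)]
    rfl
  exact ⟨(AlgEquiv.ofBijective φ ⟨hinj, hφs⟩).symm⟩

end Groth.Agent.Lib.Helper58.T1LC
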