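import Mathlib
import Groth.Prelude.Def_W4sfdMinVersal
import Groth.Agent.Lib.Helper58.T1LiftCore

/-!
# Power series rings have the T¹-lifting property
-/

set_option autoImplicit false
universe u v w
open CategoryTheory

namespace Groth.Agent.Lib.Helper58.T1LD

open ArtFun ArtFun.Art IsLocalRing MvPowerSeries Groth.Agent.Lib.Helper65 Groth.Agent.Lib.Helper58
  Groth.Agent.Lib.Helper58.T1L Groth.Agent.Lib.Helper58.PSRel Groth.Agent.Lib.Helper58.LimAux
  Groth.Agent.Lib.Helper58.VersalPS Groth.Agent.Lib.Helper90.PSIdeal Groth.Agent.Lib.Helper58.T1LC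

section Nilp

variable {A : Type u} [CommRing A] {M : Type u} [AddCommGroup M] [Module A M] [Module Aᵐᵒᵖ M]
  [IsCentralScalar A M]

theorem tsze_pow_eq_zero (t : TrivSqZeroExt A M) (N : ℕ) (h : t.fst ^ N = 0) : t ^ (N + 1) = 0 := by
  apply TrivSqZeroExt.ext
  · rw [TrivSqZeroExt.fst_pow, pow_succ, h, zero_mul, TrivSqZeroExt.fst_zero]
  · rw [TrivSqZeroExt.snd_pow, Nat.pred_succ, h, zero_smul, smul_zero, TrivSqZeroExt.snd_zero]

end Nilp

section Haus

variable {S : Type u} [CommRing S]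

theorem isHausdorff_of_pow_eq_bot (I : Ideal S) (N : ℕ) (h : I ^ N = ⊥) : IsHausdorff I S := by
  refine ⟨fun x hx => ?_⟩
  have h1 := hx N
  rw [h, SModEq.zero] at h1
  simpa using h1

end Haus

section Lift

variable {k : Type u} [Field k]

/-- power series rings have the lifting property along surjections of modules -/
theorem lift_ps {n : ℕ} (A : Art k k) (M M' : Type u)
    [AddCommGroup M] [Module A.carrier M] [Module A.carrierᵐᵒᵖ M]
    [IsCentralScalar A.carrier M] [Module k M] [IsScalarTower k A.carrier M]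
    [IsScalarTower k A.carrierᵐᵒᵖ M]
    [AddCommGroup M'] [Module A.carrier M'] [Module A.carrierᵐᵒᵖ M'] [IsCentralScalar A.carrier M']
    [Module k M'] [IsScalarTower k A.carrier M'] [IsScalarTower k A.carrierᵐᵒᵖ M']
    (f : M' →ₗ[A.carrier] M) (hf : Function.Surjective f)
    (φ : MvPowerSeries (Fin n) k →ₐ[k] TrivSqZeroExt A.carrier M) :
    ∃ ψ : MvPowerSeries (Fin n) k →ₐ[k] TrivSqZeroExt A.carrier M',
      ∀ s, (ψ s).fst = (φ s).fst ∧ f (ψ s).snd = (φ s).snd := by
  classical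
  obtain ⟨N, hN⟩ := (isArtinianRing_iff_isNilpotent_maximalIdeal A.carrier).1 A.isArtinianRing
  -- the variables go to the maximal ideal
  have hfst : ∀ i, (φ (X i)).fst ∈ maximalIdeal A.carrier := by
    intro i
    let χ : (PSk k n).carrier →ₐ[k] k :=
      A.res.comp ((TrivSqZeroExt.fstHom k A.carrier M).comp φ)
    have h1 := res_unique (PSk k n) χ
    have h2 : χ (X i) = (PSk k n).res (X i) := by rw [h1]
    rw [PSk_res, constantCoeff_X] at h2
    rw [Art.mem_maximalIdeal_iff]
    exact h2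
  have hfstN : ∀ i, (φ (X i)).fst ^ N = 0 := by
    intro i
    have h1 := Ideal.pow_mem_pow (hfst i) N
    rw [hN] at h1
    exact h1
  choose m' hm' using fun i => hf (φ (X i)).snd
  let c' : Fin n → TrivSqZeroExt A.carrier M' := fun i => (TrivSqZeroExt.inl (φ (X i)).fst + TrivSqZeroExt.inr (m' i))
  have hc'fst : ∀ i, (c' i).fst = (φ (X i)).fst := by
    intro i
    simp [c']
  have hc'snd : ∀ i, (c' i).snd = m' i := by
    intro i
    simp [c']
  have hc' : ∀ i, c' i ^ (N + 1) = 0 := fun i =>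
    tsze_pow_eq_zero (c' i) N (by rw [hc'fst]; exact hfstN i)
  let ψ : MvPowerSeries (Fin n) k →ₐ[k] TrivSqZeroExt A.carrier M' :=
    Groth.Agent.Lib.Helper21.PSAdic.evalNilp c' (N + 1) hc'
  have hψX : ∀ i, ψ (X i) = c' i := Groth.Agent.Lib.Helper21.PSAdic.evalNilp_X c' (N + 1) hc'
  let F : TrivSqZeroExt A.carrier M' →ₐ[k] TrivSqZeroExt A.carrier M :=
    (TrivSqZeroExt.map f).restrictScalars k
  have hF_fst : ∀ t, (F t).fst = t.fst := fun t => TrivSqZeroExt.fst_map f t
  have hF_snd : ∀ t, (F t).snd = f t.snd := fun t => TrivSqZeroExt.snd_map f t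
  let I : Ideal (TrivSqZeroExt A.carrier M) := Ideal.span (Set.range (fun i => φ (X i)))
  have hInil : IsNilpotent I := by
    apply (Ideal.FG.isNilpotent_iff_le_nilradical (Submodule.fg_span (Set.finite_range _))).2
    apply Ideal.span_le.2
    rintro _ ⟨i, rfl⟩
    exact ⟨N + 1, tsze_pow_eq_zero _ N (hfstN i)⟩
  obtain ⟨m, hm⟩ := hInil
  haveI : IsHausdorff I (TrivSqZeroExt A.carrier M) := isHausdorff_of_pow_eq_bot I m hm
  have hFψ : φ = F.comp ψ := by
    apply Groth.Agent.Lib.Helper58.PSComplete.algHom_ext_of_X I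
    · intro i
      exact Ideal.subset_span ⟨i, rfl⟩
    · intro i
      change φ (X i) = F (ψ (X i))
      rw [hψX]
      apply TrivSqZeroExt.ext
      · rw [hF_fst, hc'fst]
      · rw [hF_snd, hc'snd, hm']
  refine ⟨ψ, fun s => ?_⟩
  have h1 : φ s = F (ψ s) := by rw [hFψ]; rfl
  rw [h1, hF_fst, hF_snd]
  exact ⟨rfl, rfl⟩

end Lift

end Groth.Agent.Lib.Helper58.T1LD
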