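import Mathlib
import Groth.Prelude.Def_TwC
import Groth.Prelude.Def_SGA3x
import Groth.Prelude.Def_AlgGrp
import Groth.Agent.Lib.Helper58.TrivAct2

/-!
# Actions of groups of multiplicative type which are trivial modulo a locally nilpotent ideal
-/

set_option autoImplicit false

universe u

open CategoryTheory CategoryTheory.Limits AlgebraicGeometry MonoidalCategory
  CartesianMonoidalCategory MonObj GrpObj

namespace Groth.Agent.Lib.Helper58.TrivAct3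

open Groth.Agent.Lib.Helper43 Groth.Agent.Lib.Helper58.DiagPts Groth.Agent.Lib.Helper58.DiagTest
open Groth.Agent.Lib.Helper58 Groth.Agent.Lib.Helper58.TrivAct2

lemma hom_ext_of_local {X Y : Scheme.{u}} (f g : X ⟶ Y)
    (h : ∀ x : X, ∃ O : X.Opens, x ∈ O ∧ O.ι ≫ f = O.ι ≫ g) : f = g := by
  choose O hO hfg using h
  refine Scheme.Cover.hom_ext (X.openCoverOfIsOpenCover O ?_) f g (fun x => hfg x)
  rw [TopologicalSpace.IsOpenCover, eq_top_iff]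
  intro x _
  exact TopologicalSpace.Opens.mem_iSup.mpr ⟨x, hO x⟩

section

variable {S : Scheme.{u}} {G X : Over S} [GrpObj G] (a : AlgGrp.Action G X)

/-- the restriction of an `S`-scheme to an open. -/
noncomputable abbrev resO (Y : Over S) (O : Y.left.Opens) : Over S := Over.mk (O.ι ≫ Y.hom)

/-- the inclusion of the restriction. -/
noncomputable abbrev jO (Y : Over S) (O : Y.left.Opens) : resO Y O ⟶ Y := Over.homMk O.ι rfl

lemma triv_of_local {Y : Over S} (g : Y ⟶ G) (x : Y ⟶ X)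
    (h : ∀ y : Y.left, ∃ O : Y.left.Opens, y ∈ O ∧
      lift (jO Y O ≫ g) (jO Y O ≫ x) ≫ a.act = jO Y O ≫ x) :
    lift g x ≫ a.act = x := by
  apply Over.OverMorphism.ext
  apply hom_ext_of_local
  intro y
  obtain ⟨O, hy, hO⟩ := h y
  refine ⟨O, hy, ?_⟩
  have h1 := congrArg (fun f => f.left) hO
  rw [← comp_lift, Category.assoc] at h1
  exact h1

lemma triv_of_epi {Y Y' : Over S} (p : Y' ⟶ Y) [Epi p.left] (g : Y ⟶ G) (x : Y ⟶ X)
    (h : lift (p ≫ g) (p ≫ x) ≫ a.act = p ≫ x) :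
    lift g x ≫ a.act = x := by
  apply Over.OverMorphism.ext
  rw [← cancel_epi p.left]
  have h1 := congrArg (fun f => f.left) h
  rw [← comp_lift, Category.assoc] at h1
  exact h1

end


section

variable {S S₀ : Scheme.{u}} (i₀ : S₀ ⟶ S) [IsClosedImmersion i₀]
  (hnil : ∀ x : S, ∃ U : S.affineOpens, x ∈ (U : S.Opens) ∧ IsNilpotent (i₀.ker.ideal U))
  (G X : Over S) [GrpObj G] (a : AlgGrp.Action G X)
  (h0 : ∀ (Y : Over S) (_ : Y ⟶ Over.mk i₀) (g : Y ⟶ G) (x : Y ⟶ X), lift g x ≫ a.act = x)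

include hnil h0 in
/-- the action is trivial on points of schemes over which `G` is diagonalisable. -/
theorem triv_of_diag {U : Scheme.{u}} (u : U ⟶ S) {M : Type} [AddCommGroup M]
    (e : Grp.mk (Red.bc u G) ≅ Grp.mk (Red.DS U M))
    (Y : Over S) (q : Y.left ⟶ U) (hq : q ≫ u = Y.hom) (g : Y ⟶ G) (x : Y ⟶ X) :
    lift g x ≫ a.act = x := by
  apply triv_of_local a g x
  intro y
  have hξ : x.left ≫ X.hom = q ≫ u := by rw [Over.w x, hq]
  obtain ⟨ξ, hξdef⟩ : ∃ ξ, ξ = pullback.lift x.left q hξ := ⟨_, rfl⟩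
  have hξ1 : ξ ≫ pullback.fst X.hom u = x.left := by rw [hξdef, pullback.lift_fst]
  obtain ⟨W, hsW, hW⟩ := hnil ((pullback.fst X.hom u ≫ X.hom).base (ξ.base y))
  have hmem : ξ.base y ∈ (pullback.fst X.hom u ≫ X.hom) ⁻¹ᵁ (W : S.Opens) := hsW
  obtain ⟨V, hV, hyV, hVW⟩ := exists_isAffineOpen_mem_and_subset hmem
  have hVW' : V ≤ (pullback.fst X.hom u ≫ X.hom) ⁻¹ᵁ (W : S.Opens) := hVW
  obtain ⟨c, hc⟩ : ∃ c : Γ(S, W) →+* Γ(pullback X.hom u, V),
      c = ((pullback.fst X.hom u ≫ X.hom).appLE W V hVW').hom := ⟨_, rfl⟩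
  have hvA : hV.fromSpec ≫ pullback.fst X.hom u ≫ X.hom =
      Spec.map (CommRingCat.ofHom c) ≫ W.2.fromSpec := by
    rw [hc, CommRingCat.ofHom_hom]
    exact (IsAffineOpen.SpecMap_appLE_fromSpec _ W.2 hV hVW').symm
  refine ⟨ξ ⁻¹ᵁ V, hyV, ?_⟩
  have hrange : Set.range ((ξ ⁻¹ᵁ V).ι ≫ ξ).base ⊆ Set.range hV.fromSpec.base := by
    rw [hV.range_fromSpec]
    rintro _ ⟨o, rfl⟩
    exact o.2
  obtain ⟨v₀, hv₀⟩ : ∃ v₀, v₀ = IsOpenImmersion.lift hV.fromSpec ((ξ ⁻¹ᵁ V).ι ≫ ξ) hrange :=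
    ⟨_, rfl⟩
  have hv₀' : v₀ ≫ hV.fromSpec = (ξ ⁻¹ᵁ V).ι ≫ ξ := by rw [hv₀, IsOpenImmersion.lift_fac]
  have hv₀S : v₀ ≫ tA W c = (resO Y (ξ ⁻¹ᵁ V)).hom := by
    calc v₀ ≫ tA W c = v₀ ≫ hV.fromSpec ≫ pullback.fst X.hom u ≫ X.hom := by rw [hvA]
      _ = (ξ ⁻¹ᵁ V).ι ≫ (ξ ≫ pullback.fst X.hom u) ≫ X.hom := by
        rw [← Category.assoc, hv₀']; simp only [Category.assoc]
      _ = (resO Y (ξ ⁻¹ᵁ V)).hom := by rw [hξ1, Over.w x]; rfl
  have hjx : jO Y (ξ ⁻¹ᵁ V) ≫ x =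
      (Over.homMk v₀ hv₀S : resO Y (ξ ⁻¹ᵁ V) ⟶ T (tA W c)) ≫ xA X u W c hV.fromSpec hvA := by
    apply Over.OverMorphism.ext
    simp only [Over.comp_left, Over.homMk_left, xA]
    rw [← Category.assoc, hv₀', Category.assoc, hξ1]
  rw [hjx]
  exact act_trivial_chart i₀ G X a h0 u e W hW c hV.fromSpec hvA _ _

end


section

variable {S S₀ : Scheme.{u}} (i₀ : S₀ ⟶ S) [IsClosedImmersion i₀]
  (hnil : ∀ x : S, ∃ U : S.affineOpens, x ∈ (U : S.Opens) ∧ IsNilpotent (i₀.ker.ideal U))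
  (G X : Over S) [GrpObj G]
  (hG : TwC.Locally S TwC.Topology.fpqc (fun S' f => ∃ (M : Type) (_ : AddCommGroup M),
    Nonempty (Grp.mk (Red.bc f G) ≅ Grp.mk (Red.DS S' M))))
  (a : AlgGrp.Action G X)
  (h0 : ∀ (Y : Over S) (_ : Y ⟶ Over.mk i₀) (g : Y ⟶ G) (x : Y ⟶ X), lift g x ≫ a.act = x)

include hnil hG h0 in
/-- an action of a group of multiplicative type which is trivial modulo a locally nilpotent ideal
is trivial. -/
theorem action_trivial (Y : Over S) (g : Y ⟶ G) (x : Y ⟶ X) : lift g x ≫ a.act = x := by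
  obtain ⟨S', f, hflat, hsurj, -, hloc⟩ := hG
  haveI : Epi (pullback.fst Y.hom f) := Flat.epi_of_flat_of_surjective _
  obtain ⟨p, hp⟩ : ∃ p : Over.mk (pullback.fst Y.hom f ≫ Y.hom) ⟶ Y,
      p = Over.homMk (pullback.fst Y.hom f) rfl := ⟨_, rfl⟩
  haveI : Epi p.left := by rw [hp]; exact ‹Epi (pullback.fst Y.hom f)›
  apply triv_of_epi a p g x
  apply triv_of_local a
  intro y₁
  obtain ⟨U, hU, M, hM, ⟨e⟩⟩ := hloc ((pullback.snd Y.hom f).base y₁)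
  refine ⟨(pullback.snd Y.hom f) ⁻¹ᵁ U, hU, ?_⟩
  refine triv_of_diag i₀ hnil G X a h0 (U.ι ≫ f) e _
    ((pullback.snd Y.hom f).resLE U ((pullback.snd Y.hom f) ⁻¹ᵁ U) le_rfl) ?_ _ _
  rw [← Category.assoc, Scheme.Hom.resLE_comp_ι, Category.assoc, ← pullback.condition]
  rfl

end

end Groth.Agent.Lib.Helper58.TrivAct3
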