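import Mathlib
import Groth.Prelude.Def_TwC
import Groth.Prelude.Def_SGA3x
import Groth.Prelude.Def_AlgGrp
import Groth.Agent.Lib.Helper58.TrivAct3

/-!
# Centrality of homomorphisms from groups of multiplicative type modulo a locally nilpotent ideal
-/

set_option autoImplicit false

universe u

open CategoryTheory CategoryTheory.Limits AlgebraicGeometry MonoidalCategory
  CartesianMonoidalCategory MonObj GrpObj

namespace Groth.Agent.Lib.Helper58.TrivAct4

section mk

variable {S : Scheme.{u}} {G X : Over S} [GrpObj G]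

/-- an action from its pointwise axioms -/
noncomputable def mkAction (act : G ⊗ X ⟶ X)
    (h1 : ∀ (T : Over S) (x : T ⟶ X), lift (toUnit T ≫ η[G]) x ≫ act = x)
    (h2 : ∀ (T : Over S) (g h : T ⟶ G) (x : T ⟶ X),
      lift (g * h) x ≫ act = lift g (lift h x ≫ act) ≫ act) : AlgGrp.Action G X where
  act := act
  one_act := by
    have e : (η[G] ▷ X) = lift (toUnit _ ≫ η[G]) (snd (𝟙_ (Over S)) X) := by
      apply CartesianMonoidalCategory.hom_ext
      · rw [lift_fst, whiskerRight_fst]
        congr 1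
      · rw [lift_snd, whiskerRight_snd]
    rw [e, h1, leftUnitor_hom]
  mul_act := by
    have e : (μ[G] ▷ X) = lift ((fst (G ⊗ G) X ≫ fst G G) * (fst (G ⊗ G) X ≫ snd G G))
        (snd (G ⊗ G) X) := by
      apply CartesianMonoidalCategory.hom_ext
      · rw [lift_fst, whiskerRight_fst, Hom.mul_def]
        congr 1
        apply CartesianMonoidalCategory.hom_ext <;> simp
      · rw [lift_snd, whiskerRight_snd]
    have e2 : (α_ G G X).hom ≫ (G ◁ act) = lift (fst (G ⊗ G) X ≫ fst G G)
        (lift (fst (G ⊗ G) X ≫ snd G G) (snd (G ⊗ G) X) ≫ act) := by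
      apply CartesianMonoidalCategory.hom_ext
      · simp
      · rw [Category.assoc, whiskerLeft_snd, lift_snd, ← Category.assoc]
        congr 1
        apply CartesianMonoidalCategory.hom_ext <;> simp
    rw [e, h2, ← e2, Category.assoc]

end mk

section conj

variable {S : Scheme.{u}} {G H : Over S} [GrpObj G] [GrpObj H] (u : G ⟶ H) [IsMonHom u]

/-- the conjugation morphism `(g, h) ↦ u(g) h u(g)⁻¹`. -/
noncomputable def conjMor : G ⊗ H ⟶ H := (fst G H ≫ u) * snd G H * (fst G H ≫ u)⁻¹

lemma lift_conjMor {T : Over S} (g : T ⟶ G) (h : T ⟶ H) :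
    lift g h ≫ conjMor u = (g ≫ u) * h * (g ≫ u)⁻¹ := by
  rw [conjMor, MonObj.comp_mul, MonObj.comp_mul, GrpObj.comp_inv, ← Category.assoc, lift_fst, lift_snd]

/-- the conjugation action of `G` on `H` through `u`. -/
noncomputable def conjAction : AlgGrp.Action G H :=
  mkAction (conjMor u)
    (by
      intro T x
      rw [lift_conjMor, ← Hom.one_def, MonObj.one_comp, inv_one, _root_.mul_one, _root_.one_mul])
    (by
      intro T g h x
      rw [lift_conjMor, lift_conjMor, lift_conjMor, MonObj.mul_comp, _root_.mul_inv_rev]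
      simp only [_root_.mul_assoc])

lemma conjAction_act : (conjAction u).act = conjMor u := rfl

lemma lift_conjAction_eq_iff {T : Over S} (g : T ⟶ G) (h : T ⟶ H) :
    lift g h ≫ (conjAction u).act = h ↔ (g ≫ u) * h = h * (g ≫ u) := by
  rw [conjAction_act, lift_conjMor, mul_inv_eq_iff_eq_mul]

end conj

section

variable {S S₀ : Scheme.{u}} (i₀ : S₀ ⟶ S) [IsClosedImmersion i₀]
  (hnil : ∀ x : S, ∃ U : S.affineOpens, x ∈ (U : S.Opens) ∧ IsNilpotent (i₀.ker.ideal U))
  (G H : Over S) [GrpObj G] [GrpObj H]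
  (hG : TwC.Locally S TwC.Topology.fpqc (fun S' f => ∃ (M : Type) (_ : AddCommGroup M),
    Nonempty (Grp.mk (Red.bc f G) ≅ Grp.mk (Red.DS S' M))))
  (u : G ⟶ H) [IsMonHom u]
  (h0 : ∀ (Y : Over S) (_ : Y ⟶ Over.mk i₀) (g : Y ⟶ G) (h : Y ⟶ H),
    (g ≫ u) * h = h * (g ≫ u))

include hnil hG h0 in
theorem central (Y : Over S) (g : Y ⟶ G) (h : Y ⟶ H) : (g ≫ u) * h = h * (g ≫ u) := by
  rw [← lift_conjAction_eq_iff]
  refine TrivAct3.action_trivial i₀ hnil G H hG (conjAction u) ?_ Y g h
  intro Y' p g' x'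
  rw [lift_conjAction_eq_iff]
  exact h0 Y' p g' x'

end

end Groth.Agent.Lib.Helper58.TrivAct4
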