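import Mathlib
import Groth.Prelude.Def_ArtFun2

/-!
# Trivial square-zero extensions of Artinian local algebras by finite modules, as objects of `Art`
-/

set_option autoImplicit false
universe u v w
open CategoryTheory

namespace Groth.Agent.Lib.Helper58.TszeArt

open ArtFun ArtFun.Art IsLocalRing

section Local

variable {A : Type u} [CommRing A] [IsLocalRing A] {M : Type v} [AddCommGroup M] [Module A M]
  [Module Aᵐᵒᵖ M] [IsCentralScalar A M]

instance isLocalRing_tsze : IsLocalRing (TrivSqZeroExt A M) := by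
  haveI : Nontrivial (TrivSqZeroExt A M) :=
    ⟨⟨0, 1, fun h => zero_ne_one (congrArg TrivSqZeroExt.fst h : (0 : A) = 1)⟩⟩
  apply IsLocalRing.of_nonunits_add
  intro a b ha hb
  rw [mem_nonunits_iff, TrivSqZeroExt.isUnit_iff_isUnit_fst] at ha hb ⊢
  rw [TrivSqZeroExt.fst_add]
  exact IsLocalRing.nonunits_add ha hb

end Local

section Artinian

variable {A : Type u} [CommRing A] [IsArtinianRing A] {M : Type v} [AddCommGroup M] [Module A M]
  [Module Aᵐᵒᵖ M] [IsCentralScalar A M] [Module.Finite A M]

instance finite_tsze : Module.Finite A (TrivSqZeroExt A M) :=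
  show Module.Finite A (A × M) from inferInstance

instance isArtinianRing_tsze : IsArtinianRing (TrivSqZeroExt A M) :=
  IsArtinianRing.of_finite A (TrivSqZeroExt A M)

end Artinian

section Obj

variable {k : Type u} [Field k] (A : Art k k) (M : Type u) [AddCommGroup M] [Module A.carrier M]
  [Module A.carrierᵐᵒᵖ M] [IsCentralScalar A.carrier M] [Module k M] [IsScalarTower k A.carrier M]
  [IsScalarTower k A.carrierᵐᵒᵖ M] [Module.Finite A.carrier M]

/-- `A ⊕ M` as an object of `Art` -/
noncomputable abbrev tszeArt : Art k k :=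
  { carrier := TrivSqZeroExt A.carrier M
    commRing := inferInstance
    algebra := inferInstance
    isLocalRing := inferInstance
    isArtinianRing := inferInstance
    res := A.res.comp (TrivSqZeroExt.fstHom k A.carrier M)
    res_surjective := fun c => by
      obtain ⟨a, ha⟩ := A.res_surjective c
      exact ⟨TrivSqZeroExt.inl a, ha⟩ }

/-- the projection `A ⊕ M → A` -/
noncomputable def proj : tszeArt A M ⟶ A :=
  ⟨TrivSqZeroExt.fstHom k A.carrier M, rfl⟩

/-- the inclusion `A → A ⊕ M` -/
noncomputable def incl : A ⟶ tszeArt A M :=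
  ⟨TrivSqZeroExt.inlAlgHom k A.carrier M, by
    apply AlgHom.ext
    intro a
    rfl⟩

theorem proj_apply (t : TrivSqZeroExt A.carrier M) : proj A M t = t.fst := rfl

theorem incl_apply (a : A.carrier) : incl A M a = TrivSqZeroExt.inl a := rfl

theorem incl_proj : incl A M ≫ proj A M = 𝟙 A := by
  apply Art.hom_ext
  apply AlgHom.ext
  intro a
  rfl

theorem mul_eq_zero_of_fst (a b : TrivSqZeroExt A.carrier M) (ha : a.fst = 0) (hb : b.fst = 0) :
    a * b = 0 := by
  apply TrivSqZeroExt.ext
  · rw [TrivSqZeroExt.fst_mul, ha, zero_mul, TrivSqZeroExt.fst_zero]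
  · rw [TrivSqZeroExt.snd_mul, ha, hb, zero_smul, MulOpposite.op_zero, zero_smul, add_zero,
      TrivSqZeroExt.snd_zero]

theorem ker_proj_sq : RingHom.ker (proj A M).toAlgHom * RingHom.ker (proj A M).toAlgHom = ⊥ := by
  rw [eq_bot_iff]
  intro t ht
  refine Submodule.mul_induction_on ht ?_ ?_
  · intro a ha b hb
    exact mul_eq_zero_of_fst A M a b ha hb
  · intro x y hx hy
    exact Ideal.add_mem _ hx hy

end Obj

section Map

variable {k : Type u} [Field k] (A : Art k k) {M M' : Type u}
  [AddCommGroup M] [Module A.carrier M]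
  [Module A.carrierᵐᵒᵖ M] [IsCentralScalar A.carrier M] [Module k M] [IsScalarTower k A.carrier M]
  [IsScalarTower k A.carrierᵐᵒᵖ M] [Module.Finite A.carrier M]
  [AddCommGroup M'] [Module A.carrier M']
  [Module A.carrierᵐᵒᵖ M'] [IsCentralScalar A.carrier M'] [Module k M'] [IsScalarTower k A.carrier M']
  [IsScalarTower k A.carrierᵐᵒᵖ M'] [Module.Finite A.carrier M']

/-- the map `A ⊕ M' → A ⊕ M` induced by a linear map -/
noncomputable def mapHom (f : M' →ₗ[A.carrier] M) : tszeArt A M' ⟶ tszeArt A M :=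
  ⟨(TrivSqZeroExt.map f).restrictScalars k, by
    apply AlgHom.ext
    intro t
    change A.res ((TrivSqZeroExt.map f t).fst) = A.res t.fst
    rw [TrivSqZeroExt.fst_map]⟩

theorem mapHom_apply (f : M' →ₗ[A.carrier] M) (t : TrivSqZeroExt A.carrier M') :
    mapHom A f t = TrivSqZeroExt.map f t := rfl

theorem mapHom_proj (f : M' →ₗ[A.carrier] M) : mapHom A f ≫ proj A M = proj A M' := by
  apply Art.hom_ext
  apply AlgHom.ext
  intro t
  change (TrivSqZeroExt.map f t).fst = t.fst
  rw [TrivSqZeroExt.fst_map]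

theorem incl_mapHom (f : M' →ₗ[A.carrier] M) : incl A M' ≫ mapHom A f = incl A M := by
  apply Art.hom_ext
  apply AlgHom.ext
  intro a
  change TrivSqZeroExt.map f (TrivSqZeroExt.inl a) = TrivSqZeroExt.inl a
  rw [TrivSqZeroExt.map_inl]

theorem mapHom_surjective (f : M' →ₗ[A.carrier] M) (hf : Function.Surjective f) :
    Function.Surjective (mapHom A f) := by
  intro t
  obtain ⟨m', hm'⟩ := hf t.snd
  let t' : TrivSqZeroExt A.carrier M' := TrivSqZeroExt.inl t.fst + TrivSqZeroExt.inr m'
  have h1 : t'.fst = t.fst := by simp [t']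
  have h2 : t'.snd = m' := by simp [t']
  refine ⟨t', ?_⟩
  change TrivSqZeroExt.map f t' = t
  apply TrivSqZeroExt.ext
  · rw [TrivSqZeroExt.fst_map, h1]
  · rw [TrivSqZeroExt.snd_map, h2, hm']

end Map

end Groth.Agent.Lib.Helper58.TszeArt
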