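import Groth.Agent.Lib.Helper58.WayOut

/-!
# Way-out functors, unbounded cases (helper58)
-/

set_option autoImplicit false
set_option linter.unusedSectionVars false

universe w w' v v' u u'

namespace Groth.Agent.Lib.Helper58

open CategoryTheory Category Limits Pretriangulated Triangulated DerivedCategory

variable {A : Type u} [Category.{v} A] [Abelian A] [HasDerivedCategory.{w} A]
  (P : ObjectProperty A) [P.IsClosedUnderIsomorphisms]
  {B : Type u'} [Category.{v'} B] [Abelian B] [HasDerivedCategory.{w'} B]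
  (F G : DerivedCategory A ⥤ DerivedCategory B) [F.CommShift ℤ] [G.CommShift ℤ]
  [F.IsTriangulated] [G.IsTriangulated] (η : F ⟶ G) [NatTrans.CommShift η ℤ]

/-- bounded below objects, way-out right functors -/
theorem isIso_app_of_isGE
    (hF : ∀ n₁ : ℤ, ∃ n₂ : ℤ, ∀ Y : DerivedCategory A, Y.IsGE n₂ → (F.obj Y).IsGE n₁)
    (hG : ∀ n₁ : ℤ, ∃ n₂ : ℤ, ∀ Y : DerivedCategory A, Y.IsGE n₂ → (G.obj Y).IsGE n₁)
    (hη : ∀ X : A, P X → IsIso (η.app ((singleFunctor A 0).obj X)))
    (hP0 : ∀ Z : A, IsZero Z → P Z)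
    (X : DerivedCategory A) (a : ℤ) [X.IsGE a]
    (hX : ∀ i : ℤ, P ((homologyFunctor A i).obj X)) :
    IsIso (η.app X) := by
  rw [DerivedCategory.isIso_iff]
  intro j
  obtain ⟨n₂, hn₂⟩ := hF (j + 2)
  obtain ⟨n₂', hn₂'⟩ := hG (j + 2)
  set m := max n₂ n₂' with hm
  have hT := TStructure.t.triangleLEGE_distinguished (m - 1) m (by omega) X
  have h₁ : IsIso (η.app ((TStructure.t.truncLE (m - 1)).obj X)) :=
    isIso_app_of_bounded P F G η hη hP0 ((m - 1 - a).toNat + 1)
      ((TStructure.t.truncLE (m - 1)).obj X) a (m - 1) (by omega)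
      (prop_homology_truncLE P hP0 X (m - 1) hX)
  have hge₁ : ((TStructure.t.truncGE m).obj X).IsGE n₂ :=
    TStructure.t.isGE_of_ge _ n₂ m (le_max_left _ _)
  have hge₂ : ((TStructure.t.truncGE m).obj X).IsGE n₂' :=
    TStructure.t.isGE_of_ge _ n₂' m (le_max_right _ _)
  have hFT := F.map_distinguished _ hT
  have hGT := G.map_distinguished _ hT
  have hFiso : IsIso ((homologyFunctor B j).map (F.map ((TStructure.t.truncLEι (m - 1)).app X))) := by
    have : (F.mapTriangle.obj ((TStructure.t.triangleLEGE (m - 1) m (by omega)).obj X)).obj₃.IsGE (j + 2) :=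
      hn₂ _ hge₁
    exact isIso_homology_map_mor₁ _ hFT (j + 2) j (by omega)
  have hGiso : IsIso ((homologyFunctor B j).map (G.map ((TStructure.t.truncLEι (m - 1)).app X))) := by
    have : (G.mapTriangle.obj ((TStructure.t.triangleLEGE (m - 1) m (by omega)).obj X)).obj₃.IsGE (j + 2) :=
      hn₂' _ hge₂
    exact isIso_homology_map_mor₁ _ hGT (j + 2) j (by omega)
  have hnat := η.naturality ((TStructure.t.truncLEι (m - 1)).app X)
  have e : (homologyFunctor B j).map (F.map ((TStructure.t.truncLEι (m - 1)).app X)) ≫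
      (homologyFunctor B j).map (η.app X) =
      (homologyFunctor B j).map (η.app ((TStructure.t.truncLE (m - 1)).obj X)) ≫
      (homologyFunctor B j).map (G.map ((TStructure.t.truncLEι (m - 1)).app X)) := by
    rw [← Functor.map_comp, ← Functor.map_comp]
    congr 1
  have : IsIso ((homologyFunctor B j).map (F.map ((TStructure.t.truncLEι (m - 1)).app X)) ≫
      (homologyFunctor B j).map (η.app X)) := by
    rw [e]; infer_instance
  exact IsIso.of_isIso_comp_left
    ((homologyFunctor B j).map (F.map ((TStructure.t.truncLEι (m - 1)).app X))) _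

/-- arbitrary objects, functors way-out in both directions -/
theorem isIso_app_of_wayOutBoth
    (hF : ∀ n₁ : ℤ, ∃ n₂ : ℤ, ∀ Y : DerivedCategory A, Y.IsGE n₂ → (F.obj Y).IsGE n₁)
    (hF' : ∀ n₁ : ℤ, ∃ n₂ : ℤ, ∀ Y : DerivedCategory A, Y.IsLE n₂ → (F.obj Y).IsLE n₁)
    (hG : ∀ n₁ : ℤ, ∃ n₂ : ℤ, ∀ Y : DerivedCategory A, Y.IsGE n₂ → (G.obj Y).IsGE n₁)
    (hG' : ∀ n₁ : ℤ, ∃ n₂ : ℤ, ∀ Y : DerivedCategory A, Y.IsLE n₂ → (G.obj Y).IsLE n₁)
    (hη : ∀ X : A, P X → IsIso (η.app ((singleFunctor A 0).obj X)))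
    (hP0 : ∀ Z : A, IsZero Z → P Z)
    (X : DerivedCategory A)
    (hX : ∀ i : ℤ, P ((homologyFunctor A i).obj X)) :
    IsIso (η.app X) := by
  rw [DerivedCategory.isIso_iff]
  intro j
  obtain ⟨n₂, hn₂⟩ := hF' (j - 2)
  obtain ⟨n₂', hn₂'⟩ := hG' (j - 2)
  set m := min n₂ n₂' with hm
  have hT := TStructure.t.triangleLEGE_distinguished m (m + 1) rfl X
  have h₃ : IsIso (η.app ((TStructure.t.truncGE (m + 1)).obj X)) :=
    isIso_app_of_isGE P F G η hF hG hη hP0 ((TStructure.t.truncGE (m + 1)).obj X) (m + 1)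
      (prop_homology_truncGE P hP0 X (m + 1) hX)
  have hle₁ : ((TStructure.t.truncLE m).obj X).IsLE n₂ :=
    TStructure.t.isLE_of_le _ m n₂ (min_le_left _ _)
  have hle₂ : ((TStructure.t.truncLE m).obj X).IsLE n₂' :=
    TStructure.t.isLE_of_le _ m n₂' (min_le_right _ _)
  have hFT := F.map_distinguished _ hT
  have hGT := G.map_distinguished _ hT
  have hFiso : IsIso ((homologyFunctor B j).map (F.map ((TStructure.t.truncGEπ (m + 1)).app X))) := by
    have : (F.mapTriangle.obj ((TStructure.t.triangleLEGE m (m + 1) rfl).obj X)).obj₁.IsLE (j - 2) :=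
      hn₂ _ hle₁
    exact isIso_homology_map_mor₂ _ hFT (j - 2) j (by omega)
  have hGiso : IsIso ((homologyFunctor B j).map (G.map ((TStructure.t.truncGEπ (m + 1)).app X))) := by
    have : (G.mapTriangle.obj ((TStructure.t.triangleLEGE m (m + 1) rfl).obj X)).obj₁.IsLE (j - 2) :=
      hn₂' _ hle₂
    exact isIso_homology_map_mor₂ _ hGT (j - 2) j (by omega)
  have e : (homologyFunctor B j).map (η.app X) ≫
      (homologyFunctor B j).map (G.map ((TStructure.t.truncGEπ (m + 1)).app X)) =
      (homologyFunctor B j).map (F.map ((TStructure.t.truncGEπ (m + 1)).app X)) ≫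
      (homologyFunctor B j).map (η.app ((TStructure.t.truncGE (m + 1)).obj X)) := by
    rw [← Functor.map_comp, ← Functor.map_comp]
    congr 1
    exact (η.naturality ((TStructure.t.truncGEπ (m + 1)).app X)).symm
  have : IsIso ((homologyFunctor B j).map (η.app X) ≫
      (homologyFunctor B j).map (G.map ((TStructure.t.truncGEπ (m + 1)).app X))) := by
    rw [e]; infer_instance
  exact IsIso.of_isIso_comp_right _
    ((homologyFunctor B j).map (G.map ((TStructure.t.truncGEπ (m + 1)).app X)))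

end Groth.Agent.Lib.Helper58
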