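import Groth.Agent.Lib.Helper58.WayOut2
import Mathlib.Algebra.Homology.DerivedCategory.SingleTriangle
import Mathlib.CategoryTheory.Abelian.DiagramLemmas.Four
import Mathlib.CategoryTheory.Triangulated.HomologicalFunctor

/-!
# Way-out functors: the cogenerating-class lemma (helper58)
-/

set_option autoImplicit false
set_option linter.unusedSectionVars false

universe w w' v v' u u'

namespace Groth.Agent.Lib.Helper58

open CategoryTheory Category Limits Pretriangulated Triangulated DerivedCategory

section HomSeq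

variable {C : Type*} [Category C] [HasZeroObject C] [Preadditive C] [HasShift C ℤ]
  [∀ n : ℤ, (shiftFunctor C n).Additive] [Pretriangulated C]
  {A : Type*} [Category A] [Abelian A] (H : C ⥤ A) [H.IsHomological] [H.ShiftSequence ℤ]

/-- the morphism of homology sequences induced by a morphism of triangles -/
noncomputable def homologySequenceMap (T T' : Triangle C) (φ : T ⟶ T') (n₀ n₁ : ℤ)
    (h : n₀ + 1 = n₁) :
    H.homologySequenceComposableArrows₅ T n₀ n₁ h ⟶
      H.homologySequenceComposableArrows₅ T' n₀ n₁ h :=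
  ComposableArrows.homMk₅ ((H.shift n₀).map φ.hom₁) ((H.shift n₀).map φ.hom₂)
    ((H.shift n₀).map φ.hom₃) ((H.shift n₁).map φ.hom₁) ((H.shift n₁).map φ.hom₂)
    ((H.shift n₁).map φ.hom₃)
    (show (H.shift n₀).map T.mor₁ ≫ (H.shift n₀).map φ.hom₂ =
        (H.shift n₀).map φ.hom₁ ≫ (H.shift n₀).map T'.mor₁ by
      rw [← Functor.map_comp, ← Functor.map_comp, φ.comm₁])
    (show (H.shift n₀).map T.mor₂ ≫ (H.shift n₀).map φ.hom₃ =
        (H.shift n₀).map φ.hom₂ ≫ (H.shift n₀).map T'.mor₂ by
      rw [← Functor.map_comp, ← Functor.map_comp, φ.comm₂])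
    (H.homologySequenceδ_naturality T T' φ n₀ n₁ h).symm
    (show (H.shift n₁).map T.mor₁ ≫ (H.shift n₁).map φ.hom₂ =
        (H.shift n₁).map φ.hom₁ ≫ (H.shift n₁).map T'.mor₁ by
      rw [← Functor.map_comp, ← Functor.map_comp, φ.comm₁])
    (show (H.shift n₁).map T.mor₂ ≫ (H.shift n₁).map φ.hom₃ =
        (H.shift n₁).map φ.hom₂ ≫ (H.shift n₁).map T'.mor₂ by
      rw [← Functor.map_comp, ← Functor.map_comp, φ.comm₂])

lemma mono_shift_map_hom₁ (T T' : Triangle C) (hT : T ∈ distTriang C) (hT' : T' ∈ distTriang C)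
    (φ : T ⟶ T') (n₀ n₁ : ℤ) (h : n₀ + 1 = n₁)
    (h₂ : Epi ((H.shift n₀).map φ.hom₂)) (h₃ : Mono ((H.shift n₀).map φ.hom₃))
    (h₂' : Mono ((H.shift n₁).map φ.hom₂)) : Mono ((H.shift n₁).map φ.hom₁) :=
  Abelian.mono_of_epi_of_mono_of_mono'' (k := 1) (by omega)
    (H.homologySequenceComposableArrows₅_exact T hT n₀ n₁ h)
    (H.homologySequenceComposableArrows₅_exact T' hT' n₀ n₁ h)
    (homologySequenceMap H T T' φ n₀ n₁ h) 1 2 3 4 rfl rfl rfl rfl h₂ h₃ h₂'

lemma epi_shift_map_hom₁ (T T' : Triangle C) (hT : T ∈ distTriang C) (hT' : T' ∈ distTriang C)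
    (φ : T ⟶ T') (n₀ n₁ : ℤ) (h : n₀ + 1 = n₁)
    (h₃ : Epi ((H.shift n₀).map φ.hom₃)) (h₂' : Epi ((H.shift n₁).map φ.hom₂))
    (h₃' : Mono ((H.shift n₁).map φ.hom₃)) : Epi ((H.shift n₁).map φ.hom₁) :=
  Abelian.epi_of_epi_of_epi_of_mono'' (k := 2) (by omega)
    (H.homologySequenceComposableArrows₅_exact T hT n₀ n₁ h)
    (H.homologySequenceComposableArrows₅_exact T' hT' n₀ n₁ h)
    (homologySequenceMap H T T' φ n₀ n₁ h) 2 3 4 5 rfl rfl rfl rfl h₃ h₂' h₃'

end HomSeq

section Derived

variable {A : Type u} [Category.{v} A] [Abelian A] [HasDerivedCategory.{w} A]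
  {B : Type u'} [Category.{v'} B] [Abelian B] [HasDerivedCategory.{w'} B]
  (F G : DerivedCategory A ⥤ DerivedCategory B) [F.CommShift ℤ] [G.CommShift ℤ]
  [F.IsTriangulated] [G.IsTriangulated] (η : F ⟶ G) [NatTrans.CommShift η ℤ]

/-- uniform lower bound on `F` of single objects for a way-out right functor -/
lemma exists_isGE_single
    (hF : ∀ n₁ : ℤ, ∃ n₂ : ℤ, ∀ Y : DerivedCategory A, Y.IsGE n₂ → (F.obj Y).IsGE n₁) :
    ∃ N : ℤ, ∀ Z : A, (F.obj ((singleFunctor A 0).obj Z)).IsGE N := by
  obtain ⟨n₂, h⟩ := hF 0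
  refine ⟨-n₂, fun Z => ?_⟩
  have h1 : (F.obj ((singleFunctor A n₂).obj Z)).IsGE 0 := h _ inferInstance
  have e : ((singleFunctor A 0).obj Z)⟦-n₂⟧ ≅ (singleFunctor A n₂).obj Z :=
    ((singleFunctors A).shiftIso (-n₂) n₂ 0 (by omega)).app Z
  have e' : (F.obj ((singleFunctor A 0).obj Z))⟦-n₂⟧ ≅ F.obj ((singleFunctor A n₂).obj Z) :=
    ((F.commShiftIso (-n₂)).app _).symm ≪≫ F.mapIso e
  have : TStructure.t.IsGE ((F.obj ((singleFunctor A 0).obj Z))⟦-n₂⟧) 0 :=
    TStructure.t.isGE_of_iso e'.symm 0
  exact TStructure.t.isGE_of_shift _ (-n₂) (-n₂) 0 (by omega)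

/-- the cogenerating class lemma -/
theorem isIso_app_single_of_cogenerating (P : ObjectProperty A)
    (hP : ∀ X : A, ∃ (Y : A) (i : X ⟶ Y), P Y ∧ Mono i)
    (hF : ∀ n₁ : ℤ, ∃ n₂ : ℤ, ∀ Y : DerivedCategory A, Y.IsGE n₂ → (F.obj Y).IsGE n₁)
    (hG : ∀ n₁ : ℤ, ∃ n₂ : ℤ, ∀ Y : DerivedCategory A, Y.IsGE n₂ → (G.obj Y).IsGE n₁)
    (hη : ∀ X : A, P X → IsIso (η.app ((singleFunctor A 0).obj X)))
    (X : A) :
    IsIso (η.app ((singleFunctor A 0).obj X)) := by
  obtain ⟨NF, hNF⟩ := exists_isGE_single F hF
  obtain ⟨NG, hNG⟩ := exists_isGE_single G hG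
  have key : ∀ (k : ℕ) (j : ℤ), j < min NF NG + k → ∀ Z : A,
      IsIso ((homologyFunctor B j).map (η.app ((singleFunctor A 0).obj Z))) := by
    intro k
    induction k with
    | zero =>
      intro j hj Z
      have h1 : IsZero ((homologyFunctor B j).obj (F.obj ((singleFunctor A 0).obj Z))) := by
        have := hNF Z
        exact (F.obj ((singleFunctor A 0).obj Z)).isZero_of_isGE NF j
          (by have := min_le_left NF NG; omega)
      have h2 : IsZero ((homologyFunctor B j).obj (G.obj ((singleFunctor A 0).obj Z))) := by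
        have := hNG Z
        exact (G.obj ((singleFunctor A 0).obj Z)).isZero_of_isGE NG j
          (by have := min_le_right NF NG; omega)
      exact ⟨0, h1.eq_of_src _ _, h2.eq_of_src _ _⟩
    | succ k ih =>
      intro j hj
      have hmono : ∀ Z : A,
          Mono ((homologyFunctor B j).map (η.app ((singleFunctor A 0).obj Z))) := by
        intro Z
        obtain ⟨I, i, hI, hi⟩ := hP Z
        have hS : (ShortComplex.mk i (cokernel.π i) (cokernel.condition i)).ShortExact :=
          { exact := ShortComplex.exact_cokernel i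
            mono_f := hi
            epi_g := inferInstanceAs (Epi (cokernel.π i)) }
        have hT := hS.singleTriangle_distinguished
        have hI' := hη I hI
        have h₂ : Epi (((homologyFunctor B 0).shift (j - 1)).map
            (mapTriangleHom F G η hS.singleTriangle).hom₂) := by
          change Epi ((homologyFunctor B (j - 1)).map (η.app ((singleFunctor A 0).obj I)))
          infer_instance
        have h₃ : Mono (((homologyFunctor B 0).shift (j - 1)).map
            (mapTriangleHom F G η hS.singleTriangle).hom₃) := by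
          have := ih (j - 1) (by push_cast at hj; omega) (cokernel i)
          change Mono ((homologyFunctor B (j - 1)).map
            (η.app ((singleFunctor A 0).obj (cokernel i))))
          infer_instance
        have h₂' : Mono (((homologyFunctor B 0).shift j).map
            (mapTriangleHom F G η hS.singleTriangle).hom₂) := by
          change Mono ((homologyFunctor B j).map (η.app ((singleFunctor A 0).obj I)))
          infer_instance
        exact mono_shift_map_hom₁ (homologyFunctor B 0) _ _ (F.map_distinguished _ hT)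
          (G.map_distinguished _ hT) (mapTriangleHom F G η hS.singleTriangle) (j - 1) j
          (by omega) h₂ h₃ h₂'
      intro Z
      have hepi : Epi ((homologyFunctor B j).map (η.app ((singleFunctor A 0).obj Z))) := by
        obtain ⟨I, i, hI, hi⟩ := hP Z
        have hS : (ShortComplex.mk i (cokernel.π i) (cokernel.condition i)).ShortExact :=
          { exact := ShortComplex.exact_cokernel i
            mono_f := hi
            epi_g := inferInstanceAs (Epi (cokernel.π i)) }
        have hT := hS.singleTriangle_distinguished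
        have hI' := hη I hI
        have h₃ : Epi (((homologyFunctor B 0).shift (j - 1)).map
            (mapTriangleHom F G η hS.singleTriangle).hom₃) := by
          have := ih (j - 1) (by push_cast at hj; omega) (cokernel i)
          change Epi ((homologyFunctor B (j - 1)).map
            (η.app ((singleFunctor A 0).obj (cokernel i))))
          infer_instance
        have h₂' : Epi (((homologyFunctor B 0).shift j).map
            (mapTriangleHom F G η hS.singleTriangle).hom₂) := by
          change Epi ((homologyFunctor B j).map (η.app ((singleFunctor A 0).obj I)))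
          infer_instance
        have h₃' : Mono (((homologyFunctor B 0).shift j).map
            (mapTriangleHom F G η hS.singleTriangle).hom₃) :=
          hmono (cokernel i)
        exact epi_shift_map_hom₁ (homologyFunctor B 0) _ _ (F.map_distinguished _ hT)
          (G.map_distinguished _ hT) (mapTriangleHom F G η hS.singleTriangle) (j - 1) j
          (by omega) h₃ h₂' h₃'
      have := hmono Z
      exact isIso_of_mono_of_epi _
  rw [DerivedCategory.isIso_iff]
  intro j
  exact key (j - min NF NG + 1).toNat j (by omega) X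

end Derived

end Groth.Agent.Lib.Helper58
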