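import Mathlib
import Groth.Prelude.Def_Flatn
import Groth.Agent.Lib.Helper58.WeilChart

/-!
# Open subfunctors of `Flatn.morS g f` coming from open subschemes of the target
-/

set_option autoImplicit false

universe u

open CategoryTheory CategoryTheory.Limits AlgebraicGeometry Opposite

namespace Groth.Agent.Lib.Helper58.WeilTarget

open Groth.Agent.Lib.Helper58 WeilLocal WeilAbs WeilChart

variable {Z X S : Scheme.{u}} (g : Z ⟶ S) (f : X ⟶ S) (Vo : X.Opens)

/-- post-composition with the open immersion `Vo.ι` -/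
noncomputable def postEl {T : Over S} (m' : (Flatn.morS g (Vo.ι ≫ f)).obj (op T)) :
    (Flatn.morS g f).obj (op T) :=
  (m' : (Over.map g).obj ((Over.pullback g).obj T) ⟶ Over.mk (Vo.ι ≫ f)) ≫
    (Over.homMk Vo.ι rfl : Over.mk (Vo.ι ≫ f) ⟶ Over.mk f)

lemma sec_postEl {T : Over S} (m' : (Flatn.morS g (Vo.ι ≫ f)).obj (op T)) :
    sec g f (postEl g f Vo m') = sec g (Vo.ι ≫ f) m' ≫ Vo.ι := rfl

lemma postEl_map {T T' : Over S} (φ : T' ⟶ T) (m' : (Flatn.morS g (Vo.ι ≫ f)).obj (op T)) :
    (Flatn.morS g f).map φ.op (postEl g f Vo m') =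
      postEl g f Vo ((Flatn.morS g (Vo.ι ≫ f)).map φ.op m') := by
  apply sec_ext
  rw [sec_map, sec_postEl, sec_postEl, sec_map, Category.assoc]

lemma postEl_injective {T : Over S} (m' m'' : (Flatn.morS g (Vo.ι ≫ f)).obj (op T))
    (h : postEl g f Vo m' = postEl g f Vo m'') : m' = m'' := by
  apply sec_ext
  have := congrArg (sec g f) h
  rw [sec_postEl, sec_postEl] at this
  exact (cancel_mono Vo.ι).mp this

/-- the pullback square relating the base changes of `Z` to `T'` and `T`. -/
lemma isPullback_pbmap {T T' : Over S} (φ : T' ⟶ T) :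
    IsPullback ((Over.pullback g).map φ).left (pullback.fst T'.hom g) (pullback.fst T.hom g)
      φ.left := by
  have hr : IsPullback (pullback.snd T.hom g) (pullback.fst T.hom g) g T.hom :=
    (IsPullback.of_hasPullback T.hom g).flip
  have hb : IsPullback (((Over.pullback g).map φ).left ≫ pullback.snd T.hom g)
      (pullback.fst T'.hom g) g (φ.left ≫ T.hom) := by
    rw [pbmap_snd, Over.w φ]
    exact (IsPullback.of_hasPullback T'.hom g).flip
  exact IsPullback.of_right hb (pbmap_fst g φ) hr

variable [UniversallyClosed g]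

/-- the open locus in `T` where `m` factors through `Vo` -/
noncomputable def locus {T : Over S} (m : (Flatn.morS g f).obj (op T)) : T.left.Opens :=
  ⟨(pullback.fst T.hom g '' (sec g f m ⁻¹' ((Vo : Set X)ᶜ)))ᶜ, by
    rw [isOpen_compl_iff]
    apply (pullback.fst T.hom g).isClosedMap
    exact (Vo.isOpen.isClosed_compl).preimage (sec g f m).continuous⟩

lemma mem_locus_iff {T : Over S} (m : (Flatn.morS g f).obj (op T)) (y : T.left) :
    y ∈ locus g f Vo m ↔ ∀ z : ↥(pullback T.hom g), pullback.fst T.hom g z = y →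
      sec g f m z ∈ Vo := by
  change y ∉ (pullback.fst T.hom g '' (sec g f m ⁻¹' ((Vo : Set X)ᶜ))) ↔ _
  constructor
  · intro h z hz
    by_contra hV
    exact h ⟨z, hV, hz⟩
  · rintro h ⟨z, hV, hz⟩
    exact hV (h z hz)

variable {g f Vo}

/-- the chart associated to an open subscheme of the target. -/
noncomputable def targetChart (W : Over S) (e : (Flatn.morS g (Vo.ι ≫ f)).RepresentableBy W) :
    Chart g f where
  W := W
  ev := postEl g f Vo (e.homEquiv (𝟙 W))
  Q T m := ∀ z : ↥(pullback T.hom g), sec g f m z ∈ Vo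
  Q_ev := by
    intro z
    rw [sec_postEl]
    have : Vo.ι (sec g (Vo.ι ≫ f) (e.homEquiv (𝟙 W)) z) ∈ Set.range Vo.ι := ⟨_, rfl⟩
    rw [Scheme.Opens.range_ι] at this
    exact this
  Q_map := by
    intro T T' φ m hQ z
    rw [sec_map]
    exact hQ _
  exists_pull := by
    intro T m hQ
    have hr : Set.range (sec g f m) ⊆ Set.range Vo.ι := by
      rintro _ ⟨z, rfl⟩
      rw [Scheme.Opens.range_ι]
      exact hQ z
    let ml' : pullback T.hom g ⟶ Vo.toScheme := IsOpenImmersion.lift Vo.ι (sec g f m) hr
    have hml' : ml' ≫ Vo.ι = sec g f m := IsOpenImmersion.lift_fac _ _ _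
    have hw : ml' ≫ (Vo.ι ≫ f) = pullback.snd T.hom g ≫ g := by
      rw [← Category.assoc, hml', sec_w]
    let m' := mkSec g (Vo.ι ≫ f) ml' hw
    have hm' : postEl g f Vo m' = m := by
      apply sec_ext
      rw [sec_postEl, sec_mkSec, hml']
    refine ⟨e.homEquiv.symm m', ?_⟩
    unfold pull
    rw [postEl_map]
    have := pull_homEquiv g (Vo.ι ≫ f) e T (e.homEquiv.symm m')
    unfold pull at this
    rw [this, Equiv.apply_symm_apply, hm']
  pull_inj := by
    intro T φ φ' hp
    unfold pull at hp
    rw [postEl_map, postEl_map] at hp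
    have h1 := postEl_injective g f Vo _ _ hp
    have h2 := pull_homEquiv g (Vo.ι ≫ f) e T φ
    have h3 := pull_homEquiv g (Vo.ι ≫ f) e T φ'
    unfold pull at h2 h3
    rw [h2, h3] at h1
    exact e.homEquiv.injective h1
  U T m := locus g f Vo m
  mem_U_iff := by
    intro T T' φ m
    constructor
    · intro hQ y
      rw [mem_locus_iff]
      intro z hz
      obtain ⟨z', hz'1, hz'2⟩ := Scheme.exists_preimage_of_isPullback (isPullback_pbmap g φ) z y hz
      have := hQ z'
      rw [sec_map] at this
      rw [← hz'1]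
      exact this
    · intro hU z'
      rw [sec_map]
      have h1 := (mem_locus_iff g f Vo m _).mp (hU (pullback.fst T'.hom g z'))
      refine h1 (((Over.pullback g).map φ).left z') ?_
      have := congrArg (fun k => k z') (pbmap_fst g φ)
      exact this

end Groth.Agent.Lib.Helper58.WeilTarget
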