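import Mathlib
import Groth.Prelude.Def_Flatn
import Groth.Prelude.Def_Mor2
import Groth.Agent.Lib.Helper58.WeilTarget
import Groth.Agent.Lib.Helper58.WeilFLF
import Groth.Agent.Lib.Helper58.AFOpen

/-!
# `Mor_S(Z, X)` for `Z` finite locally free and `X` with the AF property
-/

set_option autoImplicit false

universe u

open CategoryTheory CategoryTheory.Limits AlgebraicGeometry Opposite

namespace Groth.Agent.Lib.Helper58.WeilAF

open Groth.Agent.Lib.Helper58 WeilLocal WeilAbs WeilChart WeilTarget

variable {Z X S : Scheme.{u}} {g : Z ⟶ S} {f : X ⟶ S}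

/-- Representability of `morS g f` from representability for a family of opens of the target. -/
theorem isRepresentable_of_opens [UniversallyClosed g] {ι : Type u} (Vo : ι → X.Opens)
    (H : ∀ i, (Flatn.morS g ((Vo i).ι ≫ f)).IsRepresentable)
    (hcov : ∀ (T : Over S) (m : (Flatn.morS g f).obj (op T)) (y : T.left),
      ∃ i, ∀ z : ↥(pullback T.hom g), pullback.fst T.hom g z = y → sec g f m z ∈ Vo i) :
    (Flatn.morS g f).IsRepresentable := by
  choose W e using fun i => (H i).has_representation
  refine isRepresentable_of_charts (fun i => targetChart (W i) (e i).some) ?_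
  intro T m y
  obtain ⟨i, hi⟩ := hcov T m y
  exact ⟨i, (mem_locus_iff g f (Vo i) m y).mpr hi⟩

/-- the AF condition: finitely many points in a fibre lie in a common affine open. -/
def AF (f : X ⟶ S) : Prop :=
  ∀ (s : S) (d : ℕ) (x : Fin d → ↥X), (∀ k, f (x k) = s) →
    ∃ U : X.Opens, IsAffineOpen U ∧ ∀ k, x k ∈ U

lemma AF.pullback_snd (hAF : AF f) {S' : Scheme.{u}} (h : S' ⟶ S) [IsOpenImmersion h] :
    AF (pullback.snd f h) := by
  intro s d x hx
  let p := pullback.fst f h
  obtain ⟨V, hV, hxV⟩ := hAF (h s) d (fun k => p (x k)) (fun k => by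
    have := congrArg (fun q => q (x k)) (pullback.condition (f := f) (g := h))
    change f (p (x k)) = h (pullback.snd f h (x k)) at this
    rw [this, hx k])
  obtain ⟨V', hV', _, hV'O, hsV'⟩ := AFOpen.exists_isAffineOpen_of_finite hV p.opensRange
    (Set.range (fun k => p (x k))) (Set.finite_range _)
    (by rintro _ ⟨k, rfl⟩; exact hxV k) (by rintro _ ⟨k, rfl⟩; exact ⟨x k, rfl⟩)
  exact ⟨p ⁻¹ᵁ V', hV'.preimage_of_isOpenImmersion p hV'O, fun k => hsV' ⟨k, rfl⟩⟩

/-- affine base -/
theorem isRepresentable_of_AF_of_isAffine [IsAffine S] (hg : Mor2.IsFinLocFree g) (hAF : AF f) :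
    (Flatn.morS g f).IsRepresentable := by
  haveI : IsFinite g := hg.1
  refine isRepresentable_of_opens (ι := X.affineOpens) (fun V => V.1) (fun V => ?_) ?_
  · haveI : IsAffine V.1.toScheme := V.2
    obtain ⟨W, _, hW⟩ := WeilFLF.exists_affine_representableBy g (V.1.ι ≫ f) hg
    exact ⟨W, hW⟩
  · intro T m y
    have hfin : (pullback.fst T.hom g ⁻¹' {y}).Finite :=
      (pullback.fst T.hom g).finite_preimage_singleton y
    haveI := hfin.to_subtype
    obtain ⟨d, ⟨en⟩⟩ := Finite.exists_equiv_fin ↥(pullback.fst T.hom g ⁻¹' {y})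
    obtain ⟨V, hV, hxV⟩ := hAF (T.hom y) d (fun k => sec g f m (en.symm k).1) (fun k => by
      have h1 := congrArg (fun q => q (en.symm k).1) (sec_w g f m)
      change f (sec g f m (en.symm k).1) = g (pullback.snd T.hom g (en.symm k).1) at h1
      have h2 := congrArg (fun q => q (en.symm k).1) (pullback.condition (f := T.hom) (g := g))
      change T.hom (pullback.fst T.hom g (en.symm k).1) = g (pullback.snd T.hom g (en.symm k).1)
        at h2
      rw [h1, ← h2]
      have h3 : pullback.fst T.hom g (en.symm k).1 = y := (en.symm k).2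
      rw [h3])
    refine ⟨⟨V, hV⟩, fun z hz => ?_⟩
    have := hxV (en ⟨z, hz⟩)
    simpa using this

/-- general base -/
theorem isRepresentable_of_AF (hg : Mor2.IsFinLocFree g) (hAF : AF f) :
    (Flatn.morS g f).IsRepresentable := by
  let 𝒰 : Scheme.OpenCover.{u} S := S.affineCover
  refine WeilBase.isRepresentable_of_openCover' 𝒰 (fun i => ?_)
  haveI : IsAffine (𝒰.X i) := inferInstanceAs (IsAffine (S.affineCover.X i))
  exact isRepresentable_of_AF_of_isAffine (WeilFLF.isFinLocFree_pullback_snd g hg (𝒰.f i))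
    (hAF.pullback_snd (𝒰.f i))

end Groth.Agent.Lib.Helper58.WeilAF
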