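import Mathlib
import Groth.Prelude.Def_Flatn
import Groth.Agent.Lib.Helper58.WeilTarget

/-!
# `Mor_S(X, U) ⟶ Mor_S(X, Y)` is an open immersion for `U ⟶ Y` an open immersion and
`X ⟶ S` universally closed
-/

set_option autoImplicit false

universe u

open CategoryTheory CategoryTheory.Limits AlgebraicGeometry Opposite

namespace Groth.Agent.Lib.Helper58.WeilOpenSub

open Groth.Agent.Lib.Helper58 WeilLocal WeilTarget

variable {X Y U S : Scheme.{u}} (gX : X ⟶ S) (gY : Y ⟶ S) (j : U ⟶ Y)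

/-- post-composition with `j` -/
noncomputable def postJ {T : Over S} (m' : (Flatn.morS gX (j ≫ gY)).obj (op T)) :
    (Flatn.morS gX gY).obj (op T) :=
  (m' : (Over.map gX).obj ((Over.pullback gX).obj T) ⟶ Over.mk (j ≫ gY)) ≫
    (Over.homMk j rfl : Over.mk (j ≫ gY) ⟶ Over.mk gY)

lemma sec_postJ {T : Over S} (m' : (Flatn.morS gX (j ≫ gY)).obj (op T)) :
    sec gX gY (postJ gX gY j m') = sec gX (j ≫ gY) m' ≫ j := rfl

lemma postJ_map {T T' : Over S} (φ : T' ⟶ T) (m' : (Flatn.morS gX (j ≫ gY)).obj (op T)) :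
    (Flatn.morS gX gY).map φ.op (postJ gX gY j m') =
      postJ gX gY j ((Flatn.morS gX (j ≫ gY)).map φ.op m') := by
  apply sec_ext
  rw [sec_map, sec_postJ, sec_postJ, sec_map, Category.assoc]

lemma postJ_injective [Mono j] {T : Over S} (m' m'' : (Flatn.morS gX (j ≫ gY)).obj (op T))
    (h : postJ gX gY j m' = postJ gX gY j m'') : m' = m'' := by
  apply sec_ext
  have := congrArg (sec gX gY) h
  rw [sec_postJ, sec_postJ] at this
  exact (cancel_mono j).mp this

variable [IsOpenImmersion j]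

/-- lift a section landing in the range of `j` -/
lemma exists_postJ_eq {T : Over S} (m : (Flatn.morS gX gY).obj (op T))
    (hm : ∀ z : ↥(pullback T.hom gX), sec gX gY m z ∈ j.opensRange) :
    ∃ m' : (Flatn.morS gX (j ≫ gY)).obj (op T), postJ gX gY j m' = m := by
  have hr : Set.range (sec gX gY m) ⊆ Set.range j := by
    rintro _ ⟨z, rfl⟩
    exact hm z
  let ml' : pullback T.hom gX ⟶ U := IsOpenImmersion.lift j (sec gX gY m) hr
  have hml' : ml' ≫ j = sec gX gY m := IsOpenImmersion.lift_fac _ _ _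
  have hw : ml' ≫ (j ≫ gY) = pullback.snd T.hom gX ≫ gX := by
    rw [← Category.assoc, hml', sec_w]
  refine ⟨mkSec gX (j ≫ gY) ml' hw, ?_⟩
  apply sec_ext
  rw [sec_postJ, sec_mkSec, hml']

variable [UniversallyClosed gX] {M : Over S} (e : (Flatn.morS gX gY).RepresentableBy M)

/-- the open locus of the representing object -/
noncomputable def M₀ : M.left.Opens := locus gX gY j.opensRange (e.homEquiv (𝟙 M))

/-- the open subscheme as an object over `S` -/
noncomputable abbrev M₀' : Over S := Over.mk ((M₀ gX gY j e).ι ≫ M.hom)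

/-- the inclusion -/
noncomputable abbrev ι₀ : M₀' gX gY j e ⟶ M := Over.homMk (M₀ gX gY j e).ι rfl

lemma homEquiv_eq {T : Over S} (ψ : T ⟶ M) :
    e.homEquiv ψ = (Flatn.morS gX gY).map ψ.op (e.homEquiv (𝟙 M)) := by
  have := e.homEquiv_comp ψ (𝟙 M)
  rwa [Category.comp_id] at this

/-- `ψ` lands in `M₀` iff the classified morphism lands in the range of `j`. -/
lemma forall_mem_M₀_iff {T : Over S} (ψ : T ⟶ M) :
    (∀ y : T.left, ψ.left y ∈ M₀ gX gY j e) ↔
      ∀ z : ↥(pullback T.hom gX), sec gX gY (e.homEquiv ψ) z ∈ j.opensRange := by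
  rw [homEquiv_eq]
  constructor
  · intro hU z'
    rw [sec_map]
    have h1 := (mem_locus_iff gX gY j.opensRange (e.homEquiv (𝟙 M)) _).mp
      (hU (pullback.fst T.hom gX z'))
    refine h1 (((Over.pullback gX).map ψ).left z') ?_
    exact congrArg (fun k => k z') (pbmap_fst gX ψ)
  · intro hQ y
    change ψ.left y ∈ locus gX gY j.opensRange (e.homEquiv (𝟙 M))
    rw [mem_locus_iff]
    intro z hz
    obtain ⟨z', hz'1, hz'2⟩ := Scheme.exists_preimage_of_isPullback (isPullback_pbmap gX ψ) z y hz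
    have := hQ z'
    rw [sec_map] at this
    rw [← hz'1]
    exact this

lemma hm_of_hom {T : Over S} (φ : T ⟶ M₀' gX gY j e) :
    ∀ z : ↥(pullback T.hom gX),
      sec gX gY (e.homEquiv (φ ≫ ι₀ gX gY j e)) z ∈ j.opensRange := by
  refine (forall_mem_M₀_iff gX gY j e _).mp (fun y => ?_)
  change (M₀ gX gY j e).ι (φ.left y) ∈ M₀ gX gY j e
  have : (M₀ gX gY j e).ι (φ.left y) ∈ Set.range (M₀ gX gY j e).ι := ⟨_, rfl⟩
  rwa [Scheme.Opens.range_ι] at this

/-- forward map -/
noncomputable def toFun₀ {T : Over S} (φ : T ⟶ M₀' gX gY j e) :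
    (Flatn.morS gX (j ≫ gY)).obj (op T) :=
  (exists_postJ_eq gX gY j _ (hm_of_hom gX gY j e φ)).choose

lemma postJ_toFun₀ {T : Over S} (φ : T ⟶ M₀' gX gY j e) :
    postJ gX gY j (toFun₀ gX gY j e φ) = e.homEquiv (φ ≫ ι₀ gX gY j e) :=
  (exists_postJ_eq gX gY j _ (hm_of_hom gX gY j e φ)).choose_spec

lemma range_subset {T : Over S} (m' : (Flatn.morS gX (j ≫ gY)).obj (op T)) :
    Set.range (e.homEquiv.symm (postJ gX gY j m')).left ⊆ Set.range (M₀ gX gY j e).ι := by
  rintro _ ⟨y, rfl⟩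
  rw [Scheme.Opens.range_ι]
  refine (forall_mem_M₀_iff gX gY j e _).mpr ?_ y
  intro z
  rw [Equiv.apply_symm_apply, sec_postJ]
  exact ⟨_, rfl⟩

/-- backward map -/
noncomputable def invFun₀ {T : Over S} (m' : (Flatn.morS gX (j ≫ gY)).obj (op T)) :
    T ⟶ M₀' gX gY j e :=
  Over.homMk (IsOpenImmersion.lift (M₀ gX gY j e).ι (e.homEquiv.symm (postJ gX gY j m')).left
    (range_subset gX gY j e m')) (by
      change IsOpenImmersion.lift (M₀ gX gY j e).ι _ _ ≫ (M₀ gX gY j e).ι ≫ M.hom = T.hom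
      rw [← Category.assoc, IsOpenImmersion.lift_fac]
      exact Over.w (e.homEquiv.symm (postJ gX gY j m')))

lemma invFun₀_ι₀ {T : Over S} (m' : (Flatn.morS gX (j ≫ gY)).obj (op T)) :
    invFun₀ gX gY j e m' ≫ ι₀ gX gY j e = e.homEquiv.symm (postJ gX gY j m') := by
  apply Over.OverMorphism.ext
  change IsOpenImmersion.lift (M₀ gX gY j e).ι _ _ ≫ (M₀ gX gY j e).ι = _
  exact IsOpenImmersion.lift_fac _ _ _

lemma ι₀_cancel {T : Over S} (φ φ' : T ⟶ M₀' gX gY j e)
    (h : φ ≫ ι₀ gX gY j e = φ' ≫ ι₀ gX gY j e) : φ = φ' := by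
  apply Over.OverMorphism.ext
  have h1 : φ.left ≫ (M₀ gX gY j e).ι = φ'.left ≫ (M₀ gX gY j e).ι :=
    congrArg (fun k => k.left) h
  exact (cancel_mono (M₀ gX gY j e).ι).mp h1

/-- the bijection -/
noncomputable def homEquiv₀ (T : Over S) :
    (T ⟶ M₀' gX gY j e) ≃ (Flatn.morS gX (j ≫ gY)).obj (op T) where
  toFun φ := toFun₀ gX gY j e φ
  invFun m' := invFun₀ gX gY j e m'
  left_inv φ := by
    apply ι₀_cancel
    rw [invFun₀_ι₀, postJ_toFun₀, Equiv.symm_apply_apply]
  right_inv m' := by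
    apply postJ_injective gX gY j
    rw [postJ_toFun₀, invFun₀_ι₀, Equiv.apply_symm_apply]

lemma postJ_homEquiv₀ {T : Over S} (φ : T ⟶ M₀' gX gY j e) :
    postJ gX gY j (homEquiv₀ gX gY j e T φ) = e.homEquiv (φ ≫ ι₀ gX gY j e) :=
  postJ_toFun₀ gX gY j e φ

/-- the representability datum -/
noncomputable def representableBy₀ :
    (Flatn.morS gX (j ≫ gY)).RepresentableBy (M₀' gX gY j e) where
  homEquiv {T} := homEquiv₀ gX gY j e T
  homEquiv_comp {T T'} a φ := by
    apply postJ_injective gX gY j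
    rw [← postJ_map, postJ_homEquiv₀, postJ_homEquiv₀, Category.assoc]
    exact e.homEquiv_comp a (φ ≫ ι₀ gX gY j e)

end Groth.Agent.Lib.Helper58.WeilOpenSub
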