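import Mathlib
import Groth.Prelude.Def_Flatn
import Groth.Prelude.Def_Mor2
import Groth.Agent.Lib.Helper58.WeilAF

/-!
# Separated locally quasi-finite morphisms have the AF property
-/

set_option autoImplicit false

universe u

open CategoryTheory CategoryTheory.Limits AlgebraicGeometry Opposite

namespace Groth.Agent.Lib.Helper58.WeilAF

open Groth.Agent.Lib.Helper58

variable {X S : Scheme.{u}}

/-- Zariski's main theorem: quasi-finite separated over an affine scheme implies quasi-affine. -/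
theorem isQuasiAffine_of_lqf {Y T : Scheme.{u}} [IsAffine T] (f : Y ⟶ T) [LocallyQuasiFinite f]
    [LocallyOfFiniteType f] [IsSeparated f] [QuasiCompact f] : Y.IsQuasiAffine := by
  have h1 : IsAffine f.normalization := isAffine_of_isAffineHom f.fromNormalization
  have h2 : CompactSpace Y := QuasiCompact.compactSpace_of_compactSpace f
  exact Scheme.IsQuasiAffine.of_isImmersion f.toNormalization

theorem AF.of_lqf (f : X ⟶ S) [IsSeparated f] [LocallyQuasiFinite f] [LocallyOfFiniteType f] :
    AF f := by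
  intro s d x hx
  -- an affine open neighbourhood of `s`
  obtain ⟨_, ⟨(U : S.Opens), hU, rfl⟩, hsU, -⟩ := S.isBasis_affineOpens.exists_subset_of_mem_open
    (Set.mem_univ s) isOpen_univ
  replace hU : IsAffineOpen U := hU
  -- affine opens around the points
  have hV : ∀ k, ∃ V : X.Opens, IsAffineOpen V ∧ x k ∈ V ∧ V ≤ f ⁻¹ᵁ U := by
    intro k
    have hk : x k ∈ f ⁻¹ᵁ U := by
      change f (x k) ∈ U
      rw [hx k]
      exact hsU
    obtain ⟨_, ⟨(V : X.Opens), hV, rfl⟩, hxV, hVU⟩ :=
      X.isBasis_affineOpens.exists_subset_of_mem_open hk (f ⁻¹ᵁ U).isOpen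
    exact ⟨V, hV, hxV, hVU⟩
  choose V hV hxV hVU using hV
  let X' : X.Opens := ⨆ k, V k
  have hX'U : X' ≤ f ⁻¹ᵁ U := iSup_le hVU
  have hxX' : ∀ k, x k ∈ X' := fun k => (le_iSup V k) (hxV k)
  haveI : CompactSpace X'.toScheme := by
    have : IsCompact ((⨆ k, V k : X.Opens) : Set X) := by
      rw [TopologicalSpace.Opens.coe_iSup]
      exact isCompact_iUnion (fun k => (hV k).isCompact)
    exact isCompact_iff_compactSpace.mp this
  haveI : IsAffine U.toScheme := hU
  let f' : X'.toScheme ⟶ U.toScheme := f.resLE U X' hX'U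
  haveI : QuasiCompact f' := (HasAffineProperty.iff_of_isAffine (P := @QuasiCompact)).mpr
    inferInstance
  haveI : X'.toScheme.IsQuasiAffine := isQuasiAffine_of_lqf f'
  obtain ⟨V', hV', hsV'⟩ := AFOpen.exists_isAffineOpen_of_finite_of_isQuasiAffine X'.toScheme
    (Set.range (fun k => (⟨x k, hxX' k⟩ : X'.toScheme))) (Set.finite_range _)
  refine ⟨X'.ι ''ᵁ V', hV'.image_of_isOpenImmersion X'.ι, fun k => ?_⟩
  exact ⟨⟨x k, hxX' k⟩, hsV' ⟨k, rfl⟩, rfl⟩

end Groth.Agent.Lib.Helper58.WeilAF
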