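import Mathlib
import Groth.Prelude.Def_Flatn
import Groth.Prelude.Def_WeilRes
import Groth.Agent.Lib.Helper58.WeilGlue

/-!
# The Weil restriction functor as an equalizer of `Mor` functors
-/

set_option autoImplicit false

universe u

open CategoryTheory CategoryTheory.Limits AlgebraicGeometry Opposite

namespace Groth.Agent.Lib.Helper58.WeilResEq

open Groth.Agent.Lib.Helper58 WeilLocal

variable {S S' : Scheme.{u}} (f : S' ⟶ S) (X' : Over S')

/-- post-composition with `X'.hom` -/
noncomputable def postX {T : Over S} (m : (Flatn.morS f (X'.hom ≫ f)).obj (op T)) :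
    (Flatn.morS f f).obj (op T) :=
  (m : (Over.map f).obj ((Over.pullback f).obj T) ⟶ Over.mk (X'.hom ≫ f)) ≫
    (Over.homMk X'.hom rfl : Over.mk (X'.hom ≫ f) ⟶ Over.mk f)

lemma sec_postX {T : Over S} (m : (Flatn.morS f (X'.hom ≫ f)).obj (op T)) :
    sec f f (postX f X' m) = sec f (X'.hom ≫ f) m ≫ X'.hom := rfl

lemma postX_map {T T' : Over S} (φ : T' ⟶ T) (m : (Flatn.morS f (X'.hom ≫ f)).obj (op T)) :
    (Flatn.morS f f).map φ.op (postX f X' m) =
      postX f X' ((Flatn.morS f (X'.hom ≫ f)).map φ.op m) := by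
  apply sec_ext
  rw [sec_map, sec_postX, sec_postX, sec_map, Category.assoc]

/-- the canonical element: the second projection -/
noncomputable def sndEl (T : Over S) : (Flatn.morS f f).obj (op T) :=
  mkSec f f (pullback.snd T.hom f) rfl

lemma sndEl_map {T T' : Over S} (φ : T' ⟶ T) :
    (Flatn.morS f f).map φ.op (sndEl f T) = sndEl f T' := by
  apply sec_ext
  rw [sec_map]
  exact pbmap_snd f φ

variable {f X'}

/-- The Weil restriction exists as soon as the two `Mor` functors are representable. -/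
theorem exists_isWeilRes {M₁ M₀ : Over S}
    (e₁ : (Flatn.morS f (X'.hom ≫ f)).RepresentableBy M₁)
    (e₀ : (Flatn.morS f f).RepresentableBy M₀) :
    ∃ (R : Over S) (q : Red.bc f R ⟶ X'), WeilRes.IsWeilRes f X' R q := by
  let u₁ := e₁.homEquiv (𝟙 M₁)
  have hu₁ : ∀ {T : Over S} (a : T ⟶ M₁), e₁.homEquiv a =
      (Flatn.morS f (X'.hom ≫ f)).map a.op u₁ := by
    intro T a
    have := e₁.homEquiv_comp a (𝟙 M₁)
    rwa [Category.comp_id] at this
  let c : M₁ ⟶ M₀ := e₀.homEquiv.symm (postX f X' u₁)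
  let σ : M₁ ⟶ M₀ := e₀.homEquiv.symm (sndEl f M₁)
  have hc : ∀ {T : Over S} (a : T ⟶ M₁), e₀.homEquiv (a ≫ c) = postX f X' (e₁.homEquiv a) := by
    intro T a
    rw [e₀.homEquiv_comp a c, hu₁ a, ← postX_map]
    congr 1
    exact e₀.homEquiv.apply_symm_apply _
  have hσ : ∀ {T : Over S} (a : T ⟶ M₁), e₀.homEquiv (a ≫ σ) = sndEl f T := by
    intro T a
    rw [e₀.homEquiv_comp a σ, ← sndEl_map f a]
    congr 1
    exact e₀.homEquiv.apply_symm_apply _
  let R : Over S := equalizer c σ
  let ι : R ⟶ M₁ := equalizer.ι c σ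
  have hι : ι ≫ c = ι ≫ σ := equalizer.condition c σ
  let uR := e₁.homEquiv ι
  have huR : sec f (X'.hom ≫ f) uR ≫ X'.hom = pullback.snd R.hom f := by
    have h1 : postX f X' uR = sndEl f R := by
      rw [← hc ι, ← hσ ι, hι]
    have h2 := congrArg (sec f f) h1
    rw [sec_postX] at h2
    exact h2
  let q : Red.bc f R ⟶ X' := Over.homMk (sec f (X'.hom ≫ f) uR) huR
  refine ⟨R, q, fun T => ⟨?_, ?_⟩⟩
  · -- injective
    intro g g' hgg
    have h1 : sec f (X'.hom ≫ f) (e₁.homEquiv (g ≫ ι)) =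
        sec f (X'.hom ≫ f) (e₁.homEquiv (g' ≫ ι)) := by
      rw [e₁.homEquiv_comp g ι, e₁.homEquiv_comp g' ι]
      change ((Over.pullback f).map g).left ≫ q.left = ((Over.pullback f).map g').left ≫ q.left
      exact congrArg (fun k => k.left) hgg
    have h2 : g ≫ ι = g' ≫ ι := e₁.homEquiv.injective (sec_ext _ _ _ _ h1)
    exact (cancel_mono ι).mp h2
  · -- surjective
    intro n
    have hw : n.left ≫ (X'.hom ≫ f) = pullback.snd T.hom f ≫ f := by
      rw [← Category.assoc]
      congr 1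
      exact Over.w n
    let m := mkSec f (X'.hom ≫ f) n.left hw
    let a : T ⟶ M₁ := e₁.homEquiv.symm m
    have ha : a ≫ c = a ≫ σ := by
      apply e₀.homEquiv.injective
      rw [hc, hσ]
      apply sec_ext
      rw [sec_postX]
      change sec f (X'.hom ≫ f) (e₁.homEquiv (e₁.homEquiv.symm m)) ≫ X'.hom = _
      rw [Equiv.apply_symm_apply]
      exact Over.w n
    let g : T ⟶ R := equalizer.lift a ha
    have hg : g ≫ ι = a := equalizer.lift_ι a ha
    refine ⟨g, ?_⟩
    apply Over.OverMorphism.ext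
    change ((Over.pullback f).map g).left ≫ sec f (X'.hom ≫ f) uR = n.left
    have h1 : ((Over.pullback f).map g).left ≫ sec f (X'.hom ≫ f) uR =
        sec f (X'.hom ≫ f) (e₁.homEquiv (g ≫ ι)) := by
      rw [e₁.homEquiv_comp g ι]
      rfl
    rw [h1, hg]
    change sec f (X'.hom ≫ f) (e₁.homEquiv (e₁.homEquiv.symm m)) = _
    rw [Equiv.apply_symm_apply]
    rfl

end Groth.Agent.Lib.Helper58.WeilResEq
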