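import Mathlib
import Groth.Prelude.Def_Flatn
import Groth.Prelude.Def_Flat
import Groth.Prelude.Def_WeilRes
import Groth.Agent.Lib.Helper58.WeilResEq
import Groth.Agent.Lib.Helper58.WeilAF

/-!
# Weil restriction along a finite locally free universal homeomorphism
-/

set_option autoImplicit false

universe u

open CategoryTheory CategoryTheory.Limits AlgebraicGeometry Opposite

namespace Groth.Agent.Lib.Helper58.WeilResUH

open Groth.Agent.Lib.Helper58 WeilLocal WeilAF

variable {S S' : Scheme.{u}}

/-- morphisms with affine source satisfy AF -/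
lemma AF.of_isAffine {X : Scheme.{u}} [IsAffine X] (h : X ⟶ S) : AF h := by
  intro s d x _
  exact ⟨⊤, isAffineOpen_top X, fun k => trivial⟩

theorem exists_isWeilRes_of_isUnivHomeo (f : S' ⟶ S) [IsFinite f] [Flat f]
    [LocallyOfFinitePresentation f] (hf : FlatMor.IsUnivHomeo f) (X' : Over S') :
    ∃ (R : Over S) (q : Red.bc f R ⟶ X'), WeilRes.IsWeilRes f X' R q := by
  have hg : Mor2.IsFinLocFree f := ⟨inferInstance, inferInstance, inferInstance⟩
  have h₁ : (Flatn.morS f (X'.hom ≫ f)).IsRepresentable := by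
    refine isRepresentable_of_opens (ι := X'.left.affineOpens) (fun V => V.1) (fun V => ?_) ?_
    · haveI : IsAffine V.1.toScheme := V.2
      exact isRepresentable_of_AF hg (AF.of_isAffine _)
    · intro T m y
      have hhomeo : IsHomeomorph (pullback.fst T.hom f) :=
        hf (pullback.snd T.hom f) T.hom (pullback.fst T.hom f) (IsPullback.of_hasPullback T.hom f)
      obtain ⟨z₀, hz₀⟩ := hhomeo.surjective y
      obtain ⟨_, ⟨(V : X'.left.Opens), hV, rfl⟩, hzV, -⟩ :=
        X'.left.isBasis_affineOpens.exists_subset_of_mem_open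
          (Set.mem_univ (sec f (X'.hom ≫ f) m z₀)) isOpen_univ
      refine ⟨⟨V, hV⟩, fun z hz => ?_⟩
      have : z = z₀ := hhomeo.injective (hz.trans hz₀.symm)
      rw [this]
      exact hzV
  obtain ⟨M₀, _, ⟨e₀⟩⟩ := WeilFLF.exists_affineHom_representableBy f f hg
  obtain ⟨M₁, ⟨e₁⟩⟩ := h₁.has_representation
  exact WeilResEq.exists_isWeilRes e₁ e₀

end Groth.Agent.Lib.Helper58.WeilResUH
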